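import Mathlib
set_option linter.all false

/-!
# The transfer lemma (TR) for an involution

`G` finite, `t` an involution, `H ≤ G`, `l : H →* ℤˣ`.  The transfer of `l` takes at `t` the value
`(-1) ^ n`, `n` the number of cosets `gH` fixed by `t` with `l (g⁻¹ t g) = -1`.
-/

set_option autoImplicit false

namespace Cfsg.Agent.StdSpSix.TR

open Subgroup

variable {G : Type*} [Group G] {H : Subgroup G}

/-- The cocycle of the monomial representation. -/
noncomputable def coc (H : Subgroup G) (g : G) (q : G ⧸ H) : H :=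
  ⟨(g • q).out⁻¹ * (g * q.out), by
    rw [← QuotientGroup.eq, QuotientGroup.out_eq']
    change g • q = ((g • q.out : G) : G ⧸ H)
    rw [← MulAction.Quotient.smul_mk, QuotientGroup.out_eq']⟩

theorem coc_coe (g : G) (q : G ⧸ H) : (coc H g q : G) = (g • q).out⁻¹ * (g * q.out) := rfl

theorem coc_mul (g h : G) (q : G ⧸ H) : coc H (g * h) q = coc H g (h • q) * coc H h q := by
  apply Subtype.ext
  rw [Subgroup.coe_mul, coc_coe, coc_coe, coc_coe, mul_smul]
  group

theorem coc_one (q : G ⧸ H) : coc H 1 q = 1 := by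
  apply Subtype.ext
  rw [coc_coe, one_smul, one_mul, inv_mul_cancel, Subgroup.coe_one]

variable [Finite G]

open Classical in
/-- The transfer of a sign. -/
noncomputable def tr (l : H →* ℤˣ) : G →* ℤˣ :=
  letI := Fintype.ofFinite (G ⧸ H)
  { toFun := fun g => ∏ q : G ⧸ H, l (coc H g q)
    map_one' := by
      apply Finset.prod_eq_one
      intro q _
      rw [coc_one, map_one]
    map_mul' := by
      intro g h
      have h1 : ∀ q : G ⧸ H, l (coc H (g * h) q) = l (coc H g (h • q)) * l (coc H h q) := by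
        intro q; rw [coc_mul, map_mul]
      rw [Finset.prod_congr rfl (fun q _ => h1 q), Finset.prod_mul_distrib]
      congr 1
      exact Equiv.prod_comp (MulAction.toPerm h) (fun q => l (coc H g q)) }

theorem tr_apply (l : H →* ℤˣ) [Fintype (G ⧸ H)] (g : G) : tr l g = ∏ q : G ⧸ H, l (coc H g q) := by
  unfold tr
  change @Finset.prod _ _ _ (@Finset.univ _ (Fintype.ofFinite (G ⧸ H))) _ = _
  congr!

open Classical in
/-- At an involution only the fixed cosets matter. -/
theorem tr_invol (l : H →* ℤˣ) [Fintype (G ⧸ H)] {t : G} (ht : t * t = 1) :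
    tr l t = ∏ q ∈ Finset.univ.filter (fun q : G ⧸ H => t • q = q), l (coc H t q) := by
  rw [tr_apply, ← Finset.prod_filter_mul_prod_filter_not Finset.univ (fun q : G ⧸ H => t • q = q)]
  have : ∏ q ∈ Finset.univ.filter (fun q : G ⧸ H => ¬ t • q = q), l (coc H t q) = 1 := by
    refine Finset.prod_involution (fun q _ => t • q) ?_ ?_ ?_ ?_
    · intro q _
      rw [← map_mul]
      have := coc_mul (H := H) t t (t • q)
      rw [ht, coc_one, ← mul_smul, ht, one_smul] at this
      rw [← this, map_one]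
    · intro q hq _ h
      exact (Finset.mem_filter.1 hq).2 h
    · intro q hq
      rw [Finset.mem_filter]
      refine ⟨Finset.mem_univ _, fun h => (Finset.mem_filter.1 hq).2 ?_⟩
      rw [← mul_smul, ht, one_smul] at h
      exact h.symm
    · intro q hq
      rw [← mul_smul, ht, one_smul]
  rw [this, mul_one]

theorem units_eq (u : ℤˣ) : u = 1 ∨ u = -1 := Int.units_eq_one_or u

/-- The fixed cosets of `t` where the sign of the conjugate is `-1`. -/
def Bad (l : H →* ℤˣ) (t : G) (q : G ⧸ H) : Prop :=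
  ∃ g : G, (g : G ⧸ H) = q ∧ ∃ h : g⁻¹ * t * g ∈ H, l ⟨g⁻¹ * t * g, h⟩ = -1

theorem bad_iff (l : H →* ℤˣ) {t : G} (q : G ⧸ H) :
    Bad l t q ↔ t • q = q ∧ l (coc H t q) = -1 := by
  constructor
  · rintro ⟨g, rfl, h, hl⟩
    have h1 : t • (g : G ⧸ H) = (g : G ⧸ H) := by
      rw [MulAction.Quotient.smul_mk, smul_eq_mul, eq_comm, QuotientGroup.eq, ← mul_assoc]
      exact h
    refine ⟨h1, ?_⟩
    have h2 : (g : G)⁻¹ * (g : G ⧸ H).out ∈ H := by
      rw [← QuotientGroup.eq, QuotientGroup.out_eq']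
    set k : H := ⟨(g : G)⁻¹ * (g : G ⧸ H).out, h2⟩ with hk
    have h3 : coc H t (g : G ⧸ H) = k⁻¹ * ⟨g⁻¹ * t * g, h⟩ * k := by
      apply Subtype.ext
      rw [coc_coe, h1]
      simp only [hk, Subgroup.coe_mul, Subgroup.coe_inv]
      group
    rw [h3, map_mul, map_mul, hl, map_inv, mul_comm, ← mul_assoc, mul_inv_cancel, one_mul]
  · rintro ⟨h1, h2⟩
    refine ⟨q.out, QuotientGroup.out_eq' q, ?_⟩
    have h3 : (q.out)⁻¹ * t * q.out = (coc H t q : G) := by
      rw [coc_coe, h1, mul_assoc]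
    refine ⟨by rw [h3]; exact (coc H t q).2, ?_⟩
    rw [← h2]
    congr 1
    exact Subtype.ext h3

open Classical in
/-- The value of the transfer at an involution. -/
theorem tr_invol_card (l : H →* ℤˣ) {t : G} (ht : t * t = 1) :
    tr l t = (-1) ^ Nat.card {q : G ⧸ H // Bad l t q} := by
  letI := Fintype.ofFinite (G ⧸ H)
  rw [tr_invol l ht, ← Finset.prod_filter_mul_prod_filter_not _ (fun q : G ⧸ H => l (coc H t q) = -1)]
  have h1 : ∏ q ∈ (Finset.univ.filter (fun q : G ⧸ H => t • q = q)).filter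
      (fun q : G ⧸ H => ¬ l (coc H t q) = -1), l (coc H t q) = 1 := by
    apply Finset.prod_eq_one
    intro q hq
    rcases units_eq (l (coc H t q)) with h | h
    · exact h
    · exact absurd h (Finset.mem_filter.1 hq).2
  rw [h1, mul_one, Finset.prod_congr rfl (g := fun _ => (-1 : ℤˣ)) (fun q hq => (Finset.mem_filter.1 hq).2),
    Finset.prod_const, Finset.filter_filter, Nat.card_eq_fintype_card, Fintype.card_subtype]
  congr 2
  ext q
  simp only [Finset.mem_filter, Finset.mem_univ, true_and]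
  exact (bad_iff l q).symm

/-- (TR), general form: an odd number of bad cosets. -/
theorem exists_hom_of_odd (l : H →* ℤˣ) {t : G} (ht : t * t = 1)
    (hodd : Odd (Nat.card {q : G ⧸ H // Bad l t q})) : ∃ m : G →* ℤˣ, m t = -1 :=
  ⟨tr l, by rw [tr_invol_card l ht, hodd.neg_one_pow]⟩

/-- (TR), first form: `l x = -1` for all conjugates `x` of `t` in `H`, and `|G : H|` is odd. -/
theorem exists_hom_of_odd_index (l : H →* ℤˣ) {t : G} (ht : t * t = 1)
    (hl : ∀ g : G, ∀ h : g⁻¹ * t * g ∈ H, l ⟨g⁻¹ * t * g, h⟩ = -1) (hi : Odd H.index) :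
    ∃ m : G →* ℤˣ, m t = -1 := by
  classical
  letI := Fintype.ofFinite (G ⧸ H)
  apply exists_hom_of_odd l ht
  have h1 : Nat.card {q : G ⧸ H // Bad l t q} = Fintype.card (Function.fixedPoints (fun q : G ⧸ H => t • q)) := by
    rw [← Nat.card_eq_fintype_card]
    apply Nat.card_congr
    apply Equiv.subtypeEquivRight
    intro q
    rw [bad_iff, Function.mem_fixedPoints_iff]
    constructor
    · exact fun h => h.1
    · intro h
      obtain ⟨g, rfl⟩ := QuotientGroup.mk_surjective q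
      have h2 : g⁻¹ * t * g ∈ H := by
        rw [mul_assoc, ← QuotientGroup.eq]
        exact h.symm
      exact (bad_iff l _).1 ⟨g, rfl, h2, hl g h2⟩
  have h2 := Equiv.Perm.card_fixedPoints_modEq (f := fun q : G ⧸ H => t • q) (p := 2) (n := 1) (by
    funext q
    change t • t • q = q
    rw [← mul_smul, ht, one_smul])
  rw [h1, Nat.odd_iff]
  have h3 : Fintype.card (G ⧸ H) = H.index := by
    rw [← Nat.card_eq_fintype_card]; rfl
  rw [h3] at h2
  rw [Nat.odd_iff] at hi
  have h4 := h2.symm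
  unfold Nat.ModEq at h4
  rw [hi] at h4
  convert h4

/-- (TR), second form: the conjugates of `t` in `H` with sign `-1` form one `H`-class and
`|C_G(t) : C_H(t)|` is odd. -/
theorem exists_hom_of_class (l : H →* ℤˣ) {t : G} (ht : t * t = 1) (htH : t ∈ H) (hlt : l ⟨t, htH⟩ = -1)
    (hcl : ∀ g : G, ∀ h : g⁻¹ * t * g ∈ H, l ⟨g⁻¹ * t * g, h⟩ = -1 → ∃ k ∈ H, g⁻¹ * t * g = k * t * k⁻¹)
    (hodd : Odd (H.relIndex (centralizer ({t} : Set G)))) : ∃ m : G →* ℤˣ, m t = -1 := by
  classical
  apply exists_hom_of_odd l ht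
  set C : Subgroup G := centralizer ({t} : Set G) with hC
  have hmem : ∀ g, g ∈ C ↔ g * t = t * g := fun g => mem_centralizer_singleton_iff
  have : Nat.card {q : G ⧸ H // Bad l t q} = H.relIndex C := by
    rw [relIndex, index]
    symm
    refine Nat.card_congr (Equiv.ofBijective (fun q : C ⧸ H.subgroupOf C =>
      (⟨Quotient.liftOn' q (fun c => ((c : G) : G ⧸ H)) ?_, ?_⟩ : {q : G ⧸ H // Bad l t q})) ⟨?_, ?_⟩)
    · intro a b hab
      rw [QuotientGroup.leftRel_apply, mem_subgroupOf] at hab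
      rw [QuotientGroup.eq]
      exact hab
    · obtain ⟨c, rfl⟩ := QuotientGroup.mk_surjective q
      change Bad l t ((c : G) : G ⧸ H)
      have h1 : (c : G)⁻¹ * t * c = t := by
        have := (hmem _).1 c.2
        rw [mul_assoc, ← this, inv_mul_cancel_left]
      refine ⟨c, rfl, by rw [h1]; exact htH, ?_⟩
      rw [← hlt]
      congr 1
      exact Subtype.ext h1
    · intro q1 q2 h
      obtain ⟨c1, rfl⟩ := QuotientGroup.mk_surjective q1
      obtain ⟨c2, rfl⟩ := QuotientGroup.mk_surjective q2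
      have h1 : ((c1 : G) : G ⧸ H) = ((c2 : G) : G ⧸ H) := congrArg Subtype.val h
      rw [QuotientGroup.eq] at h1
      rw [QuotientGroup.eq, mem_subgroupOf]
      exact h1
    · rintro ⟨q, hq⟩
      obtain ⟨g, rfl, h, hg⟩ := hq
      obtain ⟨k, hk, hgk⟩ := hcl g h hg
      have hc : g * k ∈ C := by
        rw [hmem]
        have : t = g * (k * t * k⁻¹) * g⁻¹ := by rw [← hgk]; group
        calc g * k * t = g * (k * t * k⁻¹) * g⁻¹ * (g * k) := by group
          _ = t * (g * k) := by rw [← this]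
      refine ⟨((⟨g * k, hc⟩ : C) : C ⧸ H.subgroupOf C), Subtype.ext ?_⟩
      change ((g * k : G) : G ⧸ H) = (g : G ⧸ H)
      rw [eq_comm, QuotientGroup.eq, inv_mul_cancel_left]
      exact hk
  rw [this]
  exact hodd

/-- (TR), third form: `C_G(t) ≤ H`, the conjugates of `t` in `H` form one `H`-class. -/
theorem exists_hom_of_cent_le (l : H →* ℤˣ) {t : G} (ht : t * t = 1) (htH : t ∈ H) (hlt : l ⟨t, htH⟩ = -1)
    (hC : centralizer ({t} : Set G) ≤ H)
    (hcl : ∀ g : G, g⁻¹ * t * g ∈ H → ∃ k ∈ H, g⁻¹ * t * g = k * t * k⁻¹) : ∃ m : G →* ℤˣ, m t = -1 := by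
  apply exists_hom_of_class l ht htH hlt (fun g h _ => hcl g h)
  rw [relIndex_eq_one.2 hC]
  exact odd_one

theorem Bad.smul {l : H →* ℤˣ} {t x : G} (hx : Commute x t) {q : G ⧸ H} (h : Bad l t q) : Bad l t (x • q) := by
  obtain ⟨g, rfl, h1, h2⟩ := h
  have h3 : (x * g)⁻¹ * t * (x * g) = g⁻¹ * t * g := by
    calc (x * g)⁻¹ * t * (x * g) = g⁻¹ * x⁻¹ * (t * x) * g := by group
      _ = g⁻¹ * t * g := by rw [← hx.eq]; group
  refine ⟨x * g, by rw [MulAction.Quotient.smul_mk, smul_eq_mul], by rw [h3]; exact h1, ?_⟩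
  rw [← h2]
  congr 1
  exact Subtype.ext h3

open Classical in
/-- (TR), fourth form (small subgroups): `T ≤ C_G(t)` a 2-group, an odd number of bad cosets fixed by `T`.
`H` need not have odd index. -/
theorem exists_hom_of_fixed (l : H →* ℤˣ) {t : G} (ht : t * t = 1) (T : Subgroup G) (hT : IsPGroup 2 T)
    (hTt : ∀ x ∈ T, Commute x t)
    (hodd : Odd (Nat.card {q : G ⧸ H // Bad l t q ∧ ∀ x ∈ T, x • q = q})) : ∃ m : G →* ℤˣ, m t = -1 := by
  letI act : MulAction T {q : G ⧸ H // Bad l t q} :=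
    { smul := fun x q => ⟨(x : G) • (q : G ⧸ H), q.2.smul (hTt x x.2)⟩
      one_smul := fun q => Subtype.ext (one_smul G (q : G ⧸ H))
      mul_smul := fun x y q => Subtype.ext (mul_smul (x : G) (y : G) (q : G ⧸ H)) }
  apply exists_hom_of_odd l ht
  have : Fact (Nat.Prime 2) := ⟨Nat.prime_two⟩
  have h1 := hT.card_modEq_card_fixedPoints {q : G ⧸ H // Bad l t q}
  have h2 : Nat.card (MulAction.fixedPoints T {q : G ⧸ H // Bad l t q}) =
      Nat.card {q : G ⧸ H // Bad l t q ∧ ∀ x ∈ T, x • q = q} := by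
    refine Nat.card_congr ⟨fun q => ⟨q.1.1, q.1.2, fun x hx => ?_⟩, fun q => ⟨⟨q.1, q.2.1⟩, fun x => ?_⟩,
      fun q => rfl, fun q => rfl⟩
    · exact congrArg Subtype.val (q.2 ⟨x, hx⟩)
    · exact Subtype.ext (q.2.2 x x.2)
  rw [h2] at h1
  rw [Nat.odd_iff] at hodd ⊢
  unfold Nat.ModEq at h1
  rw [h1, hodd]

/-- Homomorphisms onto `ℤˣ` do not exist on a nonabelian simple group. -/
theorem false_of_simple [IsSimpleGroup G] (hG : ¬ IsMulCommutative G) {t : G} (m : G →* ℤˣ) (hm : m t = -1) :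
    False := by
  rcases (inferInstance : m.ker.Normal).eq_bot_or_eq_top with h | h
  · apply hG
    refine ⟨⟨fun a b => ?_⟩⟩
    have hinj := (MonoidHom.ker_eq_bot_iff m).1 h
    apply hinj
    rw [map_mul, map_mul, mul_comm]
  · have : t ∈ m.ker := by rw [h]; exact mem_top _
    rw [MonoidHom.mem_ker, hm] at this
    exact absurd this (by decide)

end Cfsg.Agent.StdSpSix.TR
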