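import Cfsg.Agent.StandardComponent.SpTwo
import Cfsg.Agent.StdSpSix.TR
import Mathlib
import Cfsg.Agent.Lib.MatDec
import Cfsg.Agent.R01.Closing
import Cfsg.Agent.FastGrp
import Cfsg.Agent.Prune
set_option linter.all false

section
prune_inst 0x7fbcbdf9efbcafffffff7e7faefddffc39909ffff6fff94bffe9f9ffcb9f03e70be5fb8f89e410fe9ef6e29c10b87813fbfeeeffa86fdc7ffffd5ff45ffbec5f856fbd0d71d7bc341ffc6ffffbf27fae7f3fffffffffffffffffffffffffffffffffffbfffff

-- part: StdSpSix/Defs
section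
prune_inst 0x400000
set_option linter.all false
open scoped Cfsg.Agent.FastGrp

/-!
# Common interface: a group `G` with an involution `t` such that `C_G(t) = ⟨t⟩ × L`, `L = Sp₆(2)`

`Ctx G V` packages `t`, `L`, and the symplectic space `V` (`|V| = 64`) on which `L` acts
(`SpTwo.SpData`, transvections `τ u`).  `C.conj g` is the context conjugated by `g`; its `t` is `g t g⁻¹`.
The goal of the whole directory: `∃ m : G →* ℤˣ, m C.t = -1`.
-/

set_option autoImplicit false

namespace Cfsg.Agent.StdSpSix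

open Subgroup
open Cfsg.Agent.StandardComponent.SpTwo

/-- Transport of a `SpData` along an isomorphism. -/
def mapData {X Y V : Type*} [Group X] [Group Y] [AddCommGroup V] [Module (ZMod 2) V]
    (S : SpData X V) (e : X ≃* Y) : SpData Y V where
  B := S.B
  ρ := S.ρ.comp e.symm.toMonoidHom
  alt := S.alt
  nondeg := S.nondeg
  inv g u v := S.inv _ u v
  inj := S.inj.comp e.symm.injective
  τ u := e (S.τ u)
  hτ w v := by
    change S.ρ (e.symm (e (S.τ w))) v = _
    rw [e.symm_apply_apply]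
    exact S.hτ w v

/-- `C_G(t) = ⟨t⟩ × L` with `L` acting as the full isometry group of a symplectic space with 64 elements
over the field with two elements. -/
structure Ctx (G V : Type*) [Group G] [AddCommGroup V] [Module (ZMod 2) V] where
  t : G
  tt : t * t = 1
  L : Subgroup G
  S : SpData L V
  cardV : Nat.card V = 64
  cent : ∀ g : G, Commute g t ↔ g ∈ L ∨ t * g ∈ L
  tL : t ∉ L

namespace Ctx

variable {G V : Type*} [Group G] [AddCommGroup V] [Module (ZMod 2) V] (C : Ctx G V)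

/-- The conjugacy class of `t`. -/
def D : Set G := {x | ∃ g : G, x = g * C.t * g⁻¹}

/-- The transvections, as elements of `G`. -/
def b (u : V) : G := (C.S.τ u : G)

theorem t_ne_one : C.t ≠ 1 := fun h => C.tL (by rw [h]; exact one_mem _)

theorem t_inv : C.t⁻¹ = C.t := inv_eq_of_mul_eq_one_right C.tt

theorem t_mem_D : C.t ∈ C.D := ⟨1, by group⟩

theorem D_conj {x : G} (hx : x ∈ C.D) (g : G) : g * x * g⁻¹ ∈ C.D := by
  obtain ⟨h, rfl⟩ := hx
  exact ⟨g * h, by group⟩

theorem D_conj_iff {x : G} (g : G) : g * x * g⁻¹ ∈ C.D ↔ x ∈ C.D := by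
  refine ⟨fun h => ?_, fun h => C.D_conj h g⟩
  have := C.D_conj h g⁻¹
  have e : g⁻¹ * (g * x * g⁻¹) * g⁻¹⁻¹ = x := by group
  rwa [e] at this

theorem D_sq {x : G} (hx : x ∈ C.D) : x * x = 1 := by
  obtain ⟨g, rfl⟩ := hx
  calc g * C.t * g⁻¹ * (g * C.t * g⁻¹) = g * (C.t * C.t) * g⁻¹ := by group
    _ = 1 := by rw [C.tt]; group

theorem D_ne_one {x : G} (hx : x ∈ C.D) : x ≠ 1 := by
  rintro rfl
  obtain ⟨g, hg⟩ := hx
  apply C.t_ne_one
  calc C.t = g⁻¹ * (g * C.t * g⁻¹) * g := by group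
    _ = 1 := by rw [← hg]; group

theorem commute_of_mem {l : G} (hl : l ∈ C.L) : Commute l C.t := (C.cent l).2 (Or.inl hl)

theorem b_mem (u : V) : C.b u ∈ C.L := (C.S.τ u).2

theorem b_sq (u : V) : C.b u * C.b u = 1 := congrArg Subtype.val (C.S.τ_sq u)

theorem b_zero : C.b 0 = 1 := congrArg Subtype.val C.S.τ_zero

theorem b_inj {u v : V} (h : C.b u = C.b v) : u = v := C.S.τ_injective (Subtype.ext h)

theorem b_commute_iff {u v : V} : Commute (C.b u) (C.b v) ↔ C.S.B u v = 0 := by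
  constructor
  · intro h
    have h1 : Commute (C.S.τ u) (C.S.τ v) := Subtype.ext h
    have h2 := C.S.fix_of_τ_commute h1
    rw [C.S.hτ] at h2
    rcases z2 (C.S.B u v) with h3 | h3
    · exact h3
    · rw [h3, one_smul] at h2
      have h4 : v = 0 := by
        have := add_left_cancel (h2.trans (add_zero u).symm)
        exact this
      rw [h4, map_zero]
  · intro h
    exact congrArg Subtype.val (C.S.τ_commute h)

/-- conjugation of a transvection by an element of `L` -/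
theorem b_conj (g : C.L) (u : V) : (g : G) * C.b u * (g : G)⁻¹ = C.b (C.S.ρ g u) :=
  congrArg Subtype.val (C.S.conj_τ g u)

/-- The conjugated context. -/
noncomputable def conj (g : G) : Ctx G V where
  t := g * C.t * g⁻¹
  tt := by
    calc g * C.t * g⁻¹ * (g * C.t * g⁻¹) = g * (C.t * C.t) * g⁻¹ := by group
      _ = 1 := by rw [C.tt]; group
  L := C.L.map (MulAut.conj g).toMonoidHom
  S := mapData C.S (C.L.equivMapOfInjective (MulAut.conj g).toMonoidHom (MulAut.conj g).injective)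
  cardV := C.cardV
  cent x := by
    have h1 : ∀ y, y ∈ C.L.map (MulAut.conj g).toMonoidHom ↔ g⁻¹ * y * g ∈ C.L := by
      intro y
      constructor
      · rintro ⟨z, hz, rfl⟩
        have : g⁻¹ * ((MulAut.conj g).toMonoidHom z) * g = z := by
          change g⁻¹ * (g * z * g⁻¹) * g = z
          group
        rw [this]; exact hz
      · intro h
        refine ⟨_, h, ?_⟩
        change g * (g⁻¹ * y * g) * g⁻¹ = y
        group
    rw [h1, h1]
    have h2 : g⁻¹ * (g * C.t * g⁻¹ * x) * g = C.t * (g⁻¹ * x * g) := by group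
    rw [h2, ← C.cent]
    constructor
    · intro h
      have : x * (g * C.t * g⁻¹) = (g * C.t * g⁻¹) * x := h
      change g⁻¹ * x * g * C.t = C.t * (g⁻¹ * x * g)
      calc g⁻¹ * x * g * C.t = g⁻¹ * (x * (g * C.t * g⁻¹)) * g := by group
        _ = C.t * (g⁻¹ * x * g) := by rw [this]; group
    · intro h
      have : g⁻¹ * x * g * C.t = C.t * (g⁻¹ * x * g) := h
      change x * (g * C.t * g⁻¹) = g * C.t * g⁻¹ * x
      calc x * (g * C.t * g⁻¹) = g * (g⁻¹ * x * g * C.t) * g⁻¹ := by group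
        _ = g * C.t * g⁻¹ * x := by rw [this]; group
  tL := by
    rintro ⟨z, hz, h⟩
    apply C.tL
    have : z = C.t := by
      have h' : g * z * g⁻¹ = g * C.t * g⁻¹ := h
      exact mul_left_cancel (mul_right_cancel h')
    rwa [this] at hz

@[simp] theorem conj_t (g : G) : (C.conj g).t = g * C.t * g⁻¹ := rfl

theorem conj_b (g : G) (u : V) : (C.conj g).b u = g * C.b u * g⁻¹ := rfl

theorem conj_B (g : G) : (C.conj g).S.B = C.S.B := rfl

theorem conj_D (g : G) : (C.conj g).D = C.D := by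
  ext x
  constructor
  · rintro ⟨h, rfl⟩
    exact ⟨h * g, by rw [conj_t]; group⟩
  · rintro ⟨h, rfl⟩
    exact ⟨h * g⁻¹, by rw [conj_t]; group⟩

/-- a context at every element of `D` -/
theorem exists_ctx {x : G} (hx : x ∈ C.D) : ∃ g, (C.conj g).t = x := by
  obtain ⟨g, rfl⟩ := hx
  exact ⟨g, rfl⟩

end Ctx

end Cfsg.Agent.StdSpSix
end

-- part: StdSpSix/QLevel
section
prune_inst 0x40420000001000000001805102000200444000090006000014020024402408340000201410c801410100222000004000010000470000000000000000000200729002a000000000000200000001005180c00000000000000000000000000000000000400000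
set_option linter.all false
open scoped Cfsg.Agent.FastGrp

/-!
# The level of `N_G(Q)`, `Q` elementary abelian of order `|A|²`

`C_G(t) = ⟨t⟩ × L`, `A ≤ L` elementary abelian of maximal order (one class), every involution of
`C_G(t)` outside `L` is conjugate to `t` and none in `L` is.  `Q ≥ A` is elementary abelian of order
`|A|²`, `t` normalises `Q` and `C_Q(t) = A`.  Then `X = N_G(Q) / C_G(Q)` has the same shape:
`C_X(t) = ⟨t⟩ × Y`, `Y = N_L(A) / A`, and a sign on `X` with value `-1` at `t` gives one on `G`.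
-/

set_option autoImplicit false

namespace Cfsg.Agent.StdSpSix.QLevel

open Subgroup

structure Data (G : Type*) [Group G] where
  t : G
  L : Subgroup G
  A : Subgroup G
  Q : Subgroup G
  tt : t * t = 1
  cent : ∀ g, Commute g t ↔ g ∈ L ∨ t * g ∈ L
  DL : ∀ g, g * t * g⁻¹ ∉ L
  all : ∀ l ∈ L, l * l = 1 → ∃ g, t * l = g * t * g⁻¹
  AL : A ≤ L
  cardA : 2 < Nat.card A
  sat : ∀ B : Subgroup G, B ≤ L → (∀ x ∈ B, x * x = 1) → Nat.card A ≤ Nat.card B →
    ∃ l ∈ L, ∀ x, x ∈ B ↔ l⁻¹ * x * l ∈ A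
  CA : ∀ l ∈ L, (∀ a ∈ A, l * a = a * l) → l ∈ A
  QQ : ∀ x ∈ Q, x * x = 1
  cardQ : Nat.card Q = Nat.card A * Nat.card A
  tQ : ∀ q ∈ Q, t * q * t ∈ Q
  AQ : A ≤ Q
  QA : ∀ q ∈ Q, q * t = t * q → q ∈ A
  odd : Odd ((normalizer (A : Set G)).relIndex L)
  lift : ∀ n ∈ L, (∀ a, a ∈ A ↔ n * a * n⁻¹ ∈ A) → n * n ∈ A → ∃ a ∈ A, (n * a) * (n * a) = 1

section Elem

variable {G : Type*} [Group G]

theorem inv_of_sq {x : G} (h : x * x = 1) : x⁻¹ = x := inv_eq_of_mul_eq_one_right h

theorem comm_of_sq {Q : Subgroup G} (hQ : ∀ x ∈ Q, x * x = 1) {x y : G} (hx : x ∈ Q) (hy : y ∈ Q) :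
    x * y = y * x := by
  have h1 := hQ _ (mul_mem hx hy)
  have h2 := inv_of_sq h1
  rw [mul_inv_rev, inv_of_sq (hQ x hx), inv_of_sq (hQ y hy)] at h2
  exact h2.symm

/-- `q ↦ (x q x) q` -/
def bra {Q : Subgroup G} (hQ : ∀ x ∈ Q, x * x = 1) {x : G} (xx : x * x = 1) (hx : ∀ q ∈ Q, x * q * x ∈ Q) :
    Q →* Q where
  toFun q := ⟨x * q * x * q, mul_mem (hx q q.2) q.2⟩
  map_one' := Subtype.ext (by
    change x * 1 * x * 1 = 1
    rw [mul_one, mul_one, xx])
  map_mul' p q := Subtype.ext (by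
    change x * (p * q) * x * (p * q) = x * p * x * p * (x * q * x * q)
    have h1 : (p : G) * (x * q * x) = x * q * x * p := comm_of_sq hQ p.2 (hx q q.2)
    calc x * ((p : G) * q) * x * (p * q) = (x * p * 1 * q * x) * p * q := by group
      _ = (x * p * (x * x) * q * x) * p * q := by rw [xx]
      _ = x * p * x * (x * q * x * p) * q := by group
      _ = x * p * x * (p * (x * q * x)) * q := by rw [h1]
      _ = x * p * x * p * (x * q * x * q) := by group)

theorem bra_coe {Q : Subgroup G} (hQ : ∀ x ∈ Q, x * x = 1) {x : G} (xx : x * x = 1)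
    (hx : ∀ q ∈ Q, x * q * x ∈ Q) (q : Q) : (bra hQ xx hx q : G) = x * q * x * q := rfl

theorem mem_inf_cent {Q : Subgroup G} {x q : G} : q ∈ Q ⊓ centralizer ({x} : Set G) ↔ q ∈ Q ∧ q * x = x * q := by
  rw [mem_inf, mem_centralizer_singleton_iff]

theorem bra_comm {Q : Subgroup G} (hQ : ∀ x ∈ Q, x * x = 1) {x : G} (xx : x * x = 1)
    (hx : ∀ q ∈ Q, x * q * x ∈ Q) {q : G} (hq : q ∈ Q) : x * q * x * q * x = x * (x * q * x * q) := by
  have h1 : (x * q * x) * q = q * (x * q * x) := comm_of_sq hQ (hx q hq) hq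
  calc x * q * x * q * x = x * (q * (x * q * x)) := by group
    _ = x * (x * q * x * q) := by rw [← h1]

theorem bra_ker {Q : Subgroup G} (hQ : ∀ x ∈ Q, x * x = 1) {x : G} (xx : x * x = 1)
    (hx : ∀ q ∈ Q, x * q * x ∈ Q) :
    (bra hQ xx hx).ker = (Q ⊓ centralizer ({x} : Set G)).subgroupOf Q := by
  ext q
  rw [MonoidHom.mem_ker, mem_subgroupOf, mem_inf_cent]
  constructor
  · intro h
    have h1 : x * q * x * q = 1 := congrArg Subtype.val h
    refine ⟨q.2, ?_⟩
    have h2 : x * (q : G) * x = q := by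
      have := mul_eq_one_iff_eq_inv.1 h1
      rw [this, inv_of_sq (hQ q q.2)]
    calc (q : G) * x = (x * x) * q * x := by rw [xx, one_mul]
      _ = x * (x * q * x) := by group
      _ = x * q := by rw [h2]
  · rintro ⟨-, h⟩
    apply Subtype.ext
    rw [bra_coe]
    calc x * (q : G) * x * q = x * (q * x) * q := by group
      _ = (x * x) * (q * q) := by rw [h]; group
      _ = 1 := by rw [xx, hQ q q.2, one_mul]

theorem card_sub_eq {P Q : Subgroup G} (h : P ≤ Q) : Nat.card (P.subgroupOf Q) = Nat.card P :=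
  Nat.card_congr (subgroupOfEquivOfLe h).toEquiv

/-- `|Q| ≤ |C_Q(x)|²`, with equality only if `x ^ Q = x C_Q(x)`. -/
theorem card_le_sq [Finite G] {Q : Subgroup G} (hQ : ∀ x ∈ Q, x * x = 1) {x : G} (xx : x * x = 1)
    (hx : ∀ q ∈ Q, x * q * x ∈ Q) :
    Nat.card Q ≤ Nat.card (Q ⊓ centralizer ({x} : Set G) : Subgroup G) *
      Nat.card (Q ⊓ centralizer ({x} : Set G) : Subgroup G) ∧
    (Nat.card Q = Nat.card (Q ⊓ centralizer ({x} : Set G) : Subgroup G) *
      Nat.card (Q ⊓ centralizer ({x} : Set G) : Subgroup G) →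
      ∀ b ∈ Q, b * x = x * b → ∃ q ∈ Q, q * x * q⁻¹ = x * b) := by
  set B : Subgroup G := Q ⊓ centralizer ({x} : Set G) with hB
  set f := bra hQ xx hx with hf
  have hBQ : B ≤ Q := inf_le_left
  have h1 : Nat.card f.range ≤ Nat.card B := by
    refine Nat.card_le_card_of_injective (fun y : f.range => (⟨((y : Q) : G), ?_⟩ : B)) ?_
    · obtain ⟨y, q, rfl⟩ := y
      rw [hB, mem_inf_cent]
      exact ⟨(f q).2, bra_comm hQ xx hx q.2⟩
    · intro a b h
      have h' := congrArg (Subtype.val : B → G) h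
      apply Subtype.ext
      apply Subtype.ext
      exact h'
  have h2 : Nat.card f.ker = Nat.card B := by
    rw [hf, bra_ker hQ xx hx]
    exact card_sub_eq hBQ
  have h3 : Nat.card f.ker * Nat.card f.range = Nat.card Q := by
    rw [← index_ker, card_mul_index]
  constructor
  · rw [← h3, h2]
    exact Nat.mul_le_mul_left _ h1
  · intro h4 b hb hbx
    have hBpos : 0 < Nat.card B := Nat.card_pos
    have h5 : Nat.card f.range = Nat.card B := by
      rw [h2, h4] at h3
      exact Nat.eq_of_mul_eq_mul_left hBpos h3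
    have h6 : f.range = B.subgroupOf Q := by
      apply eq_of_le_of_card_ge
      · rintro _ ⟨q, rfl⟩
        rw [mem_subgroupOf, hB, mem_inf_cent]
        exact ⟨(f q).2, bra_comm hQ xx hx q.2⟩
      · rw [card_sub_eq hBQ, h5]
    have h7 : (⟨b, hb⟩ : Q) ∈ f.range := by
      rw [h6, mem_subgroupOf, hB, mem_inf_cent]
      exact ⟨hb, hbx⟩
    obtain ⟨q, hq⟩ := h7
    have h8 : x * q * x * q = b := congrArg Subtype.val hq
    refine ⟨q, q.2, ?_⟩
    rw [inv_of_sq (hQ q q.2), ← h8]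
    calc (q : G) * x * q = (x * x) * (q * x * q) := by rw [xx, one_mul]
      _ = x * (x * q * x * q) := by group

/-- a subgroup of index at most two -/
theorem card_le_two_mul [Finite G] {P K : Subgroup G} (r : G) (h : ∀ x ∈ P, x ∉ K → r⁻¹ * x ∈ K) :
    Nat.card P ≤ 2 * Nat.card K := by
  classical
  have h1 : Nat.card P ≤ Nat.card (K × Bool) := by
    refine Nat.card_le_card_of_injective
      (fun x : P => if hx : (x : G) ∈ K then ((⟨x, hx⟩, true) : K × Bool) else (⟨r⁻¹ * x, h x x.2 hx⟩, false)) ?_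
    intro x y hxy
    dsimp only at hxy
    split_ifs at hxy with h1 h2 h2
    · apply Subtype.ext
      have := congrArg Prod.fst hxy
      have h3 := congrArg (Subtype.val : K → G) this
      exact h3
    · have := congrArg Prod.snd hxy
      simp at this
    · have := congrArg Prod.snd hxy
      simp at this
    · apply Subtype.ext
      have := congrArg Prod.fst hxy
      have h3 := congrArg (Subtype.val : K → G) this
      exact mul_left_cancel h3
  rw [Nat.card_prod] at h1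
  have h2 : Nat.card Bool = 2 := by simp
  rw [h2] at h1
  omega

end Elem

/-- The properties of `Q`. -/
structure Good {G : Type*} [Group G] (D : Data G) (Q : Subgroup G) : Prop where
  sq : ∀ x ∈ Q, x * x = 1
  card : Nat.card Q = Nat.card D.A * Nat.card D.A
  inv : ∀ q ∈ Q, D.t * q * D.t ∈ Q
  le : D.A ≤ Q
  cent : ∀ q ∈ Q, q * D.t = D.t * q → q ∈ D.A

namespace Data

variable {G : Type*} [Group G] (D : Data G)

theorem good : Good D D.Q := ⟨D.QQ, D.cardQ, D.tQ, D.AQ, D.QA⟩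

theorem t_inv : D.t⁻¹ = D.t := inv_of_sq D.tt

theorem tL : D.t ∉ D.L := by
  have := D.DL 1
  rwa [one_mul, inv_one, mul_one] at this

theorem Lt {l : G} (hl : l ∈ D.L) : l * D.t = D.t * l := (D.cent l).2 (Or.inl hl)

theorem At {a : G} (ha : a ∈ D.A) : a * D.t = D.t * a := D.Lt (D.AL ha)

variable {D}

theorem _root_.Cfsg.Agent.StdSpSix.QLevel.Good.inf {Q : Subgroup G} (h : Good D Q) :
    Q ⊓ centralizer ({D.t} : Set G) = D.A := by
  ext q
  rw [mem_inf_cent]
  exact ⟨fun h1 => h.cent q h1.1 h1.2, fun h1 => ⟨h.le h1, D.At h1⟩⟩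

theorem _root_.Cfsg.Agent.StdSpSix.QLevel.Good.onto [Finite G] {Q : Subgroup G} (h : Good D Q) {a : G} (ha : a ∈ D.A) :
    ∃ q ∈ Q, q * D.t * q⁻¹ = D.t * a := by
  have h1 := (card_le_sq h.sq D.tt h.inv).2
  rw [h.inf] at h1
  exact h1 h.card a (h.le ha) (D.At ha)

/-- an element commuting with `t` and `A` -/
theorem mem_of_comm {g : G} (h1 : g * D.t = D.t * g) (h2 : ∀ a ∈ D.A, g * a = a * g) :
    g ∈ D.A ∨ D.t * g ∈ D.A := by
  rcases (D.cent g).1 h1 with h | h
  · exact Or.inl (D.CA g h h2)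
  · refine Or.inr (D.CA _ h fun a ha => ?_)
    rw [mul_assoc, h2 a ha, ← mul_assoc, ← D.At ha, mul_assoc]

/-- `Q` is unique -/
theorem _root_.Cfsg.Agent.StdSpSix.QLevel.Good.le_of_good [Finite G] {Q P : Subgroup G} (hQ : Good D Q)
    (hP : Good D P) : P ≤ Q := by
  -- every element of `P` is in `Q ∪ Q t`
  have key : ∀ r ∈ P, r ∈ Q ∨ ∃ q ∈ Q, r = q * D.t := by
    intro r hr
    have h1 : D.t * r * D.t * r ∈ D.A :=
      hP.cent _ (mul_mem (hP.inv r hr) hr) (bra_comm hP.sq D.tt hP.inv hr)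
    obtain ⟨q, hq, h2⟩ := hQ.onto h1
    have hr2 : r⁻¹ = r := inv_of_sq (hP.sq r hr)
    have h3 : q * D.t * q⁻¹ = r * D.t * r⁻¹ := by
      rw [h2, hr2]
      calc D.t * (D.t * r * D.t * r) = (D.t * D.t) * (r * D.t * r) := by group
        _ = r * D.t * r := by rw [D.tt, one_mul]
    have h4 : q⁻¹ * r * D.t = D.t * (q⁻¹ * r) := by
      calc q⁻¹ * r * D.t = q⁻¹ * (r * D.t * r⁻¹) * r := by group
        _ = q⁻¹ * (q * D.t * q⁻¹) * r := by rw [h3]
        _ = D.t * (q⁻¹ * r) := by group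
    have h5 : ∀ a ∈ D.A, q⁻¹ * r * a = a * (q⁻¹ * r) := by
      intro a ha
      rw [mul_assoc, comm_of_sq hP.sq hr (hP.le ha), ← mul_assoc,
        comm_of_sq hQ.sq (inv_mem hq) (hQ.le ha), mul_assoc]
    rcases mem_of_comm h4 h5 with h | h
    · left
      have := mul_mem hq (hQ.le h)
      rwa [mul_inv_cancel_left] at this
    · right
      refine ⟨q * (D.t * (q⁻¹ * r)), mul_mem hq (hQ.le h), ?_⟩
      have h6 := D.At h
      have h7 : r = q * (D.t * (D.t * (q⁻¹ * r))) := by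
        rw [← mul_assoc D.t D.t, D.tt, one_mul, mul_inv_cancel_left]
      calc r = q * (D.t * (D.t * (q⁻¹ * r))) := h7
        _ = q * (D.t * (q⁻¹ * r) * D.t) := by rw [h6]
        _ = q * (D.t * (q⁻¹ * r)) * D.t := by group
  by_contra hne
  rw [SetLike.not_le_iff_exists] at hne
  obtain ⟨r, hr, hrQ⟩ := hne
  obtain ⟨q, hq, hrq⟩ := (key r hr).resolve_left hrQ
  have h1 : Q ⊓ P ≤ D.A := by
    intro s hs
    have hs1 := (mem_inf.1 hs).1
    have hs2 := (mem_inf.1 hs).2
    apply hQ.cent s hs1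
    have h2 : s * r = r * s := comm_of_sq hP.sq hs2 hr
    have h3 : s * q = q * s := comm_of_sq hQ.sq hs1 hq
    have h4 : D.t = q⁻¹ * r := by rw [hrq, inv_mul_cancel_left]
    have h5 : s * q⁻¹ = q⁻¹ * s := comm_of_sq hQ.sq hs1 (inv_mem hq)
    rw [h4, ← mul_assoc, h5, mul_assoc, h2, mul_assoc]
  have h2 : Nat.card P ≤ 2 * Nat.card (Q ⊓ P : Subgroup G) := by
    apply card_le_two_mul r
    intro x hx hxK
    have hxQ : x ∉ Q := fun h => hxK (mem_inf.2 ⟨h, hx⟩)
    obtain ⟨p, hp, hxp⟩ := (key x hx).resolve_left hxQ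
    rw [mem_inf]
    refine ⟨?_, mul_mem (inv_mem hr) hx⟩
    rw [hrq, hxp]
    have : (q * D.t)⁻¹ * (p * D.t) = D.t * (q⁻¹ * p) * D.t := by
      rw [mul_inv_rev, D.t_inv]; group
    rw [this]
    exact hQ.inv _ (mul_mem (inv_mem hq) hp)
  have h3 := Nat.card_le_card_of_injective _ (Subgroup.inclusion_injective h1)
  rw [hP.card] at h2
  have h4 := D.cardA
  nlinarith

theorem _root_.Cfsg.Agent.StdSpSix.QLevel.Good.eq [Finite G] {Q P : Subgroup G} (hQ : Good D Q)
    (hP : Good D P) : P = Q :=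
  le_antisymm (hQ.le_of_good hP) (hP.le_of_good hQ)

theorem card_conj_of_iff [Finite G] {A B : Subgroup G} {l : G} (h : ∀ x, x ∈ B ↔ l⁻¹ * x * l ∈ A) :
    Nat.card B = Nat.card A := by
  apply Nat.card_congr
  refine ⟨fun x => ⟨l⁻¹ * x * l, (h x).1 x.2⟩, fun y => ⟨l * y * l⁻¹, (h _).2 ?_⟩, fun x => ?_, fun y => ?_⟩
  · have : l⁻¹ * (l * (y : G) * l⁻¹) * l = y := by group
    rw [this]; exact y.2
  · apply Subtype.ext
    change l * (l⁻¹ * (x : G) * l) * l⁻¹ = x
    group
  · apply Subtype.ext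
    change l⁻¹ * (l * (y : G) * l⁻¹) * l = y
    group

theorem mem_map_conj {Q : Subgroup G} {g x : G} : x ∈ Q.map (MulAut.conj g).toMonoidHom ↔ g⁻¹ * x * g ∈ Q := by
  constructor
  · rintro ⟨z, hz, rfl⟩
    have : g⁻¹ * ((MulAut.conj g).toMonoidHom z) * g = z := by
      change g⁻¹ * (g * z * g⁻¹) * g = z
      group
    rw [this]; exact hz
  · intro h
    refine ⟨_, h, ?_⟩
    change g * (g⁻¹ * x * g) * g⁻¹ = x
    group

/-- no conjugate of `t` in `Q` -/
theorem notMem_Q [Finite G] (D : Data G) (g : G) : g * D.t * g⁻¹ ∉ D.Q := by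
  intro hg
  set Q' : Subgroup G := D.Q.map (MulAut.conj g⁻¹).toMonoidHom with hQ'
  have hmem : ∀ x, x ∈ Q' ↔ g * x * g⁻¹ ∈ D.Q := by
    intro x
    rw [hQ', mem_map_conj, inv_inv]
  have htQ : D.t ∈ Q' := (hmem _).2 hg
  have hsq : ∀ x ∈ Q', x * x = 1 := by
    intro x hx
    have h1 := D.QQ _ ((hmem x).1 hx)
    have h2 : g * x * g⁻¹ * (g * x * g⁻¹) = g * (x * x) * g⁻¹ := by group
    rw [h2] at h1
    have h3 : x * x = g⁻¹ * (g * (x * x) * g⁻¹) * g := by group
    rw [h3, h1]; group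
  have hcard : Nat.card Q' = Nat.card D.A * Nat.card D.A := by
    rw [← D.cardQ]
    exact card_conj_of_iff (l := g⁻¹) (fun x => by rw [inv_inv]; exact hmem x)
  have h1 : Nat.card Q' ≤ 2 * Nat.card (Q' ⊓ D.L : Subgroup G) := by
    apply card_le_two_mul D.t
    intro x hx hxL
    have hc : x * D.t = D.t * x := comm_of_sq hsq hx htQ
    rcases (D.cent x).1 hc with h | h
    · exact absurd (mem_inf.2 ⟨hx, h⟩) hxL
    · rw [D.t_inv]
      exact mem_inf.2 ⟨mul_mem htQ hx, h⟩
  have hA := D.cardA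
  rw [hcard] at h1
  by_cases h2 : Nat.card D.A ≤ Nat.card (Q' ⊓ D.L : Subgroup G)
  · obtain ⟨l, -, hl⟩ := D.sat (Q' ⊓ D.L) inf_le_right (fun x hx => hsq x (mem_inf.1 hx).1) h2
    rw [card_conj_of_iff hl] at h1
    nlinarith
  · push Not at h2
    nlinarith

/-- a conjugate of `t` normalising `Q` -/
theorem exists_conj [Finite G] (D : Data G) (g : G) (h : ∀ q ∈ D.Q, (g * D.t * g⁻¹) * q * (g * D.t * g⁻¹) ∈ D.Q) :
    ∃ k : G, k * D.t * k⁻¹ = g * D.t * g⁻¹ ∧ (∀ q, (q ∈ D.Q ∧ q * (g * D.t * g⁻¹) = (g * D.t * g⁻¹) * q) ↔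
      k⁻¹ * q * k ∈ D.A) ∧ ∀ q, q ∈ D.Q ↔ k⁻¹ * q * k ∈ D.Q := by
  set x : G := g * D.t * g⁻¹ with hx
  have xx : x * x = 1 := by
    rw [hx]
    calc g * D.t * g⁻¹ * (g * D.t * g⁻¹) = g * (D.t * D.t) * g⁻¹ := by group
      _ = 1 := by rw [D.tt]; group
  set B : Subgroup G := D.Q ⊓ centralizer ({x} : Set G) with hB
  have hBmem : ∀ q, q ∈ B ↔ q ∈ D.Q ∧ q * x = x * q := fun q => mem_inf_cent
  set B' : Subgroup G := B.map (MulAut.conj g⁻¹).toMonoidHom with hB'
  have hB'mem : ∀ q, q ∈ B' ↔ g * q * g⁻¹ ∈ B := by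
    intro q
    rw [hB', mem_map_conj, inv_inv]
  have hcardB : Nat.card B' = Nat.card B := card_conj_of_iff (l := g⁻¹) (fun x => by rw [inv_inv]; exact hB'mem x)
  have hsq : ∀ q ∈ B', q * q = 1 := by
    intro q hq
    have h1 := D.QQ _ ((hBmem _).1 ((hB'mem q).1 hq)).1
    have h2 : g * q * g⁻¹ * (g * q * g⁻¹) = g * (q * q) * g⁻¹ := by group
    rw [h2] at h1
    have h3 : q * q = g⁻¹ * (g * (q * q) * g⁻¹) * g := by group
    rw [h3, h1]; group
  have hB'L : B' ≤ D.L := by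
    intro q hq
    have h1 := (hBmem _).1 ((hB'mem q).1 hq)
    have h2 : q * D.t = D.t * q := by
      have h3 := h1.2
      rw [hx] at h3
      calc q * D.t = g⁻¹ * (g * q * g⁻¹ * (g * D.t * g⁻¹)) * g := by group
        _ = D.t * q := by rw [h3]; group
    rcases (D.cent q).1 h2 with h3 | h3
    · exact h3
    · exfalso
      have h4 : (D.t * q) * (D.t * q) = 1 := by
        calc (D.t * q) * (D.t * q) = D.t * (q * D.t) * q := by group
          _ = (D.t * D.t) * (q * q) := by rw [h2]; group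
          _ = 1 := by rw [D.tt, hsq q hq, one_mul]
      obtain ⟨k, hk⟩ := D.all _ h3 h4
      apply D.notMem_Q (g * k)
      have h5 : g * k * D.t * (g * k)⁻¹ = g * q * g⁻¹ := by
        calc g * k * D.t * (g * k)⁻¹ = g * (k * D.t * k⁻¹) * g⁻¹ := by group
          _ = g * ((D.t * D.t) * q) * g⁻¹ := by rw [← hk]; group
          _ = g * q * g⁻¹ := by rw [D.tt, one_mul]
      rw [h5]
      exact h1.1
  have h1 := (card_le_sq D.QQ xx h).1
  change Nat.card D.Q ≤ Nat.card B * Nat.card B at h1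
  rw [D.cardQ] at h1
  have h2 : Nat.card D.A ≤ Nat.card B' := by
    rw [hcardB]
    by_contra h3
    push Not at h3
    nlinarith [Nat.card_pos (α := B)]
  obtain ⟨l, hl, hlB⟩ := D.sat B' hB'L hsq h2
  have hlt : l * D.t = D.t * l := D.Lt hl
  set k : G := g * l with hk
  have hkx : k * D.t * k⁻¹ = x := by
    rw [hk, hx]
    calc g * l * D.t * (g * l)⁻¹ = g * (l * D.t) * l⁻¹ * g⁻¹ := by group
      _ = g * D.t * g⁻¹ := by rw [hlt]; group
  have hmem : ∀ q, (q ∈ D.Q ∧ q * x = x * q) ↔ k⁻¹ * q * k ∈ D.A := by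
    intro q
    rw [← hBmem]
    have h3 := hlB (g⁻¹ * q * g)
    rw [hB'mem] at h3
    have h4 : g * (g⁻¹ * q * g) * g⁻¹ = q := by group
    have h5 : l⁻¹ * (g⁻¹ * q * g) * l = k⁻¹ * q * k := by rw [hk]; group
    rw [h4, h5] at h3
    exact h3
  refine ⟨k, hkx, hmem, ?_⟩
  -- the conjugate of `Q` is good
  set P : Subgroup G := D.Q.map (MulAut.conj k⁻¹).toMonoidHom with hP
  have hPmem : ∀ q, q ∈ P ↔ k * q * k⁻¹ ∈ D.Q := by
    intro q
    rw [hP, mem_map_conj, inv_inv]
  have hgood : Good D P := by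
    refine ⟨?_, ?_, ?_, ?_, ?_⟩
    · intro q hq
      have h1 := D.QQ _ ((hPmem q).1 hq)
      have h2 : k * q * k⁻¹ * (k * q * k⁻¹) = k * (q * q) * k⁻¹ := by group
      rw [h2] at h1
      have h3 : q * q = k⁻¹ * (k * (q * q) * k⁻¹) * k := by group
      rw [h3, h1]; group
    · rw [← D.cardQ]
      exact card_conj_of_iff (l := k⁻¹) (fun x => by rw [inv_inv]; exact hPmem x)
    · intro q hq
      rw [hPmem]
      have h1 := h _ ((hPmem q).1 hq)
      rw [← hkx] at h1
      have h2 : k * D.t * k⁻¹ * (k * q * k⁻¹) * (k * D.t * k⁻¹) = k * (D.t * q * D.t) * k⁻¹ := by group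
      rwa [h2] at h1
    · intro a ha
      rw [hPmem]
      refine ((hmem _).2 ?_).1
      have : k⁻¹ * (k * a * k⁻¹) * k = a := by group
      rw [this]; exact ha
    · intro q hq hqt
      have h1 := (hPmem q).1 hq
      have h2 : k * q * k⁻¹ * x = x * (k * q * k⁻¹) := by
        rw [← hkx]
        calc k * q * k⁻¹ * (k * D.t * k⁻¹) = k * (q * D.t) * k⁻¹ := by group
          _ = k * D.t * k⁻¹ * (k * q * k⁻¹) := by rw [hqt]; group
      have h3 := (hmem _).1 ⟨h1, h2⟩
      have h4 : k⁻¹ * (k * q * k⁻¹) * k = q := by group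
      rwa [h4] at h3
  have hPQ : P = D.Q := D.good.eq hgood
  intro q
  have h3 := hPmem (k⁻¹ * q * k)
  rw [hPQ] at h3
  have h4 : k * (k⁻¹ * q * k) * k⁻¹ = q := by group
  rw [h4] at h3
  exact h3.symm

/-- `t` acts nontrivially on `Q` -/
theorem t_notMem [Finite G] (D : Data G) {a : G} (ha : a ∈ D.A) : ∃ q ∈ D.Q, D.t * a * q ≠ q * (D.t * a) := by
  by_contra hcon
  push Not at hcon
  have h1 : D.Q ≤ D.A := by
    intro q hq
    apply D.QA q hq
    have h2 := hcon q hq
    have h3 : a * q = q * a := comm_of_sq D.QQ (D.AQ ha) hq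
    apply mul_right_cancel (b := a)
    calc q * D.t * a = q * (D.t * a) := by group
      _ = D.t * (a * q) := by rw [← h2]; group
      _ = D.t * q * a := by rw [h3]; group
  have h2 := Nat.card_le_card_of_injective _ (Subgroup.inclusion_injective h1)
  rw [D.cardQ] at h2
  have h3 := D.cardA
  nlinarith

/-- elements of `C_G(Q)` commuting with `t` -/
theorem mem_of_cent [Finite G] (D : Data G) {k : G} (hk : ∀ q ∈ D.Q, k * q = q * k) (hkt : k * D.t = D.t * k) :
    k ∈ D.A := by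
  rcases mem_of_comm (D := D) hkt (fun a ha => hk a (D.AQ ha)) with h | h
  · exact h
  · exfalso
    obtain ⟨q, hq, hne⟩ := D.t_notMem h
    apply hne
    rw [← mul_assoc, D.tt, one_mul]
    exact hk q hq

/-- an element of `C_G(Q)` inverted by `t` with square in `Q` is in `Q` -/
theorem mem_of_inverted [Finite G] (D : Data G) {v : G} (hv : ∀ q ∈ D.Q, v * q = q * v)
    (hvt : D.t * v * D.t = v⁻¹) (hv2 : v * v ∈ D.Q) : v ∈ D.Q := by
  have h1 : v * v * D.t = D.t * (v * v) := by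
    have h2 : D.t * (v * v) * D.t = (v * v)⁻¹ := by
      calc D.t * (v * v) * D.t = D.t * v * 1 * v * D.t := by group
        _ = D.t * v * (D.t * D.t) * v * D.t := by rw [D.tt]
        _ = (D.t * v * D.t) * (D.t * v * D.t) := by group
        _ = (v * v)⁻¹ := by rw [hvt, mul_inv_rev]
    rw [inv_of_sq (D.QQ _ hv2)] at h2
    calc v * v * D.t = D.t * (v * v) * D.t * D.t := by rw [h2]
      _ = D.t * (v * v) * (D.t * D.t) := by group
      _ = D.t * (v * v) := by rw [D.tt, mul_one]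
  obtain ⟨q, hq, h3⟩ := D.good.onto (D.QA _ hv2 h1)
  have h4 : v * D.t * v⁻¹ = D.t * (v * v) := by
    rw [← h1]
    calc v * D.t * v⁻¹ = v * (D.t * v⁻¹ * D.t) * D.t⁻¹ := by group
      _ = v * (D.t * (D.t * v * D.t) * D.t) * D.t⁻¹ := by rw [hvt]
      _ = v * ((D.t * D.t) * v * (D.t * D.t)) * D.t⁻¹ := by group
      _ = v * v * D.t := by rw [D.tt, D.t_inv]; group
  have h5 : (q⁻¹ * v) * D.t = D.t * (q⁻¹ * v) := by
    calc (q⁻¹ * v) * D.t = q⁻¹ * (v * D.t * v⁻¹) * v := by group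
      _ = q⁻¹ * (q * D.t * q⁻¹) * v := by rw [h4, h3]
      _ = D.t * (q⁻¹ * v) := by group
  have h6 : q⁻¹ * v ∈ D.A := D.mem_of_cent (fun p hp => by
    rw [mul_assoc, hv p hp, ← mul_assoc, comm_of_sq D.QQ (inv_mem hq) hp, mul_assoc]) h5
  have := mul_mem hq (D.AQ h6)
  rwa [mul_inv_cancel_left] at this

/-- every involution of `t C_G(Q)` is conjugate to `t` under `C_G(Q)` -/
theorem conj_of_cent [Finite G] (D : Data G) {k : G} (hk : ∀ q ∈ D.Q, k * q = q * k) (hkk : D.t * k * (D.t * k) = 1) :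
    ∃ c : G, (∀ q ∈ D.Q, c * q = q * c) ∧ D.t * k = c * D.t * c⁻¹ := by
  have hinv : D.t * k * D.t = k⁻¹ := by
    rw [eq_inv_iff_mul_eq_one, mul_assoc]
    exact hkk
  have hpow : ∀ n : ℕ, D.t * k ^ n * D.t = (k ^ n)⁻¹ := by
    intro n
    have h1 : D.t * k ^ n * D.t⁻¹ = (D.t * k * D.t⁻¹) ^ n := conj_pow.symm
    rw [D.t_inv] at h1
    rw [h1, hinv, inv_pow]
  have hcent : ∀ n : ℕ, ∀ q ∈ D.Q, k ^ n * q = q * k ^ n := by
    intro n q hq
    exact (Commute.pow_left (hk q hq) n)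
  obtain ⟨n, m, hm, hnm⟩ := Nat.exists_eq_two_pow_mul_odd (orderOf_pos k).ne'
  -- descend to the odd power
  have hdesc : ∀ i : ℕ, i ≤ n → k ^ (m * 2 ^ (n - i)) ∈ D.Q := by
    intro i
    induction i with
    | zero =>
      intro _
      rw [Nat.sub_zero, mul_comm, ← hnm, pow_orderOf_eq_one]
      exact one_mem _
    | succ i ih =>
      intro hi
      apply D.mem_of_inverted (hcent _) (hpow _)
      rw [← pow_add]
      have h1 := ih (by omega)
      have h2 : n - i = (n - (i + 1)) + 1 := by omega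
      rw [h2, pow_succ] at h1
      have h3 : m * (2 ^ (n - (i + 1)) * 2) = m * 2 ^ (n - (i + 1)) + m * 2 ^ (n - (i + 1)) := by ring
      rwa [h3] at h1
  have hw : k ^ m ∈ D.Q := by
    have := hdesc n le_rfl
    rwa [Nat.sub_self, pow_zero, mul_one] at this
  set w : G := k ^ m with hwdef
  have hwt : w * D.t = D.t * w := by
    have h1 := hpow m
    rw [← hwdef, inv_of_sq (D.QQ _ hw)] at h1
    calc w * D.t = D.t * w * D.t * D.t := by rw [h1]
      _ = D.t * w * (D.t * D.t) := by group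
      _ = D.t * w := by rw [D.tt, mul_one]
  obtain ⟨q, hq, h3⟩ := D.good.onto (D.QA _ hw hwt)
  obtain ⟨j, hj⟩ := hm
  -- `k = w c⁻²`, `c = k ^ j`
  set c : G := k ^ j with hc
  have hkc : k = w * c⁻¹ * c⁻¹ := by
    rw [hwdef, hc, hj]
    have h1 : k ^ (2 * j + 1) = k * k ^ j * k ^ j := by
      rw [← pow_succ', ← pow_add]; congr 1; omega
    rw [h1]; group
  have hwc : w * c = c * w := by
    rw [hwdef, hc, ← pow_add, ← pow_add, add_comm]
  have hct : D.t * c * D.t = c⁻¹ := hpow j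
  refine ⟨c * q, ?_, ?_⟩
  · intro p hp
    rw [mul_assoc, comm_of_sq D.QQ hq hp, ← mul_assoc, hcent j p hp, mul_assoc]
  · have h5 : c * D.t = D.t * c⁻¹ := by
      calc c * D.t = (D.t * D.t) * c * D.t := by rw [D.tt, one_mul]
        _ = D.t * (D.t * c * D.t) := by group
        _ = D.t * c⁻¹ := by rw [hct]
    calc D.t * k = D.t * (w * c⁻¹ * c⁻¹) := by rw [← hkc]
      _ = D.t * (c⁻¹ * (c * w) * c⁻¹ * c⁻¹) := by group
      _ = D.t * c⁻¹ * w * c⁻¹ := by rw [← hwc]; group
      _ = c * (D.t * w) * c⁻¹ := by rw [← h5]; group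
      _ = c * (q * D.t * q⁻¹) * c⁻¹ := by rw [h3]
      _ = c * q * D.t * (c * q)⁻¹ := by group

theorem card_eq_two_mul [Finite G] (D : Data G) {K : Subgroup G} (ht : D.t ∈ K) (hK : ∀ x ∈ K, x * D.t = D.t * x) :
    Nat.card K = 2 * Nat.card (K ⊓ D.L : Subgroup G) := by
  apply le_antisymm
  · apply card_le_two_mul D.t
    intro x hx hxL
    rcases (D.cent x).1 (hK x hx) with h | h
    · exact absurd (mem_inf.2 ⟨hx, h⟩) hxL
    · rw [D.t_inv]
      exact mem_inf.2 ⟨mul_mem ht hx, h⟩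
  · have h1 : Nat.card ((K ⊓ D.L : Subgroup G) × Bool) ≤ Nat.card K := by
      refine Nat.card_le_card_of_injective
        (fun p : (K ⊓ D.L : Subgroup G) × Bool => (⟨(if p.2 then (p.1 : G) else D.t * p.1), ?_⟩ : K)) ?_
      · split_ifs
        · exact (mem_inf.1 p.1.2).1
        · exact mul_mem ht (mem_inf.1 p.1.2).1
      · rintro ⟨x, b⟩ ⟨y, c⟩ h
        have h2 := congrArg (Subtype.val : K → G) h
        have hx := (mem_inf.1 x.2).2
        have hy := (mem_inf.1 y.2).2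
        cases b <;> cases c <;> simp only [Bool.false_eq_true, if_true, if_false] at h2
        · rw [Subtype.ext (mul_left_cancel h2)]
        · exfalso
          apply D.tL
          have : D.t = y * (x : G)⁻¹ := by rw [← h2, mul_inv_cancel_right]
          rw [this]
          exact mul_mem hy (inv_mem hx)
        · exfalso
          apply D.tL
          have : D.t = x * (y : G)⁻¹ := by rw [h2, mul_inv_cancel_right]
          rw [this]
          exact mul_mem hx (inv_mem hy)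
        · rw [Subtype.ext h2]
    rw [Nat.card_prod] at h1
    have h2 : Nat.card Bool = 2 := by simp
    rw [h2] at h1
    omega

/-- `t` normalises `Q` -/
theorem t_mem_H (D : Data G) : D.t ∈ normalizer (D.Q : Set G) := by
  rw [mem_normalizer_iff]
  intro q
  rw [D.t_inv]
  refine ⟨fun h => D.tQ q h, fun h => ?_⟩
  have h1 := D.tQ _ h
  have h2 : D.t * (D.t * q * D.t) * D.t = (D.t * D.t) * q * (D.t * D.t) := by group
  rwa [h2, D.tt, one_mul, mul_one] at h1

theorem conj_mem_iff_of_le [Finite G] {A : Subgroup G} {n : G} (h : ∀ a ∈ A, n * a * n⁻¹ ∈ A) (a : G) :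
    a ∈ A ↔ n * a * n⁻¹ ∈ A := by
  refine ⟨h a, fun h1 => ?_⟩
  have h2 : A.map (MulAut.conj n).toMonoidHom ≤ A := by
    rintro _ ⟨x, hx, rfl⟩
    exact h x hx
  have h3 : A.map (MulAut.conj n).toMonoidHom = A := by
    apply eq_of_le_of_card_ge h2
    exact (card_conj_of_iff (l := n) (fun x => mem_map_conj)).ge
  rw [← h3, mem_map_conj] at h1
  have h4 : n⁻¹ * (n * a * n⁻¹) * n = a := by group
  rwa [h4] at h1

/-- `N_L(A) = N_L(Q)` -/
theorem mem_H_iff [Finite G] (D : Data G) {n : G} (hn : n ∈ D.L) :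
    n ∈ normalizer (D.Q : Set G) ↔ n ∈ normalizer (D.A : Set G) := by
  have hnt := D.Lt hn
  have hnt' : n⁻¹ * D.t = D.t * n⁻¹ := D.Lt (inv_mem hn)
  constructor
  · intro h
    rw [mem_normalizer_iff]
    apply conj_mem_iff_of_le
    intro a ha
    apply D.QA _ ((mem_normalizer_iff.1 h a).1 (D.AQ ha))
    calc n * a * n⁻¹ * D.t = n * a * (n⁻¹ * D.t) := by group
      _ = n * (a * D.t) * n⁻¹ := by rw [hnt']; group
      _ = (n * D.t) * a * n⁻¹ := by rw [D.At ha]; group
      _ = D.t * (n * a * n⁻¹) := by rw [hnt]; group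
  · intro h
    set P : Subgroup G := D.Q.map (MulAut.conj n).toMonoidHom with hP
    have hPmem : ∀ q, q ∈ P ↔ n⁻¹ * q * n ∈ D.Q := fun q => mem_map_conj
    have hnt2 : n⁻¹ * D.t * n = D.t := by rw [hnt']; group
    have hgood : Good D P := by
      refine ⟨?_, ?_, ?_, ?_, ?_⟩
      · intro q hq
        have h1 := D.QQ _ ((hPmem q).1 hq)
        have h3 : q * q = n * (n⁻¹ * q * n * (n⁻¹ * q * n)) * n⁻¹ := by group
        rw [h3, h1]; group
      · rw [← D.cardQ]
        exact card_conj_of_iff (l := n) hPmem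
      · intro q hq
        rw [hPmem]
        have h1 := D.tQ _ ((hPmem q).1 hq)
        have h2 : n⁻¹ * (D.t * q * D.t) * n = (n⁻¹ * D.t * n) * (n⁻¹ * q * n) * (n⁻¹ * D.t * n) := by group
        rw [h2, hnt2]
        exact h1
      · intro a ha
        rw [hPmem]
        apply D.AQ
        exact (mem_normalizer_iff''.1 h a).1 ha
      · intro q hq hqt
        have h1 := (hPmem q).1 hq
        rw [mem_normalizer_iff''.1 h q]
        apply D.QA _ h1
        calc n⁻¹ * q * n * D.t = n⁻¹ * q * (n * D.t) := by group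
          _ = n⁻¹ * (q * D.t) * n := by rw [hnt]; group
          _ = (n⁻¹ * D.t) * q * n := by rw [hqt]; group
          _ = D.t * (n⁻¹ * q * n) := by rw [hnt']; group
    have hPQ : P = D.Q := D.good.eq hgood
    rw [mem_normalizer_iff'']
    intro q
    rw [← hPmem, hPQ]

theorem odd_relIndex [Finite G] (D : Data G) :
    Odd ((normalizer (D.Q : Set G)).relIndex (centralizer ({D.t} : Set G))) := by
  set H := normalizer (D.Q : Set G) with hH
  set C := centralizer ({D.t} : Set G) with hC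
  have hCm : ∀ x, x ∈ C ↔ x * D.t = D.t * x := fun x => mem_centralizer_singleton_iff
  have hLC : C ⊓ D.L = D.L := inf_eq_right.2 fun x hx => (hCm x).2 (D.Lt hx)
  have h1 := D.card_eq_two_mul (K := C) ((hCm _).2 rfl) (fun x hx => (hCm x).1 hx)
  have h2 := D.card_eq_two_mul (K := H ⊓ C) (mem_inf.2 ⟨D.t_mem_H, (hCm _).2 rfl⟩)
    (fun x hx => (hCm x).1 (mem_inf.1 hx).2)
  have h3 : H ⊓ C ⊓ D.L = normalizer (D.A : Set G) ⊓ D.L := by
    ext x
    rw [mem_inf, mem_inf, mem_inf]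
    constructor
    · rintro ⟨⟨h, -⟩, hx⟩
      exact ⟨(D.mem_H_iff hx).1 h, hx⟩
    · rintro ⟨h, hx⟩
      exact ⟨⟨(D.mem_H_iff hx).2 h, (hCm x).2 (D.Lt hx)⟩, hx⟩
  rw [hLC] at h1
  rw [h3] at h2
  have h4 : Nat.card (H ⊓ C : Subgroup G) * H.relIndex C = Nat.card C := by
    rw [← inf_relIndex_right H C, relIndex, ← card_sub_eq (inf_le_right : H ⊓ C ≤ C), card_mul_index]
  have h5 : Nat.card (normalizer (D.A : Set G) ⊓ D.L : Subgroup G) * (normalizer (D.A : Set G)).relIndex D.L =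
      Nat.card D.L := by
    rw [← inf_relIndex_right (normalizer (D.A : Set G)) D.L, relIndex,
      ← card_sub_eq (inf_le_right : normalizer (D.A : Set G) ⊓ D.L ≤ D.L), card_mul_index]
  rw [h1, h2, ← h5] at h4
  have hpos : 0 < 2 * Nat.card (normalizer (D.A : Set G) ⊓ D.L : Subgroup G) :=
    Nat.mul_pos two_pos Nat.card_pos
  have h6 : H.relIndex C = (normalizer (D.A : Set G)).relIndex D.L := by
    apply Nat.eq_of_mul_eq_mul_left hpos
    rw [h4]; ring
  rw [h6]
  exact D.odd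

/-- conjugates of `t` in `N_G(Q)` -/
theorem exists_conj_H [Finite G] (D : Data G) (g : G) (h : g * D.t * g⁻¹ ∈ normalizer (D.Q : Set G)) :
    ∃ k ∈ normalizer (D.Q : Set G), k * D.t * k⁻¹ = g * D.t * g⁻¹ ∧
      (∀ q, (q ∈ D.Q ∧ q * (g * D.t * g⁻¹) = (g * D.t * g⁻¹) * q) ↔ k⁻¹ * q * k ∈ D.A) := by
  have xx : (g * D.t * g⁻¹)⁻¹ = g * D.t * g⁻¹ := by
    rw [mul_inv_rev, mul_inv_rev, inv_inv, D.t_inv, mul_assoc]
  obtain ⟨k, h1, h2, h3⟩ := D.exists_conj g (fun q hq => by
    have h4 := (mem_normalizer_iff.1 h q).1 hq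
    rwa [xx] at h4)
  refine ⟨k, mem_normalizer_iff''.2 h3, h1, h2⟩

section Quot

variable [Finite G] (D : Data G) {X : Type*} [Group X] (π : normalizer (D.Q : Set G) →* X)
  (hker : ∀ h, π h = 1 ↔ ∀ q ∈ D.Q, (h : G) * q = q * h)

/-- the image of `N_L(A)` -/
def Y : Subgroup X := ((D.L ⊓ normalizer (D.A : Set G)).subgroupOf (normalizer (D.Q : Set G))).map π

/-- the image of `t` -/
def tb : X := π ⟨D.t, D.t_mem_H⟩

include hker

theorem π_eq_iff {g h : normalizer (D.Q : Set G)} : π g = π h ↔ ∀ q ∈ D.Q, ((g : G)⁻¹ * h) * q = q * ((g : G)⁻¹ * h) := by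
  rw [eq_comm, ← inv_mul_eq_one, ← map_inv, ← map_mul, hker]
  constructor
  · intro h1 q hq
    have h2 := h1 q hq
    have h3 : ((h⁻¹ * g : normalizer (D.Q : Set G)) : G) = ((g : G)⁻¹ * h)⁻¹ := by
      rw [mul_inv_rev, inv_inv]; rfl
    rw [h3] at h2
    calc ((g : G)⁻¹ * h) * q = ((g : G)⁻¹ * h) * (q * ((g : G)⁻¹ * h)⁻¹) * ((g : G)⁻¹ * h) := by group
      _ = q * ((g : G)⁻¹ * h) := by rw [← h2]; group
  · intro h1 q hq
    have h2 := h1 q hq
    have h3 : ((h⁻¹ * g : normalizer (D.Q : Set G)) : G) = ((g : G)⁻¹ * h)⁻¹ := by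
      rw [mul_inv_rev, inv_inv]; rfl
    rw [h3]
    calc ((g : G)⁻¹ * h)⁻¹ * q = ((g : G)⁻¹ * h)⁻¹ * (q * ((g : G)⁻¹ * h)) * ((g : G)⁻¹ * h)⁻¹ := by group
      _ = q * ((g : G)⁻¹ * h)⁻¹ := by rw [← h2]; group

theorem tb_sq : tb D π * tb D π = 1 := by
  rw [tb, ← map_mul]
  have : (⟨D.t, D.t_mem_H⟩ * ⟨D.t, D.t_mem_H⟩ : normalizer (D.Q : Set G)) = 1 := Subtype.ext D.tt
  rw [this, map_one]

theorem conj_of_eq {h : normalizer (D.Q : Set G)} {l : normalizer (D.Q : Set G)} (hl : (l : G) * l = 1)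
    (he : π (h * ⟨D.t, D.t_mem_H⟩ * h⁻¹) = π l) : ∃ g : G, (l : G) = g * D.t * g⁻¹ := by
  -- `h⁻¹ l h ∈ t C_G(Q)`
  have h1 : π ⟨D.t, D.t_mem_H⟩ = π (h⁻¹ * l * h) := by
    rw [map_mul, map_mul, ← he, ← map_mul, ← map_mul]
    congr 1
    group
  have h2 := (D.π_eq_iff π hker).1 h1
  have h3 : (((⟨D.t, D.t_mem_H⟩ : normalizer (D.Q : Set G)) : G)⁻¹ * ((h⁻¹ * l * h : normalizer (D.Q : Set G)) : G)) =
      D.t * ((h : G)⁻¹ * l * h) := by
    change D.t⁻¹ * ((h : G)⁻¹ * l * h) = _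
    rw [D.t_inv]
  rw [h3] at h2
  obtain ⟨c, -, hc⟩ := D.conj_of_cent h2 (by
    have : D.t * (D.t * ((h : G)⁻¹ * l * h)) = (h : G)⁻¹ * l * h := by
      rw [← mul_assoc, D.tt, one_mul]
    rw [this]
    calc (h : G)⁻¹ * l * h * ((h : G)⁻¹ * l * h) = (h : G)⁻¹ * (l * l) * h := by group
      _ = 1 := by rw [hl]; group)
  rw [← mul_assoc, D.tt, one_mul] at hc
  refine ⟨h * c, ?_⟩
  calc (l : G) = h * ((h : G)⁻¹ * l * h) * (h : G)⁻¹ := by group
    _ = h * (c * D.t * c⁻¹) * (h : G)⁻¹ := by rw [hc]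
    _ = h * c * D.t * (h * c)⁻¹ := by group

theorem quot_cent (hsurj : Function.Surjective π) (y : X) :
    Commute y (tb D π) ↔ y ∈ Y D π ∨ tb D π * y ∈ Y D π := by
  have htt := D.tb_sq π hker
  constructor
  · intro hy
    obtain ⟨h, rfl⟩ := hsurj y
    -- `h t h⁻¹ = t k`
    have h1 : π ⟨D.t, D.t_mem_H⟩ = π (h * ⟨D.t, D.t_mem_H⟩ * h⁻¹) := by
      rw [map_mul, map_mul, map_inv]
      have : π h * tb D π = tb D π * π h := hy
      change tb D π = π h * tb D π * (π h)⁻¹
      rw [this]; group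
    have h2 := (D.π_eq_iff π hker).1 h1
    have h3 : (((⟨D.t, D.t_mem_H⟩ : normalizer (D.Q : Set G)) : G)⁻¹ *
        ((h * ⟨D.t, D.t_mem_H⟩ * h⁻¹ : normalizer (D.Q : Set G)) : G)) = D.t * ((h : G) * D.t * (h : G)⁻¹) := by
      change D.t⁻¹ * ((h : G) * D.t * (h : G)⁻¹) = _
      rw [D.t_inv]
    rw [h3] at h2
    obtain ⟨c, hc, hct⟩ := D.conj_of_cent h2 (by
      have : D.t * (D.t * ((h : G) * D.t * (h : G)⁻¹)) = (h : G) * D.t * (h : G)⁻¹ := by
        rw [← mul_assoc, D.tt, one_mul]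
      rw [this]
      calc (h : G) * D.t * (h : G)⁻¹ * ((h : G) * D.t * (h : G)⁻¹) = h * (D.t * D.t) * (h : G)⁻¹ := by group
        _ = 1 := by rw [D.tt]; group)
    rw [← mul_assoc, D.tt, one_mul] at hct
    have hcH : c ∈ normalizer (D.Q : Set G) := by
      rw [mem_normalizer_iff]
      apply conj_mem_iff_of_le
      intro q hq
      rw [hc q hq, mul_inv_cancel_right]
      exact hq
    have h5 : (c⁻¹ * h) * D.t = D.t * (c⁻¹ * h) := by
      calc (c⁻¹ * h) * D.t = c⁻¹ * ((h : G) * D.t * (h : G)⁻¹) * h := by group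
        _ = c⁻¹ * (c * D.t * c⁻¹) * h := by rw [hct]
        _ = D.t * (c⁻¹ * h) := by group
    set h' : normalizer (D.Q : Set G) := ⟨c, hcH⟩⁻¹ * h with hh'
    have hh'c : (h' : G) = c⁻¹ * h := rfl
    have hπ : π h' = π h := by
      rw [hh', map_mul, map_inv, (hker ⟨c, hcH⟩).2 hc, inv_one, one_mul]
    rw [← hπ]
    rcases (D.cent _).1 h5 with h6 | h6
    · left
      refine ⟨h', ?_, rfl⟩
      rw [SetLike.mem_coe, mem_subgroupOf, mem_inf, hh'c]
      refine ⟨h6, (D.mem_H_iff h6).1 ?_⟩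
      rw [← hh'c]; exact h'.2
    · right
      refine ⟨⟨D.t, D.t_mem_H⟩ * h', ?_, by rw [map_mul]; rfl⟩
      rw [SetLike.mem_coe, mem_subgroupOf, mem_inf]
      have h7 : ((⟨D.t, D.t_mem_H⟩ * h' : normalizer (D.Q : Set G)) : G) = D.t * (c⁻¹ * h) := rfl
      rw [h7]
      refine ⟨h6, (D.mem_H_iff h6).1 ?_⟩
      rw [← h7]; exact (⟨D.t, D.t_mem_H⟩ * h' : normalizer (D.Q : Set G)).2
  · have key : ∀ y ∈ Y D π, Commute y (tb D π) := by
      rintro _ ⟨n, hn, rfl⟩
      rw [SetLike.mem_coe, mem_subgroupOf, mem_inf] at hn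
      have h1 : n * ⟨D.t, D.t_mem_H⟩ = ⟨D.t, D.t_mem_H⟩ * n := Subtype.ext (D.Lt hn.1)
      change π n * π ⟨D.t, D.t_mem_H⟩ = π ⟨D.t, D.t_mem_H⟩ * π n
      rw [← map_mul, ← map_mul, h1]
    rintro (h | h)
    · exact key y h
    · have h1 := key _ h
      have h2 : tb D π * y * tb D π = tb D π * (tb D π * y) := h1
      have h3 : y * tb D π = tb D π * y := by
        calc y * tb D π = (tb D π * tb D π) * y * tb D π := by rw [htt, one_mul]
          _ = tb D π * (tb D π * y * tb D π) := by group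
          _ = (tb D π * tb D π) * (tb D π * y) := by rw [h2]; group
          _ = tb D π * y := by rw [htt, one_mul]
      exact h3

/-- involutions of `Y` lift -/
theorem lift_Y {y : X} (hy : y ∈ Y D π) (hyy : y * y = 1) :
    ∃ n : normalizer (D.Q : Set G), (n : G) ∈ D.L ∧ (n : G) * n = 1 ∧ π n = y := by
  obtain ⟨n, hn, rfl⟩ := hy
  rw [SetLike.mem_coe, mem_subgroupOf, mem_inf] at hn
  have h1 : (n : G) * n ∈ D.A := by
    have h2 : π (n * n) = 1 := by rw [map_mul, hyy]
    have h3 := (hker _).1 h2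
    apply D.CA _ (mul_mem hn.1 hn.1)
    intro a ha
    exact h3 a (D.AQ ha)
  obtain ⟨a, ha, h2⟩ := D.lift n hn.1 (mem_normalizer_iff.1 hn.2) h1
  have haH : a ∈ normalizer (D.Q : Set G) := (le_normalizer (H := D.Q)) (D.AQ ha)
  refine ⟨n * ⟨a, haH⟩, mul_mem hn.1 (D.AL ha), h2, ?_⟩
  rw [map_mul, (hker ⟨a, haH⟩).2 (fun q hq => comm_of_sq D.QQ (D.AQ ha) hq), mul_one]

theorem quot_DY (hsurj : Function.Surjective π) (y : X) : y * tb D π * y⁻¹ ∉ Y D π := by
  intro hy
  have h1 : (y * tb D π * y⁻¹) * (y * tb D π * y⁻¹) = 1 := by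
    calc (y * tb D π * y⁻¹) * (y * tb D π * y⁻¹) = y * (tb D π * tb D π) * y⁻¹ := by group
      _ = 1 := by rw [D.tb_sq π hker]; group
  obtain ⟨n, hn, hnn, hπ⟩ := D.lift_Y π hker hy h1
  obtain ⟨h, rfl⟩ := hsurj y
  obtain ⟨g, hg⟩ := D.conj_of_eq π hker (h := h) (l := n) hnn (by
    rw [map_mul, map_mul, map_inv, hπ]; rfl)
  apply D.DL g
  rw [← hg]
  exact hn

theorem quot_all (y : X) (hy : y ∈ Y D π) (hyy : y * y = 1) : ∃ g : X, tb D π * y = g * tb D π * g⁻¹ := by
  obtain ⟨n, hn, hnn, rfl⟩ := D.lift_Y π hker hy hyy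
  obtain ⟨g, hg⟩ := D.all n hn hnn
  have hmem : g * D.t * g⁻¹ ∈ normalizer (D.Q : Set G) := by
    rw [← hg]
    exact mul_mem D.t_mem_H n.2
  obtain ⟨k, hk, hk1, -⟩ := D.exists_conj_H g hmem
  refine ⟨π ⟨k, hk⟩, ?_⟩
  rw [← hg] at hk1
  change π ⟨D.t, D.t_mem_H⟩ * π n = π ⟨k, hk⟩ * π ⟨D.t, D.t_mem_H⟩ * (π ⟨k, hk⟩)⁻¹
  rw [← map_mul, ← map_mul, ← map_inv, ← map_mul]
  congr 1
  exact Subtype.ext hk1.symm

theorem tb_notMem (hsurj : Function.Surjective π) : tb D π ∉ Y D π := by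
  have := D.quot_DY π hker hsurj 1
  rwa [one_mul, inv_one, mul_one] at this

/-- `Y ≃ N_L(A) / A` -/
theorem exists_equiv {Γ : Type*} [Group Γ] (θ : (D.L ⊓ normalizer (D.A : Set G) : Subgroup G) →* Γ)
    (hθ : Function.Surjective θ) (hθk : ∀ n, θ n = 1 ↔ (n : G) ∈ D.A) : Nonempty (Y D π ≃* Γ) := by
  have hNH : D.L ⊓ normalizer (D.A : Set G) ≤ normalizer (D.Q : Set G) := by
    intro n hn
    rw [mem_inf] at hn
    exact (D.mem_H_iff hn.1).2 hn.2
  let ψ : (D.L ⊓ normalizer (D.A : Set G) : Subgroup G) →* X := π.comp (inclusion hNH)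
  have hrange : ψ.range = Y D π := by
    ext y
    constructor
    · rintro ⟨n, rfl⟩
      refine ⟨inclusion hNH n, ?_, rfl⟩
      rw [SetLike.mem_coe, mem_subgroupOf]
      exact n.2
    · rintro ⟨n, hn, rfl⟩
      rw [SetLike.mem_coe, mem_subgroupOf] at hn
      exact ⟨⟨n, hn⟩, rfl⟩
  have hker' : ψ.ker = θ.ker := by
    ext n
    rw [MonoidHom.mem_ker, MonoidHom.mem_ker, hθk]
    change π (inclusion hNH n) = 1 ↔ _
    rw [hker]
    constructor
    · intro h
      exact D.CA _ (mem_inf.1 n.2).1 (fun a ha => h a (D.AQ ha))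
    · intro h q hq
      exact comm_of_sq D.QQ (D.AQ h) hq
  exact ⟨(MulEquiv.subgroupCongr hrange.symm).trans ((QuotientGroup.quotientKerEquivRange ψ).symm.trans
    ((QuotientGroup.quotientMulEquivOfEq hker').trans (QuotientGroup.quotientKerEquivOfSurjective θ hθ)))⟩

omit hker in
/-- a sign on the quotient gives one on `G` -/
theorem exists_hom_of_quot (m : X →* ℤˣ) (hm : m (tb D π) = -1) : ∃ m : G →* ℤˣ, m D.t = -1 := by
  refine TR.exists_hom_of_class (H := normalizer (D.Q : Set G)) (m.comp π) D.tt D.t_mem_H hm ?_ D.odd_relIndex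
  intro g h _
  obtain ⟨k, hk, hk1, -⟩ := D.exists_conj_H g⁻¹ (by rw [inv_inv]; exact h)
  rw [inv_inv] at hk1
  exact ⟨k, hk, hk1.symm⟩

end Quot

end Data

/-- The inductive shape: `C_X(t) = ⟨t⟩ × Y`, `Y ≃ Γ`, `t ^ X ∩ C_X(t) = {t} ∪ t I(Y)`, implies a sign on `X`
which is `-1` at `t`. -/
def Base.{u, v} (Γ : Type v) [Group Γ] : Prop :=
  ∀ (X : Type u) [Group X] [Finite X] (t : X) (Y : Subgroup X) (_ : Y ≃* Γ), t * t = 1 →
    (∀ g, Commute g t ↔ g ∈ Y ∨ t * g ∈ Y) → t ∉ Y → (∀ g, g * t * g⁻¹ ∉ Y) →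
    (∀ y ∈ Y, y * y = 1 → ∃ g, t * y = g * t * g⁻¹) → ∃ m : X →* ℤˣ, m t = -1

universe u v

/-- The reduction to `N_G(Q) / C_G(Q)`. -/
theorem Data.main {G : Type u} [Group G] [Finite G] (D : Data G) {Γ : Type v} [Group Γ]
    (θ : (D.L ⊓ normalizer (D.A : Set G) : Subgroup G) →* Γ) (hθ : Function.Surjective θ)
    (hθk : ∀ n, θ n = 1 ↔ (n : G) ∈ D.A) (base : Base.{u, v} Γ) : ∃ m : G →* ℤˣ, m D.t = -1 := by
  have hker : ∀ h : normalizer (D.Q : Set G), QuotientGroup.mk' (normalizerMonoidHom D.Q).ker h = 1 ↔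
      ∀ q ∈ D.Q, (h : G) * q = q * h := by
    intro h
    rw [← MonoidHom.mem_ker, QuotientGroup.ker_mk', normalizerMonoidHom_ker, mem_subgroupOf, mem_centralizer_iff]
    constructor
    · intro h1 q hq
      exact (h1 q hq).symm
    · intro h1 q hq
      exact (h1 q hq).symm
  have hsurj := QuotientGroup.mk'_surjective (normalizerMonoidHom D.Q).ker
  obtain ⟨e⟩ := D.exists_equiv _ hker θ hθ hθk
  obtain ⟨m, hm⟩ := base _ (Data.tb D _) (Data.Y D _) e (D.tb_sq _ hker) (D.quot_cent _ hker hsurj)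
    (D.tb_notMem _ hker hsurj) (D.quot_DY _ hker hsurj) (D.quot_all _ hker)
  exact D.exists_hom_of_quot _ m hm

end Cfsg.Agent.StdSpSix.QLevel

private theorem dce_fb0c4fced8b0 : _root_.True := by
  try have : _root_.True := by simp only [_root_.Cfsg.Agent.StdSpSix.QLevel.Data.tb.eq_1]
  exact _root_.True.intro
end

-- part: StdSpSix/QLevelCheck
section
set_option linter.all false

/-!
# Kernel checks on `3 × 3` matrices over the field with two elements (for `Sp₆(2)`, the subgroup `2⁶`)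
-/

set_option autoImplicit false

namespace Cfsg.Agent.StdSpSix.QLevelModel

open Matrix

/-- `3 × 3` matrices. -/
abbrev M3 := Matrix (Fin 3) (Fin 3) (ZMod 2)

/-- the symmetric matrix -/
def sy (x : Fin 6 → ZMod 2) : M3 := !![x 0, x 3, x 4; x 3, x 1, x 5; x 4, x 5, x 2]

theorem sy_symm (x : Fin 6 → ZMod 2) : (sy x)ᵀ = sy x := by
  ext i j
  fin_cases i <;> fin_cases j <;> rfl

theorem sy_add (x y : Fin 6 → ZMod 2) : sy (x + y) = sy x + sy y := by
  ext i j
  fin_cases i <;> fin_cases j <;> rfl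

theorem sy_inj {x y : Fin 6 → ZMod 2} (h : sy x = sy y) : x = y := by
  funext i
  fin_cases i
  · exact congrFun (congrFun h 0) 0
  · exact congrFun (congrFun h 1) 1
  · exact congrFun (congrFun h 2) 2
  · exact congrFun (congrFun h 0) 1
  · exact congrFun (congrFun h 0) 2
  · exact congrFun (congrFun h 1) 2

theorem exists_sy {S : M3} (h : Sᵀ = S) : ∃ x, S = sy x := by
  refine ⟨![S 0 0, S 1 1, S 2 2, S 0 1, S 0 2, S 1 2], ?_⟩
  have h' : ∀ i j, S j i = S i j := fun i j => congrFun (congrFun h i) j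
  ext i j
  fin_cases i <;> fin_cases j
  · rfl
  · rfl
  · rfl
  · exact h' 0 1
  · rfl
  · rfl
  · exact h' 0 2
  · exact h' 1 2
  · rfl

set_option maxRecDepth 100000 in
theorem r1 : ∀ M : M3, M * M = 1 → M = 1 ∨ ∃ w φ : Fin 3 → ZMod 2, (w ≠ 0 ∧ φ ≠ 0 ∧ w ⬝ᵥ φ = 0) ∧
    M = 1 + vecMulVec w φ := by (set_option synthInstance.maxSize 20000 in open scoped Cfsg.Agent.Lib.MatDec in decide +kernel)

set_option maxRecDepth 100000 in
theorem r2 : ∀ w s : Fin 3 → ZMod 2, vecMulVec w s = vecMulVec s w → w = 0 ∨ s = 0 ∨ s = w := by decide +kernel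

/-- a nontrivial involution of `GL₃(2)` -/
def Inv (w φ : Fin 3 → ZMod 2) : Prop := w ≠ 0 ∧ φ ≠ 0 ∧ w ⬝ᵥ φ = 0

instance (w φ : Fin 3 → ZMod 2) : Decidable (Inv w φ) := by unfold Inv; infer_instance

/-- commuting pairs -/
def Com (w φ w' φ' : Fin 3 → ZMod 2) : Prop := w ⬝ᵥ φ' = 0 ∧ w' ⬝ᵥ φ = 0

instance (w φ w' φ' : Fin 3 → ZMod 2) : Decidable (Com w φ w' φ') := by unfold Com; infer_instance

set_option maxRecDepth 100000 in
theorem r3 : ∀ w φ : Fin 3 → ZMod 2, Inv w φ → ∀ w' φ' : Fin 3 → ZMod 2, Inv w' φ' →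
    (1 + vecMulVec w φ) * (1 + vecMulVec w' φ') = (1 + vecMulVec w' φ') * (1 + vecMulVec w φ) →
    Com w φ w' φ' := by (delta Cfsg.Agent.StdSpSix.QLevelModel.Inv Cfsg.Agent.StdSpSix.QLevelModel.Com; set_option synthInstance.maxSize 20000 in open scoped Cfsg.Agent.Lib.MatDec in decide +kernel)

set_option maxRecDepth 100000 in
theorem r4 : ∀ w φ : Fin 3 → ZMod 2, Inv w φ →
    (Finset.univ.filter fun x : Fin 6 → ZMod 2 => sy x *ᵥ φ = 0 ∨ sy x *ᵥ φ = w).card ≤ 16 := by decide +kernel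

/-- commuting and distinct -/
def ComD (w φ w' φ' : Fin 3 → ZMod 2) : Prop := Inv w' φ' ∧ (w ⬝ᵥ φ' = 0 ∧ w' ⬝ᵥ φ = 0) ∧ (w ≠ w' ∨ φ ≠ φ')

instance (w φ w' φ' : Fin 3 → ZMod 2) : Decidable (ComD w φ w' φ') := by unfold ComD; infer_instance

/-- the count of fixed symmetric matrices -/
def cnt (w φ w' φ' : Fin 3 → ZMod 2) : Prop :=
  (Finset.univ.filter fun x : Fin 6 → ZMod 2 => (sy x *ᵥ φ = 0 ∨ sy x *ᵥ φ = w) ∧
      (sy x *ᵥ φ' = 0 ∨ sy x *ᵥ φ' = w')).card ≤ 8

instance (w φ w' φ' : Fin 3 → ZMod 2) : Decidable (cnt w φ w' φ') := by unfold cnt; infer_instance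

set_option maxRecDepth 100000 in
theorem r5 : ∀ w φ : Fin 3 → ZMod 2, Inv w φ → ∀ w' φ' : Fin 3 → ZMod 2, ComD w φ w' φ' →
    cnt w φ w' φ' := by decide +kernel

/-- the third involution -/
def third (w φ w' φ' : Fin 3 → ZMod 2) : Prop :=
  ∀ u ψ : Fin 3 → ZMod 2, (Inv u ψ ∧ Com w φ u ψ ∧ Com w' φ' u ψ) →
    1 + vecMulVec u ψ = 1 + vecMulVec w φ ∨ 1 + vecMulVec u ψ = 1 + vecMulVec w' φ' ∨
    1 + vecMulVec u ψ = (1 + vecMulVec w φ) * (1 + vecMulVec w' φ')

instance (w φ w' φ' : Fin 3 → ZMod 2) : Decidable (third w φ w' φ') := by unfold third; infer_instance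

set_option maxRecDepth 100000 in
theorem r6 : ∀ w φ : Fin 3 → ZMod 2, Inv w φ → ∀ w' φ' : Fin 3 → ZMod 2, ComD w φ w' φ' →
    third w φ w' φ' := by (delta Cfsg.Agent.StdSpSix.QLevelModel.Inv Cfsg.Agent.StdSpSix.QLevelModel.ComD Cfsg.Agent.StdSpSix.QLevelModel.third Cfsg.Agent.StdSpSix.QLevelModel.Com; set_option synthInstance.maxSize 20000 in open scoped Cfsg.Agent.Lib.MatDec in decide +kernel)

set_option maxRecDepth 100000 in
theorem r7 : ∀ M : M3, M * !![0,1,0;1,0,0;0,0,0] = !![0,1,0;1,0,0;0,0,0] * M →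
    M * !![1,0,0;0,0,0;0,0,0] = !![1,0,0;0,0,0;0,0,0] * M →
    M * !![0,0,0;0,0,1;0,1,0] = !![0,0,0;0,0,1;0,1,0] * M → M = 0 ∨ M = 1 := by (set_option synthInstance.maxSize 20000 in open scoped Cfsg.Agent.Lib.MatDec in decide +kernel)

end Cfsg.Agent.StdSpSix.QLevelModel
end

-- part: StdSpSix/TRCount
section
set_option linter.all false
open scoped Cfsg.Agent.FastGrp

/-!
# The transfer lemma (TR), counting form

`#Bad * |H| = #{d ∈ H : d ~ t, l d = -1} * |C_G(t)|`, for an arbitrary subgroup `H`.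
-/

set_option autoImplicit false

namespace Cfsg.Agent.StdSpSix.TRCount

open Subgroup Cfsg.Agent.StdSpSix.TR

/-- A map with constant fibres. -/
theorem card_of_fibres {α β : Type*} [Finite α] [Finite β] (f : α → β) (k : ℕ)
    (hf : ∀ b : β, Nat.card {x : α // f x = b} = k) : Nat.card α = Nat.card β * k := by
  classical
  let _ := Fintype.ofFinite β
  rw [← Nat.card_congr (Equiv.sigmaFiberEquiv f), Nat.card_sigma]
  rw [Finset.sum_congr rfl (fun b _ => hf b), Finset.sum_const, Finset.card_univ, smul_eq_mul,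
    Nat.card_eq_fintype_card]

variable {G : Type*} [Group G] {H : Subgroup G}

/-- The elements conjugating `t` into the elements of `H` with sign `-1`. -/
def Mov (l : H →* ℤˣ) (t : G) (g : G) : Prop :=
  ∃ h : g⁻¹ * t * g ∈ H, l ⟨g⁻¹ * t * g, h⟩ = -1

/-- The conjugates of `t` in `H` with sign `-1`. -/
def Neg (l : H →* ℤˣ) (t : G) (d : G) : Prop :=
  IsConj t d ∧ ∃ h : d ∈ H, l ⟨d, h⟩ = -1

theorem Mov.mul (l : H →* ℤˣ) {t g k : G} (hg : Mov l t g) (hk : k ∈ H) : Mov l t (g * k) := by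
  obtain ⟨h, hl⟩ := hg
  have e : (g * k)⁻¹ * t * (g * k) = k⁻¹ * (g⁻¹ * t * g) * k := by group
  have h' : (g * k)⁻¹ * t * (g * k) ∈ H := by
    rw [e]; exact H.mul_mem (H.mul_mem (H.inv_mem hk) h) hk
  refine ⟨h', ?_⟩
  have e2 : (⟨(g * k)⁻¹ * t * (g * k), h'⟩ : H) = (⟨k, hk⟩ : H)⁻¹ * ⟨g⁻¹ * t * g, h⟩ * ⟨k, hk⟩ :=
    Subtype.ext e
  rw [e2, map_mul, map_mul, hl, map_inv, mul_comm, ← mul_assoc, mul_inv_cancel, one_mul]

theorem bad_iff_mov (l : H →* ℤˣ) {t g : G} : Bad l t (g : G ⧸ H) ↔ Mov l t g := by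
  constructor
  · rintro ⟨g', hg', h⟩
    have h1 : g'⁻¹ * g ∈ H := QuotientGroup.eq.1 hg'
    have h2 := Mov.mul l (g := g') h h1
    rwa [mul_inv_cancel_left] at h2
  · intro h
    exact ⟨g, rfl, h⟩

variable [Finite G]

theorem card_mov_left (l : H →* ℤˣ) (t : G) :
    Nat.card {g : G // Mov l t g} = Nat.card {q : G ⧸ H // Bad l t q} * Nat.card H := by
  refine card_of_fibres (fun g : {g : G // Mov l t g} =>
    (⟨((g : G) : G ⧸ H), (bad_iff_mov l).2 g.2⟩ : {q : G ⧸ H // Bad l t q})) _ ?_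
  rintro ⟨q, hq⟩
  obtain ⟨g, rfl⟩ := QuotientGroup.mk_surjective q
  have hg := (bad_iff_mov l).1 hq
  symm
  refine Nat.card_congr (Equiv.ofBijective (fun k : H =>
    ⟨⟨g * k, Mov.mul l hg k.2⟩, Subtype.ext ?_⟩) ⟨?_, ?_⟩)
  · change ((g * (k : G) : G) : G ⧸ H) = (g : G ⧸ H)
    rw [eq_comm, QuotientGroup.eq, inv_mul_cancel_left]
    exact k.2
  · intro k1 k2 h
    have : g * (k1 : G) = g * k2 := congrArg (fun x => ((x.1 : {g : G // Mov l t g}) : G)) h
    exact Subtype.ext (mul_left_cancel this)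
  · rintro ⟨⟨x, hx⟩, h⟩
    have h1 : (x : G ⧸ H) = (g : G ⧸ H) := congrArg Subtype.val h
    have h2 : g⁻¹ * x ∈ H := QuotientGroup.eq.1 h1.symm
    refine ⟨⟨g⁻¹ * x, h2⟩, ?_⟩
    apply Subtype.ext
    apply Subtype.ext
    exact mul_inv_cancel_left g x

theorem card_mov_right (l : H →* ℤˣ) (t : G) :
    Nat.card {g : G // Mov l t g} =
      Nat.card {d : G // Neg l t d} * Nat.card (centralizer ({t} : Set G)) := by
  refine card_of_fibres (fun g : {g : G // Mov l t g} =>
    (⟨(g : G)⁻¹ * t * g, ?_, g.2⟩ : {d : G // Neg l t d})) _ ?_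
  · rw [isConj_iff]
    exact ⟨(g : G)⁻¹, by rw [inv_inv]⟩
  rintro ⟨d, hd⟩
  obtain ⟨h1, h2⟩ := hd
  obtain ⟨c, hc⟩ := isConj_iff.1 h1
  have key : ∀ x : G, x * t = t * x → (x * c⁻¹)⁻¹ * t * (x * c⁻¹) = d := by
    intro x hx
    rw [← hc]
    calc (x * c⁻¹)⁻¹ * t * (x * c⁻¹) = c * (x⁻¹ * (t * x)) * c⁻¹ := by group
      _ = c * t * c⁻¹ := by rw [← hx, inv_mul_cancel_left]
  symm
  refine Nat.card_congr (Equiv.ofBijective (fun x : centralizer ({t} : Set G) =>
    ⟨⟨(x : G) * c⁻¹, ?_⟩, Subtype.ext ?_⟩) ⟨?_, ?_⟩)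
  · have := key x (mem_centralizer_singleton_iff.1 x.2)
    obtain ⟨h, hl⟩ := h2
    refine ⟨by rw [this]; exact h, ?_⟩
    rw [← hl]
    congr 1
    exact Subtype.ext this
  · exact key x (mem_centralizer_singleton_iff.1 x.2)
  · intro k1 k2 h
    have : (k1 : G) * c⁻¹ = k2 * c⁻¹ := congrArg (fun x => ((x.1 : {g : G // Mov l t g}) : G)) h
    exact Subtype.ext (mul_right_cancel this)
  · rintro ⟨⟨x, hx⟩, h⟩
    have h1 : x⁻¹ * t * x = d := congrArg Subtype.val h
    refine ⟨⟨x * c, ?_⟩, ?_⟩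
    · rw [mem_centralizer_singleton_iff]
      have : t * x = x * d := by rw [← h1]; group
      calc x * c * t = x * (c * t * c⁻¹) * c := by group
        _ = t * (x * c) := by rw [hc, ← this]; group
    · apply Subtype.ext
      apply Subtype.ext
      exact mul_inv_cancel_right x c

/-- (TR), counting form. -/
theorem card_bad (l : H →* ℤˣ) (t : G) :
    Nat.card {q : G ⧸ H // Bad l t q} * Nat.card H =
      Nat.card {d : G // Neg l t d} * Nat.card (centralizer ({t} : Set G)) := by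
  rw [← card_mov_left, card_mov_right]

/-- If `#{d ∈ H : d ~ t, l d = -1} * |C_G(t)|` is an odd multiple of `|H|`, then `t` has sign `-1`
for some homomorphism to `ℤˣ`. -/
theorem exists_hom_of_count (l : H →* ℤˣ) {t : G} (ht : t * t = 1) {m : ℕ} (hm : Odd m)
    (h : Nat.card {d : G // Neg l t d} * Nat.card (centralizer ({t} : Set G)) = m * Nat.card H) :
    ∃ f : G →* ℤˣ, f t = -1 := by
  apply exists_hom_of_odd l ht
  rw [← card_bad] at h
  have : 0 < Nat.card H := Nat.card_pos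
  rw [Nat.eq_of_mul_eq_mul_right this h]
  exact hm

end Cfsg.Agent.StdSpSix.TRCount
end

-- part: StdSpSix/PatOneForm
section
prune_inst 0x434204100350000000018001022001c62f2000000004800002020010205c10841804300613aa0041000021c441834004011100400020000000a003000013a07a9000400020000a200080000000800000000000000000000000000000000000000000400000
set_option linter.all false
open scoped Cfsg.Agent.FastGrp

/-!
# Pattern `{b₁}`, part 1: functions on the symplectic space which are additive on perpendicular pairs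

A function `f : V → ZMod 2` (`|V| = 64`) with `f (u + v) = f u + f v` for all perpendicular `u, v` is additive
or a quadratic form polarizing to `B`.  `count` is the resulting counting statement for families of such
functions.
-/

set_option autoImplicit false

namespace Cfsg.Agent.StdSpSix.PatOneForm

open Cfsg.Agent.StandardComponent.SpTwo

variable {X V : Type*} [Group X] [AddCommGroup V] [Module (ZMod 2) V] (D : SpData X V)

/-- three independent vectors are separated -/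
theorem exists_sep3 {u v w : V} (h0 : w ≠ 0) (hu : w ≠ u) (hv : w ≠ v) (huv : w ≠ u + v) :
    ∃ x, D.B x u = 0 ∧ D.B x v = 0 ∧ D.B x w = 1 := by
  obtain ⟨x1, a1, a2⟩ := D.exists_sep h0 hu
  obtain ⟨x2, b1, b2⟩ := D.exists_sep h0 hv
  obtain ⟨x3, c1, c2⟩ := D.exists_sep h0 huv
  rcases z2 (D.B x1 v) with h1 | h1
  · exact ⟨x1, a2, h1, a1⟩
  rcases z2 (D.B x2 u) with h2 | h2
  · exact ⟨x2, h2, b2, b1⟩
  rw [map_add] at c2
  rcases z2 (D.B x3 u) with h3 | h3 <;> rcases z2 (D.B x3 v) with h4 | h4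
  · exact ⟨x3, h3, h4, c1⟩
  · rw [h3, h4] at c2; exact absurd c2 (by decide)
  · rw [h3, h4] at c2; exact absurd c2 (by decide)
  · refine ⟨x1 + x2 + x3, ?_, ?_, ?_⟩ <;> simp only [map_add, LinearMap.add_apply] <;>
      simp only [a1, a2, b1, b2, c1, h1, h2, h3, h4] <;> decide

/-- two nonzero vectors have a common partner -/
theorem exists_partner {u v : V} (hu : u ≠ 0) (hv : v ≠ 0) : ∃ x, D.B x u = 1 ∧ D.B x v = 1 := by
  by_cases huv : u = v
  · subst huv
    obtain ⟨x, h, -⟩ := D.exists_sep hu hu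
    exact ⟨x, h, h⟩
  · obtain ⟨x, h1, h2⟩ := D.exists_sep hu huv
    obtain ⟨y, h3, h4⟩ := D.exists_sep hv (Ne.symm huv)
    refine ⟨x + y, ?_, ?_⟩ <;> simp only [map_add, LinearMap.add_apply, h1, h2, h3, h4] <;> decide

section Perp

variable {f : V → ZMod 2} (hf : ∀ u v, D.B u v = 0 → f (u + v) = f u + f v)

include hf

/-- `f (u + v) + f u + f v` does not change when a vector perpendicular to both is added to `v` -/
theorem beta_add {u v p : V} (h1 : D.B u p = 0) (h2 : D.B v p = 0) :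
    f (u + (v + p)) + f u + f (v + p) = f (u + v) + f u + f v := by
  have e1 := hf (u + v) p (by rw [map_add, LinearMap.add_apply, h1, h2, add_zero])
  have e2 := hf v p h2
  rw [← add_assoc, e1, e2]
  generalize f (u + v) = a
  generalize f p = b
  generalize f u = c
  generalize f v = d
  revert a b c d
  decide

omit hf in
theorem beta_self (u v : V) : f (u + (u + v)) + f u + f (u + v) = f (u + v) + f u + f v := by
  rw [aac]
  ring

theorem beta_const_left {u v v' : V} (h1 : D.B u v = 1) (h2 : D.B u v' = 1) :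
    f (u + v) + f u + f v = f (u + v') + f u + f v' := by
  have key : ∀ y : V, D.B u y = 1 → D.B v y = 0 → f (u + v) + f u + f v = f (u + y) + f u + f y := by
    intro y h3 h4
    have := beta_add D hf (u := u) (v := v) (p := v + y) (by rw [map_add, h1, h3]; decide)
      (by rw [map_add, h4, D.alt, add_zero])
    rw [aac] at this
    exact this.symm
  rcases z2 (D.B v v') with h | h
  · exact key v' h2 h
  · have := key (u + v') (by rw [map_add, D.alt, h2, zero_add])
      (by rw [map_add, D.symm v u, h1, h]; decide)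
    rw [this]
    exact beta_self u v'

theorem beta_const {u v u' v' : V} (h1 : D.B u v = 1) (h2 : D.B u' v' = 1) :
    f (u + v) + f u + f v = f (u' + v') + f u' + f v' := by
  have hu : u ≠ 0 := by
    rintro rfl
    simp at h1
  have hu' : u' ≠ 0 := by
    rintro rfl
    simp at h2
  obtain ⟨x, hx, hx'⟩ := exists_partner D hu hu'
  have e1 := beta_const_left D hf h1 ((D.symm u x).trans hx)
  have e2 := beta_const_left D hf h2 ((D.symm u' x).trans hx')
  have e3 := beta_const_left D hf hx hx'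
  have s1 : f (u + x) + f u + f x = f (x + u) + f x + f u := by
    rw [add_comm u x]; ring
  have s2 : f (u' + x) + f u' + f x = f (x + u') + f x + f u' := by
    rw [add_comm u' x]; ring
  rw [e1, s1, e3, ← s2, ← e2]

/-- the dichotomy -/
theorem perp_dichotomy : (∀ u v, f (u + v) = f u + f v) ∨
    (∀ u v, f (u + v) = f u + f v + D.B u v) := by
  by_cases h : ∃ u v, D.B u v = 1 ∧ f (u + v) + f u + f v = 1
  · obtain ⟨u, v, h1, h2⟩ := h
    right
    intro u' v'
    rcases z2 (D.B u' v') with h3 | h3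
    · rw [hf u' v' h3, h3, add_zero]
    · have := beta_const D hf h1 h3
      rw [h2] at this
      rw [h3]
      generalize f (u' + v') = a at *
      generalize f u' = b at *
      generalize f v' = c at *
      clear * - this
      revert a b c
      decide
  · push Not at h
    left
    intro u' v'
    rcases z2 (D.B u' v') with h3 | h3
    · exact hf u' v' h3
    · have := h u' v' h3
      generalize f (u' + v') = a at *
      generalize f u' = b at *
      generalize f v' = c at *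
      clear * - this
      revert a b c
      decide

end Perp

/-! ### counting -/

theorem card_half (A : Finset V) (w : V) (φ : V → ZMod 2) (h1 : ∀ x ∈ A, x + w ∈ A)
    (h2 : ∀ x ∈ A, φ (x + w) = φ x + 1) : 2 * (A.filter (fun x => φ x = 0)).card = A.card := by
  have e : (A.filter (fun x => φ x = 0)).card = (A.filter (fun x => ¬ φ x = 0)).card := by
    apply Finset.card_bij (fun x _ => x + w)
    · intro x hx
      simp only [Finset.mem_filter] at hx ⊢
      exact ⟨h1 x hx.1, by rw [h2 x hx.1, hx.2]; decide⟩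
    · intro x _ y _ h
      exact add_right_cancel h
    · intro y hy
      simp only [Finset.mem_filter] at hy
      refine ⟨y + w, ?_, aab y w⟩
      simp only [Finset.mem_filter]
      refine ⟨h1 y hy.1, ?_⟩
      rw [h2 y hy.1]
      rcases z2 (φ y) with h | h
      · exact absurd h hy.2
      · rw [h]; decide
  have e2 := Finset.card_filter_add_card_filter_not (s := A) (fun x => φ x = 0)
  omega

variable [Fintype V]

theorem card_perp1 (hV : Fintype.card V = 64) {u : V} (hu : u ≠ 0) :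
    (Finset.univ.filter (fun x => D.B x u = 0)).card = 32 := by
  obtain ⟨w, hw, -⟩ := D.exists_sep hu hu
  have := card_half (Finset.univ : Finset V) w (fun x => D.B x u) (fun _ _ => Finset.mem_univ _)
    (fun x _ => by simp only [map_add, LinearMap.add_apply, hw])
  rw [Finset.card_univ, hV] at this
  omega

theorem card_perp1' (hV : Fintype.card V = 64) {u : V} (hu : u ≠ 0) :
    (Finset.univ.filter (fun x => D.B x u = 1)).card = 32 := by
  have h1 := card_perp1 D hV hu
  have e2 := Finset.card_filter_add_card_filter_not (s := (Finset.univ : Finset V)) (fun x => D.B x u = 0)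
  have e3 : (Finset.univ.filter (fun x => D.B x u = 1)) = Finset.univ.filter (fun x => ¬ D.B x u = 0) := by
    apply Finset.filter_congr
    intro x _
    rcases z2 (D.B x u) with h | h <;> rw [h] <;> decide
  rw [Finset.card_univ, hV] at e2
  rw [e3]
  omega

theorem card_perp2 (hV : Fintype.card V = 64) {u v : V} (hu : u ≠ 0) (hv : v ≠ 0) (huv : u ≠ v) :
    (Finset.univ.filter (fun x => D.B x u = 0 ∧ D.B x v = 0)).card = 16 := by
  obtain ⟨w, hw, hw'⟩ := D.exists_sep hv (Ne.symm huv)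
  have := card_half (Finset.univ.filter (fun x => D.B x u = 0)) w (fun x => D.B x v) (fun x hx => by
    simp only [Finset.mem_filter, Finset.mem_univ, true_and, map_add, LinearMap.add_apply] at hx ⊢
    rw [hx, hw', add_zero])
    (fun x _ => by simp only [map_add, LinearMap.add_apply, hw])
  rw [Finset.filter_filter, card_perp1 D hV hu] at this
  omega

theorem card_perp3 (hV : Fintype.card V = 64) {u v w : V} (hu : u ≠ 0) (hv : v ≠ 0) (huv : u ≠ v)
    (h0 : w ≠ 0) (hwu : w ≠ u) (hwv : w ≠ v) (hwuv : w ≠ u + v) :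
    (Finset.univ.filter (fun x => (D.B x u = 0 ∧ D.B x v = 0) ∧ D.B x w = 0)).card = 8 := by
  obtain ⟨y, hy1, hy2, hy3⟩ := exists_sep3 D h0 hwu hwv hwuv
  have := card_half (Finset.univ.filter (fun x => D.B x u = 0 ∧ D.B x v = 0)) y (fun x => D.B x w)
    (fun x hx => by
      simp only [Finset.mem_filter, Finset.mem_univ, true_and, map_add, LinearMap.add_apply] at hx ⊢
      rw [hx.1, hx.2, hy1, hy2, add_zero]
      exact ⟨rfl, rfl⟩)
    (fun x _ => by simp only [map_add, LinearMap.add_apply, hy3])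
  rw [Finset.filter_filter, card_perp2 D hV hu hv huv] at this
  omega

/-- number of ones of a nonzero additive function -/
theorem card_ones_additive (hV : Fintype.card V = 64) {f : V → ZMod 2}
    (hf : ∀ u v, f (u + v) = f u + f v) (h1 : ∃ u, f u = 1) :
    (Finset.univ.filter (fun x => f x = 1)).card = 32 := by
  obtain ⟨w, hw⟩ := h1
  have h1 := card_half (Finset.univ : Finset V) w f (fun _ _ => Finset.mem_univ _)
    (fun x _ => by rw [hf, hw])
  rw [Finset.card_univ, hV] at h1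
  have e2 := Finset.card_filter_add_card_filter_not (s := (Finset.univ : Finset V)) (fun x => f x = 0)
  have e3 : (Finset.univ.filter (fun x => f x = 1)) = Finset.univ.filter (fun x => ¬ f x = 0) := by
    apply Finset.filter_congr
    intro x _
    rcases z2 (f x) with h | h <;> rw [h] <;> decide
  rw [Finset.card_univ, hV] at e2
  rw [e3]
  omega

/-- the sign character -/
def chi (a : ZMod 2) : ℤ := if a = 0 then 1 else -1

theorem chi_add (a b : ZMod 2) : chi (a + b) = chi a * chi b := by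
  revert a b
  decide

omit [AddCommGroup V] [Module (ZMod 2) V] in
theorem sum_chi (hV : Fintype.card V = 64) (f : V → ZMod 2) :
    ∑ x, chi (f x) = 64 - 2 * ((Finset.univ.filter (fun x => f x = 1)).card : ℤ) := by
  have h : ∀ x, chi (f x) = 1 - 2 * (if f x = 1 then 1 else 0) := by
    intro x
    rcases z2 (f x) with h | h <;> rw [h] <;> decide
  simp_rw [h]
  rw [Finset.sum_sub_distrib, ← Finset.mul_sum, Finset.sum_boole]
  simp only [Finset.sum_const, Finset.card_univ, hV]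
  norm_num

theorem sum_chi_B (hV : Fintype.card V = 64) {d : V} (hd : d ≠ 0) : ∑ x, chi (D.B x d) = 0 := by
  rw [sum_chi hV, card_perp1' D hV hd]
  norm_num

/-- a quadratic form has 28 or 36 ones -/
theorem card_ones_quadratic (hV : Fintype.card V = 64) {q : V → ZMod 2}
    (hq : ∀ u v, q (u + v) = q u + q v + D.B u v) :
    (Finset.univ.filter (fun x => q x = 1)).card = 28 ∨
      (Finset.univ.filter (fun x => q x = 1)).card = 36 := by
  classical
  have h0 : q 0 = 0 := by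
    have := hq 0 0
    rw [add_zero, map_zero, add_zero] at this
    rcases z2 (q 0) with h | h
    · exact h
    · rw [h] at this; exact absurd this (by decide)
  have hS : (∑ x, chi (q x)) * (∑ x, chi (q x)) = 64 := by
    calc (∑ x, chi (q x)) * (∑ x, chi (q x)) = ∑ x, chi (q x) * ∑ y, chi (q y) := by
          rw [Finset.sum_mul]
      _ = ∑ x, ∑ d, chi (q d) * chi (D.B x d) := by
          apply Finset.sum_congr rfl
          intro x _
          rw [← Equiv.sum_comp (Equiv.addLeft x), Finset.mul_sum]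
          apply Finset.sum_congr rfl
          intro d _
          rw [Equiv.coe_addLeft, hq, ← chi_add, ← chi_add]
          congr 1
          generalize q x = a
          generalize q d = b
          generalize D.B x d = c
          revert a b c
          decide
      _ = ∑ d, chi (q d) * ∑ x, chi (D.B x d) := by
          rw [Finset.sum_comm]
          apply Finset.sum_congr rfl
          intro d _
          rw [Finset.mul_sum]
      _ = chi (q 0) * ∑ x, chi (D.B x 0) := by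
          apply Finset.sum_eq_single
          · intro d _ hd
            rw [sum_chi_B D hV hd, mul_zero]
          · intro h; exact absurd (Finset.mem_univ _) h
      _ = 64 := by
          rw [h0]
          simp [chi, hV]
  rw [sum_chi hV q] at hS
  have hle : (Finset.univ.filter (fun x => q x = 1)).card ≤ 64 := by
    rw [← hV]; exact Finset.card_le_univ _
  generalize (Finset.univ.filter (fun x => q x = 1)).card = a at *
  interval_cases a <;> simp_all

section Count

variable {R : Type*} [Fintype R] (F : R → V → ZMod 2)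

omit [Fintype R] in
open scoped Classical in
/-- the orbit bound -/
theorem orbit_bound (σ : R → R) (hσ : ∀ r, σ r ≠ r) (hσF : ∀ r, F (σ r) = F r)
    (π : V → R → R) (hπF : ∀ w r x, F (π w r) x = F r (x + D.B x w • w))
    (r0 : R) (W0 : Finset V) (hW : ∀ w ∈ W0, ∀ x, F r0 (x + D.B x w • w) = F r0 x + D.B x w) :
    ∃ U : Finset R, 2 * W0.card ≤ U.card ∧
      ∀ r ∈ U, (Finset.univ.filter (fun x => F r x = 1)).card =
        (Finset.univ.filter (fun x => F r0 x = 1)).card := by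
  have hinv : ∀ w : V, Function.Involutive (fun x : V => x + D.B x w • w) := by
    intro w x
    simp only [map_add, LinearMap.add_apply, map_smul, LinearMap.smul_apply, D.alt, smul_zero, add_zero]
    exact aab _ _
  refine ⟨W0.biUnion (fun w => {π w r0, σ (π w r0)}), ?_, ?_⟩
  · rw [Finset.card_biUnion]
    · rw [mul_comm, ← smul_eq_mul, ← Finset.sum_const]
      apply Finset.sum_le_sum
      intro w _
      rw [Finset.card_pair (Ne.symm (hσ _))]
    · intro w hw w' hw' hne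
      rw [Function.onFun, Finset.disjoint_left]
      intro r hr hr'
      apply hne
      have e1 : ∀ v ∈ W0, r ∈ ({π v r0, σ (π v r0)} : Finset R) → ∀ x, F r x = F r0 x + D.B x v := by
        intro v hv h x
        rw [Finset.mem_insert, Finset.mem_singleton] at h
        rcases h with rfl | rfl
        · rw [hπF, hW v hv]
        · rw [hσF, hπF, hW v hv]
      apply eq_of_add
      apply D.nondeg
      intro x
      rw [D.symm, map_add]
      have e2 := (e1 w hw hr x).symm.trans (e1 w' hw' hr' x)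
      rw [add_left_cancel e2]
      generalize D.B x w' = a
      revert a
      decide
  · intro r hr
    rw [Finset.mem_biUnion] at hr
    obtain ⟨w, hw, hr⟩ := hr
    have e1 : ∀ x, F r x = F r0 (x + D.B x w • w) := by
      intro x
      rw [Finset.mem_insert, Finset.mem_singleton] at hr
      rcases hr with rfl | rfl
      · rw [hπF]
      · rw [hσF, hπF]
    simp_rw [e1]
    refine Finset.card_bij (fun x _ => x + D.B x w • w) ?_ ?_ ?_
    · intro x hx
      simpa using hx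
    · intro x _ y _ h
      exact (hinv w).injective h
    · intro y hy
      refine ⟨y + D.B y w • w, ?_, hinv w y⟩
      simp only [Finset.mem_filter, Finset.mem_univ, true_and] at hy ⊢
      have := hinv w y
      simp only at this
      rw [this]
      exact hy

/-- the counting statement -/
theorem count (hV : Fintype.card V = 64)
    (hP : ∀ r u v, D.B u v = 0 → F r (u + v) = F r u + F r v)
    (hne : ∀ r, ∃ u, F r u = 1)
    (σ : R → R) (hσ : ∀ r, σ r ≠ r) (hσF : ∀ r, F (σ r) = F r)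
    (π : V → R → R) (hπF : ∀ w r x, F (π w r) x = F r (x + D.B x w • w))
    (hsum : ∑ r, (Finset.univ.filter (fun u => F r u = 1)).card = 2016) :
    (Fintype.card R = 72 ∨ Fintype.card R = 56) ∧
      ∀ r u v, F r (u + v) = F r u + F r v + D.B u v := by
  classical
  have hq : ∀ r u v, F r (u + v) = F r u + F r v + D.B u v := by
    intro r0
    rcases perp_dichotomy D (hP r0) with hadd | hq
    · exfalso
      obtain ⟨U, hU1, hU2⟩ := orbit_bound D F σ hσ hσF π hπF r0
        (Finset.univ.filter (fun w => F r0 w = 1)) (by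
          intro w hw x
          simp only [Finset.mem_filter, Finset.mem_univ, true_and] at hw
          rcases z2 (D.B x w) with h | h
          · rw [h, zero_smul, add_zero, add_zero]
          · rw [h, one_smul, hadd, hw])
      have h32 := card_ones_additive hV hadd (hne r0)
      rw [h32] at hU1 hU2
      have h1 : ∑ r ∈ U, (Finset.univ.filter (fun u => F r u = 1)).card ≤ 2016 := by
        rw [← hsum]
        exact Finset.sum_le_sum_of_subset (Finset.subset_univ _)
      rw [Finset.sum_congr rfl hU2, Finset.sum_const, smul_eq_mul] at h1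
      omega
    · exact hq
  refine ⟨?_, hq⟩
  have hR : Nonempty R := by
    by_contra h
    rw [not_nonempty_iff] at h
    rw [Finset.univ_eq_empty, Finset.sum_empty] at hsum
    omega
  obtain ⟨r0⟩ := hR
  obtain ⟨U, hU1, hU2⟩ := orbit_bound D F σ hσ hσF π hπF r0
    (Finset.univ.filter (fun w => ¬ F r0 w = 1)) (by
      intro w hw x
      simp only [Finset.mem_filter, Finset.mem_univ, true_and] at hw
      rcases z2 (D.B x w) with h | h
      · rw [h, zero_smul, add_zero, add_zero]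
      · rw [h, one_smul, hq, h]
        rcases z2 (F r0 w) with h' | h'
        · rw [h', add_zero]
        · exact absurd h' hw)
  have hsplit := Finset.card_filter_add_card_filter_not (s := (Finset.univ : Finset V))
    (fun x => F r0 x = 1)
  rw [Finset.card_univ, hV] at hsplit
  have h28 := card_ones_quadratic D hV (hq r0)
  have h1 : ∑ r ∈ U, (Finset.univ.filter (fun u => F r u = 1)).card +
      ∑ r ∈ Uᶜ, (Finset.univ.filter (fun u => F r u = 1)).card = 2016 := by
    rw [← hsum]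
    exact Finset.sum_add_sum_compl U _
  rw [Finset.sum_congr rfl hU2, Finset.sum_const, smul_eq_mul] at h1
  have h2 : Uᶜ.card ≤ ∑ r ∈ Uᶜ, (Finset.univ.filter (fun u => F r u = 1)).card := by
    rw [Finset.card_eq_sum_ones]
    apply Finset.sum_le_sum
    intro r _
    obtain ⟨u, hu⟩ := hne r
    rw [Nat.one_le_iff_ne_zero, Finset.card_ne_zero]
    exact ⟨u, by simpa using hu⟩
  have h3 := Finset.card_add_card_compl U
  generalize (Finset.univ.filter (fun x => F r0 x = 1)).card = a at *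
  generalize (Finset.univ.filter (fun w => ¬ F r0 w = 1)).card = b at *
  rcases h28 with rfl | rfl
  · left; omega
  · right; omega

/-- a quadratic form does not vanish on a hyperplane `w^⊥` -/
theorem exists_one_perp {q : V → ZMod 2} (hV : Fintype.card V = 64)
    (hq : ∀ u v, q (u + v) = q u + q v + D.B u v) (w : V) : ∃ v, D.B v w = 0 ∧ q v = 1 := by
  by_contra hcon
  push Not at hcon
  have h0 : ∀ v, D.B v w = 0 → q v = 0 := by
    intro v hv
    rcases z2 (q v) with h | h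
    · exact h
    · exact absurd h (hcon v hv)
  have h1 : ∀ u v, D.B u w = 0 → D.B v w = 0 → D.B u v = 0 := by
    intro u v hu hv
    have := hq u v
    rw [h0 _ hu, h0 _ hv, h0 (u + v) (by rw [map_add, LinearMap.add_apply, hu, hv, add_zero])] at this
    simpa using this.symm
  -- choose `u` outside `{0, w}` perpendicular to `w`
  by_cases hw : w = 0
  · subst hw
    have h2 : ∀ u v : V, D.B u v = 0 := fun u v => h1 u v (map_zero _) (map_zero _)
    have h3 : ∀ u : V, u = 0 := fun u => D.nondeg u (h2 u)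
    have : Fintype.card V ≤ 1 := Fintype.card_le_one_iff.2 (fun a b => (h3 a).trans (h3 b).symm)
    omega
  · have h32 := card_perp1 D hV hw
    have : ∃ u ∈ Finset.univ.filter (fun x => D.B x w = 0), u ≠ 0 ∧ u ≠ w := by
      classical
      by_contra hn
      push Not at hn
      have : Finset.univ.filter (fun x => D.B x w = 0) ⊆ {0, w} := by
        intro u hu
        rw [Finset.mem_insert, Finset.mem_singleton]
        by_cases h : u = 0
        · exact Or.inl h
        · exact Or.inr (hn u hu h)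
      have h4 := (Finset.card_le_card this).trans Finset.card_le_two
      omega
    obtain ⟨u, hu, hu0, huw⟩ := this
    simp only [Finset.mem_filter, Finset.mem_univ, true_and] at hu
    obtain ⟨x, hx1, hx2⟩ := D.exists_sep hu0 huw
    have := h1 x u hx2 hu
    rw [hx1] at this
    exact absurd this (by decide)

end Count

end Cfsg.Agent.StdSpSix.PatOneForm

private theorem dce_bcbd7ecb1ea3 : _root_.True := by
  try have : _root_.True := by simp only [_root_.Cfsg.Agent.StdSpSix.PatOneForm.chi.eq_1]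
  exact _root_.True.intro
end

-- part: StdSpSix/PatTwoH
section
prune_inst 0x424202004310000000018051022001c66d6000090002b00016060004404c10f40a00307618ee0161090120e440034004011100530023000000a000800413807a9002a00028008a000210000009005180c00000000000000000000000000000000000400000
set_option linter.all false
open scoped Cfsg.Agent.FastGrp

-- part: StdSpSix/PatTwoCodes
section
/-!
Coordinates for the six-dimensional symplectic space over the field with two elements:
vectors are codes `0, …, 63` (bits `e1 e2 e3 f1 f2 f3`), addition is xor.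
-/

set_option autoImplicit false

namespace Cfsg.Agent.StdSpSix.PatTwo

/-- The symplectic space `F_2^6`, as codes. -/
def V : Type := Fin 64

namespace V

instance : DecidableEq V := inferInstanceAs (DecidableEq (Fin 64))
instance : Fintype V := inferInstanceAs (Fintype (Fin 64))
instance : Inhabited V := ⟨(⟨0, by decide⟩ : Fin 64)⟩
instance decAll {p : V → Prop} [h : DecidablePred p] : Decidable (∀ x : V, p x) :=
  @Nat.decidableForallFin 64 p h
instance decEx {p : V → Prop} [h : DecidablePred p] : Decidable (∃ x : V, p x) :=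
  @decidable_of_iff _ (¬ ∀ x : V, ¬ p x) (by simp) (@instDecidableNot _ (@decAll (fun x => ¬ p x)
    (fun x => @instDecidableNot _ (h x))))

/-- The underlying number of a code. -/
def num (x : V) : ℕ := Fin.val (n := 64) x

theorem ext {x y : V} (h : x.num = y.num) : x = y := Fin.val_injective h

theorem num_lt (x : V) : x.num < 64 := Fin.isLt (n := 64) x

/-- The code with a given number. -/
def mk (n : ℕ) (h : n < 64) : V := (⟨n, h⟩ : Fin 64)

theorem num_mk (n : ℕ) (h : n < 64) : (mk n h).num = n := rfl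

/-- Addition of codes is xor. -/
def add (x y : V) : V := mk (x.num ^^^ y.num) (Nat.xor_lt_two_pow (n := 6) x.num_lt y.num_lt)

instance : Zero V := ⟨mk 0 (by decide)⟩
instance : Add V := ⟨add⟩
instance : Neg V := ⟨fun x => x⟩

theorem num_add (x y : V) : (x + y).num = x.num ^^^ y.num := rfl
theorem num_zero : (0 : V).num = 0 := rfl
theorem neg_eq (x : V) : -x = x := rfl

instance : AddCommGroup V where
  add_assoc x y z := ext (by simp only [num_add]; exact Nat.xor_assoc _ _ _)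
  zero_add x := ext (by rw [num_add, num_zero]; exact Nat.zero_xor _)
  add_zero x := ext (by rw [num_add, num_zero]; exact Nat.xor_zero _)
  nsmul := nsmulRec
  zsmul := zsmulRec
  neg_add_cancel x := ext (by rw [num_add, neg_eq, num_zero]; exact Nat.xor_self _)
  add_comm x y := ext (by simp only [num_add]; exact Nat.xor_comm _ _)

theorem aa (x : V) : x + x = 0 := by
  have := neg_add_cancel x
  rwa [neg_eq] at this

theorem aab (x y : V) : x + (x + y) = y := by rw [← add_assoc, aa, zero_add]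
theorem aba (x y : V) : x + y + y = x := by rw [add_assoc, aa, add_zero]
theorem eq_of_add {x y : V} (h : x + y = 0) : x = y := by
  have := congrArg (· + y) h
  simpa only [aba, zero_add] using this
/-- Swap the two halves of a code. -/
def swp (x : ℕ) : ℕ := (x >>> 3) ||| ((x &&& 7) <<< 3)

/-- Parity of a number `< 64`. -/
def par (x : ℕ) : Bool := Nat.testBit 0x6996966996696996 x

/-- The symplectic form. -/
def form (x y : V) : Bool := par (x.num &&& swp y.num)

private noncomputable def _root_.Cfsg.Agent.KOc205842.k0 : type_of% @Decidable.decide := @(fun x0 x1 => @Decidable.rec.{1} _ @(fun x2 => @Bool) @(fun x2 => @Bool.false) @(fun x2 => @Bool.true) @x1)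
private theorem _root_.Cfsg.Agent.KOc205842.e0 : @Decidable.decide = @_root_.Cfsg.Agent.KOc205842.k0 := by delta _root_.Cfsg.Agent.KOc205842.k0; rfl'
private noncomputable def _root_.Cfsg.Agent.KOc205842.k1l (n : Nat) (P : ∀ k, k < n → Prop) (H : ∀ k h, Decidable (P k h)) (m : Nat) : m ≤ n → Bool := @Nat.rec (fun m => m ≤ n → Bool) (fun _ => true) (fun k ih h => @Decidable.rec (P k h) (fun _ => Bool) (fun _ => false) (fun _ => ih (Nat.le_of_succ_le h)) (H k h)) m
private theorem _root_.Cfsg.Agent.KOc205842.k1ls (n : Nat) (P : ∀ k, k < n → Prop) (H : ∀ k h, Decidable (P k h)) (m : Nat) : ∀ h : m ≤ n, _root_.Cfsg.Agent.KOc205842.k1l n P H m h = true ↔ ∀ k (g : k < m), P k (Nat.lt_of_lt_of_le g h) := by induction m with | zero => exact fun _ => ⟨fun _ _ g => absurd g (Nat.not_lt_zero _), fun _ => rfl⟩ | succ m ih => intro h; show @Decidable.rec (P m h) (fun _ => Bool) (fun _ => false) (fun _ => _root_.Cfsg.Agent.KOc205842.k1l n P H m (Nat.le_of_succ_le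 h)) (H m h) = true ↔ _; cases H m h with | isFalse q => exact ⟨fun g => absurd g Bool.false_ne_true, fun g => absurd (g m (Nat.lt_succ_self m)) q⟩ | isTrue q => exact ⟨fun g k hk => (Nat.lt_succ_iff_lt_or_eq.1 hk).elim ((ih _).1 g k) fun e => by subst e; exact q, fun g => (ih _).2 fun k hk => g k (Nat.lt_succ_of_lt hk)⟩
private noncomputable def _root_.Cfsg.Agent.KOc205842.k1 (n : Nat) (P : ∀ k, k < n → Prop) (H : ∀ k h, Decidable (P k h)) : Decidable (∀ k h, P k h) := @Bool.rec (fun b => _root_.Cfsg.Agent.KOc205842.k1l n P H n (Nat.le_refl n) = b → Decidable (∀ k h, P k h)) (fun g => isFalse fun q => Bool.false_ne_true (g.symm.trans ((_root_.Cfsg.Agent.KOc205842.k1ls n P H n _).2 fun k h => q k h))) (fun g => isTrue fun k h => (_root_.Cfsg.Agent.KOc205842.k1ls n P H n _).1 g k h) (_root_.Cfsg.Agent.KOc205842.k1l n P H n (Nat.le_refl n)) rfl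
private theorem _root_.Cfsg.Agent.KOc205842.e1 : @Nat.decidableBallLT = @_root_.Cfsg.Agent.KOc205842.k1 := funext fun _ => funext fun _ => funext fun _ => Subsingleton.elim _ _
private noncomputable def _root_.Cfsg.Agent.KOc205842.k2 : type_of% @Nat.decidableForallFin := @(fun x0 x1 x2 => @Decidable.rec.{1} _ @(fun x3 => @Decidable ((x4 : @Fin @x0) → @x1 @x4)) @(fun x3 => @Decidable.isFalse _ (@decidable_of_decidable_of_iff._proof_1 _ _ (@Nat.decidableForallFin._proof_1 _ @x1) @x3)) @(fun x3 => @Decidable.isTrue _ (@Iff.mp _ _ (@Nat.decidableForallFin._proof_1 _ @x1) @x3)) (@Cfsg.Agent.KOc205842.k1 @x0 @(fun x3 x4 => @x1 (@Fin.mk _ @x3 @x4)) @(fun x3 x4 => @x2 (@Fin.mk _ @x3 @x4))))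
private theorem _root_.Cfsg.Agent.KOc205842.e2 : @Nat.decidableForallFin = @_root_.Cfsg.Agent.KOc205842.k2 := by delta _root_.Cfsg.Agent.KOc205842.k2; rewrite [← Cfsg.Agent.KOc205842.e1]; rfl'
private noncomputable def _root_.Cfsg.Agent.KOc205842.k3 : (by first | exact type_of% @Cfsg.Agent.StdSpSix.PatTwo.V.decAll | exact Unit : Sort _) := by first | (refine @Subtype.val _ (fun g => @Cfsg.Agent.StdSpSix.PatTwo.V.decAll = @g) (@Subtype.mk _ _ (@(fun x0 x1 => @Cfsg.Agent.KOc205842.k2 _ @x0 @x1)) ?_); rewrite [← Cfsg.Agent.KOc205842.e2]; rfl') | exact @Cfsg.Agent.StdSpSix.PatTwo.V.decAll | exact ()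
private theorem _root_.Cfsg.Agent.KOc205842.e3 : (by first | exact @Cfsg.Agent.StdSpSix.PatTwo.V.decAll = @_root_.Cfsg.Agent.KOc205842.k3 | exact True : Prop) := by first | (delta _root_.Cfsg.Agent.KOc205842.k3; exact @Subtype.property _ (fun g => @Cfsg.Agent.StdSpSix.PatTwo.V.decAll = @g) _) | rfl | trivial
private noncomputable def _root_.Cfsg.Agent.KOc205842.k4 : type_of% @Bool.decEq := @(fun x0 x1 => @Bool.rec.{1} @(fun x2 => @Decidable (@Eq.{1} _ @x2 @x1)) (@Bool.rec.{1} @(fun x2 => @Decidable (@Eq.{1} _ @Bool.false @x2)) (@Decidable.isTrue _ (@rfl.{1} _ _)) (@Decidable.isFalse _ @(fun x2 => @Bool.noConfusion.{0} _ _ _ @x2)) @x1) (@Bool.rec.{1} @(fun x2 => @Decidable (@Eq.{1} _ @Bool.true @x2)) (@Decidable.isFalse _ @(fun x2 => @Bool.noConfusion.{0} _ _ _ @x2)) (@Decidable.isTrue _ (@rfl.{1} _ _)) @x1) @x0)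
private theorem _root_.Cfsg.Agent.KOc205842.e4 : @Bool.decEq = @_root_.Cfsg.Agent.KOc205842.k4 := by delta _root_.Cfsg.Agent.KOc205842.k4; rfl'
private noncomputable def _root_.Cfsg.Agent.KOc205842.k5 : type_of% @instDecidableEqBool := @Cfsg.Agent.KOc205842.k4
private theorem _root_.Cfsg.Agent.KOc205842.e5 : @instDecidableEqBool = @_root_.Cfsg.Agent.KOc205842.k5 := by delta _root_.Cfsg.Agent.KOc205842.k5; rewrite [← Cfsg.Agent.KOc205842.e4]; rfl'
private noncomputable def _root_.Cfsg.Agent.KOc205842.oEq.{ku} (α : Sort ku) (a b : Nat) (f t : α) : α := @Decidable.rec (a = b) (fun _ => α) (fun _ => f) (fun _ => t) (Nat.decEq a b)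
private noncomputable def _root_.Cfsg.Agent.KOc205842.k6.{ku} (α : Sort ku) (a b : Nat) (f t : α) : α := @Bool.rec (fun _ => α) f t (Nat.beq a b)
private theorem _root_.Cfsg.Agent.KOc205842.e6.{ku} : @_root_.Cfsg.Agent.KOc205842.oEq.{ku} = @_root_.Cfsg.Agent.KOc205842.k6.{ku} := funext fun α => funext fun a => funext fun b => funext fun f => funext fun t => by delta _root_.Cfsg.Agent.KOc205842.oEq _root_.Cfsg.Agent.KOc205842.k6; cases h : Nat.beq a b <;> cases Nat.decEq a b <;> rename_i g <;> first | rfl | exact absurd g (Nat.ne_of_beq_eq_false h) | exact absurd (Nat.eq_of_beq_eq_true h) g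
private noncomputable def _root_.Cfsg.Agent.KOc205842.k7 : (by first | exact type_of% @Cfsg.Agent.StdSpSix.PatTwo.V.par | exact Unit : Sort _) := by first | (refine @Subtype.val _ (fun g => @Cfsg.Agent.StdSpSix.PatTwo.V.par = @g) (@Subtype.mk _ _ (@(fun x0 => @Bool.rec.{1} @(fun x1 => @Bool) @Bool.true @Bool.false (@Cfsg.Agent.KOc205842.k6.{1} @Bool (@Nat.land (nat_lit 1) (@Nat.shiftRight (nat_lit 7608434000728254870) @x0)) (nat_lit 0) @Bool.false @Bool.true))) ?_); rewrite [← Cfsg.Agent.KOc205842.e6.{1}]; rfl') | exact @Cfsg.Agent.StdSpSix.PatTwo.V.par | exact ()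
private theorem _root_.Cfsg.Agent.KOc205842.e7 : (by first | exact @Cfsg.Agent.StdSpSix.PatTwo.V.par = @_root_.Cfsg.Agent.KOc205842.k7 | exact True : Prop) := by first | (delta _root_.Cfsg.Agent.KOc205842.k7; exact @Subtype.property _ (fun g => @Cfsg.Agent.StdSpSix.PatTwo.V.par = @g) _) | rfl | trivial
private noncomputable def _root_.Cfsg.Agent.KOc205842.k8 : (by first | exact type_of% @Cfsg.Agent.StdSpSix.PatTwo.V.num | exact Unit : Sort _) := by first | (refine @Subtype.val _ (fun g => @Cfsg.Agent.StdSpSix.PatTwo.V.num = @g) (@Subtype.mk _ _ (@(fun x0 => @Fin.val _ @x0)) ?_); rfl') | exact @Cfsg.Agent.StdSpSix.PatTwo.V.num | exact ()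
private theorem _root_.Cfsg.Agent.KOc205842.e8 : (by first | exact @Cfsg.Agent.StdSpSix.PatTwo.V.num = @_root_.Cfsg.Agent.KOc205842.k8 | exact True : Prop) := by first | (delta _root_.Cfsg.Agent.KOc205842.k8; exact @Subtype.property _ (fun g => @Cfsg.Agent.StdSpSix.PatTwo.V.num = @g) _) | rfl | trivial
private noncomputable def _root_.Cfsg.Agent.KOc205842.k9.{ku0} : type_of% @bne.{ku0} := @(fun x0 x1 x2 x3 => @Bool.rec.{1} @(fun x4 => @Bool) @Bool.true @Bool.false (@BEq.beq.{ku0} _ @x1 @x2 @x3))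
private theorem _root_.Cfsg.Agent.KOc205842.e9.{ku0} : @bne.{ku0} = @_root_.Cfsg.Agent.KOc205842.k9.{ku0} := by delta _root_.Cfsg.Agent.KOc205842.k9; rfl'
private noncomputable def _root_.Cfsg.Agent.KOc205842.k10 : type_of% @Bool.xor := @Cfsg.Agent.KOc205842.k9.{0} _ (@BEq.mk.{0} _ @(fun x0 x1 => @Decidable.rec.{1} _ @(fun x2 => @Bool) @(fun x2 => @Bool.false) @(fun x2 => @Bool.true) (@Cfsg.Agent.KOc205842.k4 @x0 @x1)))
private theorem _root_.Cfsg.Agent.KOc205842.e10 : @Bool.xor = @_root_.Cfsg.Agent.KOc205842.k10 := by delta _root_.Cfsg.Agent.KOc205842.k10; rewrite [← Cfsg.Agent.KOc205842.e4, ← Cfsg.Agent.KOc205842.e9.{0}]; rfl'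

theorem par_xor : ∀ x y : V, par (x.num ^^^ y.num) = (par x.num ^^ par y.num) := by
  (first | (refine of_decide_eq_true ?_; rewrite [Cfsg.Agent.KOc205842.e0, Cfsg.Agent.KOc205842.e3, Cfsg.Agent.KOc205842.e5, Cfsg.Agent.KOc205842.e7, Cfsg.Agent.KOc205842.e8, Cfsg.Agent.KOc205842.e10]; decide +kernel) | decide +kernel)

theorem and_lt (x : V) (n : ℕ) : x.num &&& n < 64 := lt_of_le_of_lt Nat.and_le_left x.num_lt

theorem form_add_left (x y z : V) : form (x + y) z = (form x z ^^ form y z) := by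
  have := par_xor (mk (x.num &&& swp z.num) (and_lt _ _)) (mk (y.num &&& swp z.num) (and_lt _ _))
  simp only [num_mk] at this
  unfold form
  rw [num_add, Nat.and_xor_distrib_right, this]

private noncomputable def _root_.Cfsg.Agent.KOc205842.k11 : (by first | exact type_of% @Cfsg.Agent.StdSpSix.PatTwo.V.swp | exact Unit : Sort _) := by first | (refine @Subtype.val _ (fun g => @Cfsg.Agent.StdSpSix.PatTwo.V.swp = @g) (@Subtype.mk _ _ (@(fun x0 => @Nat.lor (@Nat.shiftRight @x0 (nat_lit 3)) (@Nat.shiftLeft (@Nat.land @x0 (nat_lit 7)) (nat_lit 3)))) ?_); rfl') | exact @Cfsg.Agent.StdSpSix.PatTwo.V.swp | exact ()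
private theorem _root_.Cfsg.Agent.KOc205842.e11 : (by first | exact @Cfsg.Agent.StdSpSix.PatTwo.V.swp = @_root_.Cfsg.Agent.KOc205842.k11 | exact True : Prop) := by first | (delta _root_.Cfsg.Agent.KOc205842.k11; exact @Subtype.property _ (fun g => @Cfsg.Agent.StdSpSix.PatTwo.V.swp = @g) _) | rfl | trivial
private noncomputable def _root_.Cfsg.Agent.KOc205842.k12 : (by first | exact type_of% @Cfsg.Agent.StdSpSix.PatTwo.V.form | exact Unit : Sort _) := by first | (refine @Subtype.val _ (fun g => @Cfsg.Agent.StdSpSix.PatTwo.V.form = @g) (@Subtype.mk _ _ (@(fun x0 x1 => @Bool.rec.{1} @(fun x2 => @Bool) @Bool.true @Bool.false (@Cfsg.Agent.KOc205842.k6.{1} @Bool (@Nat.land (nat_lit 1) (@Nat.shiftRight (nat_lit 7608434000728254870) (@Nat.land (@Fin.val _ @x0) (@Cfsg.Agent.KOc205842.k11 (@Fin.val _ @x1))))) (nat_lit 0) @Bool.false @Bool.true))) ?_); rewrite [← Cfsg.Agent.KOc205842.e11, ← Cfsg.Agent.KOc205842.e6.{1}]; (try delta Cfsg.Agent.StdSpSix.PatTwo.V.form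 Cfsg.Agent.StdSpSix.PatTwo.V.par Cfsg.Agent.StdSpSix.PatTwo.V.num); (try generalize @Cfsg.Agent.StdSpSix.PatTwo.V.swp = g0); rfl') | exact @Cfsg.Agent.StdSpSix.PatTwo.V.form | exact ()
private theorem _root_.Cfsg.Agent.KOc205842.e12 : (by first | exact @Cfsg.Agent.StdSpSix.PatTwo.V.form = @_root_.Cfsg.Agent.KOc205842.k12 | exact True : Prop) := by first | (delta _root_.Cfsg.Agent.KOc205842.k12; exact @Subtype.property _ (fun g => @Cfsg.Agent.StdSpSix.PatTwo.V.form = @g) _) | rfl | trivial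

theorem form_comm : ∀ x y : V, form x y = form y x := by (first | (refine of_decide_eq_true ?_; rewrite [Cfsg.Agent.KOc205842.e0, Cfsg.Agent.KOc205842.e3, Cfsg.Agent.KOc205842.e5, Cfsg.Agent.KOc205842.e12]; decide +kernel) | decide +kernel)

theorem form_self : ∀ x : V, form x x = false := by decide +kernel

theorem form_add_right (x y z : V) : form x (y + z) = (form x y ^^ form x z) := by
  rw [form_comm, form_add_left, form_comm y, form_comm z]

theorem form_zero_left : ∀ x : V, form 0 x = false := by decide +kernel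
theorem form_zero_right : ∀ x : V, form x 0 = false := by decide +kernel

/-- The basis vectors. -/
def e1 : V := mk 1 (by decide)
def e2 : V := mk 2 (by decide)
def e3 : V := mk 4 (by decide)
def f1 : V := mk 8 (by decide)
def f2 : V := mk 16 (by decide)
def f3 : V := mk 32 (by decide)

/-- The transvection with centre `v`, as a function. -/
def trf (v x : V) : V := bif form x v then x + v else x

/-- Scalar multiple by a Boolean. -/
def sm (c : Bool) (v : V) : V := bif c then v else 0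

theorem sm_true (v : V) : sm true v = v := rfl
theorem sm_false (v : V) : sm false v = 0 := rfl
theorem sm_zero (c : Bool) : sm c 0 = 0 := by cases c <;> rfl
theorem sm_add (c : Bool) (v w : V) : sm c (v + w) = sm c v + sm c w := by
  cases c
  · simp [sm_false]
  · rfl
theorem sm_xor (c d : Bool) (v : V) : sm (c ^^ d) v = sm c v + sm d v := by
  cases c <;> cases d <;> simp [sm_true, sm_false, aa]

theorem trf_eq (v x : V) : trf v x = x + sm (form x v) v := by
  unfold trf sm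
  cases form x v <;> simp

/-- Linear combination of six vectors with the bits of a code. -/
def lin (a1 a2 a3 b1 b2 b3 x : V) : V :=
  sm (x.num.testBit 0) a1 + sm (x.num.testBit 1) a2 + sm (x.num.testBit 2) a3 +
    sm (x.num.testBit 3) b1 + sm (x.num.testBit 4) b2 + sm (x.num.testBit 5) b3

theorem lin_basis : ∀ x : V, x = lin e1 e2 e3 f1 f2 f3 x := by decide +kernel

theorem map_lin {φ : V → V} (h : ∀ x y, φ (x + y) = φ x + φ y) (x : V) :
    φ x = lin (φ e1) (φ e2) (φ e3) (φ f1) (φ f2) (φ f3) x := by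
  have h0 : φ 0 = 0 := by
    have := h 0 0
    rw [aa] at this
    rw [this, aa]
  have hs : ∀ (c : Bool) (v : V), φ (sm c v) = sm c (φ v) := by
    intro c v
    cases c
    · exact h0
    · rfl
  conv_lhs => rw [lin_basis x]
  unfold lin
  rw [h, h, h, h, h, hs, hs, hs, hs, hs, hs]

/-- The function of a short root element: `x ↦ x + (x,c) a + (x,a) c`. -/
def zf (a c x : V) : V := x + sm (form x c) a + sm (form x a) c

/-- the form on numbers -/
private def fm (a b : ℕ) : Bool := Nat.beq (Nat.land 1 (Nat.shiftRight 0x6996966996696996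
  (Nat.land a (Nat.lor (Nat.shiftRight b 3) (Nat.shiftLeft (Nat.land b 7) 3))))) 1

private theorem form_num (x y : V) : form x y = fm x.num y.num := by
  have key : ∀ n : ℕ, (1 &&& n != 0) = Nat.beq (1 &&& n) 1 := fun n => by
    rw [Nat.one_and_eq_mod_two]
    rcases Nat.mod_two_eq_zero_or_one n with h | h <;> rw [h] <;> rfl
  exact key _

/-- `zf` on numbers -/
private def zn (a c x : ℕ) : ℕ := Nat.xor (Nat.xor x (cond (fm x c) a 0)) (cond (fm x a) c 0)

private theorem zf_num (a c x : V) : (zf a c x).num = zn a.num c.num x.num := by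
  have h : ∀ (b : Bool) (v : V), (sm b v).num = cond b v.num 0 := fun b v => by cases b <;> rfl
  show x.num ^^^ (sm (form x c) a).num ^^^ (sm (form x a) c).num = _
  rw [h, h, form_num, form_num]
  rfl

private theorem zf_beq {a c x y : V} (h : zf a c x = y) : Nat.beq (zn a.num c.num x.num) y.num = true := by
  rw [← zf_num, h]
  exact Nat.beq_refl _

private theorem not_fm {x y : V} (h : form x y = false) : (!fm x.num y.num) = true := by
  rw [← form_num, h]
  rfl

end V

end Cfsg.Agent.StdSpSix.PatTwo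
end

-- part: StdSpSix/PatTwoSix
section
/-!
A subgroup `L` of a group acting as `Sp_6(2)` on codes: transvections, short root elements,
Witt's lemma for isotropic triples.
-/

set_option autoImplicit false

namespace Cfsg.Agent.StdSpSix.PatTwo

open V

/-- A subgroup `L` of `G` acting faithfully by isometries on `F_2^6`, containing all
transvections. -/
structure Six (G : Type*) [Group G] where
  L : Subgroup G
  act : G → V → V
  act_one : ∀ x, act 1 x = x
  act_mul : ∀ g ∈ L, ∀ h ∈ L, ∀ x, act (g * h) x = act g (act h x)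
  act_add : ∀ g ∈ L, ∀ x y, act g (x + y) = act g x + act g y
  act_form : ∀ g ∈ L, ∀ x y, form (act g x) (act g y) = form x y
  act_inj : ∀ g ∈ L, ∀ h ∈ L, (∀ x, act g x = act h x) → g = h
  T : V → G
  T_mem : ∀ v, T v ∈ L
  act_T : ∀ v x, act (T v) x = trf v x

namespace Six

variable {G : Type*} [Group G] (S : Six G)

theorem act_inv_act {g : G} (hg : g ∈ S.L) (x : V) : S.act g⁻¹ (S.act g x) = x := by
  rw [← S.act_mul _ (S.L.inv_mem hg) _ hg, inv_mul_cancel, S.act_one]

theorem act_act_inv {g : G} (hg : g ∈ S.L) (x : V) : S.act g (S.act g⁻¹ x) = x := by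
  rw [← S.act_mul _ hg _ (S.L.inv_mem hg), mul_inv_cancel, S.act_one]

theorem act_injective {g : G} (hg : g ∈ S.L) {x y : V} (h : S.act g x = S.act g y) : x = y := by
  rw [← S.act_inv_act hg x, h, S.act_inv_act hg]

theorem act_zero {g : G} (hg : g ∈ S.L) : S.act g 0 = 0 := by
  have := S.act_add g hg 0 0
  rw [aa] at this
  rw [this, aa]

theorem act_eq_zero {g : G} (hg : g ∈ S.L) {x : V} (h : S.act g x = 0) : x = 0 :=
  S.act_injective hg (by rw [h, S.act_zero hg])

theorem act_sm {g : G} (hg : g ∈ S.L) (c : Bool) (x : V) : S.act g (sm c x) = sm c (S.act g x) := by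
  cases c
  · exact S.act_zero hg
  · rfl

theorem act_form' {g : G} (hg : g ∈ S.L) (x y : V) :
    form (S.act g x) y = form x (S.act g⁻¹ y) := by
  rw [← S.act_form g hg x, S.act_act_inv hg]

theorem ext_basis {g h : G} (hg : g ∈ S.L) (hh : h ∈ S.L)
    (h1 : S.act g e1 = S.act h e1) (h2 : S.act g e2 = S.act h e2) (h3 : S.act g e3 = S.act h e3)
    (h4 : S.act g f1 = S.act h f1) (h5 : S.act g f2 = S.act h f2) (h6 : S.act g f3 = S.act h f3) :
    g = h := by
  refine S.act_inj g hg h hh fun x => ?_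
  rw [map_lin (S.act_add g hg) x, map_lin (S.act_add h hh) x, h1, h2, h3, h4, h5, h6]

/-- The elementary form of a transvection. -/
theorem act_T' (v x : V) : S.act (S.T v) x = x + sm (form x v) v := by
  rw [S.act_T, trf_eq]

theorem T_sq (v : V) : S.T v * S.T v = 1 := by
  refine S.act_inj _ (S.L.mul_mem (S.T_mem v) (S.T_mem v)) _ S.L.one_mem fun x => ?_
  rw [S.act_mul _ (S.T_mem v) _ (S.T_mem v), S.act_one, S.act_T', S.act_T', form_add_left]
  cases h : form x v
  · simp [sm_false, h, form_zero_left]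
  · simp [sm_true, form_self, aba]

theorem T_inv (v : V) : (S.T v)⁻¹ = S.T v := inv_eq_of_mul_eq_one_right (S.T_sq v)

theorem T_zero : S.T 0 = 1 := by
  refine S.act_inj _ (S.T_mem 0) _ S.L.one_mem fun x => ?_
  rw [S.act_T', S.act_one, sm_zero, add_zero]

theorem conj_T {g : G} (hg : g ∈ S.L) (v : V) : g * S.T v * g⁻¹ = S.T (S.act g v) := by
  have hgT := S.L.mul_mem hg (S.T_mem v)
  have hgi := S.L.inv_mem hg
  refine S.act_inj _ (S.L.mul_mem hgT hgi) _ (S.T_mem _) fun x => ?_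
  rw [S.act_mul _ hgT _ hgi, S.act_mul _ hg _ (S.T_mem v), S.act_T', S.act_T', S.act_add _ hg,
    S.act_act_inv hg, S.act_sm hg, S.act_form' hgi, inv_inv]

theorem mul_T {g : G} (hg : g ∈ S.L) (v : V) : g * S.T v = S.T (S.act g v) * g := by
  rw [← S.conj_T hg v, inv_mul_cancel_right]

theorem exists_form' : ∀ x : V, x ≠ 0 → ∃ v : V, form v x = true := by decide +kernel

theorem exists_form (x y : V) (h : x ≠ y) : ∃ v : V, form v x ≠ form v y := by
  obtain ⟨v, hv⟩ := exists_form' (x + y) fun h0 => h (eq_of_add h0)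
  refine ⟨v, fun h1 => ?_⟩
  rw [form_add_right, h1, Bool.xor_self] at hv
  cases hv

theorem T_injective {v w : V} (h : S.T v = S.T w) : v = w := by
  by_contra hvw
  obtain ⟨x, hx⟩ := exists_form v w hvw
  have h1 := S.act_T' v x
  rw [h, S.act_T'] at h1
  have h2 := add_left_cancel h1
  cases hv : form x v <;> cases hw : form x w
  · exact hx (by rw [hv, hw])
  · rw [hv, hw, sm_true, sm_false] at h2
    rw [h2, form_zero_right] at hw
    cases hw
  · rw [hv, hw, sm_true, sm_false] at h2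
    rw [← h2, form_zero_right] at hv
    cases hv
  · exact hx (by rw [hv, hw])

theorem act_of_T_comm {g : G} (hg : g ∈ S.L) {v : V} (h : g * S.T v = S.T v * g) :
    S.act g v = v := by
  apply S.T_injective
  rw [← S.conj_T hg, h, mul_inv_cancel_right]

theorem T_comm_of_act {g : G} (hg : g ∈ S.L) {v : V} (h : S.act g v = v) :
    g * S.T v = S.T v * g := by
  rw [S.mul_T hg, h]

theorem T_comm {v w : V} (h : form v w = false) : S.T v * S.T w = S.T w * S.T v := by
  refine S.T_comm_of_act (S.T_mem v) ?_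
  rw [S.act_T', form_comm, h, sm_false, add_zero]

/-- Normalisation in an elementary abelian 2-group. -/
macro "vnorm" : tactic => `(tactic| simp only [add_comm, add_left_comm, add_assoc, aa, aab, add_zero, zero_add])

/-- The short root element attached to an isotropic line. -/
def Z (a c : V) : G := S.T a * S.T c * S.T (a + c)

theorem Z_mem (a c : V) : S.Z a c ∈ S.L :=
  S.L.mul_mem (S.L.mul_mem (S.T_mem a) (S.T_mem c)) (S.T_mem _)

theorem act_Z {a c : V} (h : form a c = false) (x : V) : S.act (S.Z a c) x = zf a c x := by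
  unfold Z
  have h' : form c a = false := by rw [form_comm, h]
  rw [S.act_mul _ (S.L.mul_mem (S.T_mem a) (S.T_mem c)) _ (S.T_mem _),
    S.act_mul _ (S.T_mem a) _ (S.T_mem c), S.act_T', S.act_T', S.act_T']
  unfold zf
  cases h1 : form x a <;> cases h2 : form x c <;>
    simp [form_add_left, form_add_right, h1, h2, h, h', sm_true, sm_false, form_self]
  · vnorm
  · vnorm
  · vnorm

theorem Z_comm' {a c : V} (h : form a c = false) : S.Z a c = S.Z c a := by
  unfold Z
  rw [S.T_comm h, add_comm]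

theorem Z_sq {a c : V} (h : form a c = false) : S.Z a c * S.Z a c = 1 := by
  refine S.act_inj _ (S.L.mul_mem (S.Z_mem a c) (S.Z_mem a c)) _ S.L.one_mem fun x => ?_
  have h' : form c a = false := by rw [form_comm, h]
  rw [S.act_mul _ (S.Z_mem a c) _ (S.Z_mem a c), S.act_one, S.act_Z h, S.act_Z h]
  unfold zf
  cases h1 : form x a <;> cases h2 : form x c <;>
    simp [form_add_left, h1, h2, h, h', sm_true, sm_false, form_self]
  · vnorm
  · vnorm
  · vnorm

theorem Z_inv {a c : V} (h : form a c = false) : (S.Z a c)⁻¹ = S.Z a c :=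
  inv_eq_of_mul_eq_one_right (S.Z_sq h)

theorem Z_add_right {a c : V} (h : form a c = false) : S.Z a (a + c) = S.Z a c := by
  have h' : form a (a + c) = false := by rw [form_add_right, form_self, h]; rfl
  refine S.act_inj _ (S.Z_mem _ _) _ (S.Z_mem _ _) fun x => ?_
  rw [S.act_Z h, S.act_Z h']
  unfold zf
  cases h1 : form x a <;> cases h2 : form x c <;>
    simp [form_add_right, h1, h2, sm_true, sm_false]
  · vnorm
  · vnorm

theorem Z_zero (a : V) : S.Z a 0 = 1 := by
  unfold Z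
  rw [S.T_zero, mul_one, add_zero, S.T_sq]

theorem conj_Z {g : G} (hg : g ∈ S.L) (a c : V) :
    g * S.Z a c * g⁻¹ = S.Z (S.act g a) (S.act g c) := by
  unfold Z
  have : g * (S.T a * S.T c * S.T (a + c)) * g⁻¹ =
      (g * S.T a * g⁻¹) * (g * S.T c * g⁻¹) * (g * S.T (a + c) * g⁻¹) := by group
  rw [this, S.conj_T hg, S.conj_T hg, S.conj_T hg, S.act_add g hg]

theorem mul_Z {g : G} (hg : g ∈ S.L) (a c : V) :
    g * S.Z a c = S.Z (S.act g a) (S.act g c) * g := by
  rw [← S.conj_Z hg a c, inv_mul_cancel_right]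

theorem T_comm_Z {v a c : V} (h1 : form v a = false) (h2 : form v c = false) :
    S.T v * S.Z a c = S.Z a c * S.T v := by
  rw [S.mul_Z (S.T_mem v), S.act_T', S.act_T', form_comm, h1, form_comm c, h2, sm_false, add_zero,
    add_zero]

/-- An isotropic line with two chosen points. -/
def Line (a c : V) : Prop := form a c = false ∧ a ≠ 0 ∧ c ≠ 0 ∧ a ≠ c

instance (a c : V) : Decidable (Line a c) := by unfold Line; infer_instance

theorem Line.act {g : G} (hg : g ∈ S.L) {a c : V} (h : Line a c) :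
    Line (S.act g a) (S.act g c) :=
  ⟨by rw [S.act_form g hg, h.1], fun h0 => h.2.1 (S.act_eq_zero hg h0),
    fun h0 => h.2.2.1 (S.act_eq_zero hg h0), fun h0 => h.2.2.2 (S.act_injective hg h0)⟩

/-- The element is a short root involution. -/
def IsA2 (g : G) : Prop := ∃ a c, Line a c ∧ g = S.Z a c

theorem IsA2.mem {g : G} (h : S.IsA2 g) : g ∈ S.L := by
  obtain ⟨a, c, -, rfl⟩ := h
  exact S.Z_mem a c

theorem IsA2.conj {g x : G} (hx : x ∈ S.L) (h : S.IsA2 g) : S.IsA2 (x * g * x⁻¹) := by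
  obtain ⟨a, c, h1, rfl⟩ := h
  exact ⟨_, _, Line.act S hx h1, S.conj_Z hx a c⟩

theorem form_zf : ∀ a c x : V, form x (zf a c x) = false := by
  intro a c x
  unfold zf
  have h1 : form a x = form x a := form_comm _ _
  have h2 : form c x = form x c := form_comm _ _
  cases h3 : form x a <;> cases h4 : form x c <;>
    simp [form_add_right, form_self, h3, h4, sm_true, sm_false, form_zero_right]

theorem IsA2.form {g : G} (h : S.IsA2 g) (x : V) : V.form x (S.act g x) = false := by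
  obtain ⟨a, c, h1, rfl⟩ := h
  rw [S.act_Z h1.1]
  exact form_zf a c x

/-! ### Witt's lemma -/

theorem act_T_add {x a : V} (h : form x a = true) : S.act (S.T (x + a)) x = a := by
  rw [S.act_T', form_add_right, form_self, h]
  change x + (x + a) = a
  exact aab x a

theorem act_T_fix {v x : V} (h : form x v = false) : S.act (S.T v) x = x := by
  rw [S.act_T', h, sm_false, add_zero]

theorem exists_move (P : V → Prop) (hP : ∀ v w, P v → P w → P (v + w)) {x a : V} (hx : P x)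
    (ha : P a) (hc : form x a = false → ∃ c, P c ∧ form x c = true ∧ form c a = true) :
    ∃ g ∈ S.L, S.act g x = a ∧ ∀ y, (∀ v, P v → form y v = false) → S.act g y = y := by
  cases h : form x a
  · obtain ⟨c, hPc, h1, h2⟩ := hc h
    refine ⟨S.T (c + a) * S.T (x + c), S.L.mul_mem (S.T_mem _) (S.T_mem _), ?_, fun y hy => ?_⟩
    · rw [S.act_mul _ (S.T_mem _) _ (S.T_mem _), S.act_T_add h1, S.act_T_add h2]
    · rw [S.act_mul _ (S.T_mem _) _ (S.T_mem _), S.act_T_fix (hy _ (hP _ _ hx hPc)),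
        S.act_T_fix (hy _ (hP _ _ hPc ha))]
  · exact ⟨S.T (x + a), S.T_mem _, S.act_T_add h, fun y hy => S.act_T_fix (hy _ (hP _ _ hx ha))⟩

theorem dec1 : ∀ a : V, a ≠ 0 → form e1 a = false → ∃ c, form e1 c = true ∧ form c a = true := by
  decide +kernel

theorem dec2 : ∀ a : V, form e1 a = false → a ≠ 0 → a ≠ e1 → form e2 a = false →
    ∃ c, form e1 c = false ∧ form e2 c = true ∧ form c a = true := by
  decide +kernel

theorem dec3 : ∀ a : V, form e1 a = false → form e2 a = false → a ≠ 0 → a ≠ e1 → a ≠ e2 →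
    a ≠ e1 + e2 → form e3 a = false →
    ∃ c, (form e1 c = false ∧ form e2 c = false) ∧ form e3 c = true ∧ form c a = true := by
  decide +kernel

theorem witt1 {a : V} (ha : a ≠ 0) : ∃ g ∈ S.L, S.act g e1 = a := by
  obtain ⟨g, hg, h, -⟩ := S.exists_move (fun _ => True) (fun _ _ _ _ => trivial) (x := e1) (a := a)
    trivial trivial fun h => by
      obtain ⟨c, h1, h2⟩ := dec1 a ha h
      exact ⟨c, trivial, h1, h2⟩
  exact ⟨g, hg, h⟩

theorem witt2 {a c : V} (h : Line a c) : ∃ g ∈ S.L, S.act g e1 = a ∧ S.act g e2 = c := by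
  obtain ⟨g, hg, h1⟩ := S.witt1 h.2.1
  have hgi := S.L.inv_mem hg
  obtain ⟨k, hk, h2, h3⟩ := S.exists_move (fun v => form e1 v = false)
    (fun v w hv hw => by rw [form_add_right, hv, hw]; rfl) (x := e2) (a := S.act g⁻¹ c)
    (by decide) (by rw [← S.act_form g hg, h1, S.act_act_inv hg, h.1]) fun h2 =>
      dec2 _ (by rw [← S.act_form g hg, h1, S.act_act_inv hg, h.1])
        (fun h0 => h.2.2.1 (S.act_eq_zero hgi h0))
        (fun h0 => h.2.2.2 (by rw [← h1, ← h0, S.act_act_inv hg])) h2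
  refine ⟨g * k, S.L.mul_mem hg hk, ?_, ?_⟩
  · rw [S.act_mul _ hg _ hk, h3 e1 (fun v hv => hv), h1]
  · rw [S.act_mul _ hg _ hk, h2, S.act_act_inv hg]

/-- Three independent pairwise orthogonal vectors. -/
def Plane (a c d : V) : Prop :=
  Line a c ∧ form a d = false ∧ form c d = false ∧ d ≠ 0 ∧ d ≠ a ∧ d ≠ c ∧ d ≠ a + c

theorem witt3 {a c d : V} (h : Plane a c d) :
    ∃ g ∈ S.L, S.act g e1 = a ∧ S.act g e2 = c ∧ S.act g e3 = d := by
  obtain ⟨h0, hd1, hd2, hd3, hd4, hd5, hd6⟩ := h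
  obtain ⟨g, hg, h1, h2⟩ := S.witt2 h0
  have hgi := S.L.inv_mem hg
  have k1 : form e1 (S.act g⁻¹ d) = false := by rw [← S.act_form g hg, h1, S.act_act_inv hg, hd1]
  have k2 : form e2 (S.act g⁻¹ d) = false := by rw [← S.act_form g hg, h2, S.act_act_inv hg, hd2]
  obtain ⟨k, hk, h3, h4⟩ := S.exists_move (fun v => form e1 v = false ∧ form e2 v = false)
    (fun v w hv hw => by rw [form_add_right, form_add_right, hv.1, hv.2, hw.1, hw.2]; exact ⟨rfl, rfl⟩)
    (x := e3) (a := S.act g⁻¹ d) (by decide) ⟨k1, k2⟩ fun h3 =>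
      dec3 _ k1 k2 (fun h0 => hd3 (S.act_eq_zero hgi h0))
        (fun h0 => hd4 (by rw [← h1, ← h0, S.act_act_inv hg]))
        (fun h0 => hd5 (by rw [← h2, ← h0, S.act_act_inv hg]))
        (fun h0 => hd6 (by rw [← h1, ← h2, ← S.act_add g hg, ← h0, S.act_act_inv hg])) h3
  refine ⟨g * k, S.L.mul_mem hg hk, ?_, ?_, ?_⟩
  · rw [S.act_mul _ hg _ hk, h4 e1 (fun v hv => hv.1), h1]
  · rw [S.act_mul _ hg _ hk, h4 e2 (fun v hv => hv.2), h2]
  · rw [S.act_mul _ hg _ hk, h3, S.act_act_inv hg]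

end Six

end Cfsg.Agent.StdSpSix.PatTwo
end

-- part: StdSpSix/PatTwoFacts
section
/-!
Facts about `Sp_6(2)`: centralisers of some subgroups of unipotent radicals, and
transitivity on triples generating a short-root-pure subgroup of order eight.
-/

set_option autoImplicit false

namespace Cfsg.Agent.StdSpSix.PatTwo

open V

namespace Six

variable {G : Type*} [Group G] (S : Six G)

/-- Boolean power. -/
def pw (c : Bool) (g : G) : G := bif c then g else 1

theorem pw_true (g : G) : pw true g = g := rfl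
theorem pw_false (g : G) : pw false g = 1 := rfl

theorem pw_mem {H : Subgroup G} {g : G} (h : g ∈ H) (c : Bool) : pw c g ∈ H := by
  cases c
  · exact H.one_mem
  · exact h

theorem act_pw (c : Bool) (g : G) (x : V) : S.act (pw c g) x = bif c then S.act g x else x := by
  cases c
  · exact S.act_one x
  · rfl

theorem pw_xor {g : G} (h : g * g = 1) (c d : Bool) : pw (c ^^ d) g = pw c g * pw d g := by
  cases c <;> cases d <;> simp [pw_true, pw_false, h]

/-! ### The radical of a point stabiliser -/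

/-- The central involution of the point stabiliser. -/
def b : G := S.T e1

theorem b_mem : S.b ∈ S.L := S.T_mem _
theorem b_sq : S.b * S.b = 1 := S.T_sq _

theorem Y_mul {u v : V} (hu : form e1 u = false) (hv : form e1 v = false) :
    S.Z e1 u * S.Z e1 v = S.Z e1 (u + v) * pw (form u v) S.b := by
  have huv : form e1 (u + v) = false := by rw [form_add_right, hu, hv]; rfl
  have hu' : form u e1 = false := by rw [form_comm, hu]
  have hv' : form v e1 = false := by rw [form_comm, hv]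
  refine S.act_inj _ (S.L.mul_mem (S.Z_mem _ _) (S.Z_mem _ _)) _
    (S.L.mul_mem (S.Z_mem _ _) (pw_mem S.b_mem _)) fun x => ?_
  rw [S.act_mul _ (S.Z_mem _ _) _ (S.Z_mem _ _), S.act_mul _ (S.Z_mem _ _) _ (pw_mem S.b_mem _),
    S.act_Z hv, S.act_Z hu, S.act_Z huv, S.act_pw]
  unfold b zf
  rw [S.act_T']
  have hvu : form v u = form u v := form_comm _ _
  cases h1 : form x e1 <;> cases h2 : form x u <;> cases h3 : form x v <;> cases h4 : form u v <;>
    simp [form_add_left, form_add_right, h1, h2, h3, h4, hu, hv, hu', hv', hvu, sm_true, sm_false,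
      form_self] <;> vnorm

theorem Y_e1 {u : V} (hu : form e1 u = false) : S.Z e1 (u + e1) = S.Z e1 u := by
  rw [add_comm, S.Z_add_right hu]

theorem b_comm_Y {u : V} (hu : form e1 u = false) : S.b * S.Z e1 u = S.Z e1 u * S.b :=
  S.T_comm_Z (form_self _) hu

/-- `u` lies in the complement `⟨e2, e3, f2, f3⟩`. -/
def InU (u : V) : Prop := form u e1 = false ∧ form u f1 = false

instance (u : V) : Decidable (InU u) := by unfold InU; infer_instance

theorem InU.perp {u : V} (h : InU u) : form e1 u = false := by rw [form_comm, h.1]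

theorem InU.add {u v : V} (hu : InU u) (hv : InU v) : InU (u + v) :=
  ⟨by rw [form_add_left, hu.1, hv.1]; rfl, by rw [form_add_left, hu.2, hv.2]; rfl⟩

/-- Projection of `e1^⊥` to the complement. -/
def prj (x : V) : V := x + sm (form x f1) e1

theorem inU_prj : ∀ x : V, form e1 x = false → InU (prj x) := by decide +kernel

theorem prj_add (x y : V) : prj (x + y) = prj x + prj y := by
  unfold prj
  rw [form_add_left, sm_xor]
  vnorm

theorem prj_of_inU {x : V} (h : InU x) : prj x = x := by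
  unfold prj
  rw [h.2, sm_false, add_zero]

theorem Y_prj {u : V} (hu : form e1 u = false) : S.Z e1 (prj u) = S.Z e1 u := by
  unfold prj
  cases h : form u f1
  · rw [sm_false, add_zero]
  · rw [sm_true, S.Y_e1 hu]

theorem form_prj_left {u v : V} (hv : form e1 v = false) : form (prj u) v = form u v := by
  unfold prj
  rw [form_add_left]
  cases h : form u f1
  · rw [sm_false, form_zero_left, Bool.xor_false]
  · rw [sm_true, hv, Bool.xor_false]

theorem Y_mul' {u v : V} (hu : InU u) (hv : InU v) :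
    S.Z e1 u * S.Z e1 v = S.Z e1 (u + v) * pw (form u v) S.b := S.Y_mul hu.perp hv.perp

private noncomputable def _root_.Cfsg.Agent.KOc205842.k13 : type_of% @forall_prop_decidable := @(fun x0 x1 x2 x3 => @Decidable.rec.{1} _ @(fun x4 => @Decidable ((x5 : @x0) → @x1 @x5)) @(fun x4 => @Decidable.isTrue _ (@forall_prop_decidable._proof_2 _ @x1 @x4)) @(fun x4 => @Decidable.rec.{1} _ @(fun x5 => @Decidable ((x6 : @x0) → @x1 @x6)) @(fun x5 => @Decidable.isFalse _ (@decidable_of_decidable_of_iff._proof_1 _ _ (@forall_prop_decidable._proof_1 _ @x1 @x4) @x5)) @(fun x5 => @Decidable.isTrue _ (@Iff.mp _ _ (@forall_prop_decidable._proof_1 _ @x1 @x4) @x5)) (@x3 @x4)) @x2)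
private theorem _root_.Cfsg.Agent.KOc205842.e13 : @forall_prop_decidable = @_root_.Cfsg.Agent.KOc205842.k13 := by delta _root_.Cfsg.Agent.KOc205842.k13; rfl'
private noncomputable def _root_.Cfsg.Agent.KOc205842.k15 : type_of% @Nat.decEq := @(fun x0 x1 => @Bool.rec.{1} @(fun x2 => (@Eq.{1} _ (@Nat.beq @x0 @x1) @x2) → @Decidable (@Eq.{1} _ @x0 @x1)) @(fun x2 => @Decidable.isFalse _ (@Nat.ne_of_beq_eq_false _ _ @x2)) @(fun x2 => @Decidable.isTrue _ (@Nat.eq_of_beq_eq_true _ _ @x2)) (@Nat.beq @x0 @x1) (@Eq.refl.{1} _ (@Nat.beq @x0 @x1)))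
private theorem _root_.Cfsg.Agent.KOc205842.e15 : @Nat.decEq = @_root_.Cfsg.Agent.KOc205842.k15 := by delta _root_.Cfsg.Agent.KOc205842.k15; rfl'
private noncomputable def _root_.Cfsg.Agent.KOc205842.k16 : type_of% @instDecidableEqFin := @(fun x0 x1 x2 => @Decidable.rec.{1} _ @(fun x3 => @Decidable (@Eq.{1} _ @x1 @x2)) @(fun x3 => @Decidable.isFalse _ (@instDecidableEqFin._proof_1 @x0 @x1 @x2 @x3)) @(fun x3 => @Decidable.isTrue _ (@Fin.eq_of_val_eq _ _ _ @x3)) (@Cfsg.Agent.KOc205842.k15 (@Fin.val _ @x1) (@Fin.val _ @x2)))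
private theorem _root_.Cfsg.Agent.KOc205842.e16 : @instDecidableEqFin = @_root_.Cfsg.Agent.KOc205842.k16 := by delta _root_.Cfsg.Agent.KOc205842.k16; rewrite [← Cfsg.Agent.KOc205842.e15]; rfl'
private noncomputable def _root_.Cfsg.Agent.KOc205842.k17 : (by first | exact type_of% @Cfsg.Agent.StdSpSix.PatTwo.V.instDecidableEq | exact Unit : Sort _) := by first | (refine @Subtype.val _ (fun g => @Cfsg.Agent.StdSpSix.PatTwo.V.instDecidableEq = @g) (@Subtype.mk _ _ (@Cfsg.Agent.KOc205842.k16 (nat_lit 64)) ?_); rewrite [← Cfsg.Agent.KOc205842.e16]; rfl') | exact @Cfsg.Agent.StdSpSix.PatTwo.V.instDecidableEq | exact ()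
private theorem _root_.Cfsg.Agent.KOc205842.e17 : (by first | exact @Cfsg.Agent.StdSpSix.PatTwo.V.instDecidableEq = @_root_.Cfsg.Agent.KOc205842.k17 | exact True : Prop) := by first | (delta _root_.Cfsg.Agent.KOc205842.k17; exact @Subtype.property _ (fun g => @Cfsg.Agent.StdSpSix.PatTwo.V.instDecidableEq = @g) _) | rfl | trivial
private noncomputable def _root_.Cfsg.Agent.KOc205842.k18 : (by first | exact type_of% @Cfsg.Agent.StdSpSix.PatTwo.V.mk | exact Unit : Sort _) := by first | (refine @Subtype.val _ (fun g => @Cfsg.Agent.StdSpSix.PatTwo.V.mk = @g) (@Subtype.mk _ _ (@(fun x0 x1 => @Fin.mk _ @x0 @x1)) ?_); rfl') | exact @Cfsg.Agent.StdSpSix.PatTwo.V.mk | exact ()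
private theorem _root_.Cfsg.Agent.KOc205842.e18 : (by first | exact @Cfsg.Agent.StdSpSix.PatTwo.V.mk = @_root_.Cfsg.Agent.KOc205842.k18 | exact True : Prop) := by first | (delta _root_.Cfsg.Agent.KOc205842.k18; exact @Subtype.property _ (fun g => @Cfsg.Agent.StdSpSix.PatTwo.V.mk = @g) _) | rfl | trivial

theorem dec_yinj : ∀ u v : V, InU u → InU v → zf e1 u f1 = zf e1 v f1 → u = v := by (first | (refine of_decide_eq_true ?_; delta Cfsg.Agent.StdSpSix.PatTwo.V.e1 Cfsg.Agent.StdSpSix.PatTwo.V.f1; rewrite [Cfsg.Agent.KOc205842.e0, Cfsg.Agent.KOc205842.e3, Cfsg.Agent.KOc205842.e13, Cfsg.Agent.KOc205842.e17, Cfsg.Agent.KOc205842.e18]; decide +kernel) | decide +kernel)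

theorem Y_inj {u v : V} (hu : InU u) (hv : InU v) (h : S.Z e1 u = S.Z e1 v) : u = v := by
  apply dec_yinj u v hu hv
  rw [← S.act_Z hu.perp, ← S.act_Z hv.perp, h]

private noncomputable def _root_.Cfsg.Agent.KOc205842.k24 : (by first | exact type_of% @Cfsg.Agent.StdSpSix.PatTwo.V.trf | exact Unit : Sort _) := by first | (refine @Subtype.val _ (fun g => @Cfsg.Agent.StdSpSix.PatTwo.V.trf = @g) (@Subtype.mk _ _ (@(fun x0 x1 => @Bool.rec.{1} @(fun x2 => @Cfsg.Agent.StdSpSix.PatTwo.V) @x1 (@Cfsg.Agent.StdSpSix.PatTwo.V.add @x1 @x0) (@Bool.rec.{1} @(fun x2 => @Bool) @Bool.true @Bool.false (@Cfsg.Agent.KOc205842.k6.{1} @Bool (@Nat.land (nat_lit 1) (@Nat.shiftRight (nat_lit 7608434000728254870) (@Nat.land (@Fin.val _ @x1) (@Cfsg.Agent.KOc205842.k11 (@Fin.val _ @x0))))) (nat_lit 0) @Bool.false @Bool.true)))) ?_); rewrite [← Cfsg.Agent.KOc205842.e11, ← Cfsg.Agent.KOc205842.e6.{1}]; rfl') | exact @Cfsg.Agent.StdSpSix.PatTwo.V.trf | exact ()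
private theorem _root_.Cfsg.Agent.KOc205842.e24 : (by first | exact @Cfsg.Agent.StdSpSix.PatTwo.V.trf = @_root_.Cfsg.Agent.KOc205842.k24 | exact True : Prop) := by first | (delta _root_.Cfsg.Agent.KOc205842.k24; exact @Subtype.property _ (fun g => @Cfsg.Agent.StdSpSix.PatTwo.V.trf = @g) _) | rfl | trivial

theorem dec_ynb : ∀ u v : V, InU u → InU v → zf e1 u (trf e1 f1) = zf e1 v f1 → False := by
  (first | (refine of_decide_eq_true ?_; delta Cfsg.Agent.StdSpSix.PatTwo.V.e1 Cfsg.Agent.StdSpSix.PatTwo.V.f1; rewrite [Cfsg.Agent.KOc205842.e0, Cfsg.Agent.KOc205842.e3, Cfsg.Agent.KOc205842.e13, Cfsg.Agent.KOc205842.e17, Cfsg.Agent.KOc205842.e18, Cfsg.Agent.KOc205842.e24]; decide +kernel) | decide +kernel)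

theorem Y_b_ne {u v : V} (hu : InU u) (hv : InU v) : S.Z e1 u * S.b ≠ S.Z e1 v := by
  intro h
  apply dec_ynb u v hu hv
  rw [← S.act_Z hu.perp, ← S.act_Z hv.perp, ← h, S.act_mul _ (S.Z_mem _ _) _ S.b_mem, b, S.act_T]

theorem dec_yalt : ∀ u : V, InU u → form f1 (zf e1 u (trf e1 f1)) = true := by decide +kernel

theorem not_alt {u : V} (hu : InU u) : form f1 (S.act (S.Z e1 u * S.b) f1) = true := by
  rw [S.act_mul _ (S.Z_mem _ _) _ S.b_mem, b, S.act_T, S.act_Z hu.perp]
  exact dec_yalt u hu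

/-- Elements acting trivially on `e1` and on `e1^⊥ / e1`. -/
structure IsA1 (g : G) : Prop where
  mem : g ∈ S.L
  h1 : S.act g e1 = e1
  h2 : S.act g e2 = e2 ∨ S.act g e2 = e2 + e1
  h3 : S.act g e3 = e3 ∨ S.act g e3 = e3 + e1
  h4 : S.act g f2 = f2 ∨ S.act g f2 = f2 + e1
  h5 : S.act g f3 = f3 ∨ S.act g f3 = f3 + e1

theorem dec_a1 : ∀ x : V, form x e1 = true → ∀ i j k l : Bool,
    form x (e2 + sm i e1) = false → form x (e3 + sm j e1) = false →
    form x (f2 + sm k e1) = false → form x (f3 + sm l e1) = false →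
      InU (prj (x + f1)) ∧
      (∃ s : Bool, x = zf e1 (prj (x + f1)) (bif s then trf e1 f1 else f1)) ∧
      e2 + sm i e1 = zf e1 (prj (x + f1)) e2 ∧ e3 + sm j e1 = zf e1 (prj (x + f1)) e3 ∧
      f2 + sm k e1 = zf e1 (prj (x + f1)) f2 ∧ f3 + sm l e1 = zf e1 (prj (x + f1)) f3 := by
  decide +kernel

theorem dec_a1e : ∀ u : V, InU u → ∀ s : Bool, zf e1 u (bif s then trf e1 e1 else e1) = e1 := by
  decide +kernel

theorem or_sm {x y z : V} (h : x = y ∨ x = y + z) : ∃ c : Bool, x = y + sm c z := by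
  rcases h with h | h
  · exact ⟨false, by rw [sm_false, add_zero, h]⟩
  · exact ⟨true, h⟩

theorem IsA1.form {g : G} (h : S.IsA1 g) : ∃ u, InU u ∧ ∃ c, g = S.Z e1 u * pw c S.b := by
  obtain ⟨i, hi⟩ := or_sm h.h2
  obtain ⟨j, hj⟩ := or_sm h.h3
  obtain ⟨k, hk⟩ := or_sm h.h4
  obtain ⟨l, hl⟩ := or_sm h.h5
  have hg := h.mem
  obtain ⟨hU, ⟨s, hs⟩, k2, k3, k4, k5⟩ := dec_a1 (S.act g f1)
    (by rw [← h.h1, S.act_form g hg]; decide) i j k l
    (by rw [← hi, S.act_form g hg]; decide) (by rw [← hj, S.act_form g hg]; decide)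
    (by rw [← hk, S.act_form g hg]; decide) (by rw [← hl, S.act_form g hg]; decide)
  refine ⟨_, hU, s, ?_⟩
  have hb := pw_mem S.b_mem s
  have key : ∀ x, S.act (S.Z e1 (prj (S.act g f1 + f1)) * pw s S.b) x =
      zf e1 (prj (S.act g f1 + f1)) (bif s then trf e1 x else x) := by
    intro x
    rw [S.act_mul _ (S.Z_mem _ _) _ hb, S.act_Z hU.perp, S.act_pw, b, S.act_T]
  refine S.ext_basis hg (S.L.mul_mem (S.Z_mem _ _) hb) ?_ ?_ ?_ ?_ ?_ ?_
  · rw [key, h.h1, dec_a1e _ hU]
  · rw [key, hi, k2]; cases s <;> rfl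
  · rw [key, hj, k3]; cases s <;> rfl
  · rw [key]; exact hs
  · rw [key, hk, k4]; cases s <;> rfl
  · rw [key, hl, k5]; cases s <;> rfl

private noncomputable def _root_.Cfsg.Agent.KOc205842.k28 : type_of% @instDecidableOr := @(fun x0 x1 x2 x3 => @Decidable.rec.{1} _ @(fun x4 => @Decidable (@Or @x0 @x1)) @(fun x4 => @Decidable.rec.{1} _ @(fun x5 => @Decidable (@Or @x0 @x1)) @(fun x5 => @Decidable.isFalse _ (@instDecidableOr._proof_1 _ _ @x4 @x5)) @(fun x5 => @Decidable.isTrue _ (@Or.inr _ _ @x5)) @x3) @(fun x4 => @Decidable.isTrue _ (@Or.inl _ _ @x4)) @x2)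
private theorem _root_.Cfsg.Agent.KOc205842.e28 : @instDecidableOr = @_root_.Cfsg.Agent.KOc205842.k28 := by delta _root_.Cfsg.Agent.KOc205842.k28; rfl'

theorem dec_yc : ∀ x w : V, form e1 x = false → form e1 w = false →
    zf e1 x f1 = zf e1 w f1 → x = w ∨ x = w + e1 := by (first | (refine of_decide_eq_true ?_; delta Cfsg.Agent.StdSpSix.PatTwo.V.e1 Cfsg.Agent.StdSpSix.PatTwo.V.f1; rewrite [Cfsg.Agent.KOc205842.e0, Cfsg.Agent.KOc205842.e3, Cfsg.Agent.KOc205842.e13, Cfsg.Agent.KOc205842.e5, Cfsg.Agent.KOc205842.e12, Cfsg.Agent.KOc205842.e18, Cfsg.Agent.KOc205842.e17, Cfsg.Agent.KOc205842.e28]; decide +kernel) | decide +kernel)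

theorem act_of_Y_comm {g : G} (hg : g ∈ S.L) (h1 : S.act g e1 = e1) {w : V}
    (hw : V.form e1 w = false) (hc : g * S.Z e1 w = S.Z e1 w * g) :
    S.act g w = w ∨ S.act g w = w + e1 := by
  have hw' : V.form e1 (S.act g w) = false := by
    conv_lhs => rw [← h1]
    rw [S.act_form g hg, hw]
  refine dec_yc _ _ hw' hw ?_
  rw [← S.act_Z hw', ← S.act_Z hw]
  congr 1
  rw [S.mul_Z hg, h1] at hc
  exact mul_right_cancel hc

theorem isA1_of_comm {g : G} (hg : g ∈ S.L) (h1 : g * S.b = S.b * g)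
    (h2 : g * S.Z e1 e2 = S.Z e1 e2 * g) (h3 : g * S.Z e1 e3 = S.Z e1 e3 * g)
    (h4 : g * S.Z e1 f2 = S.Z e1 f2 * g) (h5 : g * S.Z e1 f3 = S.Z e1 f3 * g) : S.IsA1 g := by
  have h := S.act_of_T_comm hg h1
  exact ⟨hg, h, S.act_of_Y_comm hg h (by decide) h2, S.act_of_Y_comm hg h (by decide) h3,
    S.act_of_Y_comm hg h (by decide) h4, S.act_of_Y_comm hg h (by decide) h5⟩

theorem dec_a4 : ∀ x : V, ∀ i j k : Bool, form x e1 = false → form x (e2 + sm i e1) = true →
    form x (e3 + sm j e1) = false → form x (f3 + sm k e1) = false →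
    x = f2 ∨ x = f2 + e1 ∨ x = f2 + e2 ∨ x = f2 + e2 + e1 := by decide +kernel

theorem isA1_of_comm4 {g : G} (hg : g ∈ S.L) (h1 : g * S.b = S.b * g)
    (h2 : g * S.Z e1 e2 = S.Z e1 e2 * g) (h3 : g * S.Z e1 e3 = S.Z e1 e3 * g)
    (h5 : g * S.Z e1 f3 = S.Z e1 f3 * g) : S.IsA1 g ∨ S.IsA1 (g * S.T e2) := by
  have h := S.act_of_T_comm hg h1
  have k2 := S.act_of_Y_comm hg h (by decide) h2
  have k3 := S.act_of_Y_comm hg h (by decide) h3
  have k5 := S.act_of_Y_comm hg h (by decide) h5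
  obtain ⟨i, hi⟩ := or_sm k2
  obtain ⟨j, hj⟩ := or_sm k3
  obtain ⟨k, hk⟩ := or_sm k5
  have hT : ∀ x, S.act (g * S.T e2) x = S.act g (trf e2 x) := by
    intro x
    rw [S.act_mul _ hg _ (S.T_mem _), S.act_T]
  have hgT := S.L.mul_mem hg (S.T_mem e2)
  have t1 : trf e2 e1 = e1 := by decide
  have t2 : trf e2 e2 = e2 := by decide
  have t3 : trf e2 e3 = e3 := by decide
  have t4 : trf e2 f2 = f2 + e2 := by decide
  have t5 : trf e2 f3 = f3 := by decide
  have hc : S.act g e2 = e2 + sm i e1 := hi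
  rcases dec_a4 (S.act g f2) i j k
    (by conv_lhs => rw [← h]
        rw [S.act_form g hg]; decide)
    (by rw [← hi, S.act_form g hg]; decide) (by rw [← hj, S.act_form g hg]; decide)
    (by rw [← hk, S.act_form g hg]; decide) with h4 | h4 | h4 | h4
  · exact Or.inl ⟨hg, h, k2, k3, Or.inl h4, k5⟩
  · exact Or.inl ⟨hg, h, k2, k3, Or.inr h4, k5⟩
  · refine Or.inr ⟨hgT, by rw [hT, t1, h], by rw [hT, t2]; exact k2, by rw [hT, t3]; exact k3, ?_,
      by rw [hT, t5]; exact k5⟩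
    rw [hT, t4, S.act_add g hg, h4, hc]
    cases i
    · left; decide
    · right; decide
  · refine Or.inr ⟨hgT, by rw [hT, t1, h], by rw [hT, t2]; exact k2, by rw [hT, t3]; exact k3, ?_,
      by rw [hT, t5]; exact k5⟩
    rw [hT, t4, S.act_add g hg, h4, hc]
    cases i
    · right; decide
    · left; decide

/-! ### The radical of a plane stabiliser -/

/-- Elements fixing the plane `⟨e1, e2, e3⟩` pointwise. -/
structure IsAW (g : G) : Prop where
  mem : g ∈ S.L
  h1 : S.act g e1 = e1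
  h2 : S.act g e2 = e2
  h3 : S.act g e3 = e3

private noncomputable def _root_.Cfsg.Agent.KOc205842.k19 : type_of% @instDecidableAnd := @(fun x0 x1 x2 x3 => @Decidable.rec.{1} _ @(fun x4 => @Decidable (@And @x0 @x1)) @(fun x4 => @Decidable.isFalse _ (@instDecidableAnd._proof_2 _ _ @x4)) @(fun x4 => @Decidable.rec.{1} _ @(fun x5 => @Decidable (@And @x0 @x1)) @(fun x5 => @Decidable.isFalse _ (@instDecidableAnd._proof_1 _ _ @x5)) @(fun x5 => @Decidable.isTrue _ (@And.intro _ _ @x4 @x5)) @x3) @x2)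
private theorem _root_.Cfsg.Agent.KOc205842.e19 : @instDecidableAnd = @_root_.Cfsg.Agent.KOc205842.k19 := by delta _root_.Cfsg.Agent.KOc205842.k19; rfl'
private noncomputable def _root_.Cfsg.Agent.KOc205842.k29 : type_of% @Bool.and := @(fun x0 x1 => @Bool.rec.{1} @(fun x2 => @Bool) @Bool.false @x1 @x0)
private theorem _root_.Cfsg.Agent.KOc205842.e29 : @Bool.and = @_root_.Cfsg.Agent.KOc205842.k29 := by delta _root_.Cfsg.Agent.KOc205842.k29; rfl'
private noncomputable def _root_.Cfsg.Agent.KOc205842.k30 : type_of% @Bool.not := @(fun x0 => @Bool.rec.{1} @(fun x1 => @Bool) @Bool.true @Bool.false @x0)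
private theorem _root_.Cfsg.Agent.KOc205842.e30 : @Bool.not = @_root_.Cfsg.Agent.KOc205842.k30 := by delta _root_.Cfsg.Agent.KOc205842.k30; rfl'
private noncomputable def _root_.Cfsg.Agent.KOc205842.k31 : (by first | exact type_of% @Cfsg.Agent.StdSpSix.PatTwo.V.fm | exact Unit : Sort _) := by first | (refine @Subtype.val _ (fun g => @Cfsg.Agent.StdSpSix.PatTwo.V.fm = @g) (@Subtype.mk _ _ (@(fun x0 x1 => @Nat.beq (@Nat.land (nat_lit 1) (@Nat.shiftRight (nat_lit 7608434000728254870) (@Nat.land @x0 (@Nat.lor (@Nat.shiftRight @x1 (nat_lit 3)) (@Nat.shiftLeft (@Nat.land @x1 (nat_lit 7)) (nat_lit 3)))))) (nat_lit 1))) ?_); rfl') | exact @Cfsg.Agent.StdSpSix.PatTwo.V.fm | exact ()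
private theorem _root_.Cfsg.Agent.KOc205842.e31 : (by first | exact @Cfsg.Agent.StdSpSix.PatTwo.V.fm = @_root_.Cfsg.Agent.KOc205842.k31 | exact True : Prop) := by first | (delta _root_.Cfsg.Agent.KOc205842.k31; exact @Subtype.property _ (fun g => @Cfsg.Agent.StdSpSix.PatTwo.V.fm = @g) _) | rfl | trivial
private noncomputable def _root_.Cfsg.Agent.KOc205842.k32 : (by first | exact type_of% @Cfsg.Agent.StdSpSix.PatTwo.V.zn | exact Unit : Sort _) := by first | (refine @Subtype.val _ (fun g => @Cfsg.Agent.StdSpSix.PatTwo.V.zn = @g) (@Subtype.mk _ _ (@(fun x0 x1 x2 => @Nat.xor (@Nat.xor @x2 (@Bool.rec.{1} @(fun x3 => ℕ) (nat_lit 0) @x0 (@Cfsg.Agent.KOc205842.k31 @x2 @x1))) (@Bool.rec.{1} @(fun x3 => ℕ) (nat_lit 0) @x1 (@Cfsg.Agent.KOc205842.k31 @x2 @x0)))) ?_); rewrite [← Cfsg.Agent.KOc205842.e31]; (try delta Cfsg.Agent.StdSpSix.PatTwo.V.zn); (try generalize @Cfsg.Agent.StdSpSix.PatTwo.V.fm = g0); rfl') | exact @Cfsg.Agent.StdSpSix.PatTwo.V.zn | exact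 ()
private theorem _root_.Cfsg.Agent.KOc205842.e32 : (by first | exact @Cfsg.Agent.StdSpSix.PatTwo.V.zn = @_root_.Cfsg.Agent.KOc205842.k32 | exact True : Prop) := by first | (delta _root_.Cfsg.Agent.KOc205842.k32; exact @Subtype.property _ (fun g => @Cfsg.Agent.StdSpSix.PatTwo.V.zn = @g) _) | rfl | trivial

theorem dec_aw : ∀ x y : V, form x y = false → zf x y f1 = zf e1 e2 f1 → zf x y f2 = zf e1 e2 f2 →
    zf x y f3 = f3 → (x = e1 ∨ x = e2 ∨ x = e1 + e2) ∧ (y = e1 ∨ y = e2 ∨ y = e1 + e2) := by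
  have key : ∀ x y : V, ((!V.fm x.num y.num) && (Nat.beq (V.zn x.num y.num f1.num) (zf e1 e2 f1).num && (Nat.beq (V.zn x.num y.num f2.num) (zf e1 e2 f2).num && (Nat.beq (V.zn x.num y.num f3.num) (f3).num)))) = true →
      (x = e1 ∨ x = e2 ∨ x = e1 + e2) ∧ (y = e1 ∨ y = e2 ∨ y = e1 + e2) := by (first | (refine of_decide_eq_true ?_; delta Cfsg.Agent.StdSpSix.PatTwo.V.f1 Cfsg.Agent.StdSpSix.PatTwo.V.e1 Cfsg.Agent.StdSpSix.PatTwo.V.e2 Cfsg.Agent.StdSpSix.PatTwo.V.f2 Cfsg.Agent.StdSpSix.PatTwo.V.f3; rewrite [Cfsg.Agent.KOc205842.e0, Cfsg.Agent.KOc205842.e3, Cfsg.Agent.KOc205842.e13, Cfsg.Agent.KOc205842.e5, Cfsg.Agent.KOc205842.e29, Cfsg.Agent.KOc205842.e30, Cfsg.Agent.KOc205842.e31, Cfsg.Agent.KOc205842.e8, Cfsg.Agent.KOc205842.e32, Cfsg.Agent.KOc205842.e18, Cfsg.Agent.KOc205842.e19, Cfsg.Agent.KOc205842.e28, Cfsg.Agent.KOc205842.e17]; decide +kernel) | decide +kernel)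
  intro x y h0 h1 h2 h3
  exact key x y (by rw [V.not_fm h0, V.zf_beq h1, V.zf_beq h2, V.zf_beq h3]; rfl)

theorem dec_aw3 : ∀ x y : V, form x y = false → zf x y f1 = zf e1 e3 f1 → zf x y f3 = zf e1 e3 f3 →
    zf x y f2 = f2 → (x = e1 ∨ x = e3 ∨ x = e1 + e3) ∧ (y = e1 ∨ y = e3 ∨ y = e1 + e3) := by
  have key : ∀ x y : V, ((!V.fm x.num y.num) && (Nat.beq (V.zn x.num y.num f1.num) (zf e1 e3 f1).num && (Nat.beq (V.zn x.num y.num f3.num) (zf e1 e3 f3).num && (Nat.beq (V.zn x.num y.num f2.num) (f2).num)))) = true →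
      (x = e1 ∨ x = e3 ∨ x = e1 + e3) ∧ (y = e1 ∨ y = e3 ∨ y = e1 + e3) := by (first | (refine of_decide_eq_true ?_; delta Cfsg.Agent.StdSpSix.PatTwo.V.f1 Cfsg.Agent.StdSpSix.PatTwo.V.e1 Cfsg.Agent.StdSpSix.PatTwo.V.e3 Cfsg.Agent.StdSpSix.PatTwo.V.f3 Cfsg.Agent.StdSpSix.PatTwo.V.f2; rewrite [Cfsg.Agent.KOc205842.e0, Cfsg.Agent.KOc205842.e3, Cfsg.Agent.KOc205842.e13, Cfsg.Agent.KOc205842.e5, Cfsg.Agent.KOc205842.e29, Cfsg.Agent.KOc205842.e30, Cfsg.Agent.KOc205842.e31, Cfsg.Agent.KOc205842.e8, Cfsg.Agent.KOc205842.e32, Cfsg.Agent.KOc205842.e18, Cfsg.Agent.KOc205842.e19, Cfsg.Agent.KOc205842.e28, Cfsg.Agent.KOc205842.e17]; decide +kernel) | decide +kernel)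
  intro x y h0 h1 h2 h3
  exact key x y (by rw [V.not_fm h0, V.zf_beq h1, V.zf_beq h2, V.zf_beq h3]; rfl)

theorem dec_aw23 : ∀ x y : V, form x y = false → zf x y f2 = zf e2 e3 f2 → zf x y f3 = zf e2 e3 f3 →
    zf x y f1 = f1 → (x = e2 ∨ x = e3 ∨ x = e2 + e3) ∧ (y = e2 ∨ y = e3 ∨ y = e2 + e3) := by
  have key : ∀ x y : V, ((!V.fm x.num y.num) && (Nat.beq (V.zn x.num y.num f2.num) (zf e2 e3 f2).num && (Nat.beq (V.zn x.num y.num f3.num) (zf e2 e3 f3).num && (Nat.beq (V.zn x.num y.num f1.num) (f1).num)))) = true →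
      (x = e2 ∨ x = e3 ∨ x = e2 + e3) ∧ (y = e2 ∨ y = e3 ∨ y = e2 + e3) := by (first | (refine of_decide_eq_true ?_; delta Cfsg.Agent.StdSpSix.PatTwo.V.f2 Cfsg.Agent.StdSpSix.PatTwo.V.e2 Cfsg.Agent.StdSpSix.PatTwo.V.e3 Cfsg.Agent.StdSpSix.PatTwo.V.f3 Cfsg.Agent.StdSpSix.PatTwo.V.f1; rewrite [Cfsg.Agent.KOc205842.e0, Cfsg.Agent.KOc205842.e3, Cfsg.Agent.KOc205842.e13, Cfsg.Agent.KOc205842.e5, Cfsg.Agent.KOc205842.e29, Cfsg.Agent.KOc205842.e30, Cfsg.Agent.KOc205842.e31, Cfsg.Agent.KOc205842.e8, Cfsg.Agent.KOc205842.e32, Cfsg.Agent.KOc205842.e18, Cfsg.Agent.KOc205842.e19, Cfsg.Agent.KOc205842.e28, Cfsg.Agent.KOc205842.e17]; decide +kernel) | decide +kernel)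
  intro x y h0 h1 h2 h3
  exact key x y (by rw [V.not_fm h0, V.zf_beq h1, V.zf_beq h2, V.zf_beq h3]; rfl)

theorem zf_of_comm {g : G} (hg : g ∈ S.L) {a c : V} (hac : V.form a c = false)
    (h : g * S.Z a c = S.Z a c * g) (x : V) : zf (S.act g a) (S.act g c) x = zf a c x := by
  have hac' : V.form (S.act g a) (S.act g c) = false := by rw [S.act_form g hg, hac]
  rw [← S.act_Z hac, ← S.act_Z hac']
  congr 1
  rw [S.mul_Z hg] at h
  exact mul_right_cancel h

theorem isAW_of_comm {g : G} (hg : g ∈ S.L) (h1 : g * S.Z e1 e2 = S.Z e1 e2 * g)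
    (h2 : g * S.Z e1 e3 = S.Z e1 e3 * g) (h3 : g * S.Z e2 e3 = S.Z e2 e3 * g) : S.IsAW g := by
  have k1 := S.zf_of_comm hg (by decide) h1
  have k2 := S.zf_of_comm hg (by decide) h2
  have k3 := S.zf_of_comm hg (by decide) h3
  obtain ⟨a1, a2⟩ := dec_aw _ _ (by rw [S.act_form g hg]; decide) (k1 f1) (k1 f2)
    (by rw [k1 f3]; decide)
  obtain ⟨a3, a4⟩ := dec_aw3 _ _ (by rw [S.act_form g hg]; decide) (k2 f1) (k2 f3)
    (by rw [k2 f2]; decide)
  obtain ⟨a5, a6⟩ := dec_aw23 _ _ (by rw [S.act_form g hg]; decide) (k3 f2) (k3 f3)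
    (by rw [k3 f1]; decide)
  have d1 : ∀ x : V, (x = e1 ∨ x = e2 ∨ x = e1 + e2) → (x = e1 ∨ x = e3 ∨ x = e1 + e3) → x = e1 := by
    decide +kernel
  have d2 : ∀ x : V, (x = e1 ∨ x = e2 ∨ x = e1 + e2) → (x = e2 ∨ x = e3 ∨ x = e2 + e3) → x = e2 := by
    decide +kernel
  have d3 : ∀ x : V, (x = e1 ∨ x = e3 ∨ x = e1 + e3) → (x = e2 ∨ x = e3 ∨ x = e2 + e3) → x = e3 := by
    decide +kernel
  exact ⟨hg, d1 _ a1 a3, d2 _ a2 a5, d3 _ a4 a6⟩

/-- The vectors of the plane. -/
def wv (i : Fin 8) : V := sm (i.val.testBit 0) e1 + sm (i.val.testBit 1) e2 + sm (i.val.testBit 2) e3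

theorem IsAW.act_wv {g : G} (h : S.IsAW g) (i : Fin 8) : S.act g (wv i) = wv i := by
  unfold wv
  have hg := h.mem
  rw [S.act_add g hg, S.act_add g hg, S.act_sm hg, S.act_sm hg, S.act_sm hg, h.h1, h.h2, h.h3]

theorem IsAW.comm_T {g : G} (h : S.IsAW g) (i : Fin 8) : g * S.T (wv i) = S.T (wv i) * g :=
  S.T_comm_of_act h.mem (h.act_wv S i)

theorem IsAW.comm_Z {g : G} (h : S.IsAW g) (i j : Fin 8) :
    g * S.Z (wv i) (wv j) = S.Z (wv i) (wv j) * g := by
  rw [S.mul_Z h.mem, h.act_wv S, h.act_wv S]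

theorem dec_f1 : ∀ x : V, form x e1 = true → form x e2 = false → form x e3 = false →
    ∃ i : Fin 8, x = f1 + wv i := by decide +kernel
theorem dec_f2 : ∀ x : V, form x e1 = false → form x e2 = true → form x e3 = false →
    ∃ i : Fin 8, x = f2 + wv i := by decide +kernel
theorem dec_f3 : ∀ x : V, form x e1 = false → form x e2 = false → form x e3 = true →
    ∃ i : Fin 8, x = f3 + wv i := by decide +kernel

/-- The action of an element of the radical. -/
def awf (i j k : Fin 8) (x : V) : V := lin e1 e2 e3 (f1 + wv i) (f2 + wv j) (f3 + wv k) x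

theorem IsAW.exists_awf {g : G} (h : S.IsAW g) : ∃ i j k, ∀ x, S.act g x = awf i j k x := by
  have hg := h.mem
  have key : ∀ x y, V.form (S.act g x) (S.act g y) = V.form x y := S.act_form g hg
  have q11 := key f1 e1
  have q12 := key f1 e2
  have q13 := key f1 e3
  have q21 := key f2 e1
  have q22 := key f2 e2
  have q23 := key f2 e3
  have q31 := key f3 e1
  have q32 := key f3 e2
  have q33 := key f3 e3
  rw [h.h1] at q11 q21 q31
  rw [h.h2] at q12 q22 q32
  rw [h.h3] at q13 q23 q33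
  obtain ⟨i, hi⟩ := dec_f1 _ q11 q12 q13
  obtain ⟨j, hj⟩ := dec_f2 _ q21 q22 q23
  obtain ⟨k, hk⟩ := dec_f3 _ q31 q32 q33
  refine ⟨i, j, k, fun x => ?_⟩
  rw [map_lin (S.act_add g hg) x, h.h1, h.h2, h.h3, hi, hj, hk]
  rfl

/-- Commutation of `awf i j k` with `zf a c` on the vectors `f1, f2, f3`. -/
def cm (i j k : Fin 8) (a c : V) : Prop :=
  awf i j k (zf a c f1) = zf a c (awf i j k f1) ∧ awf i j k (zf a c f2) = zf a c (awf i j k f2) ∧
    awf i j k (zf a c f3) = zf a c (awf i j k f3)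

instance (i j k : Fin 8) (a c : V) : Decidable (cm i j k a c) := by unfold cm; infer_instance

/-- The element `T v ^ c * Z e1 e2 ^ d` as a function. -/
def imf (v : V) (c d : Bool) (x : V) : V :=
  bif c then trf v (bif d then zf e1 e2 x else x) else (bif d then zf e1 e2 x else x)

theorem dec_flag : ∀ i j k : Fin 8, cm i j k e1 f2 → cm i j k e1 f3 → cm i j k e2 f3 →
    form (awf i j k f1) (awf i j k f2) = false → form (awf i j k f1) (awf i j k f3) = false →
    form (awf i j k f2) (awf i j k f3) = false →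
    ∃ c d : Bool, awf i j k f1 = imf e1 c d f1 ∧ awf i j k f2 = imf e1 c d f2 ∧
      awf i j k f3 = imf e1 c d f3 := by
  decide +kernel

theorem dec_anti : ∀ i j k : Fin 8, cm i j k e1 f2 → cm i j k e2 f1 →
    form (awf i j k f1) (awf i j k f2) = false → form (awf i j k f1) (awf i j k f3) = false →
    form (awf i j k f2) (awf i j k f3) = false →
    ∃ c d : Bool, awf i j k f1 = imf e3 c d f1 ∧ awf i j k f2 = imf e3 c d f2 ∧
      awf i j k f3 = imf e3 c d f3 := by
  decide +kernel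

theorem cm_of_comm {g : G} (hg : g ∈ S.L) {i j k : Fin 8} (h : ∀ x, S.act g x = awf i j k x)
    {a c : V} (hac : V.form a c = false) (hc : g * S.Z a c = S.Z a c * g) : cm i j k a c := by
  have key : ∀ x, awf i j k (zf a c x) = zf a c (awf i j k x) := by
    intro x
    rw [← h, ← h, ← S.act_Z hac, ← S.act_Z hac, ← S.act_mul _ hg _ (S.Z_mem _ _), hc,
      S.act_mul _ (S.Z_mem _ _) _ hg]
  exact ⟨key _, key _, key _⟩

theorem act_im (v : V) (c d : Bool) (x : V) :
    S.act (pw c (S.T v) * pw d (S.Z e1 e2)) x = imf v c d x := by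
  rw [S.act_mul _ (pw_mem (S.T_mem _) _) _ (pw_mem (S.Z_mem _ _) _), S.act_pw, S.act_pw,
    S.act_T, S.act_Z (by decide)]
  rfl

theorem IsAW.eq_im {g : G} (h : S.IsAW g) {i j k : Fin 8} (h0 : ∀ x, S.act g x = awf i j k x)
    {v : V} (h1 : V.form e1 v = false) (h2 : V.form e2 v = false) (h3 : V.form e3 v = false)
    {c d : Bool} (k1 : awf i j k f1 = imf v c d f1) (k2 : awf i j k f2 = imf v c d f2)
    (k3 : awf i j k f3 = imf v c d f3) : g = pw c (S.T v) * pw d (S.Z e1 e2) := by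
  have hm := S.L.mul_mem (pw_mem (S.T_mem v) c) (pw_mem (S.Z_mem e1 e2) d)
  have e1' : ∀ d : Bool, (bif d then zf e1 e2 e1 else e1) = e1 := by decide
  have e2' : ∀ d : Bool, (bif d then zf e1 e2 e2 else e2) = e2 := by decide
  have e3' : ∀ d : Bool, (bif d then zf e1 e2 e3 else e3) = e3 := by decide
  refine S.ext_basis h.mem hm ?_ ?_ ?_ ?_ ?_ ?_
  · rw [S.act_im, h.h1]
    unfold imf
    rw [e1']
    cases c
    · rfl
    · rw [cond_true, trf_eq, h1, sm_false, add_zero]
  · rw [S.act_im, h.h2]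
    unfold imf
    rw [e2']
    cases c
    · rfl
    · rw [cond_true, trf_eq, h2, sm_false, add_zero]
  · rw [S.act_im, h.h3]
    unfold imf
    rw [e3']
    cases c
    · rfl
    · rw [cond_true, trf_eq, h3, sm_false, add_zero]
  · rw [S.act_im, h0, k1]
  · rw [S.act_im, h0, k2]
  · rw [S.act_im, h0, k3]

/-- Fixed points of the stabiliser of a flag on the radical. -/
theorem IsAW.flag {g : G} (h : S.IsAW g) (h1 : g * S.Z e1 f2 = S.Z e1 f2 * g)
    (h2 : g * S.Z e1 f3 = S.Z e1 f3 * g) (h3 : g * S.Z e2 f3 = S.Z e2 f3 * g) :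
    ∃ c d, g = pw c (S.T e1) * pw d (S.Z e1 e2) := by
  obtain ⟨i, j, k, h0⟩ := h.exists_awf S
  have hf : ∀ x y, V.form (awf i j k x) (awf i j k y) = V.form x y := by
    intro x y
    rw [← h0, ← h0, S.act_form g h.mem]
  obtain ⟨c, d, k1, k2, k3⟩ := dec_flag i j k (S.cm_of_comm h.mem h0 (by decide) h1)
    (S.cm_of_comm h.mem h0 (by decide) h2) (S.cm_of_comm h.mem h0 (by decide) h3)
    (by rw [hf]; decide) (by rw [hf]; decide) (by rw [hf]; decide)
  exact ⟨c, d, h.eq_im S h0 (by decide) (by decide) (by decide) k1 k2 k3⟩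

/-- Fixed points of the stabiliser of an antiflag on the radical. -/
theorem IsAW.anti {g : G} (h : S.IsAW g) (h1 : g * S.Z e1 f2 = S.Z e1 f2 * g)
    (h2 : g * S.Z e2 f1 = S.Z e2 f1 * g) :
    ∃ c d, g = pw c (S.T e3) * pw d (S.Z e1 e2) := by
  obtain ⟨i, j, k, h0⟩ := h.exists_awf S
  have hf : ∀ x y, V.form (awf i j k x) (awf i j k y) = V.form x y := by
    intro x y
    rw [← h0, ← h0, S.act_form g h.mem]
  obtain ⟨c, d, k1, k2, k3⟩ := dec_anti i j k (S.cm_of_comm h.mem h0 (by decide) h1)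
    (S.cm_of_comm h.mem h0 (by decide) h2)
    (by rw [hf]; decide) (by rw [hf]; decide) (by rw [hf]; decide)
  exact ⟨c, d, h.eq_im S h0 (by decide) (by decide) (by decide) k1 k2 k3⟩

end Six

end Cfsg.Agent.StdSpSix.PatTwo
end

-- part: StdSpSix/PatTwoTriple
section
/-!
Transitivity of `Sp_6(2)` on triples of short root involutions generating a
short-root-pure elementary abelian subgroup of order eight.
-/

set_option autoImplicit false

namespace Cfsg.Agent.StdSpSix.PatTwo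

open V

namespace Six

variable {G : Type*} [Group G] (S : Six G)

theorem IsA2.ne_one {g : G} (h : S.IsA2 g) : g ≠ 1 := by
  obtain ⟨a, c, h1, rfl⟩ := h
  intro h0
  have key : ∀ x, zf a c x = x := fun x => by rw [← S.act_Z h1.1, h0, S.act_one]
  have : ∃ x, V.form x a = false ∧ V.form x c = true := by
    by_contra hn
    have h2 : ∀ x, V.form x c = true → V.form x a = true := by
      intro x hx
      cases h3 : V.form x a
      · exact absurd ⟨x, h3, hx⟩ hn
      · rfl
    obtain ⟨y, hy⟩ := exists_form' c h1.2.2.1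
    have h5 : a = c := by
      by_contra hac
      obtain ⟨v, hv⟩ := exists_form' (a + c) fun h0 => hac (eq_of_add h0)
      rw [form_add_right] at hv
      cases h6 : V.form v c
      · rw [h6, Bool.xor_false] at hv
        have h7 := h2 (v + y) (by rw [form_add_left, h6, hy]; rfl)
        rw [form_add_left, hv, h2 y hy] at h7
        cases h7
      · rw [h6, h2 v h6] at hv
        cases hv
    exact h1.2.2.2 h5
  obtain ⟨x, hx1, hx2⟩ := this
  have h3 := key x
  unfold zf at h3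
  rw [hx1, hx2, sm_true, sm_false, add_zero] at h3
  have h4 : a = 0 := by
    have := congrArg (fun z => x + z) h3
    simpa only [aab, aa] using this
  exact h1.2.1 h4

theorem IsA2.sq {g : G} (h : S.IsA2 g) : g * g = 1 := by
  obtain ⟨a, c, h1, rfl⟩ := h
  exact S.Z_sq h1.1

/-- The three points of a line. -/
def pts (a c : V) : List V := [a, c, a + c]

theorem mem_pts {a c x : V} : x ∈ pts a c ↔ x = a ∨ x = c ∨ x = a + c := by
  unfold pts
  simp

theorem Z_line {a c p q : V} (h : Line a c) (hp : p ∈ pts a c) (hq : q ∈ pts a c) (hpq : p ≠ q) :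
    S.Z p q = S.Z a c := by
  have h1 := h.1
  have h1' : V.form c a = false := by rw [form_comm, h1]
  have h2 : V.form a (a + c) = false := by rw [form_add_right, form_self, h1]; rfl
  have h3 : V.form c (a + c) = false := by rw [form_add_right, form_self, h1']; rfl
  rw [mem_pts] at hp hq
  rcases hp with rfl | rfl | rfl <;> rcases hq with rfl | rfl | rfl
  · exact absurd rfl hpq
  · rfl
  · exact S.Z_add_right h1
  · exact S.Z_comm' h1'
  · exact absurd rfl hpq
  · rw [add_comm, S.Z_add_right h1', S.Z_comm' h1']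
  · rw [← S.Z_comm' h2, S.Z_add_right h1]
  · rw [← S.Z_comm' h3, add_comm, S.Z_add_right h1', S.Z_comm' h1']
  · exact absurd rfl hpq

instance (a c d : V) : Decidable (Plane a c d) := by unfold Plane; infer_instance

/-- Test vectors for the first product. -/
def tst1 (a c : V) : Prop :=
  form (V.mk 8 (by decide)) (zf e1 e2 (zf a c (V.mk 8 (by decide)))) = false ∧
  form (V.mk 16 (by decide)) (zf e1 e2 (zf a c (V.mk 16 (by decide)))) = false ∧
  form (V.mk 25 (by decide)) (zf e1 e2 (zf a c (V.mk 25 (by decide)))) = false ∧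
  form (V.mk 12 (by decide)) (zf e1 e2 (zf a c (V.mk 12 (by decide)))) = false ∧
  form (V.mk 48 (by decide)) (zf e1 e2 (zf a c (V.mk 48 (by decide)))) = false ∧
  form (V.mk 60 (by decide)) (zf e1 e2 (zf a c (V.mk 60 (by decide)))) = false

instance (a c : V) : Decidable (tst1 a c) := by unfold tst1; infer_instance

private theorem _root_.Cfsg.Agent.KOc205842.e38.{ku, kv} {α : Type kv} {M : List α → Sort ku} (φ : ∀ l, M l) {z : M List.nil} {s : ∀ a l, M l → M (List.cons a l)} (h0 : φ List.nil = z) (hs : ∀ a l, φ (List.cons a l) = s a l (φ l)) (l : List α) : φ l = @List.rec α M z s l := List.rec h0 (fun a l ih => (hs a l).trans (congrArg (s a l) ih)) l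
private noncomputable def _root_.Cfsg.Agent.KOc205842.k40.{ku0} : type_of% @List.instDecidableMemOfLawfulBEq.{ku0} := @(fun x0 x1 x2 x3 x4 => @Decidable.rec.{1} _ @(fun x5 => @Decidable (@Membership.mem.{ku0, ku0} _ _ _ @x4 @x3)) @(fun x5 => @Decidable.isFalse _ (@decidable_of_decidable_of_iff._proof_1 _ _ (@List.instDecidableMemOfLawfulBEq._proof_1.{ku0} _ _ _ @x3 @x4) @x5)) @(fun x5 => @Decidable.isTrue _ (@Iff.mp _ _ (@List.instDecidableMemOfLawfulBEq._proof_1.{ku0} _ _ _ @x3 @x4) @x5)) (@Cfsg.Agent.KOc205842.k4 (@List.elem.{ku0} _ @x1 @x3 @x4) @Bool.true))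
private theorem _root_.Cfsg.Agent.KOc205842.e40.{ku0} : @List.instDecidableMemOfLawfulBEq.{ku0} = @_root_.Cfsg.Agent.KOc205842.k40.{ku0} := by delta _root_.Cfsg.Agent.KOc205842.k40; rewrite [← Cfsg.Agent.KOc205842.e4]; rfl'
private noncomputable def _root_.Cfsg.Agent.KOc205842.k42 : (by first | exact type_of% @Cfsg.Agent.StdSpSix.PatTwo.Six.pts | exact Unit : Sort _) := by first | (refine @Subtype.val _ (fun g => @Cfsg.Agent.StdSpSix.PatTwo.Six.pts = @g) (@Subtype.mk _ _ (@(fun x0 x1 => @x0 :: (@x1 :: ((@Cfsg.Agent.StdSpSix.PatTwo.V.add @x0 @x1) :: [])))) ?_); rfl') | exact @Cfsg.Agent.StdSpSix.PatTwo.Six.pts | exact ()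
private theorem _root_.Cfsg.Agent.KOc205842.e42 : (by first | exact @Cfsg.Agent.StdSpSix.PatTwo.Six.pts = @_root_.Cfsg.Agent.KOc205842.k42 | exact True : Prop) := by first | (delta _root_.Cfsg.Agent.KOc205842.k42; exact @Subtype.property _ (fun g => @Cfsg.Agent.StdSpSix.PatTwo.Six.pts = @g) _) | rfl | trivial
private noncomputable def _root_.Cfsg.Agent.KOc205842.k43.{ku0} : type_of% @List.any.{ku0} := @(fun x0 x1 x2 => @List.rec.{(ku0+1), ku0} @x0 @(fun x3 => (@x0 → @Bool) → @Bool) @(fun x3 => @Bool.false) @(fun x3 x4 x5 x6 => @Bool.rec.{1} @(fun x7 => @Bool) (@x5 @x6) @Bool.true (@x6 @x3)) @x1 @x2)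
private theorem _root_.Cfsg.Agent.KOc205842.e43.{ku0} : @List.any.{ku0} = @_root_.Cfsg.Agent.KOc205842.k43.{ku0} := by delta _root_.Cfsg.Agent.KOc205842.k43; funext a0 a1 a2; refine (congrFun (_root_.Cfsg.Agent.KOc205842.e38 (fun a1 a2 => @List.any.{ku0} a0 a1 a2) ?_ (fun c0 c1 => ?_) a1) a2 :) <;> (rfl')

theorem dec_meet : ∀ a c : V, Line a c → tst1 a c →
    (a ∈ pts e1 e2 ∧ c ∈ pts e1 e2) ∨
    ∃ p ∈ pts e1 e2, ∃ p' ∈ pts e1 e2, ∃ q ∈ pts a c, p ∈ pts a c ∧ Plane p p' q := by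
  have key : ∀ a c : V, (!V.fm a.num c.num && (!V.fm 8 (V.zn 1 2 (V.zn a.num c.num 8)) &&
      (!V.fm 16 (V.zn 1 2 (V.zn a.num c.num 16)) &&
      (!V.fm 25 (V.zn 1 2 (V.zn a.num c.num 25)) &&
      (!V.fm 12 (V.zn 1 2 (V.zn a.num c.num 12)) &&
      (!V.fm 48 (V.zn 1 2 (V.zn a.num c.num 48)) &&
      (!V.fm 60 (V.zn 1 2 (V.zn a.num c.num 60))))))))) = true → Line a c →
    (a ∈ pts e1 e2 ∧ c ∈ pts e1 e2) ∨
    ((pts e1 e2).any fun p => decide (p ∈ pts a c) && (pts e1 e2).any fun p' => (pts a c).any fun q =>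
      decide (Plane p p' q)) = true := by (first | (refine of_decide_eq_true ?_; delta Cfsg.Agent.StdSpSix.PatTwo.V.e1 Cfsg.Agent.StdSpSix.PatTwo.V.e2; rewrite [Cfsg.Agent.KOc205842.e0, Cfsg.Agent.KOc205842.e3, Cfsg.Agent.KOc205842.e13, Cfsg.Agent.KOc205842.e5, Cfsg.Agent.KOc205842.e29, Cfsg.Agent.KOc205842.e30, Cfsg.Agent.KOc205842.e31, Cfsg.Agent.KOc205842.e8, Cfsg.Agent.KOc205842.e32, Cfsg.Agent.KOc205842.e28, Cfsg.Agent.KOc205842.e19, Cfsg.Agent.KOc205842.e40.{0}, Cfsg.Agent.KOc205842.e17, Cfsg.Agent.KOc205842.e42, Cfsg.Agent.KOc205842.e18, Cfsg.Agent.KOc205842.e43.{0}]; decide +kernel) | decide +kernel)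
  intro a c h ⟨h0, h1, h2, h3, h4, h5⟩
  simp only [V.form_num, V.zf_num] at h0 h1 h2 h3 h4 h5
  refine (key a c ?_ h).imp_right fun h => ?_
  swap
  · simp only [List.any_eq_true, Bool.and_eq_true, decide_eq_true_eq] at h
    obtain ⟨p, hp, h1, p', hp', q, hq, h2⟩ := h
    exact ⟨p, hp, p', hp', q, hq, h1, h2⟩
  simp only [Bool.and_eq_true, Bool.not_eq_true']
  exact ⟨(V.form_num a c).symm.trans h.1, h0, h1, h2, h3, h4, h5⟩

/-- Test vectors for the third element. -/
def tst2 (a c : V) : Prop :=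
  form (V.mk 8 (by decide)) (zf e1 e2 (zf a c (V.mk 8 (by decide)))) = false ∧
  form (V.mk 9 (by decide)) (zf e1 e3 (zf a c (V.mk 9 (by decide)))) = false ∧
  form (V.mk 56 (by decide)) (zf e1 e2 (zf e1 e3 (zf a c (V.mk 56 (by decide))))) = false ∧
  form (V.mk 16 (by decide)) (zf e1 e2 (zf a c (V.mk 16 (by decide)))) = false ∧
  form (V.mk 40 (by decide)) (zf e1 e3 (zf a c (V.mk 40 (by decide)))) = false ∧
  form (V.mk 22 (by decide)) (zf e1 e2 (zf a c (V.mk 22 (by decide)))) = false ∧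
  form (V.mk 12 (by decide)) (zf e1 e2 (zf a c (V.mk 12 (by decide)))) = false

instance (a c : V) : Decidable (tst2 a c) := by unfold tst2; infer_instance

private noncomputable def _root_.Cfsg.Agent.KOc205842.k14 : type_of% @instDecidableNot := @(fun x0 x1 => @Decidable.rec.{1} _ @(fun x2 => @Decidable (¬ @x0)) @(fun x2 => @Decidable.isTrue _ @x2) @(fun x2 => @Decidable.isFalse _ (@absurd.{0} _ _ @x2)) @x1)
private theorem _root_.Cfsg.Agent.KOc205842.e14 : @instDecidableNot = @_root_.Cfsg.Agent.KOc205842.k14 := by delta _root_.Cfsg.Agent.KOc205842.k14; rfl'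
private noncomputable def _root_.Cfsg.Agent.KOc205842.k20 : type_of% @instDecidableForall := @(fun x0 x1 x2 x3 => @Decidable.rec.{1} _ @(fun x4 => @Decidable (@x0 → @x1)) @(fun x4 => @Decidable.isTrue _ @(fun x5 => @absurd.{0} _ _ @x5 @x4)) @(fun x4 => @Decidable.rec.{1} _ @(fun x5 => @Decidable (@x0 → @x1)) @(fun x5 => @Decidable.isFalse _ (@instDecidableForall._proof_1 _ _ @x4 @x5)) @(fun x5 => @Decidable.isTrue _ @(fun x6 => @x5)) @x3) @x2)
private theorem _root_.Cfsg.Agent.KOc205842.e20 : @instDecidableForall = @_root_.Cfsg.Agent.KOc205842.k20 := by delta _root_.Cfsg.Agent.KOc205842.k20; rfl'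

theorem dec_third : ∀ a c : V, Line a c → tst2 a c →
    (a ∈ pts e1 e2 ∧ c ∈ pts e1 e2) ∨ (a ∈ pts e1 e3 ∧ c ∈ pts e1 e3) ∨
    (a ∈ pts e1 (e2 + e3) ∧ c ∈ pts e1 (e2 + e3)) ∨
    ∃ r ∈ [e2, e1 + e2], ∃ s ∈ [e3, e1 + e3], r ∈ pts a c ∧ s ∈ pts a c ∧ r ≠ s ∧
      Plane e1 r s := by
  have key : ∀ a c : V, (!V.fm a.num c.num && (!V.fm 8 (V.zn 1 2 (V.zn a.num c.num 8)) &&
      (!V.fm 9 (V.zn 1 4 (V.zn a.num c.num 9)) &&
      (!V.fm 56 (V.zn 1 2 (V.zn 1 4 (V.zn a.num c.num 56))) &&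
      (!V.fm 16 (V.zn 1 2 (V.zn a.num c.num 16)) &&
      (!V.fm 40 (V.zn 1 4 (V.zn a.num c.num 40)) &&
      (!V.fm 22 (V.zn 1 2 (V.zn a.num c.num 22)) &&
      (!V.fm 12 (V.zn 1 2 (V.zn a.num c.num 12)))))))))) = true → Line a c →
    (a ∈ pts e1 e2 ∧ c ∈ pts e1 e2) ∨ (a ∈ pts e1 e3 ∧ c ∈ pts e1 e3) ∨
    (a ∈ pts e1 (e2 + e3) ∧ c ∈ pts e1 (e2 + e3)) ∨
    ([e2, e1 + e2].any fun r => [e3, e1 + e3].any fun s => decide (r ∈ pts a c ∧ s ∈ pts a c ∧ r ≠ s ∧
      Plane e1 r s)) = true := by (first | (refine of_decide_eq_true ?_; delta Cfsg.Agent.StdSpSix.PatTwo.V.e1 Cfsg.Agent.StdSpSix.PatTwo.V.e2 Cfsg.Agent.StdSpSix.PatTwo.V.e3; rewrite [Cfsg.Agent.KOc205842.e0, Cfsg.Agent.KOc205842.e3, Cfsg.Agent.KOc205842.e20, Cfsg.Agent.KOc205842.e5, Cfsg.Agent.KOc205842.e29, Cfsg.Agent.KOc205842.e30, Cfsg.Agent.KOc205842.e31, Cfsg.Agent.KOc205842.e8, Cfsg.Agent.KOc205842.e32, Cfsg.Agent.KOc205842.e13, Cfsg.Agent.KOc205842.e28, Cfsg.Agent.KOc205842.e19, Cfsg.Agent.KOc205842.e40.{0},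 Cfsg.Agent.KOc205842.e17, Cfsg.Agent.KOc205842.e42, Cfsg.Agent.KOc205842.e18, Cfsg.Agent.KOc205842.e43.{0}, Cfsg.Agent.KOc205842.e14]; decide +kernel) | decide +kernel)
  intro a c h ⟨h0, h1, h2, h3, h4, h5, h6⟩
  simp only [V.form_num, V.zf_num] at h0 h1 h2 h3 h4 h5 h6
  refine (key a c ?_ h).imp_right (Or.imp_right (Or.imp_right fun h => ?_))
  swap
  · simpa only [List.any_eq_true, decide_eq_true_eq] using h
  simp only [Bool.and_eq_true, Bool.not_eq_true']
  exact ⟨(V.form_num a c).symm.trans h.1, h0, h1, h2, h3, h4, h5, h6⟩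

theorem IsA2.mul_form {a c p q : V} (h0 : Line p q) (h : Line a c) (h1 : S.IsA2 (S.Z p q * S.Z a c))
    (x : V) : V.form x (zf p q (zf a c x)) = false := by
  rw [← S.act_Z h.1, ← S.act_Z h0.1, ← S.act_mul _ (S.Z_mem _ _) _ (S.Z_mem _ _)]
  exact h1.form S x

theorem line12 : Line e1 e2 := by decide
theorem line13 : Line e1 e3 := by decide
theorem line23 : Line e2 e3 := by decide

theorem Line.symm {a c : V} (h : Line a c) : Line c a :=
  ⟨by rw [form_comm, h.1], h.2.2.1, h.2.1, h.2.2.2.symm⟩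

/-- Two short root involutions whose product is one. -/
theorem pair {y1 y2 : G} (h1 : S.IsA2 y1) (h2 : S.IsA2 y2) (h12 : S.IsA2 (y1 * y2)) :
    ∃ k ∈ S.L, k * S.Z e1 e2 * k⁻¹ = y1 ∧ k * S.Z e1 e3 * k⁻¹ = y2 := by
  obtain ⟨a0, c0, hl, rfl⟩ := h1
  obtain ⟨g, hg, hga, hgc⟩ := S.witt2 hl
  have hgi := S.L.inv_mem hg
  have e0 : g⁻¹ * S.Z a0 c0 * g = S.Z e1 e2 := by
    rw [← hga, ← hgc, ← S.conj_Z hg]; group
  -- move `y2`
  have h2' := h2.conj S hgi
  rw [inv_inv] at h2'
  have h12' := h12.conj S hgi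
  rw [inv_inv] at h12'
  have e1' : g⁻¹ * (S.Z a0 c0 * y2) * g = S.Z e1 e2 * (g⁻¹ * y2 * g) := by
    rw [← e0]; group
  rw [e1'] at h12'
  obtain ⟨a, c, hac, hy⟩ := h2'
  rw [hy] at h12'
  have ht := h12'.mul_form S line12 hac
  rcases dec_meet a c hac ⟨ht _, ht _, ht _, ht _, ht _, ht _⟩ with ⟨ha, hc⟩ | ⟨p, hp, p', hp', q, hq, hpq, hpl⟩
  · exfalso
    rw [S.Z_line line12 ha hc hac.2.2.2, S.Z_sq line12.1] at h12'
    exact h12'.ne_one S rfl
  · obtain ⟨k, hk, hk1, hk2, hk3⟩ := S.witt3 hpl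
    refine ⟨g * k, S.L.mul_mem hg hk, ?_, ?_⟩
    · have : g * k * S.Z e1 e2 * (g * k)⁻¹ = g * (k * S.Z e1 e2 * k⁻¹) * g⁻¹ := by group
      rw [this, S.conj_Z hk, hk1, hk2, S.Z_line line12 hp hp' hpl.1.2.2.2, S.conj_Z hg, hga, hgc]
    · have : g * k * S.Z e1 e3 * (g * k)⁻¹ = g * (k * S.Z e1 e3 * k⁻¹) * g⁻¹ := by group
      rw [this, S.conj_Z hk, hk1, hk3, S.Z_line hac hpq hq (Ne.symm hpl.2.2.2.2.1), ← hy]
      group

/-- Triples generating a pure subgroup of order eight are conjugate to the standard one. -/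
theorem triple {y1 y2 y3 : G} (h1 : S.IsA2 y1) (h2 : S.IsA2 y2) (h3 : S.IsA2 y3)
    (h12 : S.IsA2 (y1 * y2)) (h13 : S.IsA2 (y1 * y3)) (h23 : S.IsA2 (y2 * y3))
    (h123 : S.IsA2 (y1 * (y2 * y3))) :
    ∃ k ∈ S.L, k * S.Z e1 e2 * k⁻¹ = y1 ∧ k * S.Z e1 e3 * k⁻¹ = y2 ∧ k * S.Z e2 e3 * k⁻¹ = y3 := by
  obtain ⟨g, hg, hg1, hg2⟩ := S.pair h1 h2 h12
  have hgi := S.L.inv_mem hg
  subst hg1 hg2
  have h3' := h3.conj S hgi
  have h13' := h13.conj S hgi
  have h23' := h23.conj S hgi
  have h123' := h123.conj S hgi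
  rw [inv_inv] at h3' h13' h23' h123'
  obtain ⟨a, c, hac, hy⟩ := h3'
  have q13 : g⁻¹ * (g * S.Z e1 e2 * g⁻¹ * y3) * g = S.Z e1 e2 * (g⁻¹ * y3 * g) := by group
  have q23 : g⁻¹ * (g * S.Z e1 e3 * g⁻¹ * y3) * g = S.Z e1 e3 * (g⁻¹ * y3 * g) := by group
  have q123 : g⁻¹ * (g * S.Z e1 e2 * g⁻¹ * (g * S.Z e1 e3 * g⁻¹ * y3)) * g =
      S.Z e1 e2 * (S.Z e1 e3 * (g⁻¹ * y3 * g)) := by group
  rw [q13, hy] at h13'
  rw [q23, hy] at h23'
  rw [q123, hy] at h123'
  have t13 := h13'.mul_form S line12 hac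
  have t23 := h23'.mul_form S line13 hac
  have t123 : ∀ x, V.form x (zf e1 e2 (zf e1 e3 (zf a c x))) = false := by
    intro x
    have := h123'.form S x
    rw [S.act_mul _ (S.Z_mem _ _) _ (S.L.mul_mem (S.Z_mem _ _) (S.Z_mem _ _)),
      S.act_mul _ (S.Z_mem _ _) _ (S.Z_mem _ _), S.act_Z hac.1, S.act_Z line13.1,
      S.act_Z line12.1] at this
    exact this
  rcases dec_third a c hac ⟨t13 _, t23 _, t123 _, t13 _, t23 _, t13 _, t13 _⟩ with
    ⟨ha, hc⟩ | ⟨ha, hc⟩ | ⟨ha, hc⟩ | ⟨r, hr, s, hs, hra, hsa, hrs, hpl⟩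
  · exfalso
    rw [S.Z_line line12 ha hc hac.2.2.2, S.Z_sq line12.1] at h13'
    exact h13'.ne_one S rfl
  · exfalso
    rw [S.Z_line line13 ha hc hac.2.2.2, S.Z_sq line13.1] at h23'
    exact h23'.ne_one S rfl
  · exfalso
    have l1 : Line e1 (e2 + e3) := by decide
    rw [S.Z_line l1 ha hc hac.2.2.2, ← mul_assoc, S.Y_mul (by decide) (by decide)] at h123'
    have : V.form e2 e3 = false := by decide
    rw [this, pw_false, mul_one, S.Z_sq l1.1] at h123'
    exact h123'.ne_one S rfl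
  · obtain ⟨k, hk, hk1, hk2, hk3⟩ := S.witt3 (a := e1) (c := r) (d := s) hpl
    have hr' : r ∈ pts e1 e2 := by
      rw [mem_pts]
      simp only [List.mem_cons, List.not_mem_nil, or_false] at hr
      rcases hr with h | h
      · exact Or.inr (Or.inl h)
      · exact Or.inr (Or.inr h)
    have hs' : s ∈ pts e1 e3 := by
      rw [mem_pts]
      simp only [List.mem_cons, List.not_mem_nil, or_false] at hs
      rcases hs with h | h
      · exact Or.inr (Or.inl h)
      · exact Or.inr (Or.inr h)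
    have he2 : e1 ∈ pts e1 e2 := by decide
    have he3 : e1 ∈ pts e1 e3 := by decide
    refine ⟨g * k, S.L.mul_mem hg hk, ?_, ?_, ?_⟩
    · have : g * k * S.Z e1 e2 * (g * k)⁻¹ = g * (k * S.Z e1 e2 * k⁻¹) * g⁻¹ := by group
      rw [this, S.conj_Z hk, hk1, hk2, S.Z_line line12 he2 hr' hpl.1.2.2.2]
    · have : g * k * S.Z e1 e3 * (g * k)⁻¹ = g * (k * S.Z e1 e3 * k⁻¹) * g⁻¹ := by group
      rw [this, S.conj_Z hk, hk1, hk3, S.Z_line line13 he3 hs' (Ne.symm hpl.2.2.2.2.1)]
    · have : g * k * S.Z e2 e3 * (g * k)⁻¹ = g * (k * S.Z e2 e3 * k⁻¹) * g⁻¹ := by group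
      rw [this, S.conj_Z hk, hk2, hk3, S.Z_line hac hra hsa hrs, ← hy]
      group

end Six

end Cfsg.Agent.StdSpSix.PatTwo
end

-- part: StdSpSix/PatTwoXW
section
/-!
Pattern `{a2}`: elements moving `t` to `t z`, `z` in the pure subgroup `Λ² W`, and
centralising `Λ² W`; they centralise the whole radical `Sym² W`.
-/

set_option autoImplicit false

namespace Cfsg.Agent.StdSpSix.PatTwo

open V

/-- `C_G(t) = ⟨t⟩ × L`, and the conjugates of `t` in it are `t` and the `t z`, `z` a short root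
involution of `L`. -/
structure Std (G : Type*) [Group G] extends Six G where
  t : G
  tt : t * t = 1
  tL : t ∉ L
  cent : ∀ g, Commute g t → g ∈ L ∨ t * g ∈ L
  comm : ∀ g ∈ L, Commute g t
  D1 : ∀ a c, Six.Line a c → ∃ g, g * t * g⁻¹ = t * toSix.Z a c
  D2 : ∀ g, Commute (g * t * g⁻¹) t → g * t * g⁻¹ = t ∨ ∃ z, toSix.IsA2 z ∧ g * t * g⁻¹ = t * z

namespace Std

open Six

variable {G : Type*} [Group G] (S : Std G)

theorem t_inv : S.t⁻¹ = S.t := inv_eq_of_mul_eq_one_right S.tt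

theorem cent' {g : G} (h : Commute g S.t) : ∃ c, ∃ a ∈ S.L, g = pw c S.t * a := by
  rcases S.cent g h with h | h
  · exact ⟨false, g, h, by rw [pw_false, one_mul]⟩
  · exact ⟨true, S.t * g, h, by rw [pw_true, ← mul_assoc, S.tt, one_mul]⟩

/-! ### The pure subgroup -/

/-- Plücker coordinates. -/
def pl12 (i j : Fin 8) : Bool := (i.val.testBit 0 && j.val.testBit 1) ^^ (i.val.testBit 1 && j.val.testBit 0)
def pl13 (i j : Fin 8) : Bool := (i.val.testBit 0 && j.val.testBit 2) ^^ (i.val.testBit 2 && j.val.testBit 0)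
def pl23 (i j : Fin 8) : Bool := (i.val.testBit 1 && j.val.testBit 2) ^^ (i.val.testBit 2 && j.val.testBit 1)

/-- The element of the pure subgroup with given coordinates. -/
def zw (c1 c2 c3 : Bool) : G :=
  pw c1 (S.Z e1 e2) * (pw c2 (S.Z e1 e3) * pw c3 (S.Z e2 e3))

theorem form_wv : ∀ i j : Fin 8, form (wv i) (wv j) = false := by decide +kernel

theorem dec_pl : ∀ i j : Fin 8, ∀ x ∈ [e1, e2, e3, f1, f2, f3],
    zf (wv i) (wv j) x = (bif pl12 i j then zf e1 e2 else id)
      ((bif pl13 i j then zf e1 e3 else id) ((bif pl23 i j then zf e2 e3 else id) x)) := by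
  decide +kernel

theorem Z_wv (i j : Fin 8) : S.Z (wv i) (wv j) = S.zw (pl12 i j) (pl13 i j) (pl23 i j) := by
  have m1 := pw_mem (S.Z_mem e1 e2) (pl12 i j)
  have m2 := pw_mem (S.Z_mem e1 e3) (pl13 i j)
  have m3 := pw_mem (S.Z_mem e2 e3) (pl23 i j)
  have key : ∀ x ∈ [e1, e2, e3, f1, f2, f3],
      S.act (S.Z (wv i) (wv j)) x = S.act (S.zw (pl12 i j) (pl13 i j) (pl23 i j)) x := by
    intro x hx
    rw [S.act_Z (form_wv i j), dec_pl i j x hx]
    unfold zw
    rw [S.act_mul _ m1 _ (S.L.mul_mem m2 m3), S.act_mul _ m2 _ m3, S.act_pw, S.act_pw, S.act_pw,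
      S.act_Z (by decide), S.act_Z (by decide), S.act_Z (by decide)]
    cases pl12 i j <;> cases pl13 i j <;> cases pl23 i j <;> rfl
  refine S.ext_basis (S.Z_mem _ _) (S.L.mul_mem m1 (S.L.mul_mem m2 m3)) (key _ ?_) (key _ ?_)
    (key _ ?_) (key _ ?_) (key _ ?_) (key _ ?_) <;> simp

/-- `x` centralises the pure subgroup. -/
structure CZ (x : G) : Prop where
  h1 : Commute x (S.Z e1 e2)
  h2 : Commute x (S.Z e1 e3)
  h3 : Commute x (S.Z e2 e3)

theorem commute_pw {x g : G} (h : Commute x g) (c : Bool) : Commute x (pw c g) := by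
  cases c
  · exact Commute.one_right x
  · exact h

theorem CZ.zw {x : G} (h : S.CZ x) (c1 c2 c3 : Bool) : Commute x (S.zw c1 c2 c3) :=
  (commute_pw h.h1 _).mul_right ((commute_pw h.h2 _).mul_right (commute_pw h.h3 _))

theorem CZ.all {x : G} (h : S.CZ x) (i j : Fin 8) : Commute x (S.Z (wv i) (wv j)) := by
  rw [S.Z_wv]
  exact h.zw S _ _ _

theorem CZ.mul {x y : G} (hx : S.CZ x) (hy : S.CZ y) : S.CZ (x * y) :=
  ⟨hx.h1.mul_left hy.h1, hx.h2.mul_left hy.h2, hx.h3.mul_left hy.h3⟩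

theorem CZ.inv {x : G} (hx : S.CZ x) : S.CZ x⁻¹ :=
  ⟨hx.h1.inv_left, hx.h2.inv_left, hx.h3.inv_left⟩

theorem CZ_t : S.CZ S.t :=
  ⟨(S.comm _ (S.Z_mem _ _)).symm, (S.comm _ (S.Z_mem _ _)).symm, (S.comm _ (S.Z_mem _ _)).symm⟩

theorem CZ.aw {g : G} (h : S.CZ g) (hg : g ∈ S.L) : S.IsAW g :=
  S.isAW_of_comm hg h.h1.eq h.h2.eq h.h3.eq

theorem aw_of {g : G} (h : S.CZ g) (ht : Commute g S.t) : ∃ c, ∃ a, S.IsAW a ∧ g = pw c S.t * a := by
  obtain ⟨c, a, ha, rfl⟩ := S.cent' ht
  refine ⟨c, a, ?_, rfl⟩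
  have h1 : S.CZ (pw c S.t) := by
    cases c
    · exact ⟨Commute.one_left _, Commute.one_left _, Commute.one_left _⟩
    · exact S.CZ_t
  have h2 := (h1.inv S).mul S h
  rw [inv_mul_cancel_left] at h2
  exact h2.aw S ha

theorem CZ_T (i : Fin 8) : S.CZ (S.T (wv i)) := by
  have h : ∀ j k : Fin 8, Commute (S.T (wv i)) (S.Z (wv j) (wv k)) := fun j k =>
    S.T_comm_Z (form_wv i j) (form_wv i k)
  have w1 : e1 = wv 1 := by decide
  have w2 : e2 = wv 2 := by decide
  have w3 : e3 = wv 4 := by decide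
  refine ⟨?_, ?_, ?_⟩
  · rw [w1, w2]; exact h _ _
  · rw [w1, w3]; exact h _ _
  · rw [w2, w3]; exact h _ _

/-- Elements of `L` stabilising the plane. -/
structure StW (k : G) : Prop where
  mem : k ∈ S.L
  h : ∀ i : Fin 8, ∃ j : Fin 8, S.act k (wv i) = wv j

theorem wv_injective : Function.Injective wv := by
  intro i j
  revert i j
  decide +kernel

theorem StW.inv {k : G} (hk : S.StW k) : S.StW k⁻¹ := by
  refine ⟨S.L.inv_mem hk.mem, ?_⟩
  choose φ hφ using hk.h
  have hinj : Function.Injective φ := by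
    intro i j hij
    apply wv_injective
    apply S.act_injective hk.mem
    rw [hφ, hφ, hij]
  have hsurj := Finite.injective_iff_surjective.1 hinj
  intro i
  obtain ⟨j, rfl⟩ := hsurj i
  exact ⟨j, by rw [← hφ, S.act_inv_act hk.mem]⟩

theorem StW.conj_CZ {k : G} (hk : S.StW k) {x : G} (hx : S.CZ x) : S.CZ (k * x * k⁻¹) := by
  have key : ∀ i j : Fin 8, Commute (k * x * k⁻¹) (S.Z (wv i) (wv j)) := by
    intro i j
    obtain ⟨i', hi⟩ := (hk.inv S).h i
    obtain ⟨j', hj⟩ := (hk.inv S).h j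
    have h1 : S.Z (wv i) (wv j) = k * S.Z (wv i') (wv j') * k⁻¹ := by
      rw [S.conj_Z hk.mem, ← hi, ← hj, S.act_act_inv hk.mem, S.act_act_inv hk.mem]
    rw [h1]
    have h2 := hx.all S i' j'
    have : k * x * k⁻¹ * (k * S.Z (wv i') (wv j') * k⁻¹) = k * (x * S.Z (wv i') (wv j')) * k⁻¹ := by
      group
    unfold Commute SemiconjBy
    rw [this, h2.eq]
    group
  have w1 : e1 = wv 1 := by decide
  have w2 : e2 = wv 2 := by decide
  have w3 : e3 = wv 4 := by decide
  refine ⟨?_, ?_, ?_⟩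
  · rw [w1, w2]; exact key _ _
  · rw [w1, w3]; exact key _ _
  · rw [w2, w3]; exact key _ _

/-- Elements centralising the pure subgroup and moving `t` to `t z`. -/
structure XW (z x : G) : Prop where
  cz : S.CZ x
  ht : x * S.t * x⁻¹ = S.t * z

theorem dec_line : ∀ c1 c2 c3 : Bool, (c1 = false ∧ c2 = false ∧ c3 = false) ∨
    ∃ i j : Fin 8, Line (wv i) (wv j) ∧ pl12 i j = c1 ∧ pl13 i j = c2 ∧ pl23 i j = c3 := by
  decide +kernel

theorem zw_zero : S.zw false false false = 1 := by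
  unfold zw
  simp only [pw_false, mul_one]

theorem zw_line (c1 c2 c3 : Bool) : S.zw c1 c2 c3 = 1 ∨
    ∃ i j : Fin 8, Line (wv i) (wv j) ∧ S.zw c1 c2 c3 = S.Z (wv i) (wv j) := by
  rcases dec_line c1 c2 c3 with ⟨rfl, rfl, rfl⟩ | ⟨i, j, h, rfl, rfl, rfl⟩
  · exact Or.inl S.zw_zero
  · exact Or.inr ⟨i, j, h, (S.Z_wv i j).symm⟩

theorem zw_D (c1 c2 c3 : Bool) : ∃ h, h * S.t * h⁻¹ = S.t * S.zw c1 c2 c3 := by
  rcases S.zw_line c1 c2 c3 with h | ⟨i, j, h, h1⟩
  · exact ⟨1, by rw [h]; group⟩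
  · rw [h1]
    exact S.D1 _ _ h

theorem CZ_Z (i j : Fin 8) : S.CZ (S.Z (wv i) (wv j)) := by
  unfold Six.Z
  exact (((S.CZ_T i).mul S (S.CZ_T j)).mul S (by
    have : ∃ k, wv i + wv j = wv k := by
      revert i j
      decide +kernel
    obtain ⟨k, hk⟩ := this
    rw [hk]
    exact S.CZ_T k))

theorem CZ_12 : S.CZ (S.Z e1 e2) := by
  have w1 : e1 = wv 1 := by decide
  have w2 : e2 = wv 2 := by decide
  rw [w1, w2]
  exact S.CZ_Z _ _

theorem Z12_mul (c1 c2 c3 : Bool) : S.Z e1 e2 * S.zw c1 c2 c3 = S.zw (!c1) c2 c3 := by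
  unfold zw
  cases c1
  · rw [pw_false, one_mul]; rfl
  · change S.Z e1 e2 * (S.Z e1 e2 * _) = 1 * _
    rw [← mul_assoc, S.Z_sq line12.1]

theorem exists_x12 : ∃ x, S.XW (S.Z e1 e2) x := by
  obtain ⟨g, hg⟩ := S.D1 e1 e2 (by decide)
  -- conjugates of elements of the pure subgroup
  have conj2 : ∀ y, Commute y (S.t * S.Z e1 e2) → (∃ h, h * S.t * h⁻¹ = S.t * S.Z e1 e2 * y) →
      y ≠ 1 → S.IsA2 (g⁻¹ * y * g) := by
    intro y hy ⟨h, hh⟩ hy1
    have e : (g⁻¹ * h) * S.t * (g⁻¹ * h)⁻¹ = S.t * (g⁻¹ * y * g) := by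
      have : (g⁻¹ * h) * S.t * (g⁻¹ * h)⁻¹ = g⁻¹ * (h * S.t * h⁻¹) * g := by group
      rw [this, hh, ← hg]
      group
    have hc : Commute ((g⁻¹ * h) * S.t * (g⁻¹ * h)⁻¹) S.t := by
      rw [e]
      have h2 : Commute (g⁻¹ * y * g) S.t := by
        rw [← hg] at hy
        unfold Commute SemiconjBy at hy ⊢
        calc g⁻¹ * y * g * S.t = g⁻¹ * (y * (g * S.t * g⁻¹)) * g := by group
          _ = g⁻¹ * (g * S.t * g⁻¹ * y) * g := by rw [hy]
          _ = S.t * (g⁻¹ * y * g) := by group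
      exact (Commute.refl S.t).mul_left h2
    rcases S.D2 _ hc with h3 | ⟨z, hz, h3⟩
    · exfalso
      rw [e] at h3
      have h4 : g⁻¹ * y * g = 1 := mul_left_cancel (h3.trans (mul_one S.t).symm)
      apply hy1
      calc y = g * (g⁻¹ * y * g) * g⁻¹ := by group
        _ = 1 := by rw [h4]; group
    · rw [e] at h3
      have h4 := mul_left_cancel h3
      rw [h4]
      exact hz
  have conj3 : ∀ c1 c2 c3 : Bool, S.zw c1 c2 c3 ≠ 1 → S.IsA2 (g⁻¹ * S.zw c1 c2 c3 * g) := by
    intro c1 c2 c3 h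
    refine conj2 _ (((S.CZ_t.mul S S.CZ_12).zw S c1 c2 c3).symm) ?_ h
    rw [mul_assoc, S.Z12_mul]
    exact S.zw_D _ _ _
  have n1 := (show S.IsA2 (S.Z e1 e2) from ⟨_, _, line12, rfl⟩)
  have n2 := (show S.IsA2 (S.Z e1 e3) from ⟨_, _, line13, rfl⟩)
  have n3 := (show S.IsA2 (S.Z e2 e3) from ⟨_, _, line23, rfl⟩)
  have hne : ∀ i j : Fin 8, Line (wv i) (wv j) → S.zw (pl12 i j) (pl13 i j) (pl23 i j) ≠ 1 := by
    intro i j hl
    rw [← S.Z_wv]
    exact (show S.IsA2 (S.Z (wv i) (wv j)) from ⟨_, _, hl, rfl⟩).ne_one S.toSix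
  have r1 : S.zw true false false = S.Z e1 e2 := by
    change S.Z e1 e2 * (1 * 1) = _
    rw [mul_one, mul_one]
  have r2 : S.zw false true false = S.Z e1 e3 := by
    change 1 * (S.Z e1 e3 * 1) = _
    rw [mul_one, one_mul]
  have r3 : S.zw false false true = S.Z e2 e3 := by
    change 1 * (1 * S.Z e2 e3) = _
    rw [one_mul, one_mul]
  have r4 : S.zw true true false = S.Z e1 e2 * S.Z e1 e3 := by
    change S.Z e1 e2 * (S.Z e1 e3 * 1) = _
    rw [mul_one]
  have r5 : S.zw true false true = S.Z e1 e2 * S.Z e2 e3 := by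
    change S.Z e1 e2 * (1 * S.Z e2 e3) = _
    rw [one_mul]
  have r6 : S.zw false true true = S.Z e1 e3 * S.Z e2 e3 := by
    change 1 * (S.Z e1 e3 * S.Z e2 e3) = _
    rw [one_mul]
  have r7 : S.zw true true true = S.Z e1 e2 * (S.Z e1 e3 * S.Z e2 e3) := rfl
  have a1 := conj3 true false false (hne 1 2 (by decide))
  have a2 := conj3 false true false (hne 1 4 (by decide))
  have a3 := conj3 false false true (hne 2 4 (by decide))
  have a4 := conj3 true true false (hne 1 6 (by decide))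
  have a5 := conj3 true false true (hne 2 5 (by decide))
  have a6 := conj3 false true true (hne 3 4 (by decide))
  have a7 := conj3 true true true (hne 3 5 (by decide))
  rw [r1] at a1
  rw [r2] at a2
  rw [r3] at a3
  rw [r4] at a4
  rw [r5] at a5
  rw [r6] at a6
  rw [r7] at a7
  have s4 : g⁻¹ * (S.Z e1 e2 * S.Z e1 e3) * g = (g⁻¹ * S.Z e1 e2 * g) * (g⁻¹ * S.Z e1 e3 * g) := by
    group
  have s5 : g⁻¹ * (S.Z e1 e2 * S.Z e2 e3) * g = (g⁻¹ * S.Z e1 e2 * g) * (g⁻¹ * S.Z e2 e3 * g) := by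
    group
  have s6 : g⁻¹ * (S.Z e1 e3 * S.Z e2 e3) * g = (g⁻¹ * S.Z e1 e3 * g) * (g⁻¹ * S.Z e2 e3 * g) := by
    group
  have s7 : g⁻¹ * (S.Z e1 e2 * (S.Z e1 e3 * S.Z e2 e3)) * g =
      (g⁻¹ * S.Z e1 e2 * g) * ((g⁻¹ * S.Z e1 e3 * g) * (g⁻¹ * S.Z e2 e3 * g)) := by
    group
  rw [s4] at a4
  rw [s5] at a5
  rw [s6] at a6
  rw [s7] at a7
  obtain ⟨k, hk, k1, k2, k3⟩ := S.triple a1 a2 a3 a4 a5 a6 a7
  have hx : ∀ y, k * y * k⁻¹ = g⁻¹ * y * g → Commute (g * k) y := by
    intro y hy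
    unfold Commute SemiconjBy
    calc g * k * y = g * (k * y * k⁻¹) * k := by group
      _ = y * (g * k) := by rw [hy]; group
  refine ⟨g * k, ⟨hx _ k1, hx _ k2, hx _ k3⟩, ?_⟩
  have : g * k * S.t * (g * k)⁻¹ = g * (k * S.t * k⁻¹) * g⁻¹ := by group
  rw [this, (S.comm k hk).eq, mul_inv_cancel_right, hg]

end Std

end Cfsg.Agent.StdSpSix.PatTwo
end

-- part: StdSpSix/PatTwoK
section
/-!
Pattern `{a2}`: an element centralising `Λ² W` and moving `t` inside `t Λ² W` centralises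
all transvections with centre in `W`.
-/

set_option autoImplicit false

namespace Cfsg.Agent.StdSpSix.PatTwo

open V

namespace Std

open Six

variable {G : Type*} [Group G] (S : Std G)

theorem XW.conj {z x k : G} (hx : S.XW z x) (hk : S.StW k) : S.XW (k * z * k⁻¹) (k * x * k⁻¹) := by
  refine ⟨hk.conj_CZ S hx.cz, ?_⟩
  have h1 : k⁻¹ * S.t = S.t * k⁻¹ := (S.comm _ (S.L.inv_mem hk.mem)).eq
  have h2 : k * S.t = S.t * k := (S.comm _ hk.mem).eq
  calc k * x * k⁻¹ * S.t * (k * x * k⁻¹)⁻¹ = k * x * (k⁻¹ * S.t) * k * x⁻¹ * k⁻¹ := by group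
    _ = k * (x * S.t * x⁻¹) * k⁻¹ := by rw [h1]; group
    _ = (k * S.t) * z * k⁻¹ := by rw [hx.ht]; group
    _ = S.t * (k * z * k⁻¹) := by rw [h2]; group

theorem XW.coset {z x x' : G} (hx : S.XW z x) (hx' : S.XW z x') (i : Fin 8) :
    x * S.T (wv i) * x⁻¹ = x' * S.T (wv i) * x'⁻¹ := by
  have h1 : Commute (x'⁻¹ * x) S.t := by
    unfold Commute SemiconjBy
    calc x'⁻¹ * x * S.t = x'⁻¹ * (x * S.t * x⁻¹) * x := by group
      _ = x'⁻¹ * (x' * S.t * x'⁻¹) * x := by rw [hx.ht, hx'.ht]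
      _ = S.t * (x'⁻¹ * x) := by group
  obtain ⟨c, a, ha, h2⟩ := S.aw_of ((hx'.cz.inv S).mul S hx.cz) h1
  have h3 : Commute (x'⁻¹ * x) (S.T (wv i)) := by
    rw [h2]
    refine Commute.mul_left ?_ (ha.comm_T S.toSix i)
    exact (commute_pw (S.comm _ (S.T_mem _)) c).symm
  calc x * S.T (wv i) * x⁻¹ = x' * ((x'⁻¹ * x) * S.T (wv i)) * x⁻¹ := by group
    _ = x' * S.T (wv i) * x'⁻¹ := by rw [h3.eq]; group

theorem XW.inv_ht {x : G} {i j : Fin 8} (hx : S.XW (S.Z (wv i) (wv j)) x) :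
    x⁻¹ * S.t * x = S.t * S.Z (wv i) (wv j) := by
  have h1 := (hx.cz.all S i j).eq
  have h2 := S.Z_sq (form_wv i j)
  have h3 : x * S.t = S.t * S.Z (wv i) (wv j) * x := by rw [← hx.ht]; group
  calc x⁻¹ * S.t * x = x⁻¹ * (S.t * S.Z (wv i) (wv j) * x) * (x⁻¹ * (S.Z (wv i) (wv j))⁻¹ * x) := by
        group
    _ = S.t * (x⁻¹ * (S.Z (wv i) (wv j))⁻¹ * x) := by rw [← h3]; group
    _ = S.t * (S.Z (wv i) (wv j)) := by
        rw [S.Z_inv (form_wv i j), mul_assoc x⁻¹, ← h1]
        group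

theorem XW.E {x : G} {i j : Fin 8} (hx : S.XW (S.Z (wv i) (wv j)) x) (l : Fin 8) :
    S.CZ (x * S.T (wv l) * x⁻¹) ∧ Commute (x * S.T (wv l) * x⁻¹) S.t := by
  refine ⟨(hx.cz.mul S (S.CZ_T l)).mul S (hx.cz.inv S), ?_⟩
  have h1 : Commute (S.T (wv l)) (S.t * S.Z (wv i) (wv j)) :=
    (S.comm _ (S.T_mem _)).mul_right ((S.CZ_T l).all S i j)
  have h2 := hx.inv_ht S
  unfold Commute SemiconjBy at h1 ⊢
  calc x * S.T (wv l) * x⁻¹ * S.t = x * (S.T (wv l) * (x⁻¹ * S.t * x)) * x⁻¹ := by group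
    _ = x * (x⁻¹ * S.t * x * S.T (wv l)) * x⁻¹ := by rw [h2, h1]
    _ = S.t * (x * S.T (wv l) * x⁻¹) := by group

theorem XW.sq_comm {x : G} {i j : Fin 8} (hx : S.XW (S.Z (wv i) (wv j)) x) (l : Fin 8) :
    x * (x * S.T (wv l) * x⁻¹) * x⁻¹ = S.T (wv l) := by
  have h1 := hx.inv_ht S
  have h2 : Commute (x * x) S.t := by
    have h3 : x * S.t * x⁻¹ = x⁻¹ * S.t * x := by rw [hx.ht, h1]
    unfold Commute SemiconjBy
    calc x * x * S.t = x * (x * S.t * x⁻¹) * x := by group
      _ = x * (x⁻¹ * S.t * x) * x := by rw [h3]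
      _ = S.t * (x * x) := by group
  obtain ⟨c, a, ha, h4⟩ := S.aw_of (hx.cz.mul S hx.cz) h2
  have h5 : Commute (x * x) (S.T (wv l)) := by
    rw [h4]
    exact Commute.mul_left (commute_pw (S.comm _ (S.T_mem _)) c).symm (ha.comm_T S.toSix l)
  calc x * (x * S.T (wv l) * x⁻¹) * x⁻¹ = (x * x * S.T (wv l)) * (x * x)⁻¹ := by group
    _ = S.T (wv l) := by rw [h5.eq]; group

theorem XW.core {x : G} (hx : S.XW (S.Z e1 e2) x) {l : Fin 8} (h1 : S.T (wv l) ≠ 1)
    (h2 : S.T (wv l) ≠ S.Z e1 e2) {c d e : Bool}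
    (h : x * S.T (wv l) * x⁻¹ = pw c S.t * (pw d (S.T (wv l)) * pw e (S.Z e1 e2))) :
    x * S.T (wv l) * x⁻¹ = S.T (wv l) * pw e (S.Z e1 e2) := by
  have w1 : e1 = wv 1 := by decide
  have w2 : e2 = wv 2 := by decide
  have hx' : S.XW (S.Z (wv 1) (wv 2)) x := by rw [← w1, ← w2]; exact hx
  have hinv := hx'.inv_ht S
  have hsq := hx'.sq_comm S l
  rw [← w1, ← w2] at hinv
  have hZ := hx.cz.h1.eq
  have hTl := S.T_mem (wv l)
  have hZm := S.Z_mem e1 e2
  cases d
  · exfalso
    rw [pw_false, one_mul] at h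
    have h3 : S.T (wv l) = x⁻¹ * (pw c S.t * pw e (S.Z e1 e2)) * x := by rw [← h]; group
    have h4 : x⁻¹ * (pw c S.t * pw e (S.Z e1 e2)) * x =
        pw c (S.t * S.Z e1 e2) * pw e (S.Z e1 e2) := by
      have h5 : x⁻¹ * S.Z e1 e2 * x = S.Z e1 e2 := by
        rw [mul_assoc, ← hZ]; group
      cases c <;> cases e
      · simp [pw_false]
      · simp only [pw_false, pw_true, one_mul]; exact h5
      · simp only [pw_false, pw_true, mul_one]; exact hinv
      · simp only [pw_true]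
        calc x⁻¹ * (S.t * S.Z e1 e2) * x = (x⁻¹ * S.t * x) * (x⁻¹ * S.Z e1 e2 * x) := by group
          _ = S.t * S.Z e1 e2 * S.Z e1 e2 := by rw [hinv, h5]
    rw [h4] at h3
    cases c
    · rw [pw_false, one_mul] at h3
      cases e
      · exact h1 h3
      · exact h2 h3
    · apply S.tL
      have h6 : S.t = S.T (wv l) * (pw e (S.Z e1 e2))⁻¹ * (S.Z e1 e2)⁻¹ := by
        rw [h3, pw_true]; group
      rw [h6]
      exact S.L.mul_mem (S.L.mul_mem hTl (S.L.inv_mem (pw_mem hZm _))) (S.L.inv_mem hZm)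
  · cases c
    · rw [h]
      simp only [pw_false, pw_true, one_mul]
    · exfalso
      rw [pw_true, pw_true] at h
      rw [h] at hsq
      have h7 : x * (S.t * (S.T (wv l) * pw e (S.Z e1 e2))) * x⁻¹ =
          (x * S.t * x⁻¹) * (x * S.T (wv l) * x⁻¹) * (x * pw e (S.Z e1 e2) * x⁻¹) := by group
      have h8 : x * pw e (S.Z e1 e2) * x⁻¹ = pw e (S.Z e1 e2) := by
        rw [(commute_pw hx.cz.h1 e).eq, mul_inv_cancel_right]
      have hZ2 := S.Z_sq line12.1
      have hp2 : pw e (S.Z e1 e2) * pw e (S.Z e1 e2) = 1 := by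
        cases e
        · rw [pw_false, mul_one]
        · exact hZ2
      have ht := (S.comm _ hZm).eq
      rw [h7, h8, hx.ht, h] at hsq
      have h9 : S.t * S.Z e1 e2 * (S.t * (S.T (wv l) * pw e (S.Z e1 e2))) * pw e (S.Z e1 e2) =
          S.t * (S.Z e1 e2 * S.t) * S.T (wv l) * (pw e (S.Z e1 e2) * pw e (S.Z e1 e2)) := by group
      rw [h9, hp2, mul_one, ht, ← mul_assoc, S.tt, one_mul] at hsq
      have h10 : S.Z e1 e2 = 1 := mul_right_cancel (hsq.trans (one_mul _).symm)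
      exact (show S.IsA2 (S.Z e1 e2) from ⟨_, _, line12, rfl⟩).ne_one S.toSix h10

theorem comm_k {x k : G} (hx : S.XW (S.Z e1 e2) x) (hk : S.StW k)
    (hkz : k * S.Z e1 e2 * k⁻¹ = S.Z e1 e2) {l : Fin 8} (hkv : S.act k (wv l) = wv l) {c : Bool} {a : G}
    (h : x * S.T (wv l) * x⁻¹ = pw c S.t * a) : a * k = k * a := by
  have h1 := hx.conj S hk
  rw [hkz] at h1
  have h2 := h1.coset S hx l
  have h3 : k * x * k⁻¹ * S.T (wv l) * (k * x * k⁻¹)⁻¹ = k * (x * S.T (wv l) * x⁻¹) * k⁻¹ := by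
    have h4 : k⁻¹ * S.T (wv l) * k = S.T (wv l) := by
      have := (S.T_comm_of_act hk.mem hkv)
      rw [mul_assoc, ← this]; group
    calc k * x * k⁻¹ * S.T (wv l) * (k * x * k⁻¹)⁻¹ = k * x * (k⁻¹ * S.T (wv l) * k) * x⁻¹ * k⁻¹ := by
          group
      _ = k * (x * S.T (wv l) * x⁻¹) * k⁻¹ := by rw [h4]; group
  rw [h3, h] at h2
  have h5 : Commute k (pw c S.t) := commute_pw (S.comm _ hk.mem) c
  have h6 : pw c S.t * (k * a * k⁻¹) = pw c S.t * a := by
    rw [← h2, ← mul_assoc, ← mul_assoc, ← h5.eq]; group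
  have h7 := mul_left_cancel h6
  calc a * k = (k * a * k⁻¹) * k := by rw [h7]
    _ = k * a := by group

/-! ### Some elements stabilising the plane -/

theorem frame {i j l : Fin 8} (h : Plane (wv i) (wv j) (wv l)) :
    ∃ k, S.StW k ∧ S.act k e1 = wv i ∧ S.act k e2 = wv j ∧ S.act k e3 = wv l := by
  obtain ⟨k, hk, h1, h2, h3⟩ := S.witt3 h
  refine ⟨k, ⟨hk, fun m => ?_⟩, h1, h2, h3⟩
  have h4 : S.act k (wv m) = sm (m.val.testBit 0) (wv i) + sm (m.val.testBit 1) (wv j) +
      sm (m.val.testBit 2) (wv l) := by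
    conv_lhs => unfold wv
    rw [S.act_add k hk, S.act_add k hk, S.act_sm hk, S.act_sm hk, S.act_sm hk, h1, h2, h3]
  rw [h4]
  have k0 : ∀ (a : Bool) (i : Fin 8), ∃ j, sm a (wv i) = wv j := by decide +kernel
  have k1 : ∀ i j : Fin 8, ∃ l, wv i + wv j = wv l := by decide +kernel
  obtain ⟨i', hi⟩ := k0 (m.val.testBit 0) i
  obtain ⟨j', hj⟩ := k0 (m.val.testBit 1) j
  obtain ⟨l', hl⟩ := k0 (m.val.testBit 2) l
  obtain ⟨n, hn⟩ := k1 i' j'
  rw [hi, hj, hl, hn]
  exact k1 n l'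

theorem stW_Z {a c : V} (h0 : form a c = false) (h : ∀ i : Fin 8, ∃ j : Fin 8, zf a c (wv i) = wv j) :
    S.StW (S.Z a c) := ⟨S.Z_mem _ _, fun i => by rw [S.act_Z h0]; exact h i⟩

theorem XW.flag0 {x : G} (hx : S.XW (S.Z e1 e2) x) :
    ∃ d, x * S.T e1 * x⁻¹ = S.T e1 * pw d (S.Z e1 e2) := by
  have w1 : e1 = wv 1 := by decide
  have w2 : e2 = wv 2 := by decide
  have hx' : S.XW (S.Z (wv 1) (wv 2)) x := by rw [← w1, ← w2]; exact hx
  obtain ⟨q1, q2⟩ := hx'.E S 1
  obtain ⟨c, a, ha, h⟩ := S.aw_of q1 q2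
  have c1 : a * S.Z e1 f2 = S.Z e1 f2 * a := by
    refine S.comm_k hx (S.stW_Z (by decide) (by decide +kernel)) ?_ (l := 1) ?_ h
    · rw [S.conj_Z (S.Z_mem _ _), S.act_Z (by decide), S.act_Z (by decide)]
      exact S.Y_e1 (u := e2) (by decide)
    · rw [S.act_Z (by decide)]; decide
  have c2 : a * S.Z e1 f3 = S.Z e1 f3 * a := by
    refine S.comm_k hx (S.stW_Z (by decide) (by decide +kernel)) ?_ (l := 1) ?_ h
    · rw [S.conj_Z (S.Z_mem _ _), S.act_Z (by decide), S.act_Z (by decide)]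
      rfl
    · rw [S.act_Z (by decide)]; decide
  have c3 : a * S.Z e2 f3 = S.Z e2 f3 * a := by
    refine S.comm_k hx (S.stW_Z (by decide) (by decide +kernel)) ?_ (l := 1) ?_ h
    · rw [S.conj_Z (S.Z_mem _ _), S.act_Z (by decide), S.act_Z (by decide)]
      rfl
    · rw [S.act_Z (by decide)]; decide
  obtain ⟨d, e, hde⟩ := ha.flag S.toSix c1 c2 c3
  rw [hde] at h
  refine ⟨e, ?_⟩
  have h1 : S.T (wv 1) ≠ 1 := by
    rw [← S.T_zero]
    intro h0
    exact absurd (S.T_injective h0) (by decide)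
  have h2 : S.T (wv 1) ≠ S.Z e1 e2 := by
    intro h0
    have h3 : S.act (S.T (wv 1)) f1 = S.act (S.Z e1 e2) f1 := by rw [h0]
    rw [S.act_T, S.act_Z (by decide)] at h3
    exact absurd h3 (by decide)
  have := hx.core S h1 h2 (by rw [h, ← w1])
  rw [← w1] at this
  exact this

theorem T_wv_ne (l : Fin 8) (h : wv l ≠ 0) : S.T (wv l) ≠ 1 := by
  rw [← S.T_zero]
  intro h0
  exact h (S.T_injective h0)

theorem XW.flag12 {x : G} (hx : S.XW (S.Z e1 e2) x) : Commute x (S.T e1) := by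
  have w1 : e1 = wv 1 := by decide
  have w2 : e2 = wv 2 := by decide
  have w3 : e1 + e2 = wv 3 := by decide
  obtain ⟨d, hd⟩ := hx.flag0 S
  -- the same exponent at the other points of the line
  have key : ∀ i j : Fin 8, Plane (wv i) (wv j) (wv 4) → S.Z (wv i) (wv j) = S.Z e1 e2 →
      x * S.T (wv i) * x⁻¹ = S.T (wv i) * pw d (S.Z e1 e2) := by
    intro i j hpl hz
    obtain ⟨k, hk, k1, k2, -⟩ := S.frame hpl
    have hkz : k * S.Z e1 e2 * k⁻¹ = S.Z e1 e2 := by
      rw [S.conj_Z hk.mem, k1, k2, hz]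
    have h1 := hx.conj S hk
    rw [hkz] at h1
    rw [← h1.coset S hx i]
    have h2 : S.T (wv i) = k * S.T e1 * k⁻¹ := by rw [S.conj_T hk.mem, k1]
    rw [h2]
    calc k * x * k⁻¹ * (k * S.T e1 * k⁻¹) * (k * x * k⁻¹)⁻¹ = k * (x * S.T e1 * x⁻¹) * k⁻¹ := by group
      _ = k * S.T e1 * k⁻¹ * (k * pw d (S.Z e1 e2) * k⁻¹) := by rw [hd]; group
      _ = k * S.T e1 * k⁻¹ * pw d (S.Z e1 e2) := by
        congr 1
        cases d
        · rw [pw_false]; group
        · exact hkz
  have k2 := key 2 1 (by decide) (by rw [← w1, ← w2]; exact S.Z_comm' (by decide))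
  have k3 := key 3 1 (by decide) (by
    rw [← w1, ← w3]
    exact S.Z_line line12 (by decide) (by decide) (by decide))
  rw [← w2] at k2
  rw [← w3] at k3
  cases d
  · rw [pw_false, mul_one] at hd
    unfold Commute SemiconjBy
    calc x * S.T e1 = x * S.T e1 * x⁻¹ * x := by group
      _ = S.T e1 * x := by rw [hd]
  · exfalso
    rw [pw_true] at hd k2 k3
    have h1 : x * S.Z e1 e2 * x⁻¹ = S.Z e1 e2 := by rw [hx.cz.h1.eq, mul_inv_cancel_right]
    have h2 : x * S.Z e1 e2 * x⁻¹ = (x * S.T e1 * x⁻¹) * (x * S.T e2 * x⁻¹) * (x * S.T (e1 + e2) * x⁻¹) := by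
      unfold Six.Z
      group
    have hZ2 := S.Z_sq line12.1
    have c1 : Commute (S.Z e1 e2) (S.T e2) := (S.T_comm_Z (by decide) (by decide)).symm
    have c2 : Commute (S.Z e1 e2) (S.T (e1 + e2)) := (S.T_comm_Z (by decide) (by decide)).symm
    rw [hd, k2, k3] at h2
    have h3 : S.T e1 * S.Z e1 e2 * (S.T e2 * S.Z e1 e2) * (S.T (e1 + e2) * S.Z e1 e2) =
        S.T e1 * S.T e2 * S.T (e1 + e2) * (S.Z e1 e2 * S.Z e1 e2 * S.Z e1 e2) := by
      calc S.T e1 * S.Z e1 e2 * (S.T e2 * S.Z e1 e2) * (S.T (e1 + e2) * S.Z e1 e2) =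
          S.T e1 * (S.Z e1 e2 * S.T e2) * S.Z e1 e2 * S.T (e1 + e2) * S.Z e1 e2 := by group
        _ = S.T e1 * S.T e2 * (S.Z e1 e2 * S.Z e1 e2) * S.T (e1 + e2) * S.Z e1 e2 := by
          rw [c1.eq]; group
        _ = S.T e1 * S.T e2 * S.T (e1 + e2) * (S.Z e1 e2 * S.Z e1 e2 * S.Z e1 e2) := by
          rw [hZ2]; group
    have h4 : S.T e1 * S.T e2 * S.T (e1 + e2) = S.Z e1 e2 := rfl
    rw [h3, hZ2, one_mul, h4, hZ2, h1] at h2
    exact (show S.IsA2 (S.Z e1 e2) from ⟨_, _, line12, rfl⟩).ne_one S.toSix h2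

theorem XW.flag {x : G} {i j : Fin 8} (hl : Line (wv i) (wv j)) (hx : S.XW (S.Z (wv i) (wv j)) x) :
    Commute x (S.T (wv i)) := by
  have : ∃ l : Fin 8, Plane (wv i) (wv j) (wv l) := by
    revert i j
    intro i j hl _
    clear * - hl
    revert i j
    decide +kernel
  obtain ⟨l, hpl⟩ := this
  obtain ⟨k, hk, k1, k2, -⟩ := S.frame hpl
  have h1 := hx.conj S (hk.inv S)
  rw [inv_inv] at h1
  have h2 : k⁻¹ * S.Z (wv i) (wv j) * k = S.Z e1 e2 := by
    rw [← k1, ← k2, ← S.conj_Z hk.mem]; group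
  rw [h2] at h1
  have h3 := (h1.flag12 S).eq
  have h4 : S.T (wv i) = k * S.T e1 * k⁻¹ := by rw [S.conj_T hk.mem, k1]
  unfold Commute SemiconjBy
  rw [h4]
  calc x * (k * S.T e1 * k⁻¹) = k * (k⁻¹ * x * k * S.T e1) * k⁻¹ := by group
    _ = k * S.T e1 * k⁻¹ * x := by rw [h3]; group

theorem XW.anti0 {x : G} (hx : S.XW (S.Z e1 e2) x) :
    ∃ d, x * S.T e3 * x⁻¹ = S.T e3 * pw d (S.Z e1 e2) := by
  have w1 : e1 = wv 1 := by decide
  have w2 : e2 = wv 2 := by decide
  have w3 : e3 = wv 4 := by decide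
  have hx' : S.XW (S.Z (wv 1) (wv 2)) x := by rw [← w1, ← w2]; exact hx
  obtain ⟨q1, q2⟩ := hx'.E S 4
  obtain ⟨c, a, ha, h⟩ := S.aw_of q1 q2
  have c1 : a * S.Z e1 f2 = S.Z e1 f2 * a := by
    refine S.comm_k hx (S.stW_Z (by decide) (by decide +kernel)) ?_ (l := 4) ?_ h
    · rw [S.conj_Z (S.Z_mem _ _), S.act_Z (by decide), S.act_Z (by decide)]
      exact S.Y_e1 (u := e2) (by decide)
    · rw [S.act_Z (by decide)]; decide
  have c2 : a * S.Z e2 f1 = S.Z e2 f1 * a := by
    refine S.comm_k hx (S.stW_Z (by decide) (by decide +kernel)) ?_ (l := 4) ?_ h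
    · rw [S.conj_Z (S.Z_mem _ _), S.act_Z (by decide), S.act_Z (by decide)]
      exact S.Z_line line12 (by decide) (by decide) (by decide)
    · rw [S.act_Z (by decide)]; decide
  obtain ⟨d, e, hde⟩ := ha.anti S.toSix c1 c2
  rw [hde] at h
  refine ⟨e, ?_⟩
  have h1 : S.T (wv 4) ≠ 1 := S.T_wv_ne 4 (by decide)
  have h2 : S.T (wv 4) ≠ S.Z e1 e2 := by
    intro h0
    have h3 : S.act (S.T (wv 4)) f1 = S.act (S.Z e1 e2) f1 := by rw [h0]
    rw [S.act_T, S.act_Z (by decide)] at h3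
    exact absurd h3 (by decide)
  have := hx.core S h1 h2 (by rw [h, ← w3])
  rw [← w3] at this
  exact this

theorem XW.anti12 {x : G} (hx : S.XW (S.Z e1 e2) x) : Commute x (S.T e3) := by
  have w1 : e1 = wv 1 := by decide
  have w3 : e3 = wv 4 := by decide
  have w6 : e2 + e3 = wv 6 := by decide
  obtain ⟨d, hd⟩ := hx.anti0 S
  -- an element for the line `⟨e1, e3⟩`
  obtain ⟨k, hk, k1, k2, k3⟩ := S.frame (show Plane (wv 1) (wv 4) (wv 2) by decide)
  have hy := hx.conj S hk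
  rw [S.conj_Z hk.mem, k1, k2] at hy
  have hy' : S.XW (S.Z (wv 4) (wv 1)) (k * x * k⁻¹) := by
    rw [S.Z_comm' (form_wv 4 1)]; exact hy
  have h1 : Commute (k * x * k⁻¹) (S.T (wv 4)) := hy'.flag S (by decide)
  set y := k * x * k⁻¹ with hydef
  -- the product
  have hm : S.Z e1 e2 * S.Z e1 e3 = S.Z (wv 1) (wv 6) := by
    rw [S.Y_mul (by decide) (by decide), show V.form e2 e3 = false by decide, pw_false, mul_one,
      ← w1, ← w6]
  have hxy : S.XW (S.Z (wv 1) (wv 6)) (x * y) := by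
    refine ⟨hx.cz.mul S hy.cz, ?_⟩
    rw [← w1, ← w3] at hy
    calc x * y * S.t * (x * y)⁻¹ = x * (y * S.t * y⁻¹) * x⁻¹ := by group
      _ = (x * S.t * x⁻¹) * (x * S.Z e1 e3 * x⁻¹) := by rw [hy.ht]; group
      _ = S.t * S.Z (wv 1) (wv 6) := by
        rw [hx.ht, hx.cz.h2.eq, mul_inv_cancel_right, ← hm, mul_assoc]
  obtain ⟨m, hm', m1, m2, m3⟩ := S.frame (show Plane (wv 1) (wv 6) (wv 4) by decide)
  have hz := hx.conj S hm'
  rw [S.conj_Z hm'.mem, m1, m2] at hz
  have h2 := hz.coset S hxy 4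
  have h3 : m * x * m⁻¹ * S.T (wv 4) * (m * x * m⁻¹)⁻¹ = S.T (wv 4) * pw d (S.Z (wv 1) (wv 6)) := by
    have h4 : S.T (wv 4) = m * S.T e3 * m⁻¹ := by rw [S.conj_T hm'.mem, m3]
    have h5 : m * pw d (S.Z e1 e2) * m⁻¹ = pw d (S.Z (wv 1) (wv 6)) := by
      cases d
      · rw [pw_false, pw_false]; group
      · rw [pw_true, pw_true, S.conj_Z hm'.mem, m1, m2]
    rw [h4]
    calc m * x * m⁻¹ * (m * S.T e3 * m⁻¹) * (m * x * m⁻¹)⁻¹ = m * (x * S.T e3 * x⁻¹) * m⁻¹ := by group
      _ = m * S.T e3 * m⁻¹ * (m * pw d (S.Z e1 e2) * m⁻¹) := by rw [hd]; group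
      _ = _ := by rw [h5]
  have h6 : x * y * S.T (wv 4) * (x * y)⁻¹ = S.T (wv 4) * pw d (S.Z e1 e2) := by
    calc x * y * S.T (wv 4) * (x * y)⁻¹ = x * (y * S.T (wv 4)) * y⁻¹ * x⁻¹ := by group
      _ = x * S.T (wv 4) * x⁻¹ := by rw [h1.eq]; group
      _ = _ := by rw [← w3, hd]
  rw [h3, h6] at h2
  have h7 := mul_left_cancel h2
  cases d
  · rw [pw_false, mul_one] at hd
    unfold Commute SemiconjBy
    calc x * S.T e3 = x * S.T e3 * x⁻¹ * x := by group
      _ = S.T e3 * x := by rw [hd]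
  · exfalso
    rw [pw_true, pw_true, ← hm] at h7
    have h8 : S.Z e1 e3 = 1 := mul_left_cancel (h7.trans (mul_one _).symm)
    exact (show S.IsA2 (S.Z e1 e3) from ⟨_, _, line13, rfl⟩).ne_one S.toSix h8

theorem T_add_of {x : G} {a c : V} (h0 : form a c = false) (h : Commute x (S.Z a c))
    (ha : Commute x (S.T a)) (hc : Commute x (S.T c)) : Commute x (S.T (a + c)) := by
  have : S.T (a + c) = (S.T a * S.T c)⁻¹ * S.Z a c := by
    unfold Six.Z
    group
  rw [this]
  exact ((ha.mul_right hc).inv_right).mul_right h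

theorem XW.comm12 {x : G} (hx : S.XW (S.Z e1 e2) x) (l : Fin 8) : Commute x (S.T (wv l)) := by
  have t1 := hx.flag12 S
  have t4 := hx.anti12 S
  have t2 : Commute x (S.T e2) := by
    have w1 : e1 = wv 1 := by decide
    have w2 : e2 = wv 2 := by decide
    have h : S.XW (S.Z (wv 2) (wv 1)) x := by
      rw [S.Z_comm' (form_wv 2 1), ← w1, ← w2]; exact hx
    have := h.flag S (by decide)
    rwa [← w2] at this
  have t3 : Commute x (S.T (e1 + e2)) := S.T_add_of (by decide) hx.cz.h1 t1 t2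
  have t5 : Commute x (S.T (e1 + e3)) := S.T_add_of (by decide) hx.cz.h2 t1 t4
  have t6 : Commute x (S.T (e2 + e3)) := S.T_add_of (by decide) hx.cz.h3 t2 t4
  have t7 : Commute x (S.T (e1 + (e2 + e3))) := by
    refine S.T_add_of (by decide) ?_ t1 t6
    have w1 : e1 = wv 1 := by decide
    have w6 : e2 + e3 = wv 6 := by decide
    rw [w1, w6]
    exact hx.cz.all S 1 6
  fin_cases l
  · change Commute x (S.T (wv 0))
    rw [show wv 0 = 0 by decide, S.T_zero]
    exact Commute.one_right x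
  · change Commute x (S.T (wv 1))
    rw [show wv 1 = e1 by decide]; exact t1
  · change Commute x (S.T (wv 2))
    rw [show wv 2 = e2 by decide]; exact t2
  · change Commute x (S.T (wv 3))
    rw [show wv 3 = e1 + e2 by decide]; exact t3
  · change Commute x (S.T (wv 4))
    rw [show wv 4 = e3 by decide]; exact t4
  · change Commute x (S.T (wv 5))
    rw [show wv 5 = e1 + e3 by decide]; exact t5
  · change Commute x (S.T (wv 6))
    rw [show wv 6 = e2 + e3 by decide]; exact t6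
  · change Commute x (S.T (wv 7))
    rw [show wv 7 = e1 + (e2 + e3) by decide]; exact t7

theorem XW.comm_all {x : G} {c1 c2 c3 : Bool} (hx : S.XW (S.zw c1 c2 c3) x) (l : Fin 8) :
    Commute x (S.T (wv l)) := by
  rcases S.zw_line c1 c2 c3 with h | ⟨i, j, hl, h⟩
  · rw [h] at hx
    have h1 : Commute x S.t := by
      have := hx.ht
      rw [mul_one] at this
      unfold Commute SemiconjBy
      calc x * S.t = x * S.t * x⁻¹ * x := by group
        _ = S.t * x := by rw [this]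
    obtain ⟨c, a, ha, h4⟩ := S.aw_of hx.cz h1
    rw [h4]
    exact Commute.mul_left (commute_pw (S.comm _ (S.T_mem _)) c).symm (ha.comm_T S.toSix l)
  · rw [h] at hx
    have : ∃ m : Fin 8, Plane (wv i) (wv j) (wv m) := by
      clear * - hl
      revert i j
      decide +kernel
    obtain ⟨m, hpl⟩ := this
    obtain ⟨k, hk, k1, k2, -⟩ := S.frame hpl
    have h1 := hx.conj S (hk.inv S)
    rw [inv_inv] at h1
    have h2 : k⁻¹ * S.Z (wv i) (wv j) * k = S.Z e1 e2 := by
      rw [← k1, ← k2, ← S.conj_Z hk.mem]; group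
    rw [h2] at h1
    obtain ⟨l', hl'⟩ := (hk.inv S).h l
    have h3 := (h1.comm12 S l').eq
    have h4 : S.T (wv l) = k * S.T (wv l') * k⁻¹ := by
      rw [S.conj_T hk.mem, ← hl', S.act_act_inv hk.mem]
    unfold Commute SemiconjBy
    rw [h4]
    calc x * (k * S.T (wv l') * k⁻¹) = k * (k⁻¹ * x * k * S.T (wv l')) * k⁻¹ := by group
      _ = k * S.T (wv l') * k⁻¹ * x := by rw [h3]; group

end Std

end Cfsg.Agent.StdSpSix.PatTwo
end

-- part: StdSpSix/PatTwoR
section
/-!
Pattern `{a2}`: the normal subgroup `E1 = ⟨t⟩ × O_2(C_L(b))`, `b` a transvection, and the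
elements inducing translations on `D ∩ E1`.
-/

set_option autoImplicit false

namespace Cfsg.Agent.StdSpSix.PatTwo

open V

namespace Std

open Six

variable {G : Type*} [Group G] (S : Std G)

/-- Normal form of the elements of `E1`. -/
def em (c : Bool) (v : V) (d : Bool) : G := pw c S.t * (S.Z e1 v * pw d S.b)

theorem t_comm {g : G} (hg : g ∈ S.L) (c : Bool) : g * pw c S.t = pw c S.t * g :=
  (commute_pw (S.comm g hg) c).eq

theorem yb_mem (v : V) (d : Bool) : S.Z e1 v * pw d S.b ∈ S.L :=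
  S.L.mul_mem (S.Z_mem _ _) (pw_mem S.b_mem _)

theorem em_mul {v v' : V} (hv : InU v) (hv' : InU v') (c c' d d' : Bool) :
    S.em c v d * S.em c' v' d' = S.em (c ^^ c') (v + v') (d ^^ d' ^^ form v v') := by
  unfold em
  have h1 : pw d S.b * S.Z e1 v' = S.Z e1 v' * pw d S.b :=
    (commute_pw (show Commute (S.Z e1 v') S.b from (S.b_comm_Y hv'.perp).symm) d).eq.symm
  calc pw c S.t * (S.Z e1 v * pw d S.b) * (pw c' S.t * (S.Z e1 v' * pw d' S.b))
      = pw c S.t * ((S.Z e1 v * pw d S.b) * pw c' S.t) * (S.Z e1 v' * pw d' S.b) := by group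
    _ = pw c S.t * pw c' S.t * (S.Z e1 v * (pw d S.b * S.Z e1 v') * pw d' S.b) := by
        rw [S.t_comm (S.yb_mem v d)]; group
    _ = pw c S.t * pw c' S.t * ((S.Z e1 v * S.Z e1 v') * (pw d S.b * pw d' S.b)) := by
        rw [h1]; group
    _ = pw (c ^^ c') S.t * (S.Z e1 (v + v') * pw (d ^^ d' ^^ form v v') S.b) := by
        rw [S.Y_mul' hv hv', ← pw_xor S.tt, ← pw_xor S.b_sq, mul_assoc, ← pw_xor S.b_sq]
        congr 3
        cases d <;> cases d' <;> cases form v v' <;> rfl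

theorem em_zero : S.em false 0 false = 1 := by
  unfold em
  rw [pw_false, pw_false, S.Z_zero, one_mul, mul_one]

theorem inU_zero : InU 0 := by decide

theorem inU_sm {v : V} (h : InU v) (c : Bool) : InU (sm c v) := by
  cases c
  · exact inU_zero
  · exact h

theorem em_sq {v : V} (hv : InU v) (c d : Bool) : S.em c v d * S.em c v d = 1 := by
  rw [S.em_mul hv hv, aa, form_self, Bool.xor_self, Bool.xor_self, Bool.xor_false, S.em_zero]

theorem em_comm {v v' : V} (hv : InU v) (hv' : InU v') (c c' d d' : Bool) :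
    Commute (S.em c v d) (S.em c' v' d') := by
  unfold Commute SemiconjBy
  rw [S.em_mul hv hv', S.em_mul hv' hv, Bool.xor_comm c c', add_comm v, Bool.xor_comm d d',
    form_comm v v']

theorem em_inj {v v' : V} (hv : InU v) (hv' : InU v') {c c' d d' : Bool}
    (h : S.em c v d = S.em c' v' d') : c = c' ∧ v = v' ∧ d = d' := by
  have hc : c = c' := by
    unfold em at h
    cases c <;> cases c'
    · rfl
    · exfalso
      apply S.tL
      have : S.t = (S.Z e1 v * pw d S.b) * (S.Z e1 v' * pw d' S.b)⁻¹ := by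
        rw [pw_false, one_mul, pw_true] at h
        rw [h]; group
      rw [this]
      exact S.L.mul_mem (S.yb_mem _ _) (S.L.inv_mem (S.yb_mem _ _))
    · exfalso
      apply S.tL
      have : S.t = (S.Z e1 v' * pw d' S.b) * (S.Z e1 v * pw d S.b)⁻¹ := by
        rw [pw_false, one_mul, pw_true] at h
        rw [← h]; group
      rw [this]
      exact S.L.mul_mem (S.yb_mem _ _) (S.L.inv_mem (S.yb_mem _ _))
    · rfl
  subst hc
  have h2 := mul_left_cancel h
  cases d <;> cases d'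
  · rw [pw_false, mul_one, mul_one] at h2
    exact ⟨rfl, S.Y_inj hv hv' h2, rfl⟩
  · rw [pw_false, mul_one, pw_true] at h2
    exact absurd h2.symm (S.Y_b_ne hv' hv)
  · rw [pw_false, mul_one, pw_true] at h2
    exact absurd h2 (S.Y_b_ne hv hv')
  · rw [pw_true] at h2
    exact ⟨rfl, S.Y_inj hv hv' (mul_right_cancel h2), rfl⟩

/-- The subgroup `E1`. -/
def E1 : Subgroup G where
  carrier := {g | ∃ c v d, InU v ∧ g = S.em c v d}
  mul_mem' := by
    rintro _ _ ⟨c, v, d, hv, rfl⟩ ⟨c', v', d', hv', rfl⟩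
    exact ⟨_, _, _, hv.add hv', S.em_mul hv hv' _ _ _ _⟩
  one_mem' := ⟨false, 0, false, inU_zero, S.em_zero.symm⟩
  inv_mem' := by
    rintro _ ⟨c, v, d, hv, rfl⟩
    exact ⟨c, v, d, hv, inv_eq_of_mul_eq_one_right (S.em_sq hv c d)⟩

theorem em_mem {v : V} (hv : InU v) (c d : Bool) : S.em c v d ∈ S.E1 := ⟨c, v, d, hv, rfl⟩

theorem em_t : S.em true 0 false = S.t := by
  unfold em
  rw [pw_false, pw_true, S.Z_zero, one_mul, mul_one]

theorem em_b : S.em false 0 true = S.b := by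
  unfold em
  rw [pw_false, pw_true, S.Z_zero, one_mul, one_mul]

theorem em_Y (v : V) : S.em false v false = S.Z e1 v := by
  unfold em
  rw [pw_false, pw_false, one_mul, mul_one]

theorem em_tY (v : V) : S.em true v false = S.t * S.Z e1 v := by
  unfold em
  rw [pw_false, pw_true, mul_one]

theorem t_mem_E1 : S.t ∈ S.E1 := ⟨true, 0, false, inU_zero, S.em_t.symm⟩
theorem b_mem_E1 : S.b ∈ S.E1 := ⟨false, 0, true, inU_zero, S.em_b.symm⟩
theorem Y_mem_E1 {v : V} (hv : InU v) : S.Z e1 v ∈ S.E1 := ⟨false, v, false, hv, (S.em_Y v).symm⟩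

theorem E1_comm {x y : G} (hx : x ∈ S.E1) (hy : y ∈ S.E1) : Commute x y := by
  obtain ⟨c, v, d, hv, rfl⟩ := hx
  obtain ⟨c', v', d', hv', rfl⟩ := hy
  exact S.em_comm hv hv' _ _ _ _

theorem E1_sq {x : G} (hx : x ∈ S.E1) : x * x = 1 := by
  obtain ⟨c, v, d, hv, rfl⟩ := hx
  exact S.em_sq hv _ _

theorem E1_inv {x : G} (hx : x ∈ S.E1) : x⁻¹ = x := inv_eq_of_mul_eq_one_right (S.E1_sq hx)

/-- Elements commuting with `t` and `b` normalise `E1`. -/
theorem E1_norm {m : G} (h1 : Commute m S.t) (h2 : Commute m S.b) {y : G} (hy : y ∈ S.E1) :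
    m * y * m⁻¹ ∈ S.E1 := by
  obtain ⟨c, a, ha, rfl⟩ := S.cent' h1
  have h3 : Commute a S.b := by
    have h4 : Commute (pw c S.t) S.b := (commute_pw (S.comm _ S.b_mem) c).symm
    have := h4.inv_left.mul_left h2
    rwa [inv_mul_cancel_left] at this
  have h5 : S.act a e1 = e1 := S.act_of_T_comm ha h3.eq
  obtain ⟨c', v, d, hv, rfl⟩ := hy
  have hv' : form e1 (S.act a v) = false := by
    conv_lhs => rw [← h5]
    rw [S.act_form a ha, hv.perp]
  refine ⟨c', prj (S.act a v), d, inU_prj _ hv', ?_⟩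
  have h6 : a * S.Z e1 v = S.Z e1 (prj (S.act a v)) * a := by
    rw [S.Y_prj hv', S.mul_Z ha, h5]
  have h7 : a * pw d S.b = pw d S.b * a := (commute_pw h3 d).eq
  have h8 := S.t_comm ha c'
  have h9 := S.t_comm (S.L.mul_mem (S.yb_mem (prj (S.act a v)) d) (S.L.one_mem)) c
  unfold em
  calc pw c S.t * a * (pw c' S.t * (S.Z e1 v * pw d S.b)) * (pw c S.t * a)⁻¹
      = pw c S.t * (a * pw c' S.t) * (S.Z e1 v * pw d S.b) * a⁻¹ * (pw c S.t)⁻¹ := by group
    _ = pw c S.t * pw c' S.t * (a * S.Z e1 v) * pw d S.b * a⁻¹ * (pw c S.t)⁻¹ := by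
        rw [h8]; group
    _ = pw c S.t * pw c' S.t * S.Z e1 (prj (S.act a v)) * (a * pw d S.b) * a⁻¹ * (pw c S.t)⁻¹ := by
        rw [h6]; group
    _ = pw c S.t * pw c' S.t * ((S.Z e1 (prj (S.act a v)) * pw d S.b) * 1) * (pw c S.t)⁻¹ := by
        rw [h7]; group
    _ = pw c S.t * pw c' S.t * (pw c S.t)⁻¹ * ((S.Z e1 (prj (S.act a v)) * pw d S.b) * 1) := by
        have : (S.Z e1 (prj (S.act a v)) * pw d S.b) * 1 * (pw c S.t)⁻¹ =
            (pw c S.t)⁻¹ * ((S.Z e1 (prj (S.act a v)) * pw d S.b) * 1) := by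
          rw [eq_inv_mul_iff_mul_eq, ← mul_assoc, ← h9]; group
        rw [mul_assoc, this]; group
    _ = pw c' S.t * (S.Z e1 (prj (S.act a v)) * pw d S.b) := by
        rw [mul_one]
        cases c <;> cases c' <;> simp only [pw_true, pw_false] <;> group

theorem dec_e2 : ∀ v : V, InU v → form v e2 = false →
    ∃ a b c : Bool, v = sm a e2 + (sm b e3 + sm c f3) := by decide +kernel

theorem dec_T2 : ∀ v : V, InU v → zf e1 v f2 ≠ trf e2 f2 := by decide +kernel

theorem T2_notin : S.T e2 ∉ S.E1 := by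
  rintro ⟨c, v, d, hv, h⟩
  cases c
  · have h1 : S.act (S.T e2) f2 = S.act (S.em false v d) f2 := by rw [← h]
    unfold em at h1
    rw [pw_false, one_mul, S.act_mul _ (S.Z_mem _ _) _ (pw_mem S.b_mem _), S.act_pw, S.act_Z hv.perp,
      b, S.act_T, S.act_T] at h1
    apply dec_T2 v hv
    rw [h1]
    cases d
    · rfl
    · rfl
  · apply S.tL
    have : S.t = S.T e2 * (S.Z e1 v * pw d S.b)⁻¹ := by
      rw [h]; unfold em; rw [pw_true]; group
    rw [this]
    exact S.L.mul_mem (S.T_mem _) (S.L.inv_mem (S.yb_mem _ _))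

theorem Y_mem_of {H : Subgroup G} (hb : S.b ∈ H) {u v : V} (hu : InU u) (hv : InU v)
    (h1 : S.Z e1 u ∈ H) (h2 : S.Z e1 v ∈ H) : S.Z e1 (u + v) ∈ H := by
  have h := S.Y_mul' hu hv
  have : S.Z e1 (u + v) = S.Z e1 u * S.Z e1 v * (pw (form u v) S.b)⁻¹ := by
    rw [h]; group
  rw [this]
  exact H.mul_mem (H.mul_mem h1 h2) (H.inv_mem (pw_mem hb _))

theorem sm_mem {H : Subgroup G} {u : V} (h : S.Z e1 u ∈ H) (c : Bool) : S.Z e1 (sm c u) ∈ H := by
  cases c
  · rw [sm_false, S.Z_zero]; exact H.one_mem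
  · exact h

theorem x12_norm {x : G} (hx : S.XW (S.Z e1 e2) x) {y : G} (hy : y ∈ S.E1) :
    x * y * x⁻¹ ∈ S.E1 := by
  have w1 : e1 = wv 1 := by decide
  have w2 : e2 = wv 2 := by decide
  have hb : Commute x S.b := hx.flag12 S
  have hT2 : Commute x (S.T e2) := by
    rw [w2]; exact hx.comm12 S 2
  have hinv : x⁻¹ * S.t * x = S.t * S.Z e1 e2 := by
    have hx' : S.XW (S.Z (wv 1) (wv 2)) x := by rw [← w1, ← w2]; exact hx
    rw [hx'.inv_ht, ← w1, ← w2]
  let F : Subgroup G := S.E1.map (MulAut.conj x).toMonoidHom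
  have memF : ∀ z, z ∈ F ↔ x⁻¹ * z * x ∈ S.E1 := by
    intro z
    constructor
    · rintro ⟨a, ha, rfl⟩
      have : x⁻¹ * ((MulAut.conj x).toMonoidHom a) * x = a := by
        change x⁻¹ * (x * a * x⁻¹) * x = a
        group
      rw [this]; exact ha
    · intro h
      refine ⟨_, h, ?_⟩
      change x * (x⁻¹ * z * x) * x⁻¹ = z
      group
  have fixF : ∀ z, Commute x z → z ∈ S.E1 → z ∈ F := by
    intro z hz h
    rw [memF, mul_assoc, ← hz.eq, inv_mul_cancel_left]
    exact h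
  have i2 : InU e2 := by decide
  have i3 : InU e3 := by decide
  have i5 : InU f3 := by decide
  have F_t : S.t ∈ F := by
    rw [memF, hinv]
    exact S.E1.mul_mem S.t_mem_E1 (S.Y_mem_E1 i2)
  have F_b : S.b ∈ F := fixF _ hb S.b_mem_E1
  have F_2 : S.Z e1 e2 ∈ F := fixF _ hx.cz.h1 (S.Y_mem_E1 i2)
  have F_3 : S.Z e1 e3 ∈ F := fixF _ hx.cz.h2 (S.Y_mem_E1 i3)
  have F_comm : ∀ y ∈ F, ∀ z ∈ F, Commute y z := by
    intro y hy z hz
    rw [memF] at hy hz
    have h := (S.E1_comm hy hz).eq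
    unfold Commute SemiconjBy
    calc y * z = x * ((x⁻¹ * y * x) * (x⁻¹ * z * x)) * x⁻¹ := by group
      _ = z * y := by rw [h]; group
  have F_sq : ∀ y ∈ F, y * y = 1 := by
    intro y hy
    rw [memF] at hy
    have h := S.E1_sq hy
    calc y * y = x * ((x⁻¹ * y * x) * (x⁻¹ * y * x)) * x⁻¹ := by group
      _ = 1 := by rw [h]; group
  have F_5 : S.Z e1 f3 ∈ F := by
    -- conjugate by a transvection exchanging `e3` and `f3`
    have hk := S.T_mem (e3 + f3)
    have hkt := S.comm _ hk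
    have hkb : Commute (S.T (e3 + f3)) S.b := S.T_comm (by decide)
    have hkz : Commute (S.T (e3 + f3)) (S.Z e1 e2) := S.T_comm_Z (by decide) (by decide)
    have h1 : Commute (x⁻¹ * S.T (e3 + f3) * x) S.t := by
      have h2 : Commute (S.T (e3 + f3)) (x * S.t * x⁻¹) := by
        rw [hx.ht]; exact hkt.mul_right hkz
      have h3 := h2.eq
      unfold Commute SemiconjBy
      calc x⁻¹ * S.T (e3 + f3) * x * S.t = x⁻¹ * (S.T (e3 + f3) * (x * S.t * x⁻¹)) * x := by group
        _ = S.t * (x⁻¹ * S.T (e3 + f3) * x) := by rw [h3]; group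
    have h2 : Commute (x⁻¹ * S.T (e3 + f3) * x) S.b := (hb.inv_left.mul_left hkb).mul_left hb
    have h3 := S.E1_norm h1 h2 (S.Y_mem_E1 i3)
    rw [memF]
    have h4 : S.Z e1 f3 = S.T (e3 + f3) * S.Z e1 e3 * (S.T (e3 + f3))⁻¹ := by
      rw [S.conj_Z hk, S.act_T, S.act_T]; rfl
    have h5 : x⁻¹ * S.Z e1 f3 * x = x⁻¹ * S.T (e3 + f3) * x * S.Z e1 e3 * (x⁻¹ * S.T (e3 + f3) * x)⁻¹ := by
      have h6 : x * S.Z e1 e3 * x⁻¹ = S.Z e1 e3 := by rw [hx.cz.h2.eq, mul_inv_cancel_right]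
      rw [h4]
      conv_lhs => rw [← h6]
      group
    rw [h5]
    exact h3
  -- now the element
  have hy' : x * y * x⁻¹ ∈ F := by
    rw [memF]
    have : x⁻¹ * (x * y * x⁻¹) * x = y := by group
    rw [this]; exact hy
  set y' := x * y * x⁻¹ with hy'def
  obtain ⟨c, g, hg, hcg⟩ := S.cent' (F_comm _ hy' _ F_t)
  have gF : g ∈ F := by
    have : g = (pw c S.t)⁻¹ * y' := by rw [hcg]; group
    rw [this]
    exact F.mul_mem (F.inv_mem (pw_mem F_t _)) hy'
  rcases S.isA1_of_comm4 hg (F_comm _ gF _ F_b).eq (F_comm _ gF _ F_2).eq (F_comm _ gF _ F_3).eq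
    (F_comm _ gF _ F_5).eq with hA | hA
  · obtain ⟨v, hv, d, h1⟩ := hA.form
    rw [hcg, h1]
    exact S.em_mem hv c d
  · exfalso
    obtain ⟨v, hv, d, h1⟩ := hA.form
    -- `a = g * T e2` commutes with `T e2`
    have hTT := S.T_sq e2
    have hgg := F_sq _ gF
    set a := g * S.T e2 with ha
    have haE : a ∈ S.E1 := by rw [h1]; rw [← one_mul (S.Z e1 v * pw d S.b)]; exact S.em_mem hv false d
    have haa := S.E1_sq haE
    have hcomm : a * S.T e2 = S.T e2 * a := by
      have hg2 : g = a * S.T e2 := by rw [ha, mul_assoc, hTT, mul_one]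
      rw [hg2] at hgg
      have h2 : a * S.T e2 = (a * S.T e2)⁻¹ := eq_inv_of_mul_eq_one_left hgg
      rw [h2, mul_inv_rev, S.T_inv, S.E1_inv haE]
    have hve : form v e2 = false := by
      have h2 := S.act_of_T_comm (S.L.mul_mem hg (S.T_mem e2)) hcomm
      rw [← ha, h1, S.act_mul _ (S.Z_mem _ _) _ (pw_mem S.b_mem _), S.act_pw] at h2
      have h3 : (bif d then S.act S.b e2 else e2) = e2 := by
        rw [b, S.act_T]
        cases d
        · rfl
        · decide
      rw [h3, S.act_Z hv.perp] at h2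
      clear * - h2 hv
      revert v
      decide +kernel
    obtain ⟨k1, k2, k3, hv3⟩ := dec_e2 v hv hve
    have iu1 : InU (sm k1 e2) := inU_sm i2 _
    have iu2 : InU (sm k2 e3) := inU_sm i3 _
    have iu3 : InU (sm k3 f3) := inU_sm i5 _
    have iu : InU (sm k2 e3 + sm k3 f3) := iu2.add iu3
    have haF : a ∈ F := by
      rw [h1]
      refine F.mul_mem ?_ (pw_mem F_b _)
      rw [hv3]
      exact S.Y_mem_of F_b iu1 iu (S.sm_mem F_2 _) (S.Y_mem_of F_b iu2 iu3 (S.sm_mem F_3 _) (S.sm_mem F_5 _))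
    have hTF : S.T e2 ∈ F := by
      have : S.T e2 = g⁻¹ * a := by rw [ha]; group
      rw [this]
      exact F.mul_mem (F.inv_mem gF) haF
    rw [memF, mul_assoc, ← hT2.eq, inv_mul_cancel_left] at hTF
    exact S.T2_notin hTF

end Std

end Cfsg.Agent.StdSpSix.PatTwo
end

-- part: StdSpSix/PatTwoOv
section
/-!
Pattern `{a2}`: elements inducing translations on `D ∩ E1`.
-/

set_option autoImplicit false

namespace Cfsg.Agent.StdSpSix.PatTwo

open V

namespace Std

open Six

variable {G : Type*} [Group G] (S : Std G)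

/-- `h` induces on `D ∩ E1` the translation by `w`. -/
structure Ov (h : G) (w : V) : Prop where
  hw : InU w
  hb : Commute h S.b
  hY : ∀ u, InU u → h * S.Z e1 u = S.Z e1 u * pw (form u w) S.b * h
  ht : h * S.t = S.t * S.Z e1 w * h

theorem b_comm_pw (c : Bool) {h : G} (hb : Commute h S.b) : h * pw c S.b = pw c S.b * h :=
  (commute_pw hb c).eq

theorem b_pw_Y (c : Bool) {u : V} (hu : InU u) : pw c S.b * S.Z e1 u = S.Z e1 u * pw c S.b :=
  (commute_pw (show Commute (S.Z e1 u) S.b from (S.b_comm_Y hu.perp).symm) c).eq.symm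

theorem Ov.mul {h h' : G} {w w' : V} (H : S.Ov h w) (H' : S.Ov h' w') : S.Ov (h * h') (w + w') := by
  refine ⟨H.hw.add H'.hw, H.hb.mul_left H'.hb, fun u hu => ?_, ?_⟩
  · calc h * h' * S.Z e1 u = h * (h' * S.Z e1 u) := by group
      _ = h * S.Z e1 u * (pw (form u w') S.b * h') := by rw [H'.hY u hu]; group
      _ = S.Z e1 u * pw (form u w) S.b * (h * pw (form u w') S.b) * h' := by rw [H.hY u hu]; group
      _ = S.Z e1 u * (pw (form u w) S.b * pw (form u w') S.b) * (h * h') := by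
          rw [S.b_comm_pw _ H.hb]; group
      _ = S.Z e1 u * pw (form u (w + w')) S.b * (h * h') := by
          rw [← pw_xor S.b_sq, ← form_add_right]
  · calc h * h' * S.t = h * (h' * S.t) := by group
      _ = h * S.t * (S.Z e1 w' * h') := by rw [H'.ht]; group
      _ = S.t * S.Z e1 w * (h * S.Z e1 w') * h' := by rw [H.ht]; group
      _ = S.t * (S.Z e1 w * S.Z e1 w') * pw (form w' w) S.b * (h * h') := by
          rw [H.hY w' H'.hw]; group
      _ = S.t * S.Z e1 (w + w') * (pw (form w w') S.b * pw (form w' w) S.b) * (h * h') := by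
          rw [S.Y_mul' H.hw H'.hw]; group
      _ = S.t * S.Z e1 (w + w') * (h * h') := by
          rw [← pw_xor S.b_sq, form_comm w' w, Bool.xor_self, pw_false, mul_one]

theorem Ov.inv {h : G} {w : V} (H : S.Ov h w) : S.Ov h⁻¹ w := by
  have hp : ∀ c, pw c S.b * pw c S.b = 1 := fun c => by rw [← pw_xor S.b_sq, Bool.xor_self]; rfl
  refine ⟨H.hw, H.hb.inv_left, fun u hu => ?_, ?_⟩
  · have h1 := H.hY u hu
    have h2 : h * (S.Z e1 u * pw (form u w) S.b) = S.Z e1 u * h := by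
      calc h * (S.Z e1 u * pw (form u w) S.b) = (h * S.Z e1 u) * pw (form u w) S.b := by group
        _ = S.Z e1 u * pw (form u w) S.b * (h * pw (form u w) S.b) := by rw [h1]; group
        _ = S.Z e1 u * (pw (form u w) S.b * pw (form u w) S.b) * h := by
            rw [S.b_comm_pw _ H.hb]; group
        _ = S.Z e1 u * h := by rw [hp, mul_one]
    calc h⁻¹ * S.Z e1 u = h⁻¹ * (S.Z e1 u * h) * h⁻¹ := by group
      _ = S.Z e1 u * pw (form u w) S.b * h⁻¹ := by rw [← h2]; group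
  · have h1 := H.ht
    have h2 : h * (S.t * S.Z e1 w) = S.t * h := by
      calc h * (S.t * S.Z e1 w) = (h * S.t) * S.Z e1 w := by group
        _ = S.t * S.Z e1 w * (h * S.Z e1 w) := by rw [h1]; group
        _ = S.t * (S.Z e1 w * S.Z e1 w) * pw (form w w) S.b * h := by rw [H.hY w H.hw]; group
        _ = S.t * h := by
            rw [S.Z_sq H.hw.perp, form_self, pw_false, mul_one, mul_one]
    calc h⁻¹ * S.t = h⁻¹ * (S.t * h) * h⁻¹ := by group
      _ = S.t * S.Z e1 w * h⁻¹ := by rw [← h2]; group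

theorem Ov.em {v : V} (hv : InU v) (c d : Bool) : S.Ov (S.em c v d) 0 := by
  refine ⟨inU_zero, S.E1_comm (S.em_mem hv c d) S.b_mem_E1, fun u hu => ?_, ?_⟩
  · rw [form_zero_right, pw_false, mul_one]
    exact (S.E1_comm (S.em_mem hv c d) (S.Y_mem_E1 hu)).eq
  · rw [S.Z_zero, mul_one]
    exact (S.E1_comm (S.em_mem hv c d) S.t_mem_E1).eq

theorem Ov.one : S.Ov 1 0 := by
  rw [← S.em_zero]; exact Ov.em S inU_zero _ _

theorem Ov.t : S.Ov S.t 0 := by
  rw [← S.em_t]; exact Ov.em S inU_zero _ _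

theorem Ov.uniq {h : G} {w w' : V} (H : S.Ov h w) (H' : S.Ov h w') : w = w' := by
  have h1 := H.ht.symm.trans H'.ht
  have h2 := mul_left_cancel (mul_right_cancel h1)
  exact S.Y_inj H.hw H'.hw h2

theorem Ov.ker {h : G} (H : S.Ov h 0) : ∃ c v d, InU v ∧ h = S.em c v d := by
  have h1 : Commute h S.t := by
    have := H.ht
    rw [S.Z_zero, mul_one] at this
    exact this
  obtain ⟨c, a, ha, rfl⟩ := S.cent' h1
  have key : ∀ z, z ∈ S.L → Commute (pw c S.t * a) z → a * z = z * a := by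
    intro z hz hc
    have h4 : Commute (pw c S.t) z := (commute_pw (S.comm _ hz) c).symm
    have := h4.inv_left.mul_left hc
    rw [inv_mul_cancel_left] at this
    exact this.eq
  have keyY : ∀ u, InU u → a * S.Z e1 u = S.Z e1 u * a := by
    intro u hu
    apply key _ (S.Z_mem _ _)
    have := H.hY u hu
    rw [form_zero_right, pw_false, mul_one] at this
    exact this
  have hA := S.isA1_of_comm ha (key _ S.b_mem H.hb) (keyY e2 (by decide)) (keyY e3 (by decide))
    (keyY f2 (by decide)) (keyY f3 (by decide))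
  obtain ⟨v, hv, d, h5⟩ := hA.form
  exact ⟨c, v, d, hv, by rw [h5]; rfl⟩

/-- Stabiliser of `e1` in `L`. -/
structure Pk (k : G) : Prop where
  mem : k ∈ S.L
  h : S.act k e1 = e1

theorem Pk.inv {k : G} (hk : S.Pk k) : S.Pk k⁻¹ :=
  ⟨S.L.inv_mem hk.mem, by conv_lhs => rw [← hk.h]
                          rw [S.act_inv_act hk.mem]⟩

theorem Pk.mul {k l : G} (hk : S.Pk k) (hl : S.Pk l) : S.Pk (k * l) :=
  ⟨S.L.mul_mem hk.mem hl.mem, by rw [S.act_mul _ hk.mem _ hl.mem, hl.h, hk.h]⟩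

theorem Pk.perp {k : G} (hk : S.Pk k) {u : V} (hu : form e1 u = false) : form e1 (S.act k u) = false := by
  conv_lhs => rw [← hk.h]
  rw [S.act_form k hk.mem, hu]

theorem Pk.b_comm {k : G} (hk : S.Pk k) : Commute k S.b := S.T_comm_of_act hk.mem hk.h

theorem Pk.Y {k : G} (hk : S.Pk k) {u : V} (hu : InU u) :
    k * S.Z e1 u = S.Z e1 (prj (S.act k u)) * k := by
  rw [S.Y_prj (hk.perp S hu.perp), S.mul_Z hk.mem, hk.h]

theorem act_prj {k : G} (hk : S.Pk k) {u : V} (_ : form e1 u = false) :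
    prj (S.act k (prj u)) = prj (S.act k u) := by
  unfold prj
  cases h : form u f1
  · rw [sm_false, add_zero]
  · rw [sm_true, S.act_add k hk.mem, hk.h, form_add_left, show form e1 f1 = true by decide]
    cases form (S.act k u) f1
    · change S.act k u + e1 + e1 = S.act k u + 0
      rw [aba, add_zero]
    · change S.act k u + e1 + 0 = S.act k u + e1
      rw [add_zero]

theorem Ov.conj {h k : G} {w : V} (H : S.Ov h w) (hk : S.Pk k) :
    S.Ov (k * h * k⁻¹) (prj (S.act k w)) := by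
  have hki := hk.inv S
  have hkw := hk.perp S H.hw.perp
  refine ⟨inU_prj _ hkw, (hk.b_comm.mul_left H.hb).mul_left hki.b_comm, fun u hu => ?_, ?_⟩
  · have hpu := hki.perp S hu.perp
    have hu' : InU (prj (S.act k⁻¹ u)) := inU_prj _ hpu
    have e0 : form (prj (S.act k⁻¹ u)) w = form u (prj (S.act k w)) := by
      rw [form_prj_left H.hw.perp, form_comm u, form_prj_left hu.perp, form_comm _ u]
      have := S.act_form k hk.mem (S.act k⁻¹ u) w
      rw [S.act_act_inv hk.mem] at this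
      exact this.symm
    have e1' : prj (S.act k (prj (S.act k⁻¹ u))) = u := by
      rw [S.act_prj hk hpu, S.act_act_inv hk.mem, prj_of_inU hu]
    calc k * h * k⁻¹ * S.Z e1 u = k * h * (k⁻¹ * S.Z e1 u) := by group
      _ = k * (h * S.Z e1 (prj (S.act k⁻¹ u))) * k⁻¹ := by rw [hki.Y S hu]; group
      _ = (k * S.Z e1 (prj (S.act k⁻¹ u))) * pw (form u (prj (S.act k w))) S.b * h * k⁻¹ := by
          rw [H.hY _ hu', e0]; group
      _ = S.Z e1 u * (k * pw (form u (prj (S.act k w))) S.b) * h * k⁻¹ := by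
          rw [hk.Y S hu', e1']; group
      _ = S.Z e1 u * pw (form u (prj (S.act k w))) S.b * (k * h * k⁻¹) := by
          rw [S.b_comm_pw _ hk.b_comm]; group
  · have ht1 := (S.comm _ hk.mem).eq
    have ht2 := (S.comm _ hki.mem).eq
    calc k * h * k⁻¹ * S.t = k * h * (k⁻¹ * S.t) := by group
      _ = k * (h * S.t) * k⁻¹ := by rw [ht2]; group
      _ = (k * S.t) * S.Z e1 w * h * k⁻¹ := by rw [H.ht]; group
      _ = S.t * (k * S.Z e1 w) * h * k⁻¹ := by rw [ht1]; group
      _ = S.t * S.Z e1 (prj (S.act k w)) * (k * h * k⁻¹) := by rw [hk.Y S H.hw]; group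

theorem Ov.of_basis {h : G} {w : V} (hw : InU w) (hb : Commute h S.b)
    (h2 : h * S.Z e1 e2 = S.Z e1 e2 * pw (form e2 w) S.b * h)
    (h3 : h * S.Z e1 e3 = S.Z e1 e3 * pw (form e3 w) S.b * h)
    (h4 : h * S.Z e1 f2 = S.Z e1 f2 * pw (form f2 w) S.b * h)
    (h5 : h * S.Z e1 f3 = S.Z e1 f3 * pw (form f3 w) S.b * h)
    (ht : h * S.t = S.t * S.Z e1 w * h) : S.Ov h w := by
  refine ⟨hw, hb, ?_, ht⟩
  have i2 : InU e2 := by decide
  have i3 : InU e3 := by decide
  have i4 : InU f2 := by decide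
  have i5 : InU f3 := by decide
  let P : V → Prop := fun u => h * S.Z e1 u = S.Z e1 u * pw (form u w) S.b * h
  have hadd : ∀ u v, InU u → InU v → P u → P v → P (u + v) := by
    intro u v hu hv pu pv
    change h * S.Z e1 (u + v) = S.Z e1 (u + v) * pw (form (u + v) w) S.b * h
    have e : S.Z e1 (u + v) = S.Z e1 u * S.Z e1 v * pw (form u v) S.b := by
      rw [S.Y_mul' hu hv, mul_assoc, ← pw_xor S.b_sq, Bool.xor_self, pw_false, mul_one]
    rw [e]
    calc h * (S.Z e1 u * S.Z e1 v * pw (form u v) S.b) = (h * S.Z e1 u) * S.Z e1 v * pw (form u v) S.b := by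
          group
      _ = S.Z e1 u * pw (form u w) S.b * (h * S.Z e1 v) * pw (form u v) S.b := by rw [pu]; group
      _ = S.Z e1 u * (pw (form u w) S.b * S.Z e1 v) * pw (form v w) S.b * (h * pw (form u v) S.b) := by
          rw [pv]; group
      _ = S.Z e1 u * S.Z e1 v * (pw (form u w) S.b * pw (form v w) S.b * pw (form u v) S.b) * h := by
          rw [S.b_pw_Y _ hv, S.b_comm_pw _ hb]; group
      _ = S.Z e1 u * S.Z e1 v * (pw (form u v) S.b * pw (form (u + v) w) S.b) * h := by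
          rw [← pw_xor S.b_sq, ← pw_xor S.b_sq, ← pw_xor S.b_sq, form_add_left]
          congr 3
          cases form u w <;> cases form v w <;> cases form u v <;> rfl
      _ = _ := by group
  have hsm : ∀ c u, InU u → P u → P (sm c u) := by
    intro c u hu pu
    cases c
    · change h * S.Z e1 0 = S.Z e1 0 * pw (form 0 w) S.b * h
      rw [S.Z_zero, form_zero_left, pw_false]
      group
    · exact pu
  intro u hu
  have : ∃ a b c d : Bool, u = sm a e2 + (sm b e3 + (sm c f2 + sm d f3)) := by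
    clear * - hu
    revert u
    decide +kernel
  obtain ⟨a, b', c, d, rfl⟩ := this
  have ia := inU_sm i2 a
  have ib := inU_sm i3 b'
  have ic := inU_sm i4 c
  have id' := inU_sm i5 d
  exact hadd _ _ ia (ib.add (ic.add id')) (hsm _ _ i2 h2) (hadd _ _ ib (ic.add id') (hsm _ _ i3 h3)
    (hadd _ _ ic id' (hsm _ _ i4 h4) (hsm _ _ i5 h5)))

/-- Conjugates of `t` in `E1`. -/
theorem D_em {g : G} {c d : Bool} {v : V} (hv : InU v) (h : g * S.t * g⁻¹ = S.em c v d) :
    c = true ∧ d = false := by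
  have hc : Commute (g * S.t * g⁻¹) S.t := by
    rw [h]; exact S.E1_comm (S.em_mem hv c d) S.t_mem_E1
  have key : ∀ z, z ∈ S.L → (∀ x, form x (S.act z x) = false) → S.em c v d = S.t * z →
      c = true ∧ d = false := by
    intro z hz hz2 he
    cases c
    · exfalso
      apply S.tL
      have : S.t = (S.Z e1 v * pw d S.b) * z⁻¹ := by
        have h1 : S.em false v d = S.Z e1 v * pw d S.b := by
          unfold Std.em; rw [pw_false, one_mul]
        rw [← h1, he]; group
      rw [this]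
      exact S.L.mul_mem (S.yb_mem _ _) (S.L.inv_mem hz)
    · refine ⟨rfl, ?_⟩
      cases d
      · rfl
      · exfalso
        have h1 : S.Z e1 v * S.b = z := mul_left_cancel he
        have h2 := S.not_alt hv
        rw [h1, hz2] at h2
        cases h2
  rcases S.D2 g hc with h1 | ⟨z, hz, h1⟩
  · refine key 1 S.L.one_mem (fun x => ?_) (by rw [← h, h1, mul_one])
    rw [S.act_one, form_self]
  · exact key z hz.mem (fun x => hz.form S.toSix x) (by rw [← h, h1])

private noncomputable def _root_.Cfsg.Agent.KOc205842.k26 : type_of% @Bool.instDecidableExistsOfDecidablePred := @(fun x0 x1 => @Decidable.rec.{1} _ @(fun x2 => @Decidable (@Exists.{1} _ @(fun x3 => @x0 @x3))) @(fun x2 => @Decidable.rec.{1} _ @(fun x3 => @Decidable (@Exists.{1} _ @(fun x4 => @x0 @x4))) @(fun x3 => @Decidable.isFalse _ (@Bool.instDecidableExistsOfDecidablePred._proof_3 @x0 @x2 @x3)) @(fun x3 => @Decidable.isTrue _ (@Bool.instDecidableExistsOfDecidablePred._proof_2 @x0 @x3))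 (@x1 @Bool.false)) @(fun x2 => @Decidable.isTrue _ (@Bool.instDecidableExistsOfDecidablePred._proof_1 @x0 @x2)) (@x1 @Bool.true))
private theorem _root_.Cfsg.Agent.KOc205842.e26 : @Bool.instDecidableExistsOfDecidablePred = @_root_.Cfsg.Agent.KOc205842.k26 := by delta _root_.Cfsg.Agent.KOc205842.k26; rfl'

theorem dec_gt : ∀ x y : V, InU x → InU y → form x e2 = true → form x e3 = false →
    form y e2 = false → form y e3 = true → form x y = false →
    ∃ a b c : Bool, x = f2 + sm a e2 + sm b e3 ∧ y = f3 + sm b e2 + sm c e3 := by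
  (first | (refine of_decide_eq_true ?_; delta Cfsg.Agent.StdSpSix.PatTwo.V.e2 Cfsg.Agent.StdSpSix.PatTwo.V.e3 Cfsg.Agent.StdSpSix.PatTwo.V.f2 Cfsg.Agent.StdSpSix.PatTwo.V.f3; rewrite [Cfsg.Agent.KOc205842.e0, Cfsg.Agent.KOc205842.e3, Cfsg.Agent.KOc205842.e20, Cfsg.Agent.KOc205842.e5, Cfsg.Agent.KOc205842.e12, Cfsg.Agent.KOc205842.e18, Cfsg.Agent.KOc205842.e13, Cfsg.Agent.KOc205842.e26, Cfsg.Agent.KOc205842.e19, Cfsg.Agent.KOc205842.e17]; decide +kernel) | decide +kernel)

/-- There is an element inducing the translation by `e2`. -/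
theorem exists_Ov_e2 : ∃ x, S.Ov x e2 := by
  obtain ⟨x, hx⟩ := S.exists_x12
  have i2 : InU e2 := by decide
  have i3 : InU e3 := by decide
  have i4 : InU f2 := by decide
  have i5 : InU f3 := by decide
  have hb : Commute x S.b := hx.flag12 S
  -- the images of the `Z e1 v`
  have hD : ∀ v, InU v → ∃ g, g * S.t * g⁻¹ = S.t * S.Z e1 v := by
    intro v hv
    by_cases h0 : v = 0
    · exact ⟨1, by rw [h0, S.Z_zero]; group⟩
    · refine S.D1 _ _ ⟨hv.perp, by decide, h0, ?_⟩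
      rintro rfl
      exact absurd hv.2 (by decide)
  have him : ∀ v, InU v → ∃ p, InU p ∧ x * S.Z e1 v * x⁻¹ = S.em false p (form e2 p) := by
    intro v hv
    obtain ⟨c, v', d, hv', h1⟩ := S.x12_norm hx (S.em_mem hv true false)
    obtain ⟨g, hg⟩ := hD v hv
    obtain ⟨rfl, rfl⟩ := S.D_em hv' (g := x * g) (c := c) (d := d) (by
      rw [← h1, S.em_tY, ← hg]; group)
    refine ⟨e2 + v', i2.add hv', ?_⟩
    have h2 : x * S.Z e1 v * x⁻¹ = (x * S.t * x⁻¹)⁻¹ * (x * S.em true v false * x⁻¹) := by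
      rw [S.em_tY]; group
    rw [h2, h1, hx.ht, ← S.em_tY, S.E1_inv (S.em_mem i2 _ _), S.em_mul i2 hv', form_add_right,
      form_self]
    rfl
  -- the form is preserved
  have hform : ∀ u v p q, InU u → InU v → InU p → InU q →
      x * S.Z e1 u * x⁻¹ = S.em false p (form e2 p) → x * S.Z e1 v * x⁻¹ = S.em false q (form e2 q) →
      form p q = form u v := by
    intro u v p q hu hv hp hq h1 h2
    obtain ⟨r, hr, h3⟩ := him (u + v) (hu.add hv)
    have h4 : x * S.Z e1 u * x⁻¹ * (x * S.Z e1 v * x⁻¹) = x * S.Z e1 (u + v) * x⁻¹ * pw (form u v) S.b := by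
      have h5 : x⁻¹ * pw (form u v) S.b = pw (form u v) S.b * x⁻¹ := S.b_comm_pw _ hb.inv_left
      calc x * S.Z e1 u * x⁻¹ * (x * S.Z e1 v * x⁻¹) = x * (S.Z e1 u * S.Z e1 v) * x⁻¹ := by group
        _ = x * S.Z e1 (u + v) * (pw (form u v) S.b * x⁻¹) := by rw [S.Y_mul' hu hv]; group
        _ = x * S.Z e1 (u + v) * x⁻¹ * pw (form u v) S.b := by rw [← h5]; group
    have h6 : pw (form u v) S.b = S.em false 0 (form u v) := by
      unfold Std.em
      rw [pw_false, S.Z_zero, one_mul, one_mul]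
    rw [h1, h2, h3, h6, S.em_mul hp hq, S.em_mul hr inU_zero] at h4
    obtain ⟨-, h7, h8⟩ := S.em_inj (hp.add hq) (hr.add inU_zero) h4
    rw [add_zero] at h7
    rw [← h7, form_add_right, form_zero_right, Bool.xor_false] at h8
    revert h8
    cases form e2 p <;> cases form e2 q <;> cases form p q <;> cases form u v <;> decide
  have g2 : x * S.Z e1 e2 * x⁻¹ = S.em false e2 (form e2 e2) := by
    rw [hx.cz.h1.eq, mul_inv_cancel_right, form_self, S.em_Y]
  have g3 : x * S.Z e1 e3 * x⁻¹ = S.em false e3 (form e2 e3) := by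
    rw [hx.cz.h2.eq, mul_inv_cancel_right, show form e2 e3 = false by decide, S.em_Y]
  obtain ⟨p, hp, g4⟩ := him f2 i4
  obtain ⟨q, hq, g5⟩ := him f3 i5
  obtain ⟨α, β, γ, hp', hq'⟩ := dec_gt p q hp hq
    (by rw [hform f2 e2 p e2 i4 i2 hp i2 g4 g2]; decide)
    (by rw [hform f2 e3 p e3 i4 i3 hp i3 g4 g3]; decide)
    (by rw [hform f3 e2 q e2 i5 i2 hq i2 g5 g2]; decide)
    (by rw [hform f3 e3 q e3 i5 i3 hq i3 g5 g3]; decide)
    (by rw [hform f2 f3 p q i4 i5 hp hq g4 g5]; decide)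
  -- correct by an element of the radical of the plane stabiliser
  let m : G := pw α (S.T e2) * (pw γ (S.T e3) * pw β (S.Z e2 e3))
  have m1 := pw_mem (S.T_mem e2) α
  have m2 := pw_mem (S.T_mem e3) γ
  have m3 := pw_mem (S.Z_mem e2 e3) β
  have hmL : m ∈ S.L := S.L.mul_mem m1 (S.L.mul_mem m2 m3)
  have mact : ∀ x, S.act m x = bif α then trf e2 (bif γ then trf e3 (bif β then zf e2 e3 x else x)
      else (bif β then zf e2 e3 x else x)) else (bif γ then trf e3 (bif β then zf e2 e3 x else x)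
      else (bif β then zf e2 e3 x else x)) := by
    intro x
    change S.act (pw α (S.T e2) * (pw γ (S.T e3) * pw β (S.Z e2 e3))) x = _
    rw [S.act_mul _ m1 _ (S.L.mul_mem m2 m3), S.act_mul _ m2 _ m3, S.act_pw, S.act_pw, S.act_pw,
      S.act_T, S.act_T, S.act_Z (by decide)]
  have a1 : S.act m e1 = e1 := by
    rw [mact]; clear * -; revert α β γ; decide
  have a2 : S.act m e2 = e2 := by
    rw [mact]; clear * -; revert α β γ; decide
  have a3 : S.act m e3 = e3 := by
    rw [mact]; clear * -; revert α β γ; decide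
  have a4 : S.act m f2 = p := by
    rw [mact, hp']; clear * -; revert α β γ; decide
  have a5 : S.act m f3 = q := by
    rw [mact, hq']; clear * -; revert α β γ; decide
  have hm : S.Pk m := ⟨hmL, a1⟩
  have fin : ∀ u, InU u → x * S.Z e1 u * x⁻¹ = S.em false (S.act m u) (form e2 (S.act m u)) →
      m⁻¹ * x * S.Z e1 u = S.Z e1 u * pw (form u e2) S.b * (m⁻¹ * x) := by
    intro u hu h
    have h1 : form e2 (S.act m u) = form u e2 := by
      conv_lhs => rw [← a2]
      rw [S.act_form m hmL, form_comm]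
    have h2 : x * S.Z e1 u = S.Z e1 (S.act m u) * pw (form u e2) S.b * x := by
      unfold Std.em at h
      rw [pw_false, one_mul, h1] at h
      rw [← h]; group
    have h3 : m⁻¹ * S.Z e1 (S.act m u) = S.Z e1 u * m⁻¹ := by
      have := S.mul_Z hmL e1 u
      rw [a1] at this
      rw [inv_mul_eq_iff_eq_mul, ← mul_assoc, this]; group
    calc m⁻¹ * x * S.Z e1 u = m⁻¹ * (x * S.Z e1 u) := by group
      _ = (m⁻¹ * S.Z e1 (S.act m u)) * pw (form u e2) S.b * x := by rw [h2]; group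
      _ = S.Z e1 u * (m⁻¹ * pw (form u e2) S.b) * x := by rw [h3]; group
      _ = _ := by rw [S.b_comm_pw _ (hm.inv S).b_comm]; group
  have hmb : Commute (m⁻¹ * x) S.b := Commute.mul_left ((hm.inv S).b_comm) hb
  refine ⟨m⁻¹ * x, Ov.of_basis S i2 hmb (fin _ i2 (by rw [a2]; exact g2)) (fin _ i3 (by rw [a3]; exact g3))
    (fin _ i4 (by rw [a4]; exact g4)) (fin _ i5 (by rw [a5]; exact g5)) ?_⟩
  have h1 := (S.comm _ (S.L.inv_mem hmL)).eq
  have h2 : m⁻¹ * S.Z e1 e2 = S.Z e1 e2 * m⁻¹ := by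
    have := S.mul_Z hmL e1 e2
    rw [a1, a2] at this
    rw [inv_mul_eq_iff_eq_mul, ← mul_assoc, this]; group
  have h3 : x * S.t = S.t * S.Z e1 e2 * x := by rw [← hx.ht]; group
  calc m⁻¹ * x * S.t = m⁻¹ * (x * S.t) := by group
    _ = (m⁻¹ * S.t) * S.Z e1 e2 * x := by rw [h3]; group
    _ = S.t * (m⁻¹ * S.Z e1 e2) * x := by rw [h1]; group
    _ = S.t * S.Z e1 e2 * (m⁻¹ * x) := by rw [h2]; group

/-- There are elements inducing all translations. -/
theorem exists_Ov {w : V} (hw : InU w) : ∃ x, S.Ov x w := by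
  by_cases h0 : w = 0
  · exact ⟨1, by rw [h0]; exact Ov.one S⟩
  · obtain ⟨x, hx⟩ := S.exists_Ov_e2
    have hl : Line e1 w := by
      refine ⟨hw.perp, by decide, h0, ?_⟩
      rintro rfl
      exact absurd hw.2 (by decide)
    obtain ⟨k, hk, h1, h2⟩ := S.witt2 hl
    have := hx.conj S ⟨hk, h1⟩
    rw [h2, prj_of_inU hw] at this
    exact ⟨_, this⟩

/-- Reduction to the translation by `e2`. -/
theorem exists_to_e2 {w : V} (hw : InU w) (h0 : w ≠ 0) : ∃ k, S.Pk k ∧ S.act k e2 = w := by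
  have hl : Line e1 w := by
    refine ⟨hw.perp, by decide, h0, ?_⟩
    rintro rfl
    exact absurd hw.2 (by decide)
  obtain ⟨k, hk, h1, h2⟩ := S.witt2 hl
  exact ⟨k, ⟨hk, h1⟩, h2⟩

theorem dec_v2 : ∀ v : V, InU v → form v e2 = false → (prj (trf e3 v) = v ∨ prj (trf e3 v) = v + e2) →
    (prj (trf f3 v) = v ∨ prj (trf f3 v) = v + e2) → v = 0 ∨ v = e2 := by
  decide +kernel

theorem Ov.sq_e2 {h : G} (H : S.Ov h e2) : ∃ c d, h * h = S.em false (sm c e2) d := by
  have i2 : InU e2 := by decide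
  have H2 := H.mul S H
  rw [aa] at H2
  obtain ⟨c, v, d, hv, hy⟩ := H2.ker
  -- the square commutes with `h`
  have hconj : ∀ c v d, InU v → h * S.em c v d = S.em c v d * S.em false (sm c e2) (form v e2) * h := by
    intro c v d hv
    have h1 : h * pw c S.t = pw c S.t * S.Z e1 (sm c e2) * h := by
      cases c
      · rw [pw_false, sm_false, S.Z_zero]; group
      · exact H.ht
    have h2 : S.Z e1 (sm c e2) * (S.Z e1 v * pw (form v e2) S.b * pw d S.b) =
        (S.Z e1 v * pw d S.b) * S.em false (sm c e2) (form v e2) := by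
      have e3' : S.Z e1 (sm c e2) * (S.Z e1 v * pw (form v e2) S.b * pw d S.b) =
          S.em false (sm c e2) false * (S.em false v (form v e2) * S.em false 0 d) := by
        unfold Std.em
        rw [S.Z_zero]
        simp only [pw_false]
        group
      have e4' : S.Z e1 v * pw d S.b = S.em false v d := by
        unfold Std.em
        rw [pw_false, one_mul]
      rw [e3', e4', S.em_mul hv inU_zero, S.em_mul (inU_sm i2 c) (hv.add inU_zero),
        S.em_mul hv (inU_sm i2 c), add_zero, add_comm v, form_zero_right, form_comm v (sm c e2)]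
      congr 1
      cases d <;> cases form v e2 <;> cases form (sm c e2) v <;> rfl
    unfold Std.em at h2 ⊢
    calc h * (pw c S.t * (S.Z e1 v * pw d S.b)) = (h * pw c S.t) * S.Z e1 v * pw d S.b := by group
      _ = pw c S.t * S.Z e1 (sm c e2) * (h * S.Z e1 v) * pw d S.b := by rw [h1]; group
      _ = pw c S.t * S.Z e1 (sm c e2) * S.Z e1 v * pw (form v e2) S.b * (h * pw d S.b) := by
          rw [H.hY v hv]; group
      _ = pw c S.t * (S.Z e1 (sm c e2) * (S.Z e1 v * pw (form v e2) S.b * pw d S.b)) * h := by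
          rw [S.b_comm_pw _ H.hb]; group
      _ = _ := by rw [h2]; group
  have hcomm : S.em false (sm c e2) (form v e2) = 1 := by
    have h1 := hconj c v d hv
    rw [← hy] at h1
    have h2 : h * h * S.em false (sm c e2) (form v e2) * h = h * h * 1 * h := by
      rw [← h1]; group
    exact mul_left_cancel (mul_right_cancel h2)
  rw [← S.em_zero] at hcomm
  obtain ⟨-, h1, h2⟩ := S.em_inj (inU_sm i2 c) inU_zero hcomm
  have hc : c = false := by
    cases c
    · rfl
    · exact absurd h1 (by decide)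
  subst hc
  -- now use the transvections with centres `e3`, `f3`
  have hk : ∀ k, S.Pk k → S.act k e2 = e2 → (prj (S.act k v) = v ∨ prj (S.act k v) = v + e2) := by
    intro k hk hk2
    have hc := H.conj S hk
    rw [hk2, prj_of_inU i2] at hc
    have h3 := hc.mul S (H.inv S)
    rw [aa] at h3
    obtain ⟨c1, v1, d1, hv1, h4⟩ := h3.ker
    have h5 : k * h * k⁻¹ = S.em c1 v1 d1 * h := by rw [← h4]; group
    have h6 : k * (h * h) * k⁻¹ = S.em false (sm c1 e2) (form v1 e2) * (h * h) := by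
      calc k * (h * h) * k⁻¹ = (k * h * k⁻¹) * (k * h * k⁻¹) := by group
        _ = S.em c1 v1 d1 * (h * S.em c1 v1 d1) * h := by rw [h5]; group
        _ = S.em c1 v1 d1 * S.em c1 v1 d1 * S.em false (sm c1 e2) (form v1 e2) * (h * h) := by
            rw [hconj c1 v1 d1 hv1]; group
        _ = _ := by rw [S.em_sq hv1, one_mul]
    have h7 : k * (h * h) * k⁻¹ = S.em false (prj (S.act k v)) d := by
      rw [hy]
      unfold Std.em
      rw [pw_false, one_mul, one_mul]
      calc k * (S.Z e1 v * pw d S.b) * k⁻¹ = (k * S.Z e1 v) * pw d S.b * k⁻¹ := by group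
        _ = S.Z e1 (prj (S.act k v)) * (k * pw d S.b) * k⁻¹ := by rw [hk.Y S hv]; group
        _ = _ := by rw [S.b_comm_pw _ hk.b_comm]; group
    rw [h7, hy, S.em_mul (inU_sm i2 c1) hv] at h6
    obtain ⟨-, h8, -⟩ := S.em_inj (inU_prj _ (hk.perp S hv.perp)) ((inU_sm i2 c1).add hv) h6
    rw [h8]
    cases c1
    · left; rw [sm_false, zero_add]
    · right; rw [sm_true, add_comm]
  have k3 := hk (S.T e3) ⟨S.T_mem _, by rw [S.act_T]; decide⟩ (by rw [S.act_T]; decide)
  have k5 := hk (S.T f3) ⟨S.T_mem _, by rw [S.act_T]; decide⟩ (by rw [S.act_T]; decide)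
  rw [S.act_T] at k3 k5
  rcases dec_v2 v hv h2 k3 k5 with rfl | rfl
  · exact ⟨false, d, hy⟩
  · exact ⟨true, d, hy⟩

/-- The square of an element over `w` lies in `⟨b, Z e1 w⟩`. -/
theorem Ov.sq {h : G} {w : V} (H : S.Ov h w) : ∃ c d, h * h = S.em false (sm c w) d := by
  by_cases h0 : w = 0
  · subst h0
    obtain ⟨c, v, d, hv, rfl⟩ := H.ker
    exact ⟨false, false, by rw [S.em_sq hv, sm_false, S.em_zero]⟩
  · obtain ⟨k, hk, hk2⟩ := S.exists_to_e2 H.hw h0
    have h1 := H.conj S (hk.inv S)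
    rw [← hk2, S.act_inv_act hk.mem, prj_of_inU (by decide), inv_inv] at h1
    obtain ⟨c, d, h2⟩ := h1.sq_e2
    refine ⟨c, d, ?_⟩
    have h3 : h * h = k * ((k⁻¹ * h * k) * (k⁻¹ * h * k)) * k⁻¹ := by group
    rw [h3, h2]
    have h4 : k * S.Z e1 (sm c e2) = S.Z e1 (sm c w) * k := by
      rw [hk.Y S (inU_sm (by decide) c), S.act_sm hk.mem, hk2, prj_of_inU (inU_sm H.hw c)]
    unfold Std.em
    rw [pw_false, one_mul, one_mul]
    calc k * (S.Z e1 (sm c e2) * pw d S.b) * k⁻¹ = (k * S.Z e1 (sm c e2)) * pw d S.b * k⁻¹ := by group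
      _ = S.Z e1 (sm c w) * (k * pw d S.b) * k⁻¹ := by rw [h4]; group
      _ = _ := by rw [S.b_comm_pw _ hk.b_comm]; group

end Std

end Cfsg.Agent.StdSpSix.PatTwo
end

-- part: StdSpSix/PatTwoK1
section
/-!
Pattern `{a2}`: the subgroup of index two of the group of translations, not containing `t`.
-/

set_option autoImplicit false

namespace Cfsg.Agent.StdSpSix.PatTwo

open V

namespace Std

open Six

variable {G : Type*} [Group G] (S : Std G)

/-- Membership in the subgroup `K1`. -/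
def InK (h : G) (w : V) : Prop := S.Ov h w ∧ (∃ d, h * h = pw d S.b) ∧ (w = 0 → h ∈ S.L)

theorem em_b' (d : Bool) : S.em false 0 d = pw d S.b := by
  unfold em
  rw [pw_false, S.Z_zero, one_mul, one_mul]

theorem em_false_mem (v : V) (d : Bool) : S.em false v d ∈ S.L := by
  unfold em
  rw [pw_false, one_mul]
  exact S.yb_mem _ _

theorem em_of_mem {c : Bool} {v : V} {d : Bool} (h : S.em c v d ∈ S.L) : c = false := by
  cases c
  · rfl
  · exfalso
    apply S.tL
    have : S.t = S.em true v d * (S.Z e1 v * pw d S.b)⁻¹ := by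
      unfold em; rw [pw_true]; group
    rw [this]
    exact S.L.mul_mem h (S.L.inv_mem (S.yb_mem _ _))

theorem Ov.conj_em {h : G} {w : V} (H : S.Ov h w) {v : V} (hv : InU v) (d : Bool) :
    h * S.em false v d = S.em false v (d ^^ form v w) * h := by
  unfold Std.em
  rw [pw_false, one_mul, one_mul]
  calc h * (S.Z e1 v * pw d S.b) = (h * S.Z e1 v) * pw d S.b := by group
    _ = S.Z e1 v * pw (form v w) S.b * (h * pw d S.b) := by rw [H.hY v hv]; group
    _ = S.Z e1 v * (pw (form v w) S.b * pw d S.b) * h := by rw [S.b_comm_pw _ H.hb]; group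
    _ = _ := by rw [← pw_xor S.b_sq, Bool.xor_comm]

theorem t_mul_sq {h : G} {w : V} (H : S.Ov h w) : S.t * h * (S.t * h) = S.Z e1 w * (h * h) := by
  calc S.t * h * (S.t * h) = S.t * (h * S.t) * h := by group
    _ = (S.t * S.t) * S.Z e1 w * h * h := by rw [H.ht]; group
    _ = S.Z e1 w * (h * h) := by rw [S.tt, one_mul, mul_assoc]

/-- One of `h`, `t h` is in `K1`. -/
theorem dich {h : G} {w : V} (H : S.Ov h w) : S.InK h w ∨ S.InK (S.t * h) w := by
  have H2 := (Ov.t S).mul S H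
  rw [zero_add] at H2
  by_cases h0 : w = 0
  · subst h0
    obtain ⟨c, v, d, hv, rfl⟩ := H.ker
    cases c
    · exact Or.inl ⟨H, ⟨false, by rw [S.em_sq hv, pw_false]⟩, fun _ => S.em_false_mem _ _⟩
    · right
      have h1 : S.t * S.em true v d = S.em false v d := by
        unfold em
        rw [pw_true, pw_false, ← mul_assoc, S.tt]
      refine ⟨H2, ⟨false, by rw [h1, S.em_sq hv, pw_false]⟩, fun _ => ?_⟩
      rw [h1]
      exact S.em_false_mem _ _
  · obtain ⟨c, d, h1⟩ := H.sq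
    cases c
    · rw [sm_false] at h1
      exact Or.inl ⟨H, ⟨d, by rw [h1, S.em_b']⟩, fun h => absurd h h0⟩
    · refine Or.inr ⟨H2, ⟨d, ?_⟩, fun h => absurd h h0⟩
      rw [S.t_mul_sq H, h1, sm_true, ← S.em_Y, S.em_mul H.hw H.hw, aa, form_self, ← S.em_b']
      cases d <;> rfl

/-- Not both. -/
theorem not_both {h : G} {w : V} (H : S.InK h w) (H2 : S.InK (S.t * h) w) : False := by
  obtain ⟨a1, ⟨d, a2⟩, a3⟩ := H
  obtain ⟨-, ⟨d', b2⟩, b3⟩ := H2
  by_cases h0 : w = 0
  · apply S.tL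
    have := S.L.mul_mem (b3 h0) (S.L.inv_mem (a3 h0))
    rwa [mul_inv_cancel_right] at this
  · rw [S.t_mul_sq a1, a2, ← S.em_b', ← S.em_Y, ← S.em_b', S.em_mul a1.hw inU_zero] at b2
    obtain ⟨-, h1, -⟩ := S.em_inj (a1.hw.add inU_zero) inU_zero b2
    rw [add_zero] at h1
    exact h0 h1

theorem InK.inv {h : G} {w : V} (H : S.InK h w) : S.InK h⁻¹ w := by
  obtain ⟨a1, ⟨d, a2⟩, a3⟩ := H
  refine ⟨a1.inv S, ⟨d, ?_⟩, fun h => S.L.inv_mem (a3 h)⟩
  rw [← mul_inv_rev, a2]
  cases d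
  · rw [pw_false, inv_one]
  · rw [pw_true]
    exact inv_eq_of_mul_eq_one_right S.b_sq

theorem InK.conj {h k : G} {w : V} (H : S.InK h w) (hk : S.Pk k) :
    S.InK (k * h * k⁻¹) (prj (S.act k w)) := by
  obtain ⟨a1, ⟨d, a2⟩, a3⟩ := H
  refine ⟨a1.conj S hk, ⟨d, ?_⟩, fun h0 => ?_⟩
  · calc k * h * k⁻¹ * (k * h * k⁻¹) = k * (h * h) * k⁻¹ := by group
      _ = pw d S.b := by rw [a2, S.b_comm_pw _ hk.b_comm, mul_inv_cancel_right]
  · refine S.L.mul_mem (S.L.mul_mem hk.mem (a3 ?_)) (S.L.inv_mem hk.mem)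
    have hki := hk.inv S
    have h1 := S.act_prj hki (hk.perp S a1.hw.perp)
    rw [h0, S.act_inv_act hk.mem, prj_of_inU a1.hw, S.act_zero hki.mem] at h1
    rw [← h1]
    decide

/-- The square of a product in terms of the commutator. -/
theorem sq_mul {h h' : G} {w w' : V} (H : S.InK h w) (H' : S.InK h' w') :
    ∃ d, h * h' * (h * h') = (h * h' * h⁻¹ * h'⁻¹) * pw d S.b := by
  obtain ⟨a1, ⟨d, a2⟩, -⟩ := H
  obtain ⟨b1, ⟨d', b2⟩, -⟩ := H'
  refine ⟨d ^^ d', ?_⟩
  calc h * h' * (h * h') = (h * h' * h⁻¹ * h'⁻¹) * (h' * (h * h)) * h' := by group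
    _ = (h * h' * h⁻¹ * h'⁻¹) * (pw d S.b * (h' * h')) := by
        rw [a2, S.b_comm_pw _ b1.hb]; group
    _ = _ := by rw [b2, ← pw_xor S.b_sq]

/-- The commutator commutes with the first factor. -/
theorem comm_conj {h h' : G} {w w' : V} (H : S.InK h w) (H' : S.InK h' w')
    (hq : (h * h' * h⁻¹ * h'⁻¹) * (h * h' * h⁻¹ * h'⁻¹) = 1) :
    h * (h * h' * h⁻¹ * h'⁻¹) = (h * h' * h⁻¹ * h'⁻¹) * h := by
  obtain ⟨a1, ⟨d, a2⟩, -⟩ := H
  have hb := H'.1.hb
  set q := h * h' * h⁻¹ * h'⁻¹ with hqdef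
  have h1 : h⁻¹ * q * (h⁻¹ * q) = h⁻¹ * h⁻¹ := by
    have e : h⁻¹ * q = h' * h⁻¹ * h'⁻¹ := by rw [hqdef]; group
    have e2' : h⁻¹ * h⁻¹ = pw d S.b := by
      rw [← mul_inv_rev, a2]
      cases d
      · rw [pw_false, inv_one]
      · rw [pw_true]
        exact inv_eq_of_mul_eq_one_right S.b_sq
    calc h⁻¹ * q * (h⁻¹ * q) = h' * (h⁻¹ * h⁻¹) * h'⁻¹ := by rw [e]; group
      _ = h⁻¹ * h⁻¹ := by rw [e2', S.b_comm_pw _ hb, mul_inv_cancel_right]
  have h2 : q * h⁻¹ * q = h⁻¹ := by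
    calc q * h⁻¹ * q = h * (h⁻¹ * q * (h⁻¹ * q)) := by group
      _ = h⁻¹ := by rw [h1]; group
  have h3 : q⁻¹ = q := inv_eq_of_mul_eq_one_right hq
  calc h * q = h * (q * h⁻¹ * q) * (h * q) * 1 := by rw [h2]; group
    _ = h * (q * h⁻¹ * q) * (h * q) * (q⁻¹ * q⁻¹⁻¹) := by group
    _ = q * h := by
      have h4 : h * q * h⁻¹ = q⁻¹ := by
        have : q * h⁻¹ = h⁻¹ * q⁻¹ := by
          rw [eq_mul_inv_iff_mul_eq]; exact h2
        rw [mul_assoc, this, mul_inv_cancel_left]
      have h5 : h * q = q⁻¹ * h := by rw [← h4]; group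
      calc h * (q * h⁻¹ * q) * (h * q) * (q⁻¹ * q⁻¹⁻¹) = h * (q * h⁻¹ * q) * (h * q) := by group
        _ = h * q := by rw [h2]; group
        _ = q * h := by rw [h5, h3]

/-- Lemma A: non-orthogonal case. -/
theorem lemA {h h' : G} {w w' : V} (H : S.InK h w) (H' : S.InK h' w') (hww : form w w' = true) :
    ∃ d, h * h' * h⁻¹ * h'⁻¹ = pw d S.b := by
  obtain ⟨d0, h0⟩ := S.sq_mul H H'
  have H2 := H.1.mul S H'.1
  obtain ⟨c, d, h1⟩ := H2.sq
  have hwU := H.1.hw
  have hwU' := H'.1.hw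
  have hsmU := inU_sm (hwU.add hwU') c
  have hq : h * h' * h⁻¹ * h'⁻¹ = S.em false (sm c (w + w')) (d ^^ d0) := by
    have : h * h' * h⁻¹ * h'⁻¹ = h * h' * (h * h') * (pw d0 S.b)⁻¹ := by rw [h0]; group
    rw [this, h1, ← S.em_b', S.E1_inv (S.em_mem inU_zero _ _), S.em_mul hsmU inU_zero, add_zero,
      form_zero_right]
    simp only [Bool.xor_false]
  cases c
  · rw [sm_false, S.em_b'] at hq
    exact ⟨_, hq⟩
  · exfalso
    have h2 := S.comm_conj H H' (by rw [hq]; exact S.em_sq hsmU _ _)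
    rw [hq, H.1.conj_em S hsmU] at h2
    obtain ⟨-, -, h3⟩ := S.em_inj hsmU hsmU (mul_right_cancel h2)
    rw [sm_true, form_add_left, form_self, form_comm w', hww] at h3
    cases d <;> cases d0 <;> exact absurd h3 (by decide)

theorem dec_third' : ∀ w : V, InU w → w ≠ 0 → ∃ v : V, InU v ∧ form w v = true := by decide +kernel

/-- The commutator of two elements of `K1`. -/
theorem lemB {h h' : G} {w w' : V} (H : S.InK h w) (H' : S.InK h' w') (h0 : w ≠ 0) (h0' : w' ≠ 0)
    (hne : w ≠ w') : ∃ d, h * h' * (h * h') = pw d S.b := by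
  obtain ⟨d0, hsq⟩ := S.sq_mul H H'
  have key : (∃ d, h * h' * h⁻¹ * h'⁻¹ = pw d S.b) → ∃ d, h * h' * (h * h') = pw d S.b := by
    rintro ⟨d, hd⟩
    exact ⟨d ^^ d0, by rw [hsq, hd, ← pw_xor S.b_sq]⟩
  have hwU := H.1.hw
  have hwU' := H'.1.hw
  cases hww : form w w'
  · have H2 := H.1.mul S H'.1
    obtain ⟨c, d, h1⟩ := H2.sq
    have hsmU := inU_sm (hwU.add hwU') c
    cases c
    · exact ⟨d, by rw [h1, sm_false, S.em_b']⟩
    · exfalso
      rw [sm_true] at h1
      have hq : h * h' * h⁻¹ * h'⁻¹ = S.em false (w + w') (d ^^ d0) := by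
        have : h * h' * h⁻¹ * h'⁻¹ = h * h' * (h * h') * (pw d0 S.b)⁻¹ := by rw [hsq]; group
        rw [this, h1, ← S.em_b', S.E1_inv (S.em_mem inU_zero _ _),
          S.em_mul (hwU.add hwU') inU_zero, add_zero, form_zero_right]
        simp only [Bool.xor_false]
      obtain ⟨v, hv, hwv⟩ := dec_third' w hwU h0
      -- an element of `K1` over `v`
      have hex : ∃ g, S.InK g v := by
        obtain ⟨g, hg⟩ := S.exists_Ov hv
        rcases S.dich hg with h | h
        · exact ⟨_, h⟩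
        · exact ⟨_, h⟩
      obtain ⟨g, hg⟩ := hex
      obtain ⟨d1, hc1⟩ := S.lemA H hg hwv
      have hgen : ∀ z, h * (h' * z) * h⁻¹ * (h' * z)⁻¹ =
          (h * h' * h⁻¹ * h'⁻¹) * (h' * (h * z * h⁻¹ * z⁻¹) * h'⁻¹) := by
        intro z; group
      have hc2 : h * (h' * g) * h⁻¹ * (h' * g)⁻¹ = S.em false (w + w') (d ^^ d0 ^^ d1) := by
        rw [hgen, hc1, S.b_comm_pw _ H'.1.hb, mul_inv_cancel_right, hq, ← S.em_b',
          S.em_mul (hwU.add hwU') inU_zero, add_zero, form_zero_right]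
        simp only [Bool.xor_false]
      have hf : form w (w' + v) = true := by rw [form_add_right, hww, hwv]; rfl
      rcases S.dich (H'.1.mul S hg.1) with h5 | h5
      · obtain ⟨d2, h6⟩ := S.lemA H h5 hf
        rw [hc2, ← S.em_b'] at h6
        obtain ⟨-, h7, -⟩ := S.em_inj (hwU.add hwU') inU_zero h6
        exact hne (eq_of_add h7)
      · obtain ⟨d2, h6⟩ := S.lemA H h5 hf
        -- `[h, t z] = Z e1 w * t [h, z] t`
        have h7 : h * (S.t * (h' * g)) * h⁻¹ * (S.t * (h' * g))⁻¹ =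
            (h * S.t * h⁻¹ * S.t⁻¹) * (S.t * (h * (h' * g) * h⁻¹ * (h' * g)⁻¹) * S.t⁻¹) := by group
        have h8 : h * S.t * h⁻¹ * S.t⁻¹ = S.Z e1 w := by
          rw [H.1.ht, S.t_inv]
          have := (S.comm _ (S.Z_mem e1 w)).eq
          calc S.t * S.Z e1 w * h * h⁻¹ * S.t = S.t * (S.Z e1 w * S.t) := by group
            _ = (S.t * S.t) * S.Z e1 w := by rw [this]; group
            _ = _ := by rw [S.tt, one_mul]
        have h9 : S.t * S.em false (w + w') (d ^^ d0 ^^ d1) * S.t⁻¹ = S.em false (w + w') (d ^^ d0 ^^ d1) := by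
          rw [← (S.comm _ (S.em_false_mem _ _)).eq, mul_inv_cancel_right]
        rw [h7, h8, hc2, h9, ← S.em_b', ← S.em_Y, S.em_mul hwU (hwU.add hwU')] at h6
        obtain ⟨-, h10, -⟩ := S.em_inj (hwU.add (hwU.add hwU')) inU_zero h6
        rw [aab] at h10
        exact h0' h10
  · exact key (S.lemA H H' hww)

theorem InK.mul_left {h h' : G} {w' : V} (H : S.InK h 0) (H' : S.InK h' w') : S.InK (h * h') w' := by
  have H2 := H.1.mul S H'.1
  rw [zero_add] at H2
  obtain ⟨c, v, d, hv, hh⟩ := H.1.ker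
  have hc : c = false := S.em_of_mem (by rw [← hh]; exact H.2.2 rfl)
  subst hc
  obtain ⟨b1, ⟨d', b2⟩, b3⟩ := H'
  refine ⟨H2, ⟨form v w' ^^ d', ?_⟩, fun h1 => S.L.mul_mem (H.2.2 rfl) (b3 h1)⟩
  calc h * h' * (h * h') = h * (h' * h) * h' := by group
    _ = S.em false v d * S.em false v (d ^^ form v w') * (h' * h') := by
        rw [hh, b1.conj_em S hv]; group
    _ = pw (form v w' ^^ d') S.b := by
        rw [b2, S.em_mul hv hv, aa, form_self, ← S.em_b', S.em_mul inU_zero inU_zero, add_zero,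
          form_self, ← S.em_b']
        congr 1
        cases d <;> cases d' <;> cases form v w' <;> rfl

theorem InK.mul_right {h h' : G} {w : V} (H : S.InK h w) (H' : S.InK h' 0) : S.InK (h * h') w := by
  have H2 := H.1.mul S H'.1
  rw [add_zero] at H2
  obtain ⟨c, v, d, hv, hh⟩ := H'.1.ker
  have hc : c = false := S.em_of_mem (by rw [← hh]; exact H'.2.2 rfl)
  subst hc
  obtain ⟨a1, ⟨d', a2⟩, a3⟩ := H
  refine ⟨H2, ⟨form v w ^^ d', ?_⟩, fun h1 => S.L.mul_mem (a3 h1) (H'.2.2 rfl)⟩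
  calc h * h' * (h * h') = (h * h') * h * h' := by group
    _ = S.em false v (d ^^ form v w) * (h * h) * S.em false v d := by
        rw [hh, a1.conj_em S hv]; group
    _ = pw (form v w ^^ d') S.b := by
        rw [a2, ← S.em_b' d', S.em_mul hv inU_zero, add_zero, form_zero_right, S.em_mul hv hv, aa,
          form_self, ← S.em_b']
        congr 1
        cases d <;> cases d' <;> cases form v w <;> rfl

theorem inK_em {v : V} (hv : InU v) (d : Bool) : S.InK (S.em false v d) 0 :=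
  ⟨Ov.em S hv _ _, ⟨false, by rw [S.em_sq hv, pw_false]⟩, fun _ => S.em_false_mem _ _⟩

theorem InK.mul {h h' : G} {w w' : V} (H : S.InK h w) (H' : S.InK h' w') :
    S.InK (h * h') (w + w') := by
  have H2 := H.1.mul S H'.1
  have hwU := H.1.hw
  by_cases h0 : w = 0
  · subst h0
    rw [zero_add]
    exact H.mul_left S H'
  by_cases h0' : w' = 0
  · subst h0'
    rw [add_zero]
    exact H.mul_right S H'
  by_cases hww : w = w'
  · subst hww
    rw [aa] at H2 ⊢
    -- `h * h'` is in `E1`; it is in `L`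
    obtain ⟨c, v, d, hv, hh⟩ := H2.ker
    cases c
    · exact ⟨H2, ⟨false, by rw [hh, S.em_sq hv, pw_false]⟩, fun _ => by
        rw [hh]; exact S.em_false_mem _ _⟩
    · exfalso
      have hi := InK.inv S H
      have h1 : h' * S.em false v d = S.t * (S.Z e1 w * h⁻¹) := by
        have h2 : S.em true v d = S.t * S.em false v d := by
          unfold Std.em; rw [pw_true, pw_false, one_mul]
        have h3 : h' = h⁻¹ * (S.t * S.em false v d) := by rw [← h2, ← hh]; group
        rw [h3]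
        calc h⁻¹ * (S.t * S.em false v d) * S.em false v d =
            (h⁻¹ * S.t) * (S.em false v d * S.em false v d) := by group
          _ = S.t * (S.Z e1 w * h⁻¹) := by rw [S.em_sq hv, mul_one, hi.1.ht]; group
      have h4 := H'.mul_right S (S.inK_em hv d)
      rw [h1] at h4
      have h5 := (S.inK_em hwU false).mul_left S hi
      rw [S.em_Y] at h5
      exact S.not_both h5 h4
  · exact ⟨H2, S.lemB H H' h0 h0' hww, fun h1 => absurd (eq_of_add h1) hww⟩

end Std

end Cfsg.Agent.StdSpSix.PatTwo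
end

-- part: StdSpSix/PatTwoH
section
/-!
Pattern `{a2}`: the subgroup `H = R1 · Stab_L(e1, ⟨e1, e2⟩)` and its sign.
-/

set_option autoImplicit false

namespace Cfsg.Agent.StdSpSix.PatTwo

open V

namespace Std

open Six

variable {G : Type*} [Group G] (S : Std G)

/-- A quadratic form of minus type on `e1^⊥ / e1`. -/
def qf (x : V) : Bool := (form x f2 && form x e2) ^^ (form x e3 || form x f3)

theorem qf_add : ∀ x y : V, form e1 x = false → form e1 y = false →
    qf (x + y) = (qf x ^^ qf y ^^ form x y) := by (first | (refine of_decide_eq_true ?_; delta Cfsg.Agent.StdSpSix.PatTwo.V.e1; rewrite [Cfsg.Agent.KOc205842.e0, Cfsg.Agent.KOc205842.e3, Cfsg.Agent.KOc205842.e13, Cfsg.Agent.KOc205842.e5, Cfsg.Agent.KOc205842.e12, Cfsg.Agent.KOc205842.e18, Cfsg.Agent.KOc205842.e10]; decide +kernel) | decide +kernel)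

/-- Stabiliser of the flag `e1 < ⟨e1, e2⟩`. -/
structure Ku (k : G) : Prop where
  p : S.Pk k
  h : prj (S.act k e2) = e2

theorem e2_perp : form e1 e2 = false := by decide

theorem Ku.mul {k l : G} (hk : S.Ku k) (hl : S.Ku l) : S.Ku (k * l) := by
  refine ⟨hk.p.mul S hl.p, ?_⟩
  rw [S.act_mul _ hk.p.mem _ hl.p.mem, ← S.act_prj hk.p (hl.p.perp S e2_perp), hl.h, hk.h]

theorem Ku.inv {k : G} (hk : S.Ku k) : S.Ku k⁻¹ := by
  refine ⟨hk.p.inv S, ?_⟩
  have h1 := S.act_prj (hk.p.inv S) (hk.p.perp S e2_perp)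
  rw [hk.h, S.act_inv_act hk.p.mem] at h1
  rw [h1]
  decide

theorem Ku.one : S.Ku 1 := ⟨⟨S.L.one_mem, S.act_one _⟩, by rw [S.act_one]; decide⟩

/-- The character of the flag stabiliser. -/
def chi (k : G) : Bool := qf (S.act k f2)

theorem dec_qf3 : ∀ y z : V, form e1 y = false → form y e2 = false → form e1 z = false →
    form z e2 = false → form y z = true → qf y = true ∧ qf z = true := by (first | (refine of_decide_eq_true ?_; delta Cfsg.Agent.StdSpSix.PatTwo.V.e1 Cfsg.Agent.StdSpSix.PatTwo.V.e2; rewrite [Cfsg.Agent.KOc205842.e0, Cfsg.Agent.KOc205842.e3, Cfsg.Agent.KOc205842.e20, Cfsg.Agent.KOc205842.e5, Cfsg.Agent.KOc205842.e12, Cfsg.Agent.KOc205842.e18, Cfsg.Agent.KOc205842.e13, Cfsg.Agent.KOc205842.e19]; decide +kernel) | decide +kernel)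

theorem dec_e2k : ∀ x : V, form e1 x = false → prj x = e2 → x = e2 ∨ x = e2 + e1 := by decide +kernel

theorem Ku.form_e2 {k : G} (hk : S.Ku k) {x : V} (hx : V.form e1 x = false) :
    V.form (S.act k x) e2 = V.form x e2 := by
  have h1 := hk.p.perp S hx
  rw [form_comm] at h1
  rcases dec_e2k _ (hk.p.perp S e2_perp) hk.h with h | h
  · conv_lhs => rw [← h]
    exact S.act_form k hk.p.mem _ _
  · have h2 := S.act_form k hk.p.mem x e2
    rw [h, form_add_right, h1, Bool.xor_false] at h2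
    exact h2

theorem chi_key {k : G} (hk : S.Ku k) {x : V} (hx : form e1 x = false) :
    qf (S.act k x) = (qf x ^^ (S.chi k && form x e2)) := by
  have hkm := hk.p.mem
  let P : V → Prop := fun x => qf (S.act k x) = (qf x ^^ (S.chi k && form x e2))
  have hadd : ∀ x y, form e1 x = false → form e1 y = false → P x → P y → P (x + y) := by
    intro x y hx hy px py
    change qf (S.act k (x + y)) = (qf (x + y) ^^ (S.chi k && form (x + y) e2))
    rw [S.act_add k hkm, qf_add _ _ (hk.p.perp S hx) (hk.p.perp S hy), px, py, qf_add _ _ hx hy,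
      S.act_form k hkm, form_add_left]
    cases qf x <;> cases qf y <;> cases form x y <;> cases form x e2 <;> cases form y e2 <;>
      cases S.chi k <;> rfl
  have h0 : P 0 := by
    change qf (S.act k 0) = (qf 0 ^^ (S.chi k && form 0 e2))
    rw [S.act_zero hkm, form_zero_left]
    cases S.chi k <;> decide
  have hsm : ∀ c u, P u → P (sm c u) := by
    intro c u pu
    cases c
    · exact h0
    · exact pu
  have p1 : P e1 := by
    change qf (S.act k e1) = (qf e1 ^^ (S.chi k && form e1 e2))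
    rw [hk.p.h]
    cases S.chi k <;> decide
  have p2 : P e2 := by
    change qf (S.act k e2) = (qf e2 ^^ (S.chi k && form e2 e2))
    rcases dec_e2k _ (hk.p.perp S e2_perp) hk.h with h | h <;> rw [h] <;>
      cases S.chi k <;> decide
  have p4 : P f2 := by
    change qf (S.act k f2) = (qf f2 ^^ (S.chi k && form f2 e2))
    rw [show form f2 e2 = true by decide, show qf f2 = false by decide, Bool.and_true, Bool.false_xor]
    rfl
  obtain ⟨h3, h5⟩ := dec_qf3 (S.act k e3) (S.act k f3) (hk.p.perp S (by decide))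
    (by rw [hk.form_e2 S (by decide)]; decide) (hk.p.perp S (by decide))
    (by rw [hk.form_e2 S (by decide)]; decide) (by rw [S.act_form k hkm]; decide)
  have p3 : P e3 := by
    change qf (S.act k e3) = (qf e3 ^^ (S.chi k && form e3 e2))
    rw [h3]
    cases S.chi k <;> decide
  have p5 : P f3 := by
    change qf (S.act k f3) = (qf f3 ^^ (S.chi k && form f3 e2))
    rw [h5]
    cases S.chi k <;> decide
  have : ∃ a b c d e : Bool, x = sm a e1 + (sm b e2 + (sm c e3 + (sm d f2 + sm e f3))) := by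
    clear * - hx
    revert x
    decide +kernel
  obtain ⟨a, b', c, d, e, rfl⟩ := this
  have ps : ∀ c u, form e1 u = false → form e1 (sm c u) = false := by
    intro c u hu
    cases c
    · exact form_zero_right _
    · exact hu
  have pa : ∀ u v, form e1 u = false → form e1 v = false → form e1 (u + v) = false := by
    intro u v hu hv
    rw [form_add_right, hu, hv]; rfl
  have s1 := ps a e1 (by decide)
  have s2 := ps b' e2 (by decide)
  have s3 := ps c e3 (by decide)
  have s4 := ps d f2 (by decide)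
  have s5 := ps e f3 (by decide)
  exact hadd _ _ s1 (pa _ _ s2 (pa _ _ s3 (pa _ _ s4 s5))) (hsm _ _ p1)
    (hadd _ _ s2 (pa _ _ s3 (pa _ _ s4 s5)) (hsm _ _ p2)
      (hadd _ _ s3 (pa _ _ s4 s5) (hsm _ _ p3) (hadd _ _ s4 s5 (hsm _ _ p4) (hsm _ _ p5))))

theorem chi_mul {k l : G} (hk : S.Ku k) (hl : S.Ku l) : S.chi (k * l) = (S.chi k ^^ S.chi l) := by
  unfold chi
  have h2 := S.chi_key hk (hl.p.perp S (show form e1 f2 = false by decide))
  rw [S.act_mul _ hk.p.mem _ hl.p.mem, h2, hl.form_e2 S (by decide), show form f2 e2 = true by decide,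
    Bool.and_true, Bool.xor_comm]
  rfl

theorem act_em_false {v : V} (hv : InU v) (d : Bool) {x : V} (hx : form e1 x = false) :
    S.act (S.em false v d) x = zf e1 v x := by
  unfold em
  rw [pw_false, one_mul, S.act_mul _ (S.Z_mem _ _) _ (pw_mem S.b_mem _), S.act_pw, b, S.act_T,
    trf_eq, form_comm, hx, sm_false, add_zero]
  cases d <;> exact S.act_Z hv.perp x

theorem dec_ku : ∀ v : V, InU v → prj (zf e1 v e2) = e2 ∧ zf e1 v e1 = e1 ∧ qf (zf e1 v f2) = false := by
  decide +kernel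

theorem Ku_em {v : V} (hv : InU v) (d : Bool) : S.Ku (S.em false v d) := by
  refine ⟨⟨S.em_false_mem _ _, ?_⟩, ?_⟩
  · rw [S.act_em_false hv d (by decide)]
    exact (dec_ku v hv).2.1
  · rw [S.act_em_false hv d (by decide)]
    exact (dec_ku v hv).1

theorem chi_em {v : V} (hv : InU v) (d : Bool) : S.chi (S.em false v d) = false := by
  unfold chi
  rw [S.act_em_false hv d (by decide)]
  exact (dec_ku v hv).2.2

theorem chi_one : S.chi 1 = false := by
  rw [← S.em_zero]
  exact S.chi_em inU_zero _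

/-- Elements over a translation which lie in `L`. -/
theorem Ov.of_mem {h : G} {w : V} (H : S.Ov h w) (hL : h ∈ S.L) :
    w = 0 ∧ ∃ v d, InU v ∧ h = S.em false v d := by
  have h1 : w = 0 := by
    have h2 := H.ht
    rw [(S.comm h hL).eq] at h2
    have h3 : S.t * 1 = S.t * S.Z e1 w := by
      rw [mul_one]; exact mul_right_cancel h2
    have h4 := mul_left_cancel h3
    rw [← S.Z_zero e1] at h4
    exact (S.Y_inj inU_zero H.hw h4).symm
  subst h1
  obtain ⟨c, v, d, hv, hh⟩ := H.ker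
  have hc : c = false := S.em_of_mem (by rw [← hh]; exact hL)
  subst hc
  exact ⟨rfl, v, d, hv, hh⟩

/-- The subgroup `H`. -/
def HH : Subgroup G where
  carrier := {g | ∃ h w k, S.Ov h w ∧ S.Ku k ∧ g = h * k}
  mul_mem' := by
    rintro _ _ ⟨h, w, k, hh, hk, rfl⟩ ⟨h', w', k', hh', hk', rfl⟩
    exact ⟨h * (k * h' * k⁻¹), _, k * k', hh.mul S (hh'.conj S hk.p), hk.mul S hk', by group⟩
  one_mem' := ⟨1, 0, 1, Ov.one S, Ku.one S, by group⟩
  inv_mem' := by
    rintro _ ⟨h, w, k, hh, hk, rfl⟩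
    exact ⟨k⁻¹ * h⁻¹ * k⁻¹⁻¹, _, k⁻¹, (hh.inv S).conj S (hk.p.inv S), hk.inv S, by group⟩

theorem mem_HH_of_Ov {h : G} {w : V} (H : S.Ov h w) : h ∈ S.HH := ⟨h, w, 1, H, Ku.one S, by group⟩
theorem mem_HH_of_Ku {k : G} (H : S.Ku k) : k ∈ S.HH := ⟨1, 0, k, Ov.one S, H, by group⟩

/-- Graph of the sign of `H`. -/
def Lam (g : G) (c : Bool) : Prop :=
  ∃ h w k d, S.InK (pw d S.t * h) w ∧ S.Ku k ∧ g = h * k ∧ c = (d ^^ S.chi k)

theorem Ov_of_pw {h : G} {w : V} {d : Bool} (H : S.InK (pw d S.t * h) w) : S.Ov h w := by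
  have h1 : S.Ov (pw d S.t) 0 := by
    cases d
    · exact Ov.one S
    · exact Ov.t S
  have h2 := (h1.inv S).mul S H.1
  rwa [inv_mul_cancel_left, zero_add] at h2

theorem exists_Lam {g : G} (hg : g ∈ S.HH) : ∃ c, S.Lam g c := by
  obtain ⟨h, w, k, hh, hk, rfl⟩ := hg
  rcases S.dich hh with h1 | h1
  · exact ⟨_, h, w, k, false, by rw [pw_false, one_mul]; exact h1, hk, rfl, rfl⟩
  · exact ⟨_, h, w, k, true, h1, hk, rfl, rfl⟩

theorem not_both' {h : G} {w : V} {d d' : Bool} (H : S.InK (pw d S.t * h) w)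
    (H' : S.InK (pw d' S.t * h) w) : d = d' := by
  cases d <;> cases d'
  · rfl
  · exfalso
    rw [pw_false, one_mul] at H
    exact S.not_both H H'
  · exfalso
    rw [pw_false, one_mul] at H'
    exact S.not_both H' H
  · rfl

theorem Lam_unique {g : G} {c c' : Bool} (H : S.Lam g c) (H' : S.Lam g c') : c = c' := by
  obtain ⟨h, w, k, d, h1, h2, h3, rfl⟩ := H
  obtain ⟨h', w', k', d', h1', h2', h3', rfl⟩ := H'
  have o := S.Ov_of_pw h1
  have o' := S.Ov_of_pw h1'
  have e : h'⁻¹ * h = k' * k⁻¹ := by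
    have : h * k = h' * k' := by rw [← h3, ← h3']
    rw [inv_mul_eq_iff_eq_mul, ← mul_assoc, ← this]; group
  have hz := (o'.inv S).mul S o
  obtain ⟨hw, v, e0, hv, hem⟩ := hz.of_mem S (by
    rw [e]; exact S.L.mul_mem h2'.p.mem (S.L.inv_mem h2.p.mem))
  have hww : w' = w := eq_of_add hw
  subst hww
  have hk : k' = S.em false v e0 * k := by rw [← hem, e]; group
  have hh : h = h' * S.em false v e0 := by rw [← hem]; group
  have hchi : S.chi k' = S.chi k := by
    rw [hk, S.chi_mul (S.Ku_em hv e0) h2, S.chi_em hv, Bool.false_xor]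
  have h4 := h1'.mul_right S (S.inK_em hv e0)
  rw [mul_assoc, ← hh] at h4
  rw [hchi, S.not_both' h1 h4]

theorem Ov.pw_t {h : G} {w : V} (H : S.Ov h w) (c : Bool) :
    h * pw c S.t = S.Z e1 (sm c w) * (pw c S.t * h) := by
  cases c
  · rw [pw_false, sm_false, S.Z_zero]; group
  · rw [pw_true, sm_true, H.ht]
    have := (S.comm _ (S.Z_mem e1 w)).eq
    rw [← this]; group

theorem InK.pw_mul {h h' : G} {w w' : V} {c c' : Bool} (H : S.InK (pw c S.t * h) w)
    (H' : S.InK (pw c' S.t * h') w') : S.InK (pw (c ^^ c') S.t * (h * h')) (w + w') := by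
  have o := S.Ov_of_pw H
  have h1 := H.mul S H'
  have hY := S.inK_em (inU_sm o.hw c') false
  rw [S.em_Y] at hY
  have h2 := (hY.inv S).mul_left S h1
  have e : (S.Z e1 (sm c' w))⁻¹ * (pw c S.t * h * (pw c' S.t * h')) =
      pw (c ^^ c') S.t * (h * h') := by
    have h3 := S.t_comm (S.L.inv_mem (S.Z_mem e1 (sm c' w))) c
    calc (S.Z e1 (sm c' w))⁻¹ * (pw c S.t * h * (pw c' S.t * h')) =
        ((S.Z e1 (sm c' w))⁻¹ * pw c S.t) * (h * pw c' S.t) * h' := by group
      _ = pw c S.t * pw c' S.t * (h * h') := by rw [h3, o.pw_t S]; group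
      _ = _ := by rw [← pw_xor S.tt]
  rw [e] at h2
  exact h2

theorem InK.pw_conj {h k : G} {w : V} {c : Bool} (H : S.InK (pw c S.t * h) w) (hk : S.Pk k) :
    S.InK (pw c S.t * (k * h * k⁻¹)) (prj (S.act k w)) := by
  have h1 := H.conj S hk
  have : k * (pw c S.t * h) * k⁻¹ = pw c S.t * (k * h * k⁻¹) := by
    rw [← mul_assoc, S.t_comm hk.mem c]; group
  rwa [this] at h1

theorem Lam_mul {g g' : G} {c c' : Bool} (H : S.Lam g c) (H' : S.Lam g' c') :
    S.Lam (g * g') (c ^^ c') := by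
  obtain ⟨h, w, k, d, h1, h2, rfl, rfl⟩ := H
  obtain ⟨h', w', k', d', h1', h2', rfl, rfl⟩ := H'
  refine ⟨h * (k * h' * k⁻¹), _, k * k', d ^^ d', h1.pw_mul S (h1'.pw_conj S h2.p), h2.mul S h2',
    by group, ?_⟩
  rw [S.chi_mul h2 h2']
  cases d <;> cases d' <;> cases S.chi k <;> cases S.chi k' <;> rfl

/-- The sign of `H`. -/
noncomputable def lam : S.HH →* ℤˣ where
  toFun g := bif (S.exists_Lam g.2).choose then -1 else 1
  map_one' := by
    have h1 := (S.exists_Lam (1 : S.HH).2).choose_spec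
    have h2 : S.Lam ((1 : S.HH) : G) false := by
      refine ⟨1, 0, 1, false, ?_, Ku.one S, by simp, ?_⟩
      · rw [pw_false, one_mul, ← S.em_zero]
        exact S.inK_em inU_zero _
      · rw [S.chi_one]; rfl
    rw [S.Lam_unique h1 h2]
    rfl
  map_mul' g g' := by
    have h1 := (S.exists_Lam g.2).choose_spec
    have h2 := (S.exists_Lam g'.2).choose_spec
    have h3 := (S.exists_Lam (g * g').2).choose_spec
    rw [S.Lam_unique h3 (S.Lam_mul h1 h2)]
    cases (S.exists_Lam g.2).choose <;> cases (S.exists_Lam g'.2).choose <;> rfl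

theorem lam_eq {g : G} (hg : g ∈ S.HH) {c : Bool} (H : S.Lam g c) :
    S.lam ⟨g, hg⟩ = bif c then -1 else 1 := by
  have h1 := (S.exists_Lam hg).choose_spec
  change (bif (S.exists_Lam hg).choose then (-1 : ℤˣ) else 1) = _
  rw [S.Lam_unique h1 H]

theorem Lam_t : S.Lam S.t true := by
  refine ⟨S.t, 0, 1, true, ?_, Ku.one S, by rw [mul_one], ?_⟩
  · rw [pw_true, S.tt, ← S.em_zero]
    exact S.inK_em inU_zero _
  · rw [S.chi_one]; rfl

theorem Lam_Ku {k : G} (hk : S.Ku k) : S.Lam k (S.chi k) := by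
  refine ⟨1, 0, k, false, ?_, hk, by rw [one_mul], ?_⟩
  · rw [pw_false, one_mul, ← S.em_zero]
    exact S.inK_em inU_zero _
  · rw [Bool.false_xor]

theorem t_mem_HH : S.t ∈ S.HH := S.mem_HH_of_Ov (Ov.t S)

theorem lam_t : S.lam ⟨S.t, S.t_mem_HH⟩ = -1 := S.lam_eq _ S.Lam_t

end Std

end Cfsg.Agent.StdSpSix.PatTwo
end

private theorem dce_5278caed4deb : _root_.True := by
  try have : _root_.True := by simp only [_root_.Cfsg.Agent.StdSpSix.PatTwo.Six.b.eq_1]
  try have : _root_.True := by simp only [_root_.Cfsg.Agent.StdSpSix.PatTwo.V.mk.congr_simp]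
  exact _root_.True.intro
end

-- part: StdSpSix/SwDefs
section
set_option linter.all false

/-!
# The elements `y_u`

`IsY C u g`: `g` is an involution with `t^g = t b_u` commuting with `C_L(b_u)`.
-/

set_option autoImplicit false

namespace Cfsg.Agent.StdSpSix

variable {G V : Type*} [Group G] [AddCommGroup V] [Module (ZMod 2) V]

/-- `g² = 1`, `g t g = t b_u`, and `g` commutes with every element of `L` commuting with `b_u`. -/
structure IsY (C : Ctx G V) (u : V) (g : G) : Prop where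
  sq : g * g = 1
  conj : g * C.t * g = C.t * C.b u
  comm : ∀ x ∈ C.L, Commute x (C.b u) → Commute x g

end Cfsg.Agent.StdSpSix
end

-- part: StdSpSix/AbelCheck
section
set_option linter.all false
open scoped Cfsg.Agent.FastGrp

/-!
# Kernel checks on elements of order 4 of `GL₃(2)`
-/

set_option autoImplicit false

namespace Cfsg.Agent.StdSpSix.AbelRank

open Matrix
open Cfsg.Agent.StdSpSix.QLevelModel

/-- order dividing 4 -/
def Four (M : M3) : Prop := M * M * (M * M) = 1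

instance (M : M3) : Decidable (Four M) := by unfold Four; infer_instance

set_option genSizeOf false in
set_option genInjectivity false in
/-- matrices of Booleans -/
private structure B9 where
  (a b c d e f g h i : Bool)

private def z (b : Bool) : ZMod 2 := cond b 1 0

private def toM (x : B9) : M3 := !![z x.a, z x.b, z x.c; z x.d, z x.e, z x.f; z x.g, z x.h, z x.i]

private noncomputable def xr (a b : Bool) : Bool := Bool.rec b (Bool.rec true false b) a

private noncomputable def dt (a b c d e f : Bool) : Bool := xr (xr (Bool.rec false b a) (Bool.rec false d c)) (Bool.rec false f e)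

private theorem z_dt : ∀ a b c d e f : Bool, z a * z b + z c * z d + z e * z f = z (dt a b c d e f) := by decide +kernel

private noncomputable def mul (x y : B9) : B9 :=
  ⟨dt x.a y.a x.b y.d x.c y.g, dt x.a y.b x.b y.e x.c y.h, dt x.a y.c x.b y.f x.c y.i,
   dt x.d y.a x.e y.d x.f y.g, dt x.d y.b x.e y.e x.f y.h, dt x.d y.c x.e y.f x.f y.i,
   dt x.g y.a x.h y.d x.i y.g, dt x.g y.b x.h y.e x.i y.h, dt x.g y.c x.h y.f x.i y.i⟩

private theorem toM_mul (x y : B9) : toM x * toM y = toM (mul x y) := by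
  delta toM mul
  rw [Matrix.mul_fin_three]
  simp only [z_dt]

private def tr (x : B9) : B9 := ⟨x.a, x.d, x.g, x.b, x.e, x.h, x.c, x.f, x.i⟩

private theorem toM_tr (x : B9) : (toM x)ᵀ = toM (tr x) := by
  ext i j
  fin_cases i <;> fin_cases j <;> (conv_lhs => whnf) <;> (conv_rhs => whnf) <;> rfl

private def one : B9 := ⟨true, false, false, false, true, false, false, false, true⟩

private theorem toM_one : (1 : M3) = toM one := Matrix.one_fin_three

private noncomputable def ne (x y : B9) : Bool := xr x.a y.a || (xr x.b y.b || (xr x.c y.c || (xr x.d y.d || (xr x.e y.e ||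
  (xr x.f y.f || (xr x.g y.g || (xr x.h y.h || xr x.i y.i)))))))

private theorem toM_eq (x y : B9) : toM x = toM y ↔ ne x y = false := by
  have hz : ∀ a b : Bool, z a = z b ↔ xr a b = false := by decide +kernel
  delta ne
  simp only [Bool.or_eq_false_iff, ← hz]
  refine ⟨fun h => ⟨congrFun (congrFun h 0) 0, congrFun (congrFun h 0) 1, congrFun (congrFun h 0) 2, congrFun (congrFun h 1) 0,
    congrFun (congrFun h 1) 1, congrFun (congrFun h 1) 2, congrFun (congrFun h 2) 0, congrFun (congrFun h 2) 1,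
    congrFun (congrFun h 2) 2⟩, fun ⟨h1, h2, h3, h4, h5, h6, h7, h8, h9⟩ => ?_⟩
  delta toM
  rw [h1, h2, h3, h4, h5, h6, h7, h8, h9]

private theorem z_surj : ∀ y : ZMod 2, ∃ b, y = z b := by decide

private theorem toM_surj (M : M3) : ∃ x, M = toM x := by
  choose f hf using z_surj
  refine ⟨⟨f (M 0 0), f (M 0 1), f (M 0 2), f (M 1 0), f (M 1 1), f (M 1 2), f (M 2 0), f (M 2 1), f (M 2 2)⟩, ?_⟩
  delta toM
  simp only [← hf]
  exact Matrix.eta_fin_three M

private def al (p : Bool → Bool) : Bool := p false && p true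

private theorem al_spec {p : Bool → Bool} (h : al p = true) : ∀ b, p b = true
  | false => (Bool.and_eq_true_iff.1 h).1
  | true => (Bool.and_eq_true_iff.1 h).2

private def al9 (p : B9 → Bool) : Bool := al fun a => al fun b => al fun c => al fun d => al fun e => al fun f => al fun g =>
  al fun h => al fun i => p ⟨a, b, c, d, e, f, g, h, i⟩

private theorem al9_spec {p : B9 → Bool} (h : al9 p = true) (x : B9) : p x = true :=
  al_spec (al_spec (al_spec (al_spec (al_spec (al_spec (al_spec (al_spec (al_spec h x.a) x.b) x.c) x.d) x.e) x.f) x.g) x.h) x.i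

/-- not of order 4 -/
private noncomputable def n4 (x : B9) : Bool := ne (mul (mul x x) (mul x x)) one || !ne (mul x x) one

private theorem n4_eq {x : B9} (h : Four (toM x) ∧ toM x * toM x ≠ 1) : n4 x = false := by
  delta Four at h
  rw [toM_mul, toM_mul, toM_one, Ne, toM_eq, toM_eq, Bool.not_eq_false] at h
  delta n4
  rw [h.1, h.2]
  rfl

/-- the symmetric matrices -/
private def syms : List B9 := [false, true].flatMap fun a => [false, true].flatMap fun b => [false, true].flatMap fun c =>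
  [false, true].flatMap fun d => [false, true].flatMap fun e => [false, true].map fun f => ⟨a, d, e, d, b, f, e, f, c⟩

private theorem sy_mem (v : Fin 6 → ZMod 2) : ∃ y ∈ syms, sy v = toM y := by
  choose f hf using z_surj
  have hb : ∀ b : Bool, b ∈ [false, true] := by decide
  refine ⟨⟨f (v 0), f (v 3), f (v 4), f (v 3), f (v 1), f (v 5), f (v 4), f (v 5), f (v 2)⟩,
    List.mem_flatMap.2 ⟨_, hb _, List.mem_flatMap.2 ⟨_, hb _, List.mem_flatMap.2 ⟨_, hb _, List.mem_flatMap.2 ⟨_, hb _,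
      List.mem_flatMap.2 ⟨_, hb _, List.mem_map.2 ⟨_, hb _, rfl⟩⟩⟩⟩⟩⟩, ?_⟩
  delta toM
  simp only [← hf]
  rfl

theorem q1 : ∀ M : M3, (Four M ∧ M * M ≠ 1) →
    (Finset.univ.filter fun x : Fin 6 → ZMod 2 => M * sy x * Mᵀ = sy x).card ≤ 8 := by
  have key : al9 (fun x => n4 x || Nat.ble (syms.filter fun y => !ne (mul (mul x y) (tr x)) y).length 8) = true := by
    decide +kernel
  intro M hM
  obtain ⟨x, rfl⟩ := toM_surj M
  have h := al9_spec key x
  rw [n4_eq hM, Bool.false_or] at h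
  refine le_trans ?_ ((List.length_map toM).trans_le (Nat.le_of_ble_eq_true h))
  refine le_trans (Finset.card_le_card_of_injOn sy (fun v hv => ?_) fun v _ w _ => sy_inj) (List.toFinset_card_le _)
  obtain ⟨y, hy, e⟩ := sy_mem v
  have h1 := (Finset.mem_filter.1 hv).2
  rw [e, toM_mul, toM_tr, toM_mul, toM_eq] at h1
  exact List.mem_toFinset.2 (List.mem_map.2 ⟨y, List.mem_filter.2 ⟨hy, by rw [h1]; rfl⟩, e.symm⟩)

/-- the centraliser condition -/
def Cen (M : M3) : Prop := ∀ N : M3, (Four N ∧ M * N = N * M) → N = 1 ∨ N = M ∨ N = M * M ∨ N = M * M * M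

instance (M : M3) : Decidable (Cen M) := by unfold Cen; infer_instance

theorem q2 : ∀ M : M3, (Four M ∧ M * M ≠ 1) → Cen M := by
  have key : al9 (fun x => n4 x || al9 fun y => ne (mul x y) (mul y x) || (ne (mul (mul y y) (mul y y)) one || (!ne y one ||
      (!ne y x || (!ne y (mul x x) || !ne y (mul (mul x x) x)))))) = true := by decide +kernel
  intro M hM N hN
  obtain ⟨x, rfl⟩ := toM_surj M
  obtain ⟨y, rfl⟩ := toM_surj N
  have h := al9_spec key x
  rw [n4_eq hM, Bool.false_or] at h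
  have h1 := al9_spec h y
  delta Four at hN
  rw [toM_mul, toM_mul, toM_mul, toM_mul, toM_one, toM_eq, toM_eq] at hN
  rw [hN.1, hN.2, Bool.false_or, Bool.false_or] at h1
  rw [toM_mul, toM_mul, toM_one, toM_eq, toM_eq, toM_eq, toM_eq]
  simpa only [Bool.or_eq_true, Bool.not_eq_true'] using h1

end Cfsg.Agent.StdSpSix.AbelRank
end

-- part: StdO8/DoubCore
section
prune_inst 0x404202004110000000018051020003c46d6000090006b00016060034607c08f40a04707618ce01610101226542834004011100470023000002a000800413807a9002a00028008a000210000009005180c00000000000000000000000000000000000400000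
set_option linter.all false
open scoped Cfsg.Agent.FastGrp

/-!
# Doubling of a root element of `Ω₈⁺(2)`: normalisation (S1734)

`t` is an involution, `L ≤ C(t)`, `z ∈ L` a root element, `D = ⟨d₀, d₁, d₂⟩` a Sylow 3-subgroup of `C_L(z)`,
`Q = O₂(C_L(z))`, `τ i` involutions inverting `d i`, `r ∈ Q` fixed by the `τ i`.
If some element of `G` fixes `z` and interchanges `t` and `tz`, then some involution does and centralises `r`,
permutes the `d i` and (modulo `⟨t, z⟩`) the `τ i`.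
-/

set_option autoImplicit false
set_option linter.all false

namespace Cfsg.Agent.StdO8.DoubCore

open Subgroup

variable {G : Type*} [Group G]

/-- `D = ⟨d₀, d₁, d₂⟩` -/
def DD (d : Fin 3 → G) : Subgroup G := closure (Set.range d)

/-- `Q = ⟨z, r^c : c ∈ D⟩` -/
def QQ (z r : G) (d : Fin 3 → G) : Subgroup G := closure ({z} ∪ {x | ∃ c ∈ DD d, x = c * r * c⁻¹})

/-- `s ∈ ⟨t, z⟩` -/
def TZ (t z s : G) : Prop := s = 1 ∨ s = t ∨ s = z ∨ s = t * z

/-- The facts about `C_G(t)`. -/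
structure Core (t z r : G) (L : Subgroup G) (d τ : Fin 3 → G) : Prop where
  tt : t * t = 1
  tL : ∀ g ∈ L, t * g = g * t
  t_notMem : t ∉ L
  zL : z ∈ L
  rL : r ∈ L
  dL : ∀ i, d i ∈ L
  τL : ∀ i, τ i ∈ L
  z1 : z ≠ 1
  zz : z * z = 1
  r1 : r ≠ 1
  rz : r ≠ z
  rr : r * r = 1
  ττ : ∀ i, τ i * τ i = 1
  d3 : ∀ i, d i * d i * d i = 1
  d1 : ∀ i, d i ≠ 1
  zr : z * r = r * z
  zd : ∀ i, z * d i = d i * z
  zτ : ∀ i, z * τ i = τ i * z
  dd : ∀ i j, d i * d j = d j * d i
  τc : ∀ i j, τ i * τ j = τ j * τ i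
  τd : ∀ i j, i ≠ j → τ i * d j = d j * τ i
  τdi : ∀ i, τ i * d i * τ i = (d i)⁻¹
  rτ : ∀ i, r * τ i = τ i * r
  rd : ∀ i, r * (d i * r * (d i)⁻¹) * ((d i)⁻¹ * r * d i) = 1
  /-- (f2) -/
  frat : ∀ g : G, g * z * g⁻¹ = z → g * t * g⁻¹ = t * z →
    ∃ c : G, c * t = t * c ∧ c * z = z * c ∧ ∀ e ∈ DD d, (c * g) * e * (c * g)⁻¹ ∈ DD d
  /-- (f3) -/
  cD : ∀ g : G, g * t = t * g → g * z = z * g → (∀ i, g * d i = d i * g) →
    ∃ s, TZ t z s ∧ ∃ c ∈ DD d, g = s * c
  /-- (f4) -/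
  nQD : ∀ g : G, g * t = t * g → g * z = z * g → ∀ i, ∃ q ∈ QQ z r d, ∃ c ∈ DD d, g * d i * g⁻¹ = q * c
  /-- (f5) -/
  QD2 : ∀ q ∈ QQ z r d, ∀ c ∈ DD d, q * c * (q * c) = 1 → c = 1
  /-- (f6) -/
  Qd : ∀ i, ∀ q ∈ QQ z r d, q * d i = d i * q → q = 1 ∨ q = z
  Qτ : ∀ q ∈ QQ z r d, (∀ i, q * τ i = τ i * q) → q = 1 ∨ q = z ∨ q = r ∨ q = r * z
  rc : ∀ c ∈ DD d, r * c = c * r → c = 1
  Qc : ∀ c ∈ DD d, c ≠ 1 → (∀ i, c ≠ d i ∧ c ≠ (d i)⁻¹) → ∃ q ∈ QQ z r d, q ≠ 1 ∧ q ≠ z ∧ q * c = c * q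

namespace Core

variable {t z r : G} {L : Subgroup G} {d τ : Fin 3 → G}

section basic

variable (K : Core t z r L d τ)

include K

theorem tz : t * z = z * t := K.tL z K.zL

theorem τinv (i : Fin 3) : (τ i)⁻¹ = τ i := inv_eq_of_mul_eq_one_right (K.ττ i)

theorem DL {c : G} (hc : c ∈ DD d) : c ∈ L := by
  have : DD d ≤ L := by
    rw [DD, closure_le]
    rintro _ ⟨i, rfl⟩
    exact K.dL i
  exact this hc

theorem D_z {c : G} (hc : c ∈ DD d) : z * c = c * z := by
  have : DD d ≤ centralizer {z} := by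
    rw [DD, closure_le]
    rintro _ ⟨i, rfl⟩
    exact mem_centralizer_singleton_iff.2 (K.zd i).symm
  exact (mem_centralizer_singleton_iff.1 (this hc)).symm

theorem D_d {c : G} (hc : c ∈ DD d) (i : Fin 3) : d i * c = c * d i := by
  have : DD d ≤ centralizer {d i} := by
    rw [DD, closure_le]
    rintro _ ⟨j, rfl⟩
    exact mem_centralizer_singleton_iff.2 (K.dd j i)
  exact (mem_centralizer_singleton_iff.1 (this hc)).symm

theorem D_comm {a b : G} (ha : a ∈ DD d) (hb : b ∈ DD d) : a * b = b * a := by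
  have : DD d ≤ centralizer {b} := by
    rw [DD, closure_le]
    rintro _ ⟨j, rfl⟩
    exact mem_centralizer_singleton_iff.2 (K.D_d hb j)
  exact mem_centralizer_singleton_iff.1 (this ha)

theorem d_mem (i : Fin 3) : d i ∈ DD d := subset_closure ⟨i, rfl⟩

theorem D3 {c : G} (hc : c ∈ DD d) : c * c * c = 1 := by
  induction hc using closure_induction with
  | mem x hx =>
    obtain ⟨i, rfl⟩ := hx
    exact K.d3 i
  | one => simp
  | mul a b ha hb h1 h2 =>
    have hab : a * b = b * a := K.D_comm ha hb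
    have : a * b * (a * b) * (a * b) = (a * a * a) * (b * b * b) := by
      have hc : Commute a b := hab
      have e1 : a * b * (a * b) * (a * b) = (a * b) ^ 3 := by rw [pow_succ, pow_two]
      have e2 : (a * a * a) * (b * b * b) = a ^ 3 * b ^ 3 := by
        rw [pow_succ, pow_two, pow_succ, pow_two]
      rw [e1, e2, hc.mul_pow]
    rw [this, h1, h2, one_mul]
  | inv a ha h1 =>
    have : a⁻¹ * a⁻¹ * a⁻¹ = (a * a * a)⁻¹ := by group
    rw [this, h1, inv_one]

theorem D_eq_one {c : G} (hc : c ∈ DD d) (h : c * c = 1) : c = 1 := by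
  have := K.D3 hc
  rwa [h, one_mul] at this

/-- normal form -/
theorem nf {c : G} (hc : c ∈ DD d) : ∃ a b e : ℤ, c = d 0 ^ a * d 1 ^ b * d 2 ^ e := by
  induction hc using closure_induction with
  | mem x hx =>
    obtain ⟨i, rfl⟩ := hx
    fin_cases i
    · exact ⟨1, 0, 0, by simp⟩
    · exact ⟨0, 1, 0, by simp⟩
    · exact ⟨0, 0, 1, by simp⟩
  | one => exact ⟨0, 0, 0, by simp⟩
  | mul x y hx hy h1 h2 =>
    obtain ⟨a, b, e, rfl⟩ := h1
    obtain ⟨a', b', e', rfl⟩ := h2
    refine ⟨a + a', b + b', e + e', ?_⟩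
    have c01 : Commute (d 0) (d 1) := K.dd 0 1
    have c02 : Commute (d 0) (d 2) := K.dd 0 2
    have c12 : Commute (d 1) (d 2) := K.dd 1 2
    rw [zpow_add, zpow_add, zpow_add]
    have e1 : d 2 ^ e * d 0 ^ a' = d 0 ^ a' * d 2 ^ e := (c02.symm.zpow_zpow e a').eq
    have e2 : d 2 ^ e * d 1 ^ b' = d 1 ^ b' * d 2 ^ e := (c12.symm.zpow_zpow e b').eq
    have e3 : d 1 ^ b * d 0 ^ a' = d 0 ^ a' * d 1 ^ b := (c01.symm.zpow_zpow b a').eq
    calc d 0 ^ a * d 1 ^ b * d 2 ^ e * (d 0 ^ a' * d 1 ^ b' * d 2 ^ e')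
        = d 0 ^ a * d 1 ^ b * (d 2 ^ e * d 0 ^ a') * d 1 ^ b' * d 2 ^ e' := by group
      _ = d 0 ^ a * (d 1 ^ b * d 0 ^ a') * (d 2 ^ e * d 1 ^ b') * d 2 ^ e' := by rw [e1]; group
      _ = d 0 ^ a * d 0 ^ a' * (d 1 ^ b * d 1 ^ b') * (d 2 ^ e * d 2 ^ e') := by rw [e2, e3]; group
  | inv x hx h1 =>
    obtain ⟨a, b, e, rfl⟩ := h1
    refine ⟨-a, -b, -e, ?_⟩
    have c01 : Commute (d 0) (d 1) := K.dd 0 1
    have c02 : Commute (d 0) (d 2) := K.dd 0 2
    have c12 : Commute (d 1) (d 2) := K.dd 1 2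
    rw [zpow_neg, zpow_neg, zpow_neg, mul_inv_rev, mul_inv_rev]
    have e1 : Commute (d 2 ^ e)⁻¹ (d 1 ^ b)⁻¹ := (c12.symm.zpow_zpow e b).inv_inv
    have e2 : Commute (d 2 ^ e)⁻¹ (d 0 ^ a)⁻¹ := (c02.symm.zpow_zpow e a).inv_inv
    have e3 : Commute (d 1 ^ b)⁻¹ (d 0 ^ a)⁻¹ := (c01.symm.zpow_zpow b a).inv_inv
    rw [e1.mul_right e2 |>.eq, e3.eq]

/-- an element of `D` inverted by `τ j` is a power of `d j` -/
theorem inv_comp {c : G} (hc : c ∈ DD d) {j : Fin 3} (h : τ j * c * τ j = c⁻¹) : ∃ m : ℤ, c = d j ^ m := by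
  have key : ∀ m : ℤ, τ j * d j ^ m * τ j = (d j ^ m)⁻¹ := by
    intro m
    have h1 : τ j * d j ^ m * τ j = (τ j * d j * (τ j)⁻¹) ^ m := by rw [conj_zpow, K.τinv]
    rw [h1, K.τinv, K.τdi, inv_zpow]
  have key2 : ∀ i, i ≠ j → ∀ m : ℤ, τ j * d i ^ m = d i ^ m * τ j := by
    intro i hi m
    have : Commute (τ j) (d i) := K.τd j i (Ne.symm hi)
    exact (this.zpow_right m).eq
  -- `c = e * d j ^ m` with `e` commuting with `τ j`
  have hsplit : ∃ e ∈ DD d, ∃ m : ℤ, c = e * d j ^ m ∧ τ j * e = e * τ j := by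
    obtain ⟨a, b, e, rfl⟩ := K.nf hc
    have c01 : Commute (d 0) (d 1) := K.dd 0 1
    have c02 : Commute (d 0) (d 2) := K.dd 0 2
    have c12 : Commute (d 1) (d 2) := K.dd 1 2
    fin_cases j
    · refine ⟨d 1 ^ b * d 2 ^ e, mul_mem (zpow_mem (K.d_mem 1) _) (zpow_mem (K.d_mem 2) _), a, ?_, ?_⟩
      · have e1 : Commute (d 0 ^ a) (d 1 ^ b * d 2 ^ e) :=
          (c01.zpow_zpow a b).mul_right (c02.zpow_zpow a e)
        rw [mul_assoc]
        exact e1.eq
      · have h1 := key2 1 (by decide) b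
        have h2 := key2 2 (by decide) e
        exact (show Commute (τ 0) _ from Commute.mul_right h1 h2).eq
    · refine ⟨d 0 ^ a * d 2 ^ e, mul_mem (zpow_mem (K.d_mem 0) _) (zpow_mem (K.d_mem 2) _), b, ?_, ?_⟩
      · have e1 : Commute (d 1 ^ b) (d 2 ^ e) := c12.zpow_zpow b e
        change d 0 ^ a * d 1 ^ b * d 2 ^ e = d 0 ^ a * d 2 ^ e * d 1 ^ b
        rw [mul_assoc, e1.eq, mul_assoc]
      · have h1 := key2 0 (by decide) a
        have h2 := key2 2 (by decide) e
        exact (show Commute (τ 1) _ from Commute.mul_right h1 h2).eq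
    · refine ⟨d 0 ^ a * d 1 ^ b, mul_mem (zpow_mem (K.d_mem 0) _) (zpow_mem (K.d_mem 1) _), e, rfl, ?_⟩
      have h1 := key2 0 (by decide) a
      have h2 := key2 1 (by decide) b
      exact (show Commute (τ 2) _ from Commute.mul_right h1 h2).eq
  obtain ⟨e, he, m, rfl, hτ⟩ := hsplit
  have h3 : τ j * (e * d j ^ m) * τ j = e * (τ j * d j ^ m * τ j) := by
    calc τ j * (e * d j ^ m) * τ j = (τ j * e) * d j ^ m * τ j := by group
      _ = e * (τ j * d j ^ m * τ j) := by rw [hτ]; group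
  rw [h3, key, mul_inv_rev] at h
  have h4 : e * e = 1 := by
    have h5 : Commute e (d j ^ m)⁻¹ := by
      have : Commute e (d j) := (K.D_d he j).symm
      exact (this.zpow_right m).inv_right
    rw [h5.eq, mul_left_cancel_iff] at h
    have : e * e = e * e⁻¹ := by rw [← h]
    rw [this, mul_inv_cancel]
  refine ⟨m, ?_⟩
  rw [K.D_eq_one he h4, one_mul]

theorem Q_z {q : G} (hq : q ∈ QQ z r d) : z * q = q * z := by
  have : QQ z r d ≤ centralizer {z} := by
    rw [QQ, closure_le]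
    rintro x (hx | ⟨c, hc, rfl⟩)
    · rw [Set.mem_singleton_iff.1 hx]
      exact mem_centralizer_singleton_iff.2 rfl
    · apply mem_centralizer_singleton_iff.2
      have h1 : Commute z c := K.D_z hc
      have h2 : Commute z r := K.zr
      exact ((h1.mul_right h2).mul_right h1.inv_right).eq.symm
  exact (mem_centralizer_singleton_iff.1 (this hq)).symm

theorem QL {q : G} (hq : q ∈ QQ z r d) : q ∈ L := by
  have : QQ z r d ≤ L := by
    rw [QQ, closure_le]
    rintro x (hx | ⟨c, hc, rfl⟩)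
    · rw [Set.mem_singleton_iff.1 hx]
      exact K.zL
    · exact mul_mem (mul_mem (K.DL hc) K.rL) (inv_mem (K.DL hc))
  exact this hq

theorem D_conj_Q {c q : G} (hc : c ∈ DD d) (hq : q ∈ QQ z r d) : c * q * c⁻¹ ∈ QQ z r d := by
  induction hq using closure_induction with
  | mem x hx =>
    rcases hx with hx | ⟨c', hc', rfl⟩
    · rw [Set.mem_singleton_iff.1 hx, ← K.D_z hc, mul_inv_cancel_right]
      exact subset_closure (Or.inl rfl)
    · refine subset_closure (Or.inr ⟨c * c', mul_mem hc hc', ?_⟩)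
      group
  | one => rw [mul_one, mul_inv_cancel]; exact one_mem _
  | mul x y _ _ h1 h2 =>
    have : c * (x * y) * c⁻¹ = (c * x * c⁻¹) * (c * y * c⁻¹) := by group
    rw [this]
    exact mul_mem h1 h2
  | inv x _ h1 =>
    have : c * x⁻¹ * c⁻¹ = (c * x * c⁻¹)⁻¹ := by group
    rw [this]
    exact inv_mem h1

theorem r_mem : r ∈ QQ z r d := subset_closure (Or.inr ⟨1, one_mem _, by group⟩)

theorem z_mem : z ∈ QQ z r d := subset_closure (Or.inl rfl)

theorem t_comm {g : G} (hg : g ∈ L) : g * t = t * g := (K.tL g hg).symm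

/-- `TZ` elements commute with `L` elements commuting with `z` -/
theorem TZ_comm {s g : G} (hs : TZ t z s) (hg : g ∈ L) (hz : z * g = g * z) : s * g = g * s := by
  rcases hs with rfl | rfl | rfl | rfl
  · rw [one_mul, mul_one]
  · exact K.tL g hg
  · exact hz
  · rw [mul_assoc, hz, ← mul_assoc, K.tL g hg, mul_assoc]

theorem TZ_sq {s : G} (hs : TZ t z s) : s * s = 1 := by
  rcases hs with rfl | rfl | rfl | rfl
  · exact mul_one _
  · exact K.tt
  · exact K.zz
  · have : t * z * (t * z) = t * (z * t) * z := by group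
    rw [this, ← K.tz]
    have : t * (t * z) * z = (t * t) * (z * z) := by group
    rw [this, K.tt, K.zz, one_mul]

theorem TZ_mul {s s' : G} (hs : TZ t z s) (hs' : TZ t z s') : TZ t z (s * s') := by
  have h1 := K.tz
  have h2 := K.tt
  have h3 := K.zz
  have e1 : z * t = t * z := h1.symm
  have e2 : t * (t * z) = z := by rw [← mul_assoc, h2, one_mul]
  have e3 : z * (t * z) = t := by rw [← mul_assoc, e1, mul_assoc, h3, mul_one]
  have e4 : t * z * t = z := by rw [mul_assoc, e1, e2]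
  have e5 : t * z * z = t := by rw [mul_assoc, h3, mul_one]
  have e6 : t * z * (t * z) = 1 := by rw [← mul_assoc, e4, h3]
  rcases hs with rfl | rfl | rfl | rfl <;> rcases hs' with rfl | rfl | rfl | rfl
  · left; rw [mul_one]
  · right; left; rw [one_mul]
  · right; right; left; rw [one_mul]
  · right; right; right; rw [one_mul]
  · right; left; rw [mul_one]
  · left; exact h2
  · right; right; right; rfl
  · right; right; left; exact e2
  · right; right; left; rw [mul_one]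
  · right; right; right; exact e1
  · left; exact h3
  · right; left; exact e3
  · right; right; right; rw [mul_one]
  · right; right; left; exact e4
  · right; left; exact e5
  · left; exact e6

theorem ne_d {i j : Fin 3} (h : i ≠ j) : d i ≠ d j ∧ d i ≠ (d j)⁻¹ := by
  -- `τ i` inverts `d i` and centralises `d j`
  have h1 : ∀ c, (c = d j ∨ c = (d j)⁻¹) → d i = c → False := by
    intro c hc hi
    have h2 : τ i * c * τ i = c := by
      have hcomm : Commute (τ i) (d j) := K.τd i j h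
      rcases hc with rfl | rfl
      · rw [hcomm.eq, mul_assoc, K.ττ, mul_one]
      · rw [hcomm.inv_right.eq, mul_assoc, K.ττ, mul_one]
    rw [← hi, K.τdi] at h2
    have h3 : d i * d i = 1 := by
      nth_rewrite 1 [← h2]
      rw [inv_mul_cancel]
    exact K.d1 i (K.D_eq_one (K.d_mem i) h3)
  exact ⟨h1 _ (Or.inl rfl), h1 _ (Or.inr rfl)⟩

end basic

/-- `y` fixes `z`, interchanges `t`, `tz` and normalises `D` -/
structure Nrm (t z : G) (d : Fin 3 → G) (y : G) : Prop where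
  cz : y * z * y⁻¹ = z
  ct : y * t * y⁻¹ = t * z
  D : ∀ c ∈ DD d, y * c * y⁻¹ ∈ DD d
  D' : ∀ c ∈ DD d, y⁻¹ * c * y ∈ DD d

theorem Nrm.tz' (K : Core t z r L d τ) {y : G} (N : Nrm t z d y) : y * (t * z) * y⁻¹ = t := by
  have : y * (t * z) * y⁻¹ = (y * t * y⁻¹) * (y * z * y⁻¹) := by group
  rw [this, N.ct, N.cz, mul_assoc, K.zz, mul_one]

theorem exists_nrm [Finite G] (K : Core t z r L d τ) {g : G} (hz : g * z * g⁻¹ = z) (ht : g * t * g⁻¹ = t * z) :
    ∃ y, Nrm t z d y := by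
  obtain ⟨c, hct, hcz, hc⟩ := K.frat g hz ht
  have hpow : ∀ n : ℕ, ∀ e ∈ DD d, (c * g) ^ n * e * ((c * g) ^ n)⁻¹ ∈ DD d := by
    intro n
    induction n with
    | zero => intro e he; simpa using he
    | succ n ih =>
      intro e he
      have : (c * g) ^ (n + 1) * e * ((c * g) ^ (n + 1))⁻¹ =
          (c * g) ^ n * ((c * g) * e * (c * g)⁻¹) * ((c * g) ^ n)⁻¹ := by
        rw [pow_succ]; group
      rw [this]
      exact ih _ (hc e he)
  refine ⟨c * g, ?_, ?_, hc, ?_⟩
  · have : c * g * z * (c * g)⁻¹ = c * (g * z * g⁻¹) * c⁻¹ := by group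
    rw [this, hz, hcz, mul_inv_cancel_right]
  · have : c * g * t * (c * g)⁻¹ = c * (g * t * g⁻¹) * c⁻¹ := by group
    rw [this, ht]
    have : c * (t * z) * c⁻¹ = (c * t) * z * c⁻¹ := by group
    rw [this, hct]
    have : t * c * z * c⁻¹ = t * (c * z) * c⁻¹ := by group
    rw [this, hcz]
    group
  · intro e he
    have h1 : (c * g)⁻¹ = (c * g) ^ (orderOf (c * g) - 1) := by
      rw [inv_eq_iff_mul_eq_one, ← pow_succ']
      have : orderOf (c * g) - 1 + 1 = orderOf (c * g) := Nat.sub_add_cancel (orderOf_pos _)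
      rw [this, pow_orderOf_eq_one]
    have h3 := hpow (orderOf (c * g) - 1) e he
    rw [← h1, inv_inv] at h3
    exact h3

section

variable (K : Core t z r L d τ)

include K

/-- elements of `C(t)` are conjugated by `y` into `C(tz)`; elements of `C(t) ∩ C(z)` into itself -/
theorem conj_cz {y g : G} (N : Nrm t z d y) (hg : g * t = t * g) (hz : g * z = z * g) :
    (y * g * y⁻¹) * t = t * (y * g * y⁻¹) ∧ (y * g * y⁻¹) * z = z * (y * g * y⁻¹) := by
  have h1 : Commute g (t * z) := (show Commute g t from hg).mul_right hz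
  constructor
  · have : Commute (y * g * y⁻¹) (y * (t * z) * y⁻¹) := by
      have := (Commute.conj_iff y).2 h1
      exact this
    rw [N.tz' K] at this
    exact this.eq
  · have : Commute (y * g * y⁻¹) (y * z * y⁻¹) := (Commute.conj_iff y).2 hz
    rw [N.cz] at this
    exact this.eq

theorem r_conj {y : G} (N : Nrm t z d y) : y * r * y⁻¹ ∈ QQ z r d := by
  -- `r = g c g⁻¹ c⁻¹`, `g = d r d⁻¹`, `c = d`
  set g := d 0 * r * (d 0)⁻¹ with hg
  have h1 : g * d 0 * g⁻¹ * (d 0)⁻¹ = r := by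
    have h3 := K.rd 0
    have hd := K.d3 0
    have e1 : d 0 * d 0 = (d 0)⁻¹ := by rw [eq_inv_iff_mul_eq_one]; exact hd
    have rinv : r⁻¹ = r := inv_eq_of_mul_eq_one_right K.rr
    have e2 : g * d 0 * g⁻¹ * (d 0)⁻¹ = (d 0 * r * (d 0)⁻¹) * ((d 0 * d 0) * r⁻¹ * (d 0 * d 0)⁻¹) := by
      rw [hg]; group
    rw [e2, e1, inv_inv, rinv]
    have : r * ((d 0 * r * (d 0)⁻¹) * ((d 0)⁻¹ * r * d 0)) = 1 := by rw [← mul_assoc]; exact h3
    rw [eq_inv_of_mul_eq_one_right this, rinv]
  have hgL : g ∈ L := mul_mem (mul_mem (K.dL 0) K.rL) (inv_mem (K.dL 0))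
  have hgQ : g ∈ QQ z r d := K.D_conj_Q (K.d_mem 0) (K.r_mem)
  obtain ⟨hgt, hgz⟩ := K.conj_cz N (K.t_comm hgL) (K.Q_z hgQ).symm
  have hnf := N.D _ (K.d_mem 0)
  -- `(g^y) (d^y) (g^y)⁻¹ ∈ Q D`
  have hQD : ∀ c ∈ DD d, ∃ q ∈ QQ z r d, ∃ c' ∈ DD d, (y * g * y⁻¹) * c * (y * g * y⁻¹)⁻¹ = q * c' := by
    intro c hc
    induction hc using closure_induction with
    | mem x hx =>
      obtain ⟨i, rfl⟩ := hx
      exact K.nQD _ hgt hgz i
    | one => exact ⟨1, one_mem _, 1, one_mem _, by group⟩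
    | mul a b _ _ h1 h2 =>
      obtain ⟨q, hq, c, hc, e⟩ := h1
      obtain ⟨q', hq', c', hc', e'⟩ := h2
      refine ⟨q * (c * q' * c⁻¹), mul_mem hq (K.D_conj_Q hc hq'), c * c', mul_mem hc hc', ?_⟩
      have : (y * g * y⁻¹) * (a * b) * (y * g * y⁻¹)⁻¹ =
          ((y * g * y⁻¹) * a * (y * g * y⁻¹)⁻¹) * ((y * g * y⁻¹) * b * (y * g * y⁻¹)⁻¹) := by group
      rw [this, e, e']
      group
    | inv a _ h1 =>
      obtain ⟨q, hq, c, hc, e⟩ := h1
      refine ⟨c⁻¹ * q⁻¹ * c, ?_, c⁻¹, inv_mem hc, ?_⟩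
      · have := K.D_conj_Q (inv_mem hc) (inv_mem hq)
        rwa [inv_inv] at this
      · have : (y * g * y⁻¹) * a⁻¹ * (y * g * y⁻¹)⁻¹ = ((y * g * y⁻¹) * a * (y * g * y⁻¹)⁻¹)⁻¹ := by group
        rw [this, e]
        group
  obtain ⟨q, hq, c, hc, e⟩ := hQD _ hnf
  have hr : y * r * y⁻¹ = q * (c * (y * d 0 * y⁻¹)⁻¹) := by
    have : y * r * y⁻¹ = (y * g * y⁻¹) * (y * d 0 * y⁻¹) * (y * g * y⁻¹)⁻¹ * (y * d 0 * y⁻¹)⁻¹ := by
      nth_rewrite 1 [← h1]
      group
    rw [this, e]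
    group
  have hc' : c * (y * d 0 * y⁻¹)⁻¹ ∈ DD d := mul_mem hc (inv_mem hnf)
  have h5 : c * (y * d 0 * y⁻¹)⁻¹ = 1 := by
    apply K.QD2 q hq _ hc'
    rw [← hr]
    have : y * r * y⁻¹ * (y * r * y⁻¹) = y * (r * r) * y⁻¹ := by group
    rw [this, K.rr]
    group
  rw [hr, h5, mul_one]
  exact hq

theorem Q_conj {y : G} (N : Nrm t z d y) {q : G} (hq : q ∈ QQ z r d) : y * q * y⁻¹ ∈ QQ z r d := by
  induction hq using closure_induction with
  | mem x hx =>
    rcases hx with hx | ⟨c, hc, rfl⟩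
    · rw [Set.mem_singleton_iff.1 hx, N.cz]
      exact K.z_mem
    · have : y * (c * r * c⁻¹) * y⁻¹ = (y * c * y⁻¹) * (y * r * y⁻¹) * (y * c * y⁻¹)⁻¹ := by group
      rw [this]
      exact K.D_conj_Q (N.D c hc) (K.r_conj N)
  | one =>
    rw [mul_one, mul_inv_cancel]
    exact one_mem _
  | mul x y' _ _ h1 h2 =>
    have : y * (x * y') * y⁻¹ = (y * x * y⁻¹) * (y * y' * y⁻¹) := by group
    rw [this]
    exact mul_mem h1 h2
  | inv x _ h1 =>
    have : y * x⁻¹ * y⁻¹ = (y * x * y⁻¹)⁻¹ := by group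
    rw [this]
    exact inv_mem h1

/-- `y` permutes the `⟨d i⟩` -/
theorem exists_perm [Finite G] {y : G} (N : Nrm t z d y) :
    ∃ π : Equiv.Perm (Fin 3), ∀ i, y * d i * y⁻¹ = d (π i) ∨ y * d i * y⁻¹ = (d (π i))⁻¹ := by
  classical
  -- the inverse of `y` also normalises `Q`
  have hN' : Nrm t z d y⁻¹ := by
    refine ⟨?_, ?_, ?_, ?_⟩
    · rw [inv_inv]
      nth_rewrite 1 [← N.cz]
      group
    · rw [inv_inv]
      nth_rewrite 1 [← N.tz' K]
      group
    · intro c hc
      rw [inv_inv]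
      exact N.D' c hc
    · intro c hc
      rw [inv_inv]
      exact N.D c hc
  have h1 : ∀ i, ∃ j, y * d i * y⁻¹ = d j ∨ y * d i * y⁻¹ = (d j)⁻¹ := by
    intro i
    by_contra hcon
    push Not at hcon
    have hne : y * d i * y⁻¹ ≠ 1 := by
      intro h
      apply K.d1 i
      have : d i = y⁻¹ * (y * d i * y⁻¹) * y := by group
      rw [this, h]
      group
    obtain ⟨q, hq, hq1, hqz, hqc⟩ := K.Qc _ (N.D _ (K.d_mem i)) hne hcon
    have h3 : y⁻¹ * q * y ∈ QQ z r d := by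
      have := K.Q_conj hN' hq
      rwa [inv_inv] at this
    have h4 : y⁻¹ * q * y * d i = d i * (y⁻¹ * q * y) := by
      have e1 : y⁻¹ * q * y * d i = y⁻¹ * (q * (y * d i * y⁻¹)) * y := by group
      rw [e1, hqc]
      group
    rcases K.Qd i _ h3 h4 with h5 | h5
    · apply hq1
      have : q = y * (y⁻¹ * q * y) * y⁻¹ := by group
      rw [this, h5]
      group
    · apply hqz
      have : q = y * (y⁻¹ * q * y) * y⁻¹ := by group
      rw [this, h5, N.cz]
  choose f hf using h1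
  have hinj : Function.Injective f := by
    intro i j hij
    by_contra hne
    have h3 := hf i
    have h4 := hf j
    rw [hij] at h3
    obtain ⟨n1, n2⟩ := K.ne_d hne
    have key : ∀ a b : G, y * a * y⁻¹ = y * b * y⁻¹ → a = b := by
      intro a b h
      exact mul_left_cancel (mul_right_cancel h)
    rcases h3 with h3 | h3 <;> rcases h4 with h4 | h4
    · exact n1 (key _ _ (h3.trans h4.symm))
    · apply n2
      apply key
      rw [h3]
      have : y * (d j)⁻¹ * y⁻¹ = (y * d j * y⁻¹)⁻¹ := by group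
      rw [this, h4, inv_inv]
    · apply n2
      apply key
      rw [h3]
      have : y * (d j)⁻¹ * y⁻¹ = (y * d j * y⁻¹)⁻¹ := by group
      rw [this, h4]
    · exact n1 (key _ _ (h3.trans h4.symm))
  exact ⟨Equiv.ofBijective f ((Finite.injective_iff_bijective).1 hinj), fun i => hf i⟩

/-- left multiplication by an element of `L` commuting with `z` and normalising `D` -/
theorem Nrm.mul_left {y c : G} (N : Nrm t z d y) (hcL : c ∈ L) (hcz : z * c = c * z)
    (hD : ∀ e ∈ DD d, c * e * c⁻¹ ∈ DD d) (hD' : ∀ e ∈ DD d, c⁻¹ * e * c ∈ DD d) : Nrm t z d (c * y) := by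
  have hct := K.tL c hcL
  refine ⟨?_, ?_, ?_, ?_⟩
  · have : c * y * z * (c * y)⁻¹ = c * (y * z * y⁻¹) * c⁻¹ := by group
    rw [this, N.cz, ← hcz, mul_inv_cancel_right]
  · have : c * y * t * (c * y)⁻¹ = c * (y * t * y⁻¹) * c⁻¹ := by group
    rw [this, N.ct]
    have h1 : Commute c (t * z) := (show Commute c t from hct.symm).mul_right hcz.symm
    rw [h1.eq, mul_inv_cancel_right]
  · intro e he
    have : c * y * e * (c * y)⁻¹ = c * (y * e * y⁻¹) * c⁻¹ := by group
    rw [this]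
    exact hD _ (N.D e he)
  · intro e he
    have : (c * y)⁻¹ * e * (c * y) = y⁻¹ * (c⁻¹ * e * c) * y := by group
    rw [this]
    exact N.D' _ (hD' e he)

theorem τ_D (i : Fin 3) : ∀ e ∈ DD d, τ i * e * (τ i)⁻¹ ∈ DD d := by
  intro e he
  induction he using closure_induction with
  | mem x hx =>
    obtain ⟨j, rfl⟩ := hx
    by_cases h : i = j
    · subst h
      rw [K.τinv, K.τdi]
      exact inv_mem (K.d_mem _)
    · rw [K.τd i j h, mul_inv_cancel_right]
      exact K.d_mem _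
  | one => rw [mul_one, mul_inv_cancel]; exact one_mem _
  | mul x y _ _ h1 h2 =>
    have : τ i * (x * y) * (τ i)⁻¹ = (τ i * x * (τ i)⁻¹) * (τ i * y * (τ i)⁻¹) := by group
    rw [this]
    exact mul_mem h1 h2
  | inv x _ h1 =>
    have : τ i * x⁻¹ * (τ i)⁻¹ = (τ i * x * (τ i)⁻¹)⁻¹ := by group
    rw [this]
    exact inv_mem h1

/-- adjust the signs -/
theorem exists_signs {y : G} (N : Nrm t z d y) {π : Equiv.Perm (Fin 3)}
    (h : ∀ i, y * d i * y⁻¹ = d (π i) ∨ y * d i * y⁻¹ = (d (π i))⁻¹) :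
    ∃ y', Nrm t z d y' ∧ ∀ i, y' * d i * y'⁻¹ = d (π i) := by
  classical
  have key : ∀ S : Finset (Fin 3), ∃ y', Nrm t z d y' ∧
      (∀ i, y' * d i * y'⁻¹ = d (π i) ∨ y' * d i * y'⁻¹ = (d (π i))⁻¹) ∧ ∀ i ∈ S, y' * d i * y'⁻¹ = d (π i) := by
    intro S
    induction S using Finset.induction_on with
    | empty => exact ⟨y, N, h, by simp⟩
    | insert a S ha ih =>
      obtain ⟨y', N', h', hS⟩ := ih
      rcases h' a with h1 | h1
      · refine ⟨y', N', h', ?_⟩
        intro i hi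
        rcases Finset.mem_insert.1 hi with rfl | hi
        · exact h1
        · exact hS i hi
      · have hτD' : ∀ e ∈ DD d, (τ (π a))⁻¹ * e * τ (π a) ∈ DD d := by
          intro e he
          have := K.τ_D (π a) e he
          rwa [K.τinv] at this ⊢
        have conj : ∀ x, τ (π a) * y' * x * (τ (π a) * y')⁻¹ = τ (π a) * (y' * x * y'⁻¹) * τ (π a) := by
          intro x
          have : τ (π a) * y' * x * (τ (π a) * y')⁻¹ = τ (π a) * (y' * x * y'⁻¹) * (τ (π a))⁻¹ := by group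
          rw [this, K.τinv]
        have hfix : ∀ i, i ≠ a → ∀ c, (c = d (π i) ∨ c = (d (π i))⁻¹) → τ (π a) * c * τ (π a) = c := by
          intro i hi c hc
          have hne : π a ≠ π i := fun h => hi (π.injective h).symm
          have hcm : Commute (τ (π a)) (d (π i)) := K.τd _ _ hne
          rcases hc with rfl | rfl
          · rw [hcm.eq, mul_assoc, K.ττ, mul_one]
          · rw [hcm.inv_right.eq, mul_assoc, K.ττ, mul_one]
        have hinv : τ (π a) * (d (π a))⁻¹ * τ (π a) = d (π a) := by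
          have h3 := K.τdi (π a)
          have : τ (π a) * (d (π a))⁻¹ * τ (π a) = τ (π a) * (τ (π a) * d (π a) * τ (π a)) * τ (π a) := by rw [h3]
          rw [this]
          have : τ (π a) * (τ (π a) * d (π a) * τ (π a)) * τ (π a) =
            (τ (π a) * τ (π a)) * d (π a) * (τ (π a) * τ (π a)) := by group
          rw [this, K.ττ, one_mul, mul_one]
        refine ⟨τ (π a) * y', N'.mul_left K (K.τL _) (K.zτ _) (K.τ_D _) hτD', ?_, ?_⟩
        · intro i
          rw [conj]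
          by_cases hi : i = a
          · subst hi
            rw [h1, hinv]
            exact Or.inl rfl
          · rw [hfix i hi _ (h' i)]
            exact h' i
        · intro i hi
          rw [conj]
          by_cases hia : i = a
          · subst hia
            rw [h1, hinv]
          · rcases Finset.mem_insert.1 hi with hi | hi
            · exact absurd hi hia
            · rw [hfix i hia _ (h' i)]
              exact hS i hi
  obtain ⟨y', N', -, h'⟩ := key Finset.univ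
  exact ⟨y', N', fun i => h' i (Finset.mem_univ i)⟩

/-- the image of `τ i` -/
theorem τ_conj {y : G} (N : Nrm t z d y) {π : Equiv.Perm (Fin 3)} (h : ∀ i, y * d i * y⁻¹ = d (π i)) (i : Fin 3) :
    ∃ s, TZ t z s ∧ ∃ m : ℤ, y * τ i * y⁻¹ = τ (π i) * s * d (π i) ^ m := by
  obtain ⟨hyt, hyz⟩ := K.conj_cz N (K.t_comm (K.τL i)) (K.zτ i).symm
  set g := τ (π i) * (y * τ i * y⁻¹) with hg
  have hinv : ∀ k, (y * τ i * y⁻¹) * d (π k) * (y * τ i * y⁻¹)⁻¹ = if k = i then (d (π k))⁻¹ else d (π k) := by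
    intro k
    have e : (y * τ i * y⁻¹) * d (π k) * (y * τ i * y⁻¹)⁻¹ = y * (τ i * d k * (τ i)⁻¹) * y⁻¹ := by
      rw [← h k]; group
    rw [e, K.τinv]
    by_cases hk : k = i
    · subst hk
      rw [if_pos rfl, K.τdi, ← h k]
      group
    · rw [if_neg hk, K.τd i k (Ne.symm hk), mul_assoc (d k), K.ττ, mul_one, h k]
  have hτk : ∀ k, τ (π i) * d (π k) * τ (π i) = if k = i then (d (π k))⁻¹ else d (π k) := by
    intro k
    by_cases hk : k = i
    · subst hk
      rw [if_pos rfl, K.τdi]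
    · rw [if_neg hk, K.τd _ _ (fun h => hk (π.injective h).symm), mul_assoc, K.ττ, mul_one]
  have hgd : ∀ j, g * d j = d j * g := by
    intro j
    obtain ⟨k, rfl⟩ := π.surjective j
    have e1 : g * d (π k) * g⁻¹ = τ (π i) * ((y * τ i * y⁻¹) * d (π k) * (y * τ i * y⁻¹)⁻¹) * (τ (π i))⁻¹ := by
      rw [hg]; group
    have e2 : g * d (π k) * g⁻¹ = d (π k) := by
      rw [e1, hinv k, K.τinv]
      by_cases hk : k = i
      · rw [if_pos hk]
        have h3 := hτk k
        rw [if_pos hk] at h3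
        rw [← h3]
        have : τ (π i) * (τ (π i) * d (π k) * τ (π i)) * τ (π i) =
          (τ (π i) * τ (π i)) * d (π k) * (τ (π i) * τ (π i)) := by group
        rw [this, K.ττ, one_mul, mul_one]
      · rw [if_neg hk]
        have h3 := hτk k
        rwa [if_neg hk] at h3
    exact mul_inv_eq_iff_eq_mul.1 e2
  have hgt : g * t = t * g := by
    rw [hg, mul_assoc, hyt, ← mul_assoc, K.t_comm (K.τL _), mul_assoc]
  have hgz : g * z = z * g := by
    rw [hg, mul_assoc, hyz, ← mul_assoc, ← K.zτ, mul_assoc]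
  obtain ⟨s, hs, c, hc, hgc⟩ := K.cD g hgt hgz hgd
  have hyτ : y * τ i * y⁻¹ = τ (π i) * s * c := by
    have : y * τ i * y⁻¹ = τ (π i) * g := by rw [hg, ← mul_assoc, K.ττ, one_mul]
    rw [this, hgc, mul_assoc]
  have hsq : y * τ i * y⁻¹ * (y * τ i * y⁻¹) = 1 := by
    have : y * τ i * y⁻¹ * (y * τ i * y⁻¹) = y * (τ i * τ i) * y⁻¹ := by group
    rw [this, K.ττ]
    group
  rw [hyτ] at hsq
  have hsτ : s * τ (π i) = τ (π i) * s := K.TZ_comm hs (K.τL _) (K.zτ _)
  have hsc : s * c = c * s := K.TZ_comm hs (K.DL hc) (K.D_z hc)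
  have h5 : τ (π i) * c * τ (π i) = c⁻¹ := by
    have e : τ (π i) * s * c * (τ (π i) * s * c) = (τ (π i) * c * τ (π i) * c) := by
      calc τ (π i) * s * c * (τ (π i) * s * c) = τ (π i) * (s * c) * τ (π i) * s * c := by group
        _ = τ (π i) * c * (s * τ (π i)) * s * c := by rw [hsc]; group
        _ = τ (π i) * c * τ (π i) * (s * s) * c := by rw [hsτ]; group
        _ = τ (π i) * c * τ (π i) * c := by rw [K.TZ_sq hs, mul_one]
    rw [e] at hsq
    exact eq_inv_of_mul_eq_one_left hsq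
  obtain ⟨m, hm⟩ := K.inv_comp hc h5
  exact ⟨s, hs, m, by rw [hyτ, hm]⟩

/-- adjust by `D` so that the `τ i` are permuted modulo `⟨t, z⟩` -/
theorem exists_taus {y : G} (N : Nrm t z d y) {π : Equiv.Perm (Fin 3)} (h : ∀ i, y * d i * y⁻¹ = d (π i)) :
    ∃ y', Nrm t z d y' ∧ (∀ i, y' * d i * y'⁻¹ = d (π i)) ∧ ∀ i, ∃ s, TZ t z s ∧ y' * τ i * y'⁻¹ = τ (π i) * s := by
  classical
  have key : ∀ S : Finset (Fin 3), ∃ y', Nrm t z d y' ∧ (∀ i, y' * d i * y'⁻¹ = d (π i)) ∧
      ∀ i ∈ S, ∃ s, TZ t z s ∧ y' * τ i * y'⁻¹ = τ (π i) * s := by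
    intro S
    induction S using Finset.induction_on with
    | empty => exact ⟨y, N, h, by simp⟩
    | insert a S ha ih =>
      obtain ⟨y', N', h', hS⟩ := ih
      obtain ⟨s, hs, m, hm⟩ := K.τ_conj N' h' a
      set c := d (π a) ^ m with hc
      have hcD : c ∈ DD d := zpow_mem (K.d_mem _) _
      have hc3 := K.D3 hcD
      have hDD : ∀ e ∈ DD d, c⁻¹ * e * c⁻¹⁻¹ ∈ DD d := fun e he =>
        mul_mem (mul_mem (inv_mem hcD) he) (inv_mem (inv_mem hcD))
      have hDD' : ∀ e ∈ DD d, c⁻¹⁻¹ * e * c⁻¹ ∈ DD d := fun e he =>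
        mul_mem (mul_mem (inv_mem (inv_mem hcD)) he) (inv_mem hcD)
      have hcz : z * c⁻¹ = c⁻¹ * z := K.D_z (inv_mem hcD)
      have conj : ∀ x, c⁻¹ * y' * x * (c⁻¹ * y')⁻¹ = c⁻¹ * (y' * x * y'⁻¹) * c := by
        intro x; group
      refine ⟨c⁻¹ * y', N'.mul_left K (inv_mem (K.DL hcD)) hcz hDD hDD', ?_, ?_⟩
      · intro i
        rw [conj, h']
        have : Commute (d (π i)) c := K.D_d hcD (π i)
        rw [mul_assoc, this.eq, inv_mul_cancel_left]
      · intro i hi
        by_cases hia : i = a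
        · subst hia
          refine ⟨s, hs, ?_⟩
          rw [conj, hm]
          have hτc : τ (π i) * c * τ (π i) = c⁻¹ := by
            have h1 : τ (π i) * d (π i) ^ m * τ (π i) = (τ (π i) * d (π i) * (τ (π i))⁻¹) ^ m := by
              rw [conj_zpow, K.τinv]
            rw [hc, h1, K.τinv, K.τdi, inv_zpow]
          have hτc' : c⁻¹ * τ (π i) = τ (π i) * c := by
            rw [← hτc, mul_assoc, mul_assoc, K.ττ, mul_one]
          have hsc : s * c = c * s := K.TZ_comm hs (K.DL hcD) (K.D_z hcD)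
          calc c⁻¹ * (τ (π i) * s * c) * c = (c⁻¹ * τ (π i)) * (s * c) * c := by group
            _ = τ (π i) * (c * c * s) * c := by rw [hτc', hsc]; group
            _ = τ (π i) * (c * c * (s * c)) := by group
            _ = τ (π i) * (c * c * c) * s := by rw [hsc]; group
            _ = τ (π i) * s := by rw [hc3, mul_one]
        · rcases Finset.mem_insert.1 hi with hi | hi
          · exact absurd hi hia
          · obtain ⟨s', hs', hi'⟩ := hS i hi
            refine ⟨s', hs', ?_⟩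
            rw [conj, hi']
            have h1 : Commute (τ (π i)) (d (π a)) := K.τd _ _ (fun h => hia (π.injective h))
            have h2 : Commute (τ (π i)) c := h1.zpow_right m
            have h3 : s' * c = c * s' := K.TZ_comm hs' (K.DL hcD) (K.D_z hcD)
            have h4 : Commute (τ (π i) * s') c := h2.mul_left h3
            rw [mul_assoc, h4.eq, inv_mul_cancel_left]
  obtain ⟨y', N', h', hS⟩ := key Finset.univ
  exact ⟨y', N', h', fun i => hS i (Finset.mem_univ i)⟩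

/-- `y` fixes `r` -/
theorem fix_r {y : G} (N : Nrm t z d y) {π : Equiv.Perm (Fin 3)} (h : ∀ i, y * d i * y⁻¹ = d (π i))
    (hτ : ∀ i, ∃ s, TZ t z s ∧ y * τ i * y⁻¹ = τ (π i) * s) : y * r * y⁻¹ = r := by
  have hQ := K.r_conj N
  have hcomm : ∀ j, (y * r * y⁻¹) * τ j = τ j * (y * r * y⁻¹) := by
    intro j
    obtain ⟨i, rfl⟩ := π.surjective j
    obtain ⟨s, hs, e⟩ := hτ i
    have h1 : (y * r * y⁻¹) * (y * τ i * y⁻¹) = (y * τ i * y⁻¹) * (y * r * y⁻¹) := by
      have e1 : (y * r * y⁻¹) * (y * τ i * y⁻¹) = y * (r * τ i) * y⁻¹ := by group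
      rw [e1, K.rτ]
      group
    rw [e] at h1
    have h3 : Commute s (y * r * y⁻¹) := K.TZ_comm hs (K.QL hQ) (K.Q_z hQ)
    have h4 : Commute (y * r * y⁻¹) (τ (π i) * s) := h1
    have h5 : Commute (y * r * y⁻¹) (τ (π i) * s * s) := h4.mul_right h3.symm
    rw [mul_assoc (τ (π i)) s s, K.TZ_sq hs, mul_one] at h5
    exact h5.eq
  have key : ∀ a b : G, y * a * y⁻¹ = b → a = y⁻¹ * b * y := by
    intro a b h
    rw [← h]
    group
  have hrd := K.rd 0
  have hzc : ∀ c ∈ DD d, c * z * c⁻¹ = z := fun c hc => by rw [← K.D_z hc, mul_inv_cancel_right]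
  rcases K.Qτ _ hQ hcomm with h1 | h1 | h1 | h1
  · exfalso
    apply K.r1
    rw [key _ _ h1]
    group
  · exfalso
    apply K.rz
    rw [key _ _ h1]
    nth_rewrite 1 [← N.cz]
    group
  · exact h1
  · -- apply `y` to `r r^d r^(d²) = 1`
    exfalso
    have h3 := congrArg (fun g => y * g * y⁻¹) hrd
    have e : y * (r * (d 0 * r * (d 0)⁻¹) * ((d 0)⁻¹ * r * d 0)) * y⁻¹ =
        (y * r * y⁻¹) * ((y * d 0 * y⁻¹) * (y * r * y⁻¹) * (y * d 0 * y⁻¹)⁻¹) *
          ((y * d 0 * y⁻¹)⁻¹ * (y * r * y⁻¹) * (y * d 0 * y⁻¹)) := by group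
    rw [e, h1, h] at h3
    have hz1 : Commute z (d (π 0)) := K.zd _
    have hz2 : Commute z r := K.zr
    have e2 : r * z * (d (π 0) * (r * z) * (d (π 0))⁻¹) * ((d (π 0))⁻¹ * (r * z) * d (π 0)) =
        (r * (d (π 0) * r * (d (π 0))⁻¹) * ((d (π 0))⁻¹ * r * d (π 0))) * (z * z * z) := by
      have a1 : d (π 0) * (r * z) * (d (π 0))⁻¹ = (d (π 0) * r * (d (π 0))⁻¹) * z := by
        calc d (π 0) * (r * z) * (d (π 0))⁻¹ = d (π 0) * r * (z * (d (π 0))⁻¹) := by group
          _ = (d (π 0) * r * (d (π 0))⁻¹) * z := by rw [hz1.inv_right.eq]; group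
      have a2 : (d (π 0))⁻¹ * (r * z) * d (π 0) = ((d (π 0))⁻¹ * r * d (π 0)) * z := by
        calc (d (π 0))⁻¹ * (r * z) * d (π 0) = (d (π 0))⁻¹ * r * (z * d (π 0)) := by group
          _ = ((d (π 0))⁻¹ * r * d (π 0)) * z := by rw [hz1.eq]; group
      rw [a1, a2]
      have b1 : Commute z (d (π 0) * r * (d (π 0))⁻¹) := (hz1.mul_right hz2).mul_right hz1.inv_right
      have b2 : Commute z ((d (π 0))⁻¹ * r * d (π 0)) := (hz1.inv_right.mul_right hz2).mul_right hz1
      set A := d (π 0) * r * (d (π 0))⁻¹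
      set B := (d (π 0))⁻¹ * r * d (π 0)
      calc r * z * (A * z) * (B * z) = r * (z * A) * (z * B) * z := by group
        _ = r * (A * z) * (B * z) * z := by rw [b1.eq, b2.eq]
        _ = r * A * (z * B) * z * z := by group
        _ = r * A * (B * z) * z * z := by rw [b2.eq]
        _ = r * A * B * (z * z * z) := by group
    rw [e2, K.rd, K.zz, one_mul, one_mul] at h3
    apply K.z1
    rw [h3]
    group

end

/-- The normalised action of `y`. -/
structure Act (t z r : G) (d τ : Fin 3 → G) (π : Equiv.Perm (Fin 3)) (y : G) : Prop where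
  cz : y * z * y⁻¹ = z
  ct : y * t * y⁻¹ = t * z
  cr : y * r * y⁻¹ = r
  cd : ∀ i, y * d i * y⁻¹ = d (π i)
  cτ : ∀ i, ∃ s, TZ t z s ∧ y * τ i * y⁻¹ = τ (π i) * s

theorem exists_act [Finite G] (K : Core t z r L d τ) {g : G} (hz : g * z * g⁻¹ = z) (ht : g * t * g⁻¹ = t * z) :
    ∃ π y, Act t z r d τ π y := by
  obtain ⟨y, N⟩ := exists_nrm K hz ht
  obtain ⟨π, hπ⟩ := K.exists_perm N
  obtain ⟨y', N', h'⟩ := K.exists_signs N hπ
  obtain ⟨y'', N'', h'', hτ⟩ := K.exists_taus N' h'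
  exact ⟨π, y'', N''.cz, N''.ct, K.fix_r N'' h'' hτ, h'', hτ⟩

section

variable (K : Core t z r L d τ)

include K

theorem Act.ctz {π : Equiv.Perm (Fin 3)} {y : G} (A : Act t z r d τ π y) : y * (t * z) * y⁻¹ = t := by
  have : y * (t * z) * y⁻¹ = (y * t * y⁻¹) * (y * z * y⁻¹) := by group
  rw [this, A.ct, A.cz, mul_assoc, K.zz, mul_one]

theorem Act.TZ {π : Equiv.Perm (Fin 3)} {y : G} (A : Act t z r d τ π y) {s : G} (hs : TZ t z s) :
    DoubCore.TZ t z (y * s * y⁻¹) := by
  rcases hs with rfl | rfl | rfl | rfl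
  · left; rw [mul_one, mul_inv_cancel]
  · right; right; right; exact A.ct
  · right; right; left; exact A.cz
  · right; left; exact A.ctz K

/-- the cube of `y` -/
theorem Act.cube {π : Equiv.Perm (Fin 3)} {y : G} (A : Act t z r d τ π y) :
    Act t z r d τ (π * π * π) (y * y * y) := by
  have e : ∀ x, y * y * y * x * (y * y * y)⁻¹ = y * (y * (y * x * y⁻¹) * y⁻¹) * y⁻¹ := by
    intro x; group
  refine ⟨?_, ?_, ?_, ?_, ?_⟩
  · rw [e, A.cz, A.cz, A.cz]
  · rw [e, A.ct, A.ctz K, A.ct]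
  · rw [e, A.cr, A.cr, A.cr]
  · intro i
    rw [e, A.cd, A.cd, A.cd]
    rfl
  · intro i
    obtain ⟨s, hs, h1⟩ := A.cτ i
    obtain ⟨s', hs', h2⟩ := A.cτ (π i)
    obtain ⟨s'', hs'', h3⟩ := A.cτ (π (π i))
    refine ⟨s'' * (y * s' * y⁻¹) * (y * (y * s * y⁻¹) * y⁻¹), ?_, ?_⟩
    · exact K.TZ_mul (K.TZ_mul hs'' (A.TZ K hs')) (A.TZ K (A.TZ K hs))
    · rw [e, h1]
      have e1 : y * (τ (π i) * s) * y⁻¹ = (y * τ (π i) * y⁻¹) * (y * s * y⁻¹) := by group
      rw [e1, h2]
      have e2 : y * (τ (π (π i)) * s' * (y * s * y⁻¹)) * y⁻¹ =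
        (y * τ (π (π i)) * y⁻¹) * (y * s' * y⁻¹) * (y * (y * s * y⁻¹) * y⁻¹) := by group
      rw [e2, h3]
      change τ (π (π (π i))) * s'' * (y * s' * y⁻¹) * (y * (y * s * y⁻¹) * y⁻¹) = τ (π (π (π i))) * _
      simp only [mul_assoc]

/-- `y²` lies in `⟨z⟩` if `π² = 1` -/
theorem Act.sq {π : Equiv.Perm (Fin 3)} {y : G} (A : Act t z r d τ π y) (hπ : π * π = 1) :
    y * y = 1 ∨ y * y = z := by
  have e : ∀ x, y * y * x * (y * y)⁻¹ = y * (y * x * y⁻¹) * y⁻¹ := by intro x; group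
  have h1 : y * y * t = t * (y * y) := by
    apply mul_inv_eq_iff_eq_mul.1
    rw [e, A.ct, A.ctz K]
  have h2 : y * y * z = z * (y * y) := by
    apply mul_inv_eq_iff_eq_mul.1
    rw [e, A.cz, A.cz]
  have h3 : ∀ i, y * y * d i = d i * (y * y) := by
    intro i
    apply mul_inv_eq_iff_eq_mul.1
    rw [e, A.cd, A.cd]
    have : π (π i) = i := by
      have := congrArg (fun p : Equiv.Perm (Fin 3) => p i) hπ
      simpa using this
    rw [this]
  have h4 : y * y * r = r * (y * y) := by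
    apply mul_inv_eq_iff_eq_mul.1
    rw [e, A.cr, A.cr]
  obtain ⟨s, hs, c, hc, hsc⟩ := K.cD _ h1 h2 h3
  have hsr : s * r = r * s := K.TZ_comm hs K.rL K.zr
  have hc1 : c = 1 := by
    apply K.rc c hc
    have h5 : s * (c * r) = s * (r * c) := by
      rw [← mul_assoc, ← hsc, h4, hsc, ← mul_assoc, ← mul_assoc, hsr]
    exact (mul_left_cancel h5).symm
  rw [hc1, mul_one] at hsc
  have hys : y * s * y⁻¹ = s := by rw [← hsc]; group
  rcases hs with h | h | h | h
  · left; rw [hsc, h]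
  · exfalso
    rw [h, A.ct] at hys
    exact K.z1 (mul_eq_left.1 hys)
  · right; rw [hsc, h]
  · exfalso
    rw [h, A.ctz K] at hys
    exact K.z1 (mul_eq_left.1 hys.symm)

/-- multiplication by `t` -/
theorem Act.mul_t {π : Equiv.Perm (Fin 3)} {y : G} (A : Act t z r d τ π y) : Act t z r d τ π (y * t) := by
  have e : ∀ x ∈ L, y * t * x * (y * t)⁻¹ = y * x * y⁻¹ := by
    intro x hx
    have : y * t * x * (y * t)⁻¹ = y * (t * x * t⁻¹) * y⁻¹ := by group
    rw [this, K.tL x hx, mul_inv_cancel_right]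
  refine ⟨?_, ?_, ?_, ?_, ?_⟩
  · rw [e _ K.zL, A.cz]
  · have : y * t * t * (y * t)⁻¹ = y * t * y⁻¹ := by group
    rw [this, A.ct]
  · rw [e _ K.rL, A.cr]
  · intro i
    rw [e _ (K.dL i), A.cd]
  · intro i
    rw [e _ (K.τL i)]
    exact A.cτ i

end

/-- **Normalisation.** -/
theorem exists_inv [Finite G] (K : Core t z r L d τ) {g : G} (hz : g * z * g⁻¹ = z) (ht : g * t * g⁻¹ = t * z) :
    ∃ π y, Act t z r d τ π y ∧ y * y = 1 ∧ π * π = 1 := by
  obtain ⟨π, y, A⟩ := exists_act K hz ht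
  have hπ : (π * π * π) * (π * π * π) = 1 := by
    have h1 : π ^ 6 = 1 := by
      have : Fintype.card (Equiv.Perm (Fin 3)) = 6 := by decide
      rw [← this]
      exact pow_card_eq_one
    have h2 : (π * π * π) * (π * π * π) = π ^ 6 := by
      simp only [pow_succ, pow_zero, one_mul, mul_assoc]
    rw [h2, h1]
  have A' := A.cube K
  rcases A'.sq K hπ with h | h
  · exact ⟨_, _, A', h, hπ⟩
  · refine ⟨_, _, A'.mul_t K, ?_, hπ⟩
    set y' := y * y * y
    have h3 : y' * t * (y' * t) = (y' * y') * (y'⁻¹ * t * y') * t := by group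
    have h4 : y'⁻¹ * t * y' = t * z := by
      have := A'.ctz K
      have h5 : y' * (t * z) = t * y' := mul_inv_eq_iff_eq_mul.1 this
      rw [mul_assoc, ← h5, inv_mul_cancel_left]
    rw [h3, h, h4, K.tz]
    have : z * (z * t) * t = (z * z) * (t * t) := by group
    rw [this, K.zz, K.tt, one_mul]

/-- the `τ i` with `π i = i` -/
theorem fix_τ (K : Core t z r L d τ) {π : Equiv.Perm (Fin 3)} {y : G} (A : Act t z r d τ π y) (hy : y * y = 1)
    {i : Fin 3} (hi : π i = i) : y * τ i * y⁻¹ = τ i ∨ y * τ i * y⁻¹ = τ i * z := by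
  obtain ⟨s, hs, h⟩ := A.cτ i
  rw [hi] at h
  have yinv : y⁻¹ = y := inv_eq_of_mul_eq_one_right hy
  have h1 : τ i * s * (y * s * y⁻¹) = τ i := by
    have : τ i * s * (y * s * y⁻¹) = y * (y * τ i * y⁻¹) * y⁻¹ := by
      nth_rewrite 1 [← h]
      have : y * (y * τ i * y⁻¹) * y⁻¹ = (y * (τ i * s) * y⁻¹) := by rw [h]
      rw [this]
      group
    rw [this]
    have : y * (y * τ i * y⁻¹) * y⁻¹ = (y * y) * τ i * (y * y)⁻¹ := by group
    rw [this, hy]
    group
  have h2 : s * (y * s * y⁻¹) = 1 := by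
    rw [mul_assoc] at h1
    exact mul_eq_left.1 h1
  rcases hs with h3 | h3 | h3 | h3
  · left; rw [h, h3, mul_one]
  · exfalso
    rw [h3, A.ct, ← mul_assoc, K.tt, one_mul] at h2
    exact K.z1 h2
  · right; rw [h, h3]
  · exfalso
    rw [h3, A.ctz K] at h2
    apply K.z1
    have : t * z * t = z := by rw [mul_assoc, ← K.tz, ← mul_assoc, K.tt, one_mul]
    rw [this] at h2
    exact h2

end Core

end Cfsg.Agent.StdO8.DoubCore

private theorem dce_d83e1e1569f8 : _root_.True := by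
  try have : _root_.True := by simp only [_root_.Cfsg.Agent.StdO8.DoubCore.DD.eq_1]
  try have : _root_.True := by simp only [_root_.Cfsg.Agent.StdO8.DoubCore.QQ.eq_1]
  exact _root_.True.intro
end

-- part: OddHalf/D9/TransferGen
section
set_option linter.all false
open scoped Cfsg.Agent.FastGrp

/-!
# Transfer of an arbitrary element: only fixed cosets count

`G` finite, `H ≤ G`, `φ : H →* A`, `x : G` such that every `g⁻¹ x^k g ∈ H` with `1 ≠ k ∣ orderOf x` lies in
the kernel of `φ`. Then the transfer of `φ` at `x` is the product over the cosets fixed by `x`; and if `D` is a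
`2`-subgroup of `C_G(x)` containing `x` and the values have square one, only the cosets fixed by `D` count.
-/

set_option autoImplicit false

namespace Cfsg.Agent.OddHalf.D9.TransferGen

open MulAction

variable {G : Type*} [Group G]

/-- The value of `φ` at the coset `q`. -/
noncomputable def val {A : Type*} [CommGroup A] (H : Subgroup G) (φ : H →* A) (x : G) (q : G ⧸ H) : A := by
  classical
  exact if h : q.out⁻¹ * x * q.out ∈ H then φ ⟨q.out⁻¹ * x * q.out, h⟩ else 1

theorem val_mk {A : Type*} [CommGroup A] (H : Subgroup G) (φ : H →* A) (x g : G)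
    (h : g⁻¹ * x * g ∈ H) : val H φ x (g : G ⧸ H) = φ ⟨g⁻¹ * x * g, h⟩ := by
  classical
  obtain ⟨k, hk⟩ : ∃ k ∈ H, (g : G ⧸ H).out = g * k := by
    refine ⟨g⁻¹ * (g : G ⧸ H).out, ?_, by group⟩
    rw [← QuotientGroup.eq, QuotientGroup.out_eq']
  have h1 : (g : G ⧸ H).out⁻¹ * x * (g : G ⧸ H).out = k⁻¹ * (g⁻¹ * x * g) * k := by
    rw [hk.2]; group
  have h2 : (g : G ⧸ H).out⁻¹ * x * (g : G ⧸ H).out ∈ H := by
    rw [h1]; exact H.mul_mem (H.mul_mem (H.inv_mem hk.1) h) hk.1
  unfold val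
  rw [dif_pos h2]
  have h3 : (⟨(g : G ⧸ H).out⁻¹ * x * (g : G ⧸ H).out, h2⟩ : H) =
      (⟨k, hk.1⟩ : H)⁻¹ * ⟨g⁻¹ * x * g, h⟩ * ⟨k, hk.1⟩ := Subtype.ext h1
  rw [h3, map_mul, map_mul, map_inv, mul_comm (φ ⟨k, hk.1⟩)⁻¹, inv_mul_cancel_right]

/-- The coset `gH` is fixed by `x` iff `g⁻¹ x g ∈ H`. -/
theorem smul_mk_eq (H : Subgroup G) (x g : G) :
    x • (g : G ⧸ H) = (g : G ⧸ H) ↔ g⁻¹ * x * g ∈ H := by
  rw [MulAction.Quotient.smul_mk, smul_eq_mul, eq_comm, QuotientGroup.eq, mul_assoc]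

open Classical in
/-- The transfer at `x` is the product over the fixed cosets. -/
theorem transfer_eq {A : Type*} [CommGroup A] [Finite G] (H : Subgroup G) (φ : H →* A) (x : G)
    [Fintype (G ⧸ H)]
    (hx : ∀ k, k ∣ orderOf x → k ≠ 1 → ∀ g : G, ∀ h : g⁻¹ * x ^ k * g ∈ H, φ ⟨g⁻¹ * x ^ k * g, h⟩ = 1) :
    MonoidHom.transfer φ x = ∏ q ∈ Finset.univ.filter (fun q : G ⧸ H => x • q = q), val H φ x q := by
  have : Fintype (Quotient (orbitRel (Subgroup.zpowers x) (G ⧸ H))) := Fintype.ofFinite _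
  rw [MonoidHom.transfer_eq_prod_quotient_orbitRel_zpowers_quot]
  symm
  -- fixed points correspond to the orbits with one element
  have hfixp : ∀ q : G ⧸ H, x • q = q → ∀ y ∈ Subgroup.zpowers x, y • q = q := by
    intro q hq y hy
    have : Subgroup.zpowers x ≤ stabilizer G q := by
      rw [Subgroup.zpowers_le]; exact hq
    exact this hy
  have hone : ∀ q : Quotient (orbitRel (Subgroup.zpowers x) (G ⧸ H)),
      ¬ x • q.out = q.out →
      φ ⟨q.out.out⁻¹ * x ^ Function.minimalPeriod (x • ·) q.out * q.out.out,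
            QuotientGroup.out_conj_pow_minimalPeriod_mem H x q.out⟩ = 1 := by
    intro q hq
    have h1 : Function.minimalPeriod (x • ·) q.out ≠ 1 := by
      intro h
      rw [Function.minimalPeriod_eq_one_iff_isFixedPt] at h
      exact hq h
    have h0 : Function.minimalPeriod (x • ·) q.out ∣ orderOf x := by
      apply Function.IsPeriodicPt.minimalPeriod_dvd (n := orderOf x)
      change (x • ·)^[orderOf x] q.out = q.out
      rw [smul_iterate, pow_orderOf_eq_one]
      exact one_smul G q.out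
    exact hx _ h0 h1 _ _
  rw [← Finset.prod_filter_mul_prod_filter_not Finset.univ
    (fun q : Quotient (orbitRel (Subgroup.zpowers x) (G ⧸ H)) => x • q.out = q.out)]
  rw [Finset.prod_eq_one (s := Finset.univ.filter
    (fun q : Quotient (orbitRel (Subgroup.zpowers x) (G ⧸ H)) => ¬ x • q.out = q.out))
    (fun q hq => hone q (Finset.mem_filter.1 hq).2), mul_one]
  refine Finset.prod_bij (fun q _ => (Quotient.mk'' q : Quotient (orbitRel (Subgroup.zpowers x) (G ⧸ H))))
    ?_ ?_ ?_ ?_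
  · intro q hq
    have hq' := (Finset.mem_filter.1 hq).2
    rw [Finset.mem_filter]
    refine ⟨Finset.mem_univ _, ?_⟩
    have h1 : (Quotient.mk'' q : Quotient (orbitRel (Subgroup.zpowers x) (G ⧸ H))).out = q := by
      have := Quotient.exact (Quotient.out_eq
        (Quotient.mk'' q : Quotient (orbitRel (Subgroup.zpowers x) (G ⧸ H))))
      obtain ⟨⟨y, hy⟩, h⟩ := this
      rw [← h]
      exact hfixp q hq' y hy
    rw [h1]; exact hq'
  · intro q hq r hr h
    have hr' := (Finset.mem_filter.1 hr).2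
    obtain ⟨⟨y, hy⟩, h⟩ := Quotient.exact h
    rw [← h]
    exact hfixp r hr' y hy
  · intro q hq
    exact ⟨q.out, Finset.mem_filter.2 ⟨Finset.mem_univ _, (Finset.mem_filter.1 hq).2⟩, Quotient.out_eq q⟩
  · intro q hq
    have hq' := (Finset.mem_filter.1 hq).2
    have h1 : (Quotient.mk'' q : Quotient (orbitRel (Subgroup.zpowers x) (G ⧸ H))).out = q := by
      have := Quotient.exact (Quotient.out_eq
        (Quotient.mk'' q : Quotient (orbitRel (Subgroup.zpowers x) (G ⧸ H))))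
      obtain ⟨⟨y, hy⟩, h⟩ := this
      rw [← h]
      exact hfixp q hq' y hy
    have h2 : Function.minimalPeriod (x • ·) q = 1 :=
      Function.minimalPeriod_eq_one_iff_isFixedPt.2 hq'
    have h3 : q.out⁻¹ * x * q.out ∈ H := by
      rw [← smul_mk_eq, QuotientGroup.out_eq']; exact hq'
    unfold val
    rw [dif_pos h3]
    congr 1
    apply Subtype.ext
    simp only [h1, h2, pow_one]

theorem val_smul {A : Type*} [CommGroup A] (H : Subgroup G) (φ : H →* A) {x c : G}
    (hc : c * x = x * c) {q : G ⧸ H} (hq : x • q = q) : val H φ x (c • q) = val H φ x q := by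
  obtain ⟨g, rfl⟩ := QuotientGroup.mk_surjective q
  have h := (smul_mk_eq H x g).1 hq
  have h1 : (c * g)⁻¹ * x * (c * g) = g⁻¹ * x * g := by
    calc (c * g)⁻¹ * x * (c * g) = g⁻¹ * (c⁻¹ * (x * c)) * g := by group
      _ = g⁻¹ * (c⁻¹ * (c * x)) * g := by rw [hc]
      _ = g⁻¹ * x * g := by group
  have h2 : (c * g)⁻¹ * x * (c * g) ∈ H := by rw [h1]; exact h
  rw [MulAction.Quotient.smul_mk, smul_eq_mul, val_mk H φ x _ h2, val_mk H φ x _ h]
  congr 1
  exact Subtype.ext h1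

open Classical in
/-- A `2`-group acting on a finite set with an invariant function whose values have square one: only the
fixed points count. -/
theorem prod_fixed {P X A : Type*} [Group P] [MulAction P X] [CommGroup A] [Finite P]
    (hP : IsPGroup 2 P) (s : Finset X) (hs : ∀ (p : P) (x : X), x ∈ s → p • x ∈ s) (f : X → A)
    (hf : ∀ (p : P) (x : X), x ∈ s → f (p • x) = f x) (h2 : ∀ x ∈ s, f x ^ 2 = 1) :
    ∏ x ∈ s, f x = ∏ x ∈ s.filter (fun x => ∀ p : P, p • x = x), f x := by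
  have : Fact (Nat.Prime 2) := ⟨Nat.prime_two⟩
  rw [← Finset.prod_filter_mul_prod_filter_not s (fun x => ∀ p : P, p • x = x)]
  conv_rhs => rw [← mul_one (∏ x ∈ s.filter (fun x => ∀ p : P, p • x = x), f x)]
  congr 1
  set s' := s.filter (fun x => ¬ ∀ p : P, p • x = x) with hs'
  have hs'm : ∀ (p : P) (x : X), x ∈ s' → p • x ∈ s' := by
    intro p x hx
    rw [hs', Finset.mem_filter] at hx ⊢
    refine ⟨hs p x hx.1, fun h => hx.2 fun r => ?_⟩
    have h1 : p • x = x := by
      have := h p⁻¹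
      rw [inv_smul_smul] at this
      exact this.symm
    have h2 := h r
    rwa [h1] at h2
  rw [Finset.prod_comp (fun a => a) f]
  apply Finset.prod_eq_one
  intro a ha
  obtain ⟨x0, hx0, rfl⟩ := Finset.mem_image.1 ha
  set F : Finset X := s'.filter (fun x => f x = f x0) with hF
  have hsub : ∀ x ∈ s', x ∈ s := fun x hx => (Finset.mem_filter.1 hx).1
  have hFm : ∀ (p : P) (x : X), x ∈ F → p • x ∈ F := by
    intro p x hx
    rw [hF, Finset.mem_filter] at hx ⊢
    exact ⟨hs'm p x hx.1, by rw [hf p x (hsub x hx.1)]; exact hx.2⟩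
  let act : MulAction P F :=
    { smul := fun p x => ⟨p • (x : X), hFm p x x.2⟩
      one_smul := fun x => Subtype.ext (one_smul P (x : X))
      mul_smul := fun p q x => Subtype.ext (mul_smul p q (x : X)) }
  have h3 := hP.card_modEq_card_fixedPoints F
  have h4 : MulAction.fixedPoints P F = ∅ := by
    rw [Set.eq_empty_iff_forall_notMem]
    intro x hx
    have hx2 := (Finset.mem_filter.1 (Finset.mem_filter.1 x.2).1).2
    exact hx2 fun p => congrArg Subtype.val (hx p)
  have h40 : Nat.card (MulAction.fixedPoints P F) = 0 := by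
    rw [h4]; simp
  rw [h40] at h3
  have h5 : Even F.card := by
    rw [Nat.even_iff]
    have h6 : Nat.card F = F.card := by simp
    rw [h6] at h3
    exact h3
  obtain ⟨k, hk⟩ := h5
  have h7 : (s'.filter (fun x => f x = f x0)).card = k + k := hk
  rw [h7, ← two_mul, pow_mul, h2 x0 (hsub x0 hx0), one_pow]

open Classical in
/-- **Transfer at `x` with a `2`-group `D` centralizing `x`**: only the cosets fixed by `D` count. -/
theorem transfer_eq_D {A : Type*} [CommGroup A] [Finite G] (H : Subgroup G) (φ : H →* A) (x : G)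
    [Fintype (G ⧸ H)]
    (hx : ∀ k, k ∣ orderOf x → k ≠ 1 → ∀ g : G, ∀ h : g⁻¹ * x ^ k * g ∈ H, φ ⟨g⁻¹ * x ^ k * g, h⟩ = 1)
    (D : Subgroup G) (hD : IsPGroup 2 D) (hxD : x ∈ D) (hDx : ∀ d ∈ D, d * x = x * d) :
    MonoidHom.transfer φ x =
      ∏ q ∈ Finset.univ.filter (fun q : G ⧸ H => ∀ d ∈ D, d • q = q), val H φ x q := by
  rw [transfer_eq H φ x hx]
  have hact : ∀ (d : D) (q : G ⧸ H), d • q = (d : G) • q := fun _ _ => rfl
  rw [prod_fixed hD (Finset.univ.filter (fun q : G ⧸ H => x • q = q)) ?_ (val H φ x) ?_ ?_]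
  · apply Finset.prod_congr _ (fun _ _ => rfl)
    ext q
    simp only [Finset.mem_filter, Finset.mem_univ, true_and]
    constructor
    · rintro ⟨-, h⟩ d hd
      exact h ⟨d, hd⟩
    · intro h
      exact ⟨h x hxD, fun d => h d d.2⟩
  · intro d q hq
    rw [Finset.mem_filter] at hq ⊢
    refine ⟨Finset.mem_univ _, ?_⟩
    rw [hact, ← mul_smul, ← hDx d d.2, mul_smul, hq.2]
  · intro d q hq
    rw [hact]
    exact val_smul H φ (hDx d d.2) (Finset.mem_filter.1 hq).2
  · intro q hq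
    obtain ⟨g, rfl⟩ := QuotientGroup.mk_surjective q
    have h := (smul_mk_eq H x g).1 (Finset.mem_filter.1 hq).2
    rw [val_mk H φ x g h, ← map_pow]
    have h1 : g⁻¹ * x ^ 2 * g ∈ H := by
      have : g⁻¹ * x ^ 2 * g = (g⁻¹ * x * g) * (g⁻¹ * x * g) := by rw [pow_two]; group
      rw [this]; exact H.mul_mem h h
    have h2 : φ ⟨g⁻¹ * x ^ 2 * g, h1⟩ = 1 := by
      obtain ⟨m, hm⟩ := (IsPGroup.iff_orderOf.1 hD) ⟨x, hxD⟩
      rw [Subgroup.orderOf_mk] at hm
      rcases Nat.eq_zero_or_pos m with rfl | hm0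
      · have hx1 : x = 1 := by
          rw [pow_zero, orderOf_eq_one_iff] at hm; exact hm
        have h3 : (⟨g⁻¹ * x ^ 2 * g, h1⟩ : H) = 1 := by
          apply Subtype.ext
          change g⁻¹ * x ^ 2 * g = 1
          rw [hx1]; group
        rw [h3, map_one]
      · refine hx 2 ?_ (by decide) g h1
        rw [hm]
        exact dvd_pow_self 2 (by omega)
    rw [← h2]
    congr 1
    apply Subtype.ext
    rw [Subgroup.coe_pow]
    change (g⁻¹ * x * g) ^ 2 = g⁻¹ * x ^ 2 * g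
    rw [pow_two, pow_two]; group

end Cfsg.Agent.OddHalf.D9.TransferGen
end

-- part: U62/SgnTwo
section
prune_inst 0x24206004300000000000050002003c26d6000090002b00014040024406818f0100400760b6a0160011022624683e804000100079001000002a008200411801a0042b20e2803cb00021000040d805180c00000000000000000000000000000000000000000
set_option linter.all false
open scoped Cfsg.Agent.FastGrp

/-!
Signs of permutations by conjugation, and the sign on the elements of the component which do not commute with `t`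
(step (B2) of S1734, `L = 2.U₆(2)`).
-/

set_option autoImplicit false

namespace Cfsg.Agent.U62.SgnTwo

open Cfsg.Agent.R01.Closing (comm_of_comm_two not_three)

/-! ### Permutations -/

section perm

variable {α : Type*} [Fintype α] [DecidableEq α]

open Equiv.Perm in
theorem sign_invol (π : Equiv.Perm α) (h2 : π ^ 2 = 1) (hf : ∀ a, π a ≠ a) :
    Equiv.Perm.sign π = (-1) ^ (Fintype.card α / 2) := by
  rw [sign_of_pow_two_eq_one h2]
  have : Fintype.card (Function.fixedPoints π) = 0 := by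
    rw [Fintype.card_eq_zero_iff]
    exact ⟨fun a => hf a a.2⟩
  rw [this, Nat.sub_zero]

open Equiv.Perm in
theorem two_dvd (π : Equiv.Perm α) (h2 : π ^ 2 = 1) (hf : ∀ a, π a ≠ a) : 2 ∣ Fintype.card α := by
  have h := two_dvd_card_support h2
  have e : π.support = Finset.univ := by
    ext a
    simp only [hf a, _root_.Equiv.Perm.mem_support, _root_.ne_eq, _root_.not_false_eq_true, _root_.Finset.mem_univ]
  rwa [e, Finset.card_univ] at h

/-- A four-group acting freely. -/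
theorem four_dvd (π ρ : Equiv.Perm α) (h1 : π ^ 2 = 1) (h2 : ρ ^ 2 = 1) (h3 : (π * ρ) ^ 2 = 1)
    (f1 : ∀ a, π a ≠ a) (f2 : ∀ a, ρ a ≠ a) (f3 : ∀ a, (π * ρ) a ≠ a) : 4 ∣ Fintype.card α := by
  have e1 := sign_invol π h1 f1
  have e2 := sign_invol ρ h2 f2
  have e3 := sign_invol _ h3 f3
  rw [map_mul, e1, e2] at e3
  have e4 : ((-1 : ℤˣ)) ^ (Fintype.card α / 2) = 1 := by
    have := congrArg (fun z => ((-1 : ℤˣ) ^ (Fintype.card α / 2))⁻¹ * z) e3
    simpa only [_root_.Int.units_inv_eq_self, _root_.Int.units_mul_self, _root_.mul_one] using this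
  have h5 := two_dvd π h1 f1
  have h6 : Even (Fintype.card α / 2) := by
    by_contra hodd
    rw [Nat.not_even_iff_odd] at hodd
    rw [hodd.neg_one_pow] at e4
    exact absurd e4 (by decide)
  obtain ⟨m, hm⟩ := h5
  rw [hm, Nat.mul_div_cancel_left _ (by norm_num)] at h6
  obtain ⟨l, hl⟩ := h6
  exact ⟨l, by omega⟩

open Equiv.Perm in
/-- All cycles of length four. -/
theorem sign_four (π : Equiv.Perm α) (h4 : π ^ 4 = 1) (hf : ∀ a, (π ^ 2) a ≠ a) :
    Equiv.Perm.sign π = (-1) ^ (Fintype.card α / 4) := by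
  have hall : ∀ n ∈ π.cycleType, n = 4 := by
    intro n hn
    have h1 : n ∣ 4 := (dvd_of_mem_cycleType hn).trans (orderOf_dvd_of_pow_eq_one h4)
    have h2 := two_le_of_mem_cycleType hn
    have h3 : n ≠ 2 := by
      rintro rfl
      obtain ⟨c, τ, rfl, hd, hc, hcard⟩ := mem_cycleType_iff.1 hn
      have hne : c.support.Nonempty := by
        rw [← Finset.card_pos, hcard]; norm_num
      obtain ⟨a, ha⟩ := hne
      have hτ : τ a = a := by
        rcases hd a with h | h
        · exact absurd h (mem_support.1 ha)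
        · exact h
      have hc2 : c ^ 2 = 1 := by
        rw [← hcard, ← hc.orderOf]
        exact pow_orderOf_eq_one c
      apply hf a
      rw [hd.commute.mul_pow, hc2, one_mul, pow_two, Equiv.Perm.mul_apply, hτ, hτ]
    have h5 : n ≤ 4 := Nat.le_of_dvd (by norm_num) h1
    interval_cases n
    · exact absurd rfl h3
    · norm_num at h1
    · rfl
  have hrep : π.cycleType = Multiset.replicate π.cycleType.card 4 := Multiset.eq_replicate_card.2 hall
  rw [sign_of_cycleType_eq_replicate (by norm_num) hrep, if_neg (by decide)]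
  have : Fintype.card (Function.fixedPoints π) = 0 := by
    rw [Fintype.card_eq_zero_iff]
    refine ⟨fun a => hf a ?_⟩
    have h : π a = a := a.2
    rw [pow_two, Equiv.Perm.mul_apply, h, h]
  rw [this, Nat.sub_zero]

/-- Splitting the sign. -/
theorem sign_split (π : Equiv.Perm α) (p : α → Prop) [DecidablePred p] (h : ∀ a, p (π a) ↔ p a)
    (h' : ∀ a, ¬ p (π a) ↔ ¬ p a) :
    Equiv.Perm.sign π = Equiv.Perm.sign (π.subtypePerm h) *
      Equiv.Perm.sign (Equiv.Perm.subtypePerm (p := fun a => ¬ p a) π h') := by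
  rw [← Equiv.Perm.sign_subtypeCongr]
  congr 1
  ext a
  by_cases ha : p a
  · rw [Equiv.Perm.subtypeCongr.left_apply _ _ ha]
    rfl
  · rw [Equiv.Perm.subtypeCongr.right_apply _ _ ha]
    rfl

end perm

/-! ### Conjugation -/

section conj

variable {G : Type*} [Group G]

/-- Conjugation by `x` on a set. -/
def pm (x : G) (A : Set G) (h : ∀ e, e ∈ A ↔ x * e * x⁻¹ ∈ A) : Equiv.Perm A :=
  Equiv.Perm.subtypePerm (MulAut.conj x).toEquiv (fun e => (h e).symm)

@[simp] theorem pm_apply (x : G) (A : Set G) (h : ∀ e, e ∈ A ↔ x * e * x⁻¹ ∈ A) (e : A) :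
    (pm x A h e : G) = x * e * x⁻¹ := rfl

theorem pm_mul {x y : G} {A : Set G} (hx : ∀ e, e ∈ A ↔ x * e * x⁻¹ ∈ A) (hy : ∀ e, e ∈ A ↔ y * e * y⁻¹ ∈ A)
    (hxy : ∀ e, e ∈ A ↔ x * y * e * (x * y)⁻¹ ∈ A) : pm (x * y) A hxy = pm x A hx * pm y A hy := by
  ext e
  rw [Equiv.Perm.mul_apply, pm_apply, pm_apply, pm_apply]
  group

theorem pm_fix {x : G} {A : Set G} (hx : ∀ e, e ∈ A ↔ x * e * x⁻¹ ∈ A) (e : A) : pm x A hx e = e ↔ Commute (e : G) x := by
  rw [← Subtype.coe_inj, pm_apply, mul_inv_eq_iff_eq_mul]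
  exact ⟨fun h => h.symm, fun h => h.symm⟩

theorem iff_mul {x y : G} {A : Set G} (hx : ∀ e, e ∈ A ↔ x * e * x⁻¹ ∈ A) (hy : ∀ e, e ∈ A ↔ y * e * y⁻¹ ∈ A) :
    ∀ e, e ∈ A ↔ x * y * e * (x * y)⁻¹ ∈ A := by
  intro e
  rw [hy e, hx]
  have : x * (y * e * y⁻¹) * x⁻¹ = x * y * e * (x * y)⁻¹ := by group
  rw [this]

theorem pm_pow_two {x : G} {A : Set G} (hx : ∀ e, e ∈ A ↔ x * e * x⁻¹ ∈ A) (h : ∀ e ∈ A, Commute e (x * x)) :
    (pm x A hx) ^ 2 = 1 := by
  ext e
  rw [pow_two, Equiv.Perm.mul_apply, pm_apply, pm_apply, Equiv.Perm.one_apply]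
  have h1 := (h e e.2).eq
  calc x * (x * (e : G) * x⁻¹) * x⁻¹ = (x * x) * (e : G) * (x * x)⁻¹ := by group
    _ = e := by rw [← h1, mul_inv_cancel_right]

/-- Conjugation by a product is decided by the factors. -/
theorem iff_of {A : Set G} {x : G} (hx : ∀ e ∈ A, x * e * x⁻¹ ∈ A) (hx' : ∀ e ∈ A, x⁻¹ * e * x ∈ A) :
    ∀ e, e ∈ A ↔ x * e * x⁻¹ ∈ A := by
  intro e
  refine ⟨hx e, fun h => ?_⟩
  have := hx' _ h
  have e1 : x⁻¹ * (x * e * x⁻¹) * x = e := by group
  rwa [e1] at this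

theorem iff_of_invol {A : Set G} {x : G} (hxx : x * x = 1) (hx : ∀ e ∈ A, x * e * x⁻¹ ∈ A) :
    ∀ e, e ∈ A ↔ x * e * x⁻¹ ∈ A := by
  have hi : x⁻¹ = x := inv_eq_of_mul_eq_one_left hxx
  refine iff_of hx fun e he => ?_
  have := hx e he
  rw [hi] at this ⊢
  exact this

/-- A four-group acting freely by conjugation. -/
theorem four_dvd_ncard {A : Set G} (hA : A.Finite) {s u : G} (hs : s * s = 1) (hu : u * u = 1) (hsu : Commute s u)
    (cs : ∀ e ∈ A, s * e * s⁻¹ ∈ A) (cu : ∀ e ∈ A, u * e * u⁻¹ ∈ A)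
    (f1 : ∀ e ∈ A, ¬ Commute e s) (f2 : ∀ e ∈ A, ¬ Commute e u) (f3 : ∀ e ∈ A, ¬ Commute e (s * u)) :
    4 ∣ A.ncard := by
  classical
  have : Fintype A := hA.fintype
  have is := iff_of_invol hs cs
  have iu := iff_of_invol hu cu
  have isu := iff_mul is iu
  have hsuu : (s * u) * (s * u) = 1 := by
    calc (s * u) * (s * u) = s * (u * s) * u := by group
      _ = s * (s * u) * u := by rw [hsu.eq]
      _ = (s * s) * (u * u) := by group
      _ = 1 := by rw [hs, hu, one_mul]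
  have h := four_dvd (pm s A is) (pm u A iu) (pm_pow_two is fun e _ => by rw [hs]; exact Commute.one_right e)
    (pm_pow_two iu fun e _ => by rw [hu]; exact Commute.one_right e)
    (by rw [← pm_mul is iu isu]; exact pm_pow_two isu fun e _ => by rw [hsuu]; exact Commute.one_right e)
    (fun e he => f1 e e.2 ((pm_fix is e).1 he)) (fun e he => f2 e e.2 ((pm_fix iu e).1 he))
    (fun e he => f3 e e.2 (by
      rw [← pm_mul is iu isu] at he
      exact (pm_fix isu e).1 he))
  rwa [← Nat.card_eq_fintype_card, Nat.card_coe_set_eq] at h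

/-- Splitting the sign of a conjugation. -/
theorem sign_pm_split [Finite G] {x : G} {A B C : Set G} (hA : ∀ e, e ∈ A ↔ x * e * x⁻¹ ∈ A)
    (hB : ∀ e, e ∈ B ↔ x * e * x⁻¹ ∈ B) (hC : ∀ e, e ∈ C ↔ x * e * x⁻¹ ∈ C) (hBA : B ⊆ A)
    (hCA : ∀ e, e ∈ C ↔ e ∈ A ∧ e ∉ B) [Fintype A] [Fintype B] [Fintype C] [DecidableEq A] [DecidableEq B]
    [DecidableEq C] :
    Equiv.Perm.sign (pm x A hA) = Equiv.Perm.sign (pm x B hB) * Equiv.Perm.sign (pm x C hC) := by
  classical
  have h : ∀ a : A, ((pm x A hA a : A) : G) ∈ B ↔ (a : G) ∈ B := fun a => by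
    rw [pm_apply]; exact (hB a).symm
  have h' : ∀ a : A, ¬ ((pm x A hA a : A) : G) ∈ B ↔ ¬ (a : G) ∈ B := fun a => not_congr (h a)
  rw [sign_split (pm x A hA) (fun a : A => (a : G) ∈ B) h h']
  congr 1
  · refine Equiv.Perm.sign_eq_sign_of_equiv _ _
      { toFun := fun a => ⟨(a : A), a.2⟩
        invFun := fun b => ⟨⟨b, hBA b.2⟩, b.2⟩
        left_inv := fun a => rfl
        right_inv := fun b => rfl } (fun a => ?_)
    rfl
  · refine Equiv.Perm.sign_eq_sign_of_equiv _ _
      { toFun := fun a => ⟨(a : A), (hCA _).2 ⟨(a : A).2, a.2⟩⟩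
        invFun := fun b => ⟨⟨b, ((hCA _).1 b.2).1⟩, ((hCA _).1 b.2).2⟩
        left_inv := fun a => rfl
        right_inv := fun b => rfl } (fun a => ?_)
    rfl

end conj

/-! ### The elements which do not commute with `t` -/

section gam

variable {G : Type*} [Group G] {Δ : Set G} {t : G}

/-- The part of the component which does not commute with `t`. -/
def Gm (Δ : Set G) (t : G) : Set G := {e | e ∈ Δ ∧ ¬ Commute e t}

theorem mem_Gm {e : G} : e ∈ Gm Δ t ↔ e ∈ Δ ∧ ¬ Commute e t := Iff.rfl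

theorem three' (hsq : ∀ a ∈ Δ, a * a = 1) (h3 : ∀ a ∈ Δ, ∀ b ∈ Δ, Commute a b ∨ (a * b) ^ 3 = 1) {a b : G}
    (ha : a ∈ Δ) (hb : b ∈ Δ) : b * a = a * b ∨ (a * b) ^ 3 = 1 := by
  rcases h3 a ha b hb with h | h
  · exact Or.inl h.symm.eq
  · exact Or.inr h

/-- An element of `Δ` commuting with a product of two commuting elements of `Δ` commutes with the factors. -/
theorem comm_two (hsq : ∀ a ∈ Δ, a * a = 1) (h3 : ∀ a ∈ Δ, ∀ b ∈ Δ, Commute a b ∨ (a * b) ^ 3 = 1) {a b e : G}
    (ha : a ∈ Δ) (hb : b ∈ Δ) (he : e ∈ Δ) (hab : Commute a b) (hne : a ≠ b) (h : Commute e (a * b)) : Commute e a :=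
  comm_of_comm_two (hsq a ha) (hsq b hb) (hsq e he) hab.eq hne (three' hsq h3 ha he) (three' hsq h3 hb he) h.eq

/-- Nobody in `Gm` commutes with three points of a line. -/
theorem not_all (hsq : ∀ a ∈ Δ, a * a = 1) (h3 : ∀ a ∈ Δ, ∀ b ∈ Δ, Commute a b ∨ (a * b) ^ 3 = 1)
    {b0 b1 b2 b3 b4 : G} (ht : t ∈ Δ) (m3 : b3 ∈ Δ) (m4 : b4 ∈ Δ) (c3 : Commute t b3) (c4 : Commute t b4)
    (c34 : Commute b3 b4) (n3 : t ≠ b3) (n4 : t ≠ b4)
    (hl : b0 * b1 * b2 * b3 * b4 = t) {e : G} (he : e ∈ Gm Δ t)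
    (e0 : Commute e b0) (e1 : Commute e b1) (e2 : Commute e b2) : False := by
  obtain ⟨heD, het⟩ := he
  have k : b0 * b1 * b2 = t * b3 * b4 := by
    have h4 := hsq b4 m4
    have h3' := hsq b3 m3
    calc b0 * b1 * b2 = (b0 * b1 * b2 * b3 * b4) * (b4⁻¹ * b3⁻¹) := by group
      _ = t * (b3 * b4)⁻¹ := by rw [hl, mul_inv_rev]
      _ = t * (b3 * b4) := by
        congr 1
        refine inv_eq_of_mul_eq_one_left ?_
        calc b3 * b4 * (b3 * b4) = b3 * (b4 * b3) * b4 := by group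
          _ = b3 * (b3 * b4) * b4 := by rw [c34.eq]
          _ = (b3 * b3) * (b4 * b4) := by group
          _ = 1 := by rw [h4, h3', one_mul]
      _ = _ := by group
  have hc : Commute e (t * b3 * b4) := by
    rw [← k]; exact (e0.mul_right e1).mul_right e2
  by_cases g4 : Commute e b4
  · have h5 : Commute e (t * b3) := by
      have := hc.mul_right g4
      have e5 : t * b3 * b4 * b4 = t * b3 := by rw [mul_assoc, hsq b4 m4, mul_one]
      rwa [e5] at this
    exact het (comm_two hsq h3 ht m3 heD c3 n3 h5)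
  · by_cases g3 : Commute e b3
    · have h5 : Commute e (t * b4) := by
        have := hc.mul_right g3
        have e5 : t * b3 * b4 * b3 = t * b4 := by
          calc t * b3 * b4 * b3 = t * b3 * (b4 * b3) := by group
            _ = t * (b3 * b3) * b4 := by rw [← c34.eq]; group
            _ = t * b4 := by rw [hsq b3 m3, mul_one]
        rwa [e5] at this
      exact het (comm_two hsq h3 ht m4 heD c4 n4 h5)
    · have r : ∀ b ∈ Δ, ¬ Commute e b → (b * e) ^ 3 = 1 := fun b hb hn => by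
        rcases h3 b hb e heD with h | h
        · exact absurd h.symm hn
        · exact h
      have := not_three (hsq t ht) (hsq b3 m3) (hsq b4 m4) (hsq e heD) c3.eq c34.eq c4.eq (r t ht het) (r b3 m3 g3)
        (r b4 m4 g4) hc.eq
      rw [this] at het
      exact het c3.symm

/-- **(B2)** The sign on `Gm` is `1`. -/
theorem sign_gam [Finite G] (hsq : ∀ a ∈ Δ, a * a = 1) (h3 : ∀ a ∈ Δ, ∀ b ∈ Δ, Commute a b ∨ (a * b) ^ 3 = 1)
    (hconj : ∀ a ∈ Δ, ∀ b ∈ Δ, b * a * b⁻¹ ∈ Δ)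
    (hcard : (Gm Δ t).ncard = 2816) {b0 b1 b2 b3 b4 : G} (ht : t ∈ Δ) (m0 : b0 ∈ Δ) (m1 : b1 ∈ Δ) (m2 : b2 ∈ Δ)
    (m3 : b3 ∈ Δ) (m4 : b4 ∈ Δ)
    (c0 : Commute t b0) (c1 : Commute t b1) (c2 : Commute t b2) (c3 : Commute t b3) (c4 : Commute t b4)
    (c01 : Commute b0 b1) (c02 : Commute b0 b2) (c12 : Commute b1 b2) (c34 : Commute b3 b4)
    (n0 : t ≠ b0) (n1 : t ≠ b1) (n2 : t ≠ b2) (n3 : t ≠ b3) (n4 : t ≠ b4)
    (hl : b0 * b1 * b2 * b3 * b4 = t) {x : G} (hx : x * x = 1 ∨ x * x = t)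
    (x0 : Commute x b0) (x1 : Commute x b1) (x2 : Commute x b2) (xt : Commute x t)
    (h : ∀ e, e ∈ Gm Δ t ↔ x * e * x⁻¹ ∈ Gm Δ t) [Fintype (Gm Δ t)] [DecidableEq (Gm Δ t)] :
    Equiv.Perm.sign (pm x (Gm Δ t) h) = 1 := by
  have hFc : Fintype.card (Gm Δ t) = 2816 := by
    rw [← Nat.card_eq_fintype_card, Nat.card_coe_set_eq, hcard]
  rcases hx with hx | hx
  · -- involution
    have h2 : (pm x (Gm Δ t) h) ^ 2 = 1 := pm_pow_two h fun e _ => by rw [hx]; exact Commute.one_right e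
    rw [Equiv.Perm.sign_of_pow_two_eq_one h2, hFc]
    -- the fixed points
    set F : Set G := {e | e ∈ Gm Δ t ∧ Commute e x} with hF
    have hfix : Fintype.card (Function.fixedPoints (pm x (Gm Δ t) h)) = F.ncard := by
      rw [← Nat.card_eq_fintype_card, ← Nat.card_coe_set_eq]
      refine Nat.card_congr
        { toFun := fun e => ⟨(e : Gm Δ t), (e : Gm Δ t).2, (pm_fix h _).1 e.2⟩
          invFun := fun e => ⟨⟨e, e.2.1⟩, (pm_fix h _).2 e.2.2⟩
          left_inv := fun e => rfl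
          right_inv := fun e => rfl }
    have hfree : ∀ (A : Set G), A ⊆ F → ∀ b ∈ Δ, Commute t b → t ≠ b → (∀ e ∈ A, ¬ Commute e b) →
        (∀ g : G, g = t ∨ g = b → ∀ e ∈ A, g * e * g⁻¹ ∈ A) → 4 ∣ A.ncard := by
      intro A hA b hb ctb hne hnb hc
      refine four_dvd_ncard (Set.toFinite A) (hsq t ht) (hsq b hb) ctb (hc t (Or.inl rfl)) (hc b (Or.inr rfl))
        (fun e he => (hA he).1.2) hnb (fun e he hcom => ?_)
      exact (hA he).1.2 (comm_two hsq h3 ht hb (hA he).1.1 ctb hne hcom)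
    -- conjugation by elements commuting with everything
    have cj : ∀ {g e c : G}, Commute g c → (Commute (g * e * g⁻¹) c ↔ Commute e c) := by
      intro g e c hgc
      have e1 : g * c * g⁻¹ = c := by rw [hgc.eq, mul_inv_cancel_right]
      constructor
      · intro h1
        have h2 : Commute (g * e * g⁻¹) (g * c * g⁻¹) := by rw [e1]; exact h1
        have h5 := h2.eq
        have h6 : g * (e * c) * g⁻¹ = g * (c * e) * g⁻¹ := by
          calc g * (e * c) * g⁻¹ = (g * e * g⁻¹) * (g * c * g⁻¹) := by group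
            _ = (g * c * g⁻¹) * (g * e * g⁻¹) := h5
            _ = _ := by group
        exact mul_left_cancel (mul_right_cancel h6)
      · intro h1
        rw [← e1]
        have h5 := h1.eq
        show (g * e * g⁻¹) * (g * c * g⁻¹) = (g * c * g⁻¹) * (g * e * g⁻¹)
        calc (g * e * g⁻¹) * (g * c * g⁻¹) = g * (e * c) * g⁻¹ := by group
          _ = g * (c * e) * g⁻¹ := by rw [h5]
          _ = _ := by group
    have hFc' : ∀ g ∈ Δ, Commute g t → Commute g x → ∀ e ∈ F, g * e * g⁻¹ ∈ F := by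
      intro g hg hgt hgx e he
      exact ⟨⟨hconj e he.1.1 g hg, fun h5 => he.1.2 ((cj hgt).1 h5)⟩, (cj hgx).2 he.2⟩
    have tt : Commute t t := Commute.refl t
    set F0 : Set G := {e | e ∈ F ∧ ¬ Commute e b0} with hF0
    set F1 : Set G := {e | e ∈ F ∧ Commute e b0 ∧ ¬ Commute e b1} with hF1
    set F2 : Set G := {e | e ∈ F ∧ Commute e b0 ∧ Commute e b1 ∧ ¬ Commute e b2} with hF2
    have d0 : 4 ∣ F0.ncard := by
      refine hfree F0 (fun e he => he.1) b0 m0 c0 n0 (fun e he => he.2) ?_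
      rintro g (rfl | rfl) e he
      · exact ⟨hFc' _ ht tt xt.symm e he.1, fun h5 => he.2 ((cj c0).1 h5)⟩
      · exact ⟨hFc' _ m0 c0.symm x0.symm e he.1, fun h5 => he.2 ((cj (Commute.refl _)).1 h5)⟩
    have d1 : 4 ∣ F1.ncard := by
      refine hfree F1 (fun e he => he.1) b1 m1 c1 n1 (fun e he => he.2.2) ?_
      rintro g (rfl | rfl) e he
      · exact ⟨hFc' _ ht tt xt.symm e he.1, (cj c0).2 he.2.1, fun h5 => he.2.2 ((cj c1).1 h5)⟩
      · exact ⟨hFc' _ m1 c1.symm x1.symm e he.1, (cj c01.symm).2 he.2.1,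
          fun h5 => he.2.2 ((cj (Commute.refl _)).1 h5)⟩
    have d2 : 4 ∣ F2.ncard := by
      refine hfree F2 (fun e he => he.1) b2 m2 c2 n2 (fun e he => he.2.2.2) ?_
      rintro g (rfl | rfl) e he
      · exact ⟨hFc' _ ht tt xt.symm e he.1, (cj c0).2 he.2.1, (cj c1).2 he.2.2.1,
          fun h5 => he.2.2.2 ((cj c2).1 h5)⟩
      · exact ⟨hFc' _ m2 c2.symm x2.symm e he.1, (cj c02.symm).2 he.2.1, (cj c12.symm).2 he.2.2.1,
          fun h5 => he.2.2.2 ((cj (Commute.refl _)).1 h5)⟩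
    have hun : F = F0 ∪ F1 ∪ F2 := by
      ext e
      constructor
      · intro he
        by_cases g0 : Commute e b0
        · by_cases g1 : Commute e b1
          · by_cases g2 : Commute e b2
            · exact absurd (not_all hsq h3 ht m3 m4 c3 c4 c34 n3 n4 hl he.1 g0 g1 g2) id
            · exact Or.inr ⟨he, g0, g1, g2⟩
          · exact Or.inl (Or.inr ⟨he, g0, g1⟩)
        · exact Or.inl (Or.inl ⟨he, g0⟩)
      · rintro ((h5 | h5) | h5) <;> exact h5.1
    have hcF : F.ncard = F0.ncard + F1.ncard + F2.ncard := by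
      rw [hun, Set.ncard_union_eq, Set.ncard_union_eq]
      · rw [Set.disjoint_left]
        rintro e h5 h6
        exact h5.2 h6.2.1
      · rw [Set.disjoint_left]
        rintro e (h5 | h5) h6
        · exact h5.2 h6.2.1
        · exact h5.2.2 h6.2.2.1
    have d : 4 ∣ F.ncard := by
      rw [hcF]; exact dvd_add (dvd_add d0 d1) d2
    rw [hfix]
    obtain ⟨k, hk⟩ := d
    have hle : F.ncard ≤ 2816 := by
      rw [← hcard]
      exact Set.ncard_le_ncard (fun e he => he.1) (Set.toFinite _)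
    have he : Even ((2816 - F.ncard) / 2) := by
      refine ⟨704 - k, ?_⟩
      rw [hk]
      (clear * -; omega)
    exact he.neg_one_pow
  · -- all cycles of length four
    have e1 := iff_mul h h
    have e2 : (pm x (Gm Δ t) h) ^ 2 = pm (x * x) (Gm Δ t) e1 := by rw [pow_two, pm_mul h h e1]
    have h4 : (pm x (Gm Δ t) h) ^ 4 = 1 := by
      rw [show 4 = 2 * 2 from rfl, pow_mul, e2]
      exact pm_pow_two e1 fun e _ => by rw [hx, hsq t ht]; exact Commute.one_right e
    rw [sign_four _ h4 (fun a ha => ?_), hFc]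
    · norm_num
    · rw [e2, pm_fix, hx] at ha
      exact a.2.2 ha

end gam

end Cfsg.Agent.U62.SgnTwo
end
end
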