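import Cfsg.Agent.StdSpSix.QLevel_m3
import Cfsg.Agent.StdO8.DoubRoot_m3
import Cfsg.Agent.StdSpSix.TR
import Cfsg.Agent.FastGrp
import Cfsg.Agent.Prune
set_option linter.all false

section
prune_inst 0x7fb0fcf9eeb82ddfffff7e7fa6dfcffc39901fffe6dff94bffe5ebff0bdf03670be1fb8f89e410fc9ef6e21410b87853fbffeeffea6fd87ffffd1ff45ffbee1fe5ffbd0c5196bc341ffc6ffffbf07fae7f3fffffffffffffffffffffffffffffffbfffffffff

-- part: StdSpSix/AllMain
section
prune_inst 0x4000000000100000000000010000000000000000200400000000000000000804000020000000000100000080000000000000000000000000000000000000001200002000000000000000000000000000000000000000000000000000000000000000000000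
set_option linter.all false
open scoped Cfsg.Agent.FastGrp

-- part: StdSpSix/RLevel
section
/-!
# The level of `N_G(R)`, `R` a 2-group doubling `Q = A_W`

`C_G(t) = ⟨t⟩ × L`, every `t l`, `l² = 1`, is conjugate to `t`, no element of `L` is.  `Q ≤ L` is
elementary abelian of order `64`, `R` is a 2-group normalised by `t` and `N_L(Q)` with
`C_R(t) = Q`, `Z = Z(R)` is elementary abelian of order `512`, `D ∩ tR = t ^ R`.  Then
`D ∩ N_G(R) = t ^ N_G(R)`, `X = N_G(R) / R` has `C_X(t) = ⟨t⟩ × N_L(Q)/Q` with the same pattern,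
and a sign on `X` gives one on `G`.
-/

set_option autoImplicit false

namespace Cfsg.Agent.StdSpSix.RLevel

open Subgroup
open Cfsg.Agent.StdSpSix.QLevel (card_le_two_mul card_sub_eq inv_of_sq comm_of_sq mem_inf_cent card_le_sq)
open Cfsg.Agent.StdSpSix.QLevel.Data (card_conj_of_iff mem_map_conj conj_mem_iff_of_le)

/-- a self-normalizing 2-subgroup is Sylow -/
theorem exists_conj_le {G : Type*} [Group G] [Finite G] {M S T : Subgroup G} (hSM : S ≤ M) (hS : IsPGroup 2 S)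
    (hT : IsPGroup 2 T) (hTM : T ≤ M)
    (hself : ∀ m ∈ M, (∀ s ∈ S, m * s * m⁻¹ ∈ S) → m ∈ S) : ∃ c ∈ M, ∀ x ∈ T, c⁻¹ * x * c ∈ S := by
  have : Fact (Nat.Prime 2) := ⟨Nat.prime_two⟩
  obtain ⟨P, hP⟩ := (hS.comap_subtype (K := M)).exists_le_sylow
  obtain ⟨P2, hP2⟩ := (hT.comap_subtype (K := M)).exists_le_sylow
  obtain ⟨c, hc⟩ := MulAction.exists_smul_eq M P P2
  have hPS : (P : Subgroup M) ≤ S.subgroupOf M := by
    by_contra hne
    have : Group.IsNilpotent P := P.isPGroup'.isNilpotent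
    have h1 : (S.subgroupOf M).subgroupOf (P : Subgroup M) < ⊤ := by
      rw [lt_top_iff_ne_top]
      intro h
      exact hne (subgroupOf_eq_top.1 h)
    have h2 := Group.normalizerCondition_of_isNilpotent _ h1
    obtain ⟨m, hm, hmK⟩ := SetLike.exists_of_lt h2
    apply hmK
    rw [mem_subgroupOf, mem_subgroupOf]
    apply hself _ (m : M).2
    intro s hs
    have h3 := (mem_normalizer_iff.1 hm ⟨⟨s, hSM hs⟩, hP hs⟩).1 hs
    exact h3
  refine ⟨c, c.2, fun x hx => ?_⟩
  have h1 : (⟨x, hTM hx⟩ : M) ∈ (P2 : Subgroup M) := hP2 hx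
  rw [← hc, Sylow.coe_subgroup_smul, mem_pointwise_smul_iff_inv_smul_mem] at h1
  have h2 := hPS h1
  rw [← map_inv, MulAut.smul_def, MulAut.conj_apply, inv_inv, mem_subgroupOf] at h2
  exact h2

section Count

variable {G : Type*} [Group G] {R Z : Subgroup G} {x : G}

/-- the preimage of `C_{R/Z}(x)` -/
def N1 (hZc : ∀ z ∈ Z, ∀ r ∈ R, z * r = r * z) (xx : x * x = 1) (hx : ∀ r ∈ R, x * r * x ∈ R) : Subgroup G where
  carrier := {r | r ∈ R ∧ x * r * x * r⁻¹ ∈ Z}
  one_mem' := ⟨one_mem _, by rw [mul_one, xx, inv_one, mul_one]; exact one_mem _⟩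
  mul_mem' := by
    rintro r s ⟨hr, hr1⟩ ⟨hs, hs1⟩
    refine ⟨mul_mem hr hs, ?_⟩
    have h1 := hZc _ hs1 _ (hx r hr)
    have h2 : x * (r * s) * x * (r * s)⁻¹ = (x * s * x * s⁻¹) * (x * r * x * r⁻¹) := by
      calc x * (r * s) * x * (r * s)⁻¹ = x * r * (1 : G) * s * x * s⁻¹ * r⁻¹ := by group
        _ = x * r * (x * x) * s * x * s⁻¹ * r⁻¹ := by rw [xx]
        _ = (x * r * x) * (x * s * x * s⁻¹) * r⁻¹ := by group
        _ = (x * s * x * s⁻¹) * (x * r * x * r⁻¹) := by rw [← h1]; group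
    rw [h2]
    exact mul_mem hs1 hr1
  inv_mem' := by
    rintro r ⟨hr, hr1⟩
    refine ⟨inv_mem hr, ?_⟩
    have h1 := hZc _ (inv_mem hr1) _ hr
    have h2 : x * r⁻¹ * x * r⁻¹⁻¹ = (x * r * x * r⁻¹)⁻¹ := by
      have h3 : x⁻¹ = x := inv_of_sq xx
      calc x * r⁻¹ * x * r⁻¹⁻¹ = (x⁻¹ * r * x⁻¹)⁻¹ * r := by group
        _ = (x * r * x)⁻¹ * r := by rw [h3]
        _ = r⁻¹ * ((x * r * x * r⁻¹)⁻¹ * r) := by group
        _ = (x * r * x * r⁻¹)⁻¹ := by rw [h1]; group
    rw [h2]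
    exact inv_mem hr1

theorem mem_N1 {hZc : ∀ z ∈ Z, ∀ r ∈ R, z * r = r * z} {xx : x * x = 1} {hx : ∀ r ∈ R, x * r * x ∈ R} {r : G} :
    r ∈ N1 hZc xx hx ↔ r ∈ R ∧ x * r * x * r⁻¹ ∈ Z := Iff.rfl

variable [Finite G]

theorem card_N1 (hZR : Z ≤ R) (hsq : ∀ r ∈ R, r * r ∈ Z) (hZc : ∀ z ∈ Z, ∀ r ∈ R, z * r = r * z)
    (xx : x * x = 1) (hx : ∀ r ∈ R, x * r * x ∈ R) (hxZ : ∀ z ∈ Z, x * z * x ∈ Z) :
    Nat.card R * Nat.card Z ≤ Nat.card (N1 hZc xx hx) * Nat.card (N1 hZc xx hx) := by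
  set Z' : Subgroup R := Z.subgroupOf R with hZ'
  have : Z'.Normal := ⟨fun z hz r => by
    rw [hZ', mem_subgroupOf] at hz ⊢
    have h1 := hZc _ hz r r.2
    change (r : G) * z * (r : G)⁻¹ ∈ Z
    rw [← h1, mul_inv_cancel_right]
    exact hz⟩
  set π : R →* R ⧸ Z' := QuotientGroup.mk' Z' with hπ
  have hπ1 : ∀ r, π r = 1 ↔ (r : G) ∈ Z := by
    intro r
    rw [hπ, QuotientGroup.mk'_apply, QuotientGroup.eq_one_iff, hZ', mem_subgroupOf]
  have hcomm : ∀ a b : R ⧸ Z', a * b = b * a := by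
    intro a b
    refine comm_of_sq (Q := (⊤ : Subgroup (R ⧸ Z'))) (fun c _ => ?_) (mem_top a) (mem_top b)
    obtain ⟨r, rfl⟩ := QuotientGroup.mk'_surjective Z' c
    change π r * π r = 1
    rw [← map_mul, hπ1]
    exact hsq r r.2
  let φ : R →* R ⧸ Z' := MonoidHom.mk' (fun r => π ⟨x * r * x, hx r r.2⟩ * (π r)⁻¹) (by
    intro r s
    have h1 : (⟨x * (r * s : R) * x, hx _ (r * s).2⟩ : R) = ⟨x * r * x, hx r r.2⟩ * ⟨x * s * x, hx s s.2⟩ := by
      apply Subtype.ext
      change x * ((r : G) * s) * x = x * r * x * (x * s * x)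
      calc x * ((r : G) * s) * x = x * r * 1 * s * x := by group
        _ = x * r * (x * x) * s * x := by rw [xx]
        _ = x * r * x * (x * s * x) := by group
    rw [h1, map_mul, map_mul, mul_inv_rev]
    have h2 := hcomm (π s)⁻¹ (π r)⁻¹
    have h3 := hcomm (π ⟨x * s * x, hx s s.2⟩) (π r)⁻¹
    calc π ⟨x * r * x, hx r r.2⟩ * π ⟨x * s * x, hx s s.2⟩ * ((π s)⁻¹ * (π r)⁻¹) =
        π ⟨x * r * x, hx r r.2⟩ * (π ⟨x * s * x, hx s s.2⟩ * (π r)⁻¹) * (π s)⁻¹ := by rw [h2]; group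
      _ = _ := by rw [h3]; group)
  have hφ : ∀ r, φ r = π (⟨x * r * x, hx r r.2⟩ * r⁻¹) := by
    intro r
    rw [map_mul, map_inv]; rfl
  set N := N1 hZc xx hx with hN
  have hNR : N ≤ R := fun r hr => hr.1
  have hker : φ.ker = N.subgroupOf R := by
    ext r
    rw [MonoidHom.mem_ker, hφ, hπ1, mem_subgroupOf, hN, mem_N1]
    constructor
    · intro h; exact ⟨r.2, h⟩
    · rintro ⟨-, h⟩; exact h
  have hcker : Nat.card φ.ker = Nat.card N := by rw [hker, card_sub_eq hNR]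
  set N' : Subgroup R := N.subgroupOf R with hN'
  have hrange : φ.range ≤ N'.map π := by
    rintro _ ⟨r, rfl⟩
    rw [hφ]
    refine ⟨_, ?_, rfl⟩
    rw [SetLike.mem_coe, hN', mem_subgroupOf, hN, mem_N1]
    refine ⟨Subtype.property _, ?_⟩
    change x * (x * (r : G) * x * (r : G)⁻¹) * x * (x * (r : G) * x * (r : G)⁻¹)⁻¹ ∈ Z
    have h0 : x⁻¹ = x := inv_of_sq xx
    have h1 : x * (x * (r : G) * x * (r : G)⁻¹) * x * (x * (r : G) * x * (r : G)⁻¹)⁻¹ =
        ((x * (r : G) * x * (r : G)⁻¹) * (x * (r : G) * x * (r : G)⁻¹))⁻¹ := by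
      calc x * (x * (r : G) * x * (r : G)⁻¹) * x * (x * (r : G) * x * (r : G)⁻¹)⁻¹ =
          (x * x) * r * x * (r : G)⁻¹ * x * (x * (r : G) * x * (r : G)⁻¹)⁻¹ := by group
        _ = r * x * (r : G)⁻¹ * x * (x * (r : G) * x * (r : G)⁻¹)⁻¹ := by rw [xx, one_mul]
        _ = r * x⁻¹ * (r : G)⁻¹ * x⁻¹ * (x * (r : G) * x * (r : G)⁻¹)⁻¹ := by rw [h0]
        _ = _ := by group
    rw [h1]
    exact inv_mem (hsq _ (mul_mem (hx r r.2) (inv_mem r.2)))
  have hmap : Nat.card (N'.map π) * Nat.card Z = Nat.card N := by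
    have hZN : Z' ≤ N' := by
      intro z hz
      rw [hZ', mem_subgroupOf] at hz
      rw [hN', mem_subgroupOf, hN, mem_N1]
      exact ⟨z.2, mul_mem (hxZ _ hz) (inv_mem hz)⟩
    have h1 : (π.comp N'.subtype).ker = Z'.subgroupOf N' := by
      ext r
      rw [MonoidHom.mem_ker, mem_subgroupOf]
      change π (r : R) = 1 ↔ _
      rw [hπ1, hZ', mem_subgroupOf]
    have h2 : (π.comp N'.subtype).range = N'.map π := by
      rw [MonoidHom.range_comp, range_subtype]
    have h3 : Nat.card (π.comp N'.subtype).ker * Nat.card (π.comp N'.subtype).range = Nat.card N' := by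
      rw [← index_ker, card_mul_index]
    have h4 : Nat.card N' = Nat.card N := card_sub_eq hNR
    have h5 : Nat.card Z' = Nat.card Z := card_sub_eq hZR
    rw [h1, h2, card_sub_eq hZN, h4, h5] at h3
    rw [mul_comm]; exact h3
  have h1 : Nat.card φ.ker * Nat.card φ.range = Nat.card R := by
    rw [← index_ker, card_mul_index]
  have h2 : Nat.card φ.range ≤ Nat.card (N'.map π) :=
    Nat.card_le_card_of_injective _ (Subgroup.inclusion_injective hrange)
  rw [hcker] at h1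
  calc Nat.card R * Nat.card Z = Nat.card N * (Nat.card φ.range * Nat.card Z) := by rw [← h1]; ring
    _ ≤ Nat.card N * (Nat.card (N'.map π) * Nat.card Z) :=
      Nat.mul_le_mul_left _ (Nat.mul_le_mul_right _ h2)
    _ = Nat.card N * Nat.card N := by rw [hmap]

theorem card_N1_le (hZZ : ∀ z ∈ Z, z * z = 1) (hZc : ∀ z ∈ Z, ∀ r ∈ R, z * r = r * z)
    (xx : x * x = 1) (hx : ∀ r ∈ R, x * r * x ∈ R) :
    Nat.card (N1 hZc xx hx) ≤ Nat.card (R ⊓ centralizer ({x} : Set G) : Subgroup G) *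
      Nat.card (Z ⊓ centralizer ({x} : Set G) : Subgroup G) := by
  set N := N1 hZc xx hx with hN
  let f : N →* G := MonoidHom.mk' (fun r => x * r * x * (r : G)⁻¹) (by
    intro r s
    have h1 := hZc _ s.2.2 _ (hx r r.2.1)
    have h2 := hZc _ s.2.2 _ (inv_mem r.2.1)
    change x * ((r : G) * s) * x * ((r : G) * s)⁻¹ = (x * r * x * (r : G)⁻¹) * (x * s * x * (s : G)⁻¹)
    calc x * ((r : G) * s) * x * ((r : G) * s)⁻¹ = x * r * (1 : G) * s * x * (s : G)⁻¹ * (r : G)⁻¹ := by group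
      _ = x * r * (x * x) * s * x * (s : G)⁻¹ * (r : G)⁻¹ := by rw [xx]
      _ = (x * r * x) * ((x * s * x * (s : G)⁻¹) * (r : G)⁻¹) := by group
      _ = (x * r * x * (r : G)⁻¹) * (x * s * x * (s : G)⁻¹) := by rw [h2]; group)
  have hf : ∀ r, f r = x * r * x * (r : G)⁻¹ := fun r => rfl
  have h1 : f.range ≤ Z ⊓ centralizer ({x} : Set G) := by
    rintro _ ⟨r, rfl⟩
    rw [mem_inf_cent, hf]
    have h2 := r.2.2
    refine ⟨h2, ?_⟩
    have h3 := inv_of_sq (hZZ _ h2)
    have h0 : x⁻¹ = x := inv_of_sq xx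
    calc x * r * x * (r : G)⁻¹ * x = x * (r * x * (r : G)⁻¹ * x) := by group
      _ = x * (r * x⁻¹ * (r : G)⁻¹ * x⁻¹) := by rw [h0]
      _ = x * (x * r * x * (r : G)⁻¹)⁻¹ := by group
      _ = x * (x * r * x * (r : G)⁻¹) := by rw [h3]
  have h2 : Nat.card f.ker ≤ Nat.card (R ⊓ centralizer ({x} : Set G) : Subgroup G) := by
    refine Nat.card_le_card_of_injective (fun y : f.ker => (⟨((y : N) : G), ?_⟩ :
      (R ⊓ centralizer ({x} : Set G) : Subgroup G))) ?_
    · rw [mem_inf_cent]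
      refine ⟨(y : N).2.1, ?_⟩
      have h3 := y.2
      rw [MonoidHom.mem_ker, hf, mul_inv_eq_one] at h3
      calc ((y : N) : G) * x = x * ((y : N) : G) * x * x := by rw [h3]
        _ = x * ((y : N) : G) * (x * x) := by group
        _ = x * ((y : N) : G) := by rw [xx, mul_one]
    · intro a b h
      have h' := congrArg (Subtype.val : (R ⊓ centralizer ({x} : Set G) : Subgroup G) → G) h
      apply Subtype.ext
      apply Subtype.ext
      exact h'
  have h3 : Nat.card f.ker * Nat.card f.range = Nat.card N := by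
    rw [← index_ker, card_mul_index]
  rw [← h3]
  exact Nat.mul_le_mul h2 (Nat.card_le_card_of_injective _ (Subgroup.inclusion_injective h1))

end Count

/-- The group `G` with `C_G(t) = ⟨t⟩ × L`, pattern ALL, and the elementary abelian subgroup `Q` of `L`. -/
structure Core (G : Type*) [Group G] where
  t : G
  L : Subgroup G
  Q : Subgroup G
  tt : t * t = 1
  cent : ∀ g, Commute g t ↔ g ∈ L ∨ t * g ∈ L
  DL : ∀ g, g * t * g⁻¹ ∉ L
  all : ∀ l ∈ L, l * l = 1 → ∃ g, t * l = g * t * g⁻¹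
  QL : Q ≤ L
  cardQ : Nat.card Q = 64
  sat : ∀ B : Subgroup G, B ≤ L → (∀ x ∈ B, x * x = 1) → 64 ≤ Nat.card B →
    ∃ l ∈ L, ∀ x, x ∈ B ↔ l⁻¹ * x * l ∈ Q
  CQ : ∀ l ∈ L, (∀ a ∈ Q, l * a = a * l) → l ∈ Q
  ord4 : ∀ c ∈ L, ∀ B : Subgroup G, B ≤ L → (∀ x ∈ B, x * x = 1) → 32 ≤ Nat.card B →
    (∀ x ∈ B, c * x = x * c) → c * c * (c * c) = 1 → c * c = 1
  odd : Odd ((normalizer (Q : Set G)).relIndex L)
  lift : ∀ n ∈ L, n ∈ normalizer (Q : Set G) → n * n ∈ Q → ∃ a ∈ Q, (n * a) * (n * a) = 1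

/-- The doubled 2-group `R` and its centre `Z`. -/
structure RData (G : Type*) [Group G] extends Core G where
  Z : Subgroup G
  R : Subgroup G
  QZ : Q ≤ Z
  ZR : Z ≤ R
  ZZ : ∀ x ∈ Z, x * x = 1
  cardZ : Nat.card Z = 512
  Zc : ∀ z ∈ Z, ∀ r ∈ R, z * r = r * z
  tR : ∀ r ∈ R, t * r * t ∈ R
  NR : ∀ n ∈ L, n ∈ normalizer (Q : Set G) → n ∈ normalizer (R : Set G)
  RQ : ∀ r ∈ R, r * t = t * r → r ∈ Q
  conjR : ∀ n ∈ R, (∃ g, t * n = g * t * g⁻¹) → ∃ r ∈ R, t * n = r * t * r⁻¹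
  cen2 : ∀ e ∈ R, ∀ M : Subgroup G, M ≤ R → Nat.card R ≤ 2 * Nat.card M →
    (∀ m ∈ M, e * m = m * e) → e ∈ Z
  sqR : ∀ r ∈ R, r * r ∈ Z
  size : Nat.card R = 2 ^ 15 ∨ (Nat.card R = 2 ^ 12 ∧ ∀ r ∈ R, r * r = 1 → r ∈ Z)

namespace Core

variable {G : Type*} [Group G] (D : Core G)

theorem t_inv : D.t⁻¹ = D.t := inv_of_sq D.tt

theorem tL : D.t ∉ D.L := by
  have := D.DL 1
  rwa [one_mul, inv_one, mul_one] at this

theorem Lt {l : G} (hl : l ∈ D.L) : l * D.t = D.t * l := (D.cent l).2 (Or.inl hl)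

theorem Qt {a : G} (ha : a ∈ D.Q) : a * D.t = D.t * a := D.Lt (D.QL ha)

theorem conj_inv_t (g : G) : g * D.t * g⁻¹ * (g * D.t * g⁻¹) = 1 := by
  calc g * D.t * g⁻¹ * (g * D.t * g⁻¹) = g * (D.t * D.t) * g⁻¹ := by group
    _ = 1 := by rw [D.tt]; group

/-- Lemma A -/
theorem mem_L_of {g b : G} (hb : b * b = 1) (hbx : b * (g * D.t * g⁻¹) = (g * D.t * g⁻¹) * b)
    (hn : ∀ k, b ≠ k * D.t * k⁻¹) : g⁻¹ * b * g ∈ D.L := by
  have h1 : (g⁻¹ * b * g) * D.t = D.t * (g⁻¹ * b * g) := by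
    calc (g⁻¹ * b * g) * D.t = g⁻¹ * (b * (g * D.t * g⁻¹)) * g := by group
      _ = D.t * (g⁻¹ * b * g) := by rw [hbx]; group
  rcases (D.cent _).1 h1 with h2 | h2
  · exact h2
  · exfalso
    have h3 : (D.t * (g⁻¹ * b * g)) * (D.t * (g⁻¹ * b * g)) = 1 := by
      calc (D.t * (g⁻¹ * b * g)) * (D.t * (g⁻¹ * b * g)) = D.t * ((g⁻¹ * b * g) * D.t) * (g⁻¹ * b * g) := by group
        _ = (D.t * D.t) * (g⁻¹ * (b * b) * g) := by rw [h1]; group
        _ = 1 := by rw [D.tt, hb]; group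
    obtain ⟨k, hk⟩ := D.all _ h2 h3
    apply hn (g * k)
    calc b = g * ((D.t * D.t) * (g⁻¹ * b * g)) * g⁻¹ := by rw [D.tt]; group
      _ = g * (D.t * (D.t * (g⁻¹ * b * g))) * g⁻¹ := by group
      _ = g * (k * D.t * k⁻¹) * g⁻¹ := by rw [hk]
      _ = g * k * D.t * (g * k)⁻¹ := by group

/-- Lemma B -/
theorem small [Finite G] {g : G} {B : Subgroup G} (hB : ∀ b ∈ B, b * b = 1)
    (hBx : ∀ b ∈ B, b * (g * D.t * g⁻¹) = (g * D.t * g⁻¹) * b) (hn : ∀ b ∈ B, ∀ k, b ≠ k * D.t * k⁻¹) :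
    Nat.card B ≤ 64 ∧ (64 ≤ Nat.card B →
      ∃ k, k * D.t * k⁻¹ = g * D.t * g⁻¹ ∧ ∀ y, y ∈ B ↔ k⁻¹ * y * k ∈ D.Q) := by
  set B' : Subgroup G := B.map (MulAut.conj g⁻¹).toMonoidHom with hB'
  have hmem : ∀ x, x ∈ B' ↔ g * x * g⁻¹ ∈ B := by
    intro x
    rw [hB', mem_map_conj, inv_inv]
  have hcard : Nat.card B' = Nat.card B := card_conj_of_iff (l := g⁻¹) (fun x => by rw [inv_inv]; exact hmem x)
  have hL : B' ≤ D.L := by
    intro x hx
    have h1 := (hmem x).1 hx
    have h2 := D.mem_L_of (hB _ h1) (hBx _ h1) (hn _ h1)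
    have h3 : g⁻¹ * (g * x * g⁻¹) * g = x := by group
    rwa [h3] at h2
  have hsq : ∀ x ∈ B', x * x = 1 := by
    intro x hx
    have h1 := hB _ ((hmem x).1 hx)
    calc x * x = g⁻¹ * (g * x * g⁻¹ * (g * x * g⁻¹)) * g := by group
      _ = 1 := by rw [h1]; group
  have key : 64 ≤ Nat.card B → ∃ k, k * D.t * k⁻¹ = g * D.t * g⁻¹ ∧ ∀ y, y ∈ B ↔ k⁻¹ * y * k ∈ D.Q := by
    intro h
    obtain ⟨l, hl, h1⟩ := D.sat B' hL hsq (by rw [hcard]; exact h)
    refine ⟨g * l, ?_, ?_⟩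
    · calc g * l * D.t * (g * l)⁻¹ = g * (l * D.t) * l⁻¹ * g⁻¹ := by group
        _ = g * D.t * g⁻¹ := by rw [D.Lt hl]; group
    · intro y
      have h2 := h1 (g⁻¹ * y * g)
      rw [hmem] at h2
      have h3 : g * (g⁻¹ * y * g) * g⁻¹ = y := by group
      have h4 : l⁻¹ * (g⁻¹ * y * g) * l = (g * l)⁻¹ * y * (g * l) := by group
      rw [h3, h4] at h2
      exact h2
  refine ⟨?_, key⟩
  by_contra h
  push Not at h
  obtain ⟨k, -, hk⟩ := key h.le
  have := card_conj_of_iff (l := k) hk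
  rw [D.cardQ] at this
  omega

/-- Lemma C -/
theorem false_of_cent [Finite G] {Z : Subgroup G} (ZZ : ∀ z ∈ Z, z * z = 1) (cardZ : Nat.card Z = 512) (g : G)
    (hx : ∀ z ∈ Z, z * (g * D.t * g⁻¹) = (g * D.t * g⁻¹) * z) : False := by
  set B : Subgroup G := Z ⊓ D.L.map (MulAut.conj g).toMonoidHom with hB
  have hmem : ∀ z, z ∈ B ↔ z ∈ Z ∧ g⁻¹ * z * g ∈ D.L := by
    intro z
    rw [hB, mem_inf, mem_map_conj]
  have h1 : Nat.card B ≤ 64 := by
    refine (D.small (g := g) (B := B) (fun b hb => ZZ b ((hmem b).1 hb).1)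
      (fun b hb => hx b ((hmem b).1 hb).1) ?_).1
    intro b hb k hk
    apply D.DL (g⁻¹ * k)
    have h2 := ((hmem b).1 hb).2
    rw [hk] at h2
    have h3 : g⁻¹ * k * D.t * (g⁻¹ * k)⁻¹ = g⁻¹ * (k * D.t * k⁻¹) * g := by group
    rw [h3]
    exact h2
  have h2 : ∀ z ∈ Z, g⁻¹ * z * g ∈ D.L ∨ D.t * (g⁻¹ * z * g) ∈ D.L := by
    intro z hz
    apply (D.cent _).1
    change (g⁻¹ * z * g) * D.t = D.t * (g⁻¹ * z * g)
    calc (g⁻¹ * z * g) * D.t = g⁻¹ * (z * (g * D.t * g⁻¹)) * g := by group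
      _ = D.t * (g⁻¹ * z * g) := by rw [hx z hz]; group
  have h3 : Nat.card Z ≤ 2 * Nat.card B := by
    by_cases hex : ∃ z0 ∈ Z, z0 ∉ B
    · obtain ⟨z0, hz0, hz0B⟩ := hex
      have h0 : D.t * (g⁻¹ * z0 * g) ∈ D.L := by
        rcases h2 z0 hz0 with h | h
        · exact absurd ((hmem _).2 ⟨hz0, h⟩) hz0B
        · exact h
      apply card_le_two_mul z0
      intro z hz hzB
      have h4 : D.t * (g⁻¹ * z * g) ∈ D.L := by
        rcases h2 z hz with h | h
        · exact absurd ((hmem _).2 ⟨hz, h⟩) hzB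
        · exact h
      rw [hmem]
      refine ⟨mul_mem (inv_mem hz0) hz, ?_⟩
      have h5 := mul_mem (inv_mem h0) h4
      have h6 : (D.t * (g⁻¹ * z0 * g))⁻¹ * (D.t * (g⁻¹ * z * g)) = g⁻¹ * (z0⁻¹ * z) * g := by group
      rwa [h6] at h5
    · push Not at hex
      have h4 : Z ≤ B := hex
      have := Nat.card_le_card_of_injective _ (Subgroup.inclusion_injective h4)
      omega
  rw [cardZ] at h3
  omega

theorem t_mem_cent : D.t ∈ centralizer (D.Q : Set G) := by
  rw [mem_centralizer_iff]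
  intro q hq
  exact D.Qt hq

/-- the elements of `C_G(Q)` commuting with `t` -/
theorem mem_Q_of_comm {k : G} (hk : k ∈ centralizer (D.Q : Set G)) (hkt : k * D.t = D.t * k) :
    k ∈ D.Q ∨ D.t * k ∈ D.Q := by
  rw [mem_centralizer_iff] at hk
  rcases (D.cent k).1 hkt with h | h
  · exact Or.inl (D.CQ k h fun a ha => (hk a ha).symm)
  · refine Or.inr (D.CQ _ h fun a ha => ?_)
    rw [mul_assoc, ← hk a ha, ← mul_assoc, ← D.Qt ha, mul_assoc]

end Core

namespace RData

variable {G : Type*} [Group G] (D : RData G)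

theorem QR : D.Q ≤ D.R := D.QZ.trans D.ZR

theorem notMem_R [Finite G] (g : G) : g * D.t * g⁻¹ ∉ D.R :=
  fun hg => D.false_of_cent D.ZZ D.cardZ g fun z hz => D.Zc z hz _ hg

/-! ### the group `R⟨x⟩` -/

/-- `R ∪ x R` -/
def ext (R : Subgroup G) {x : G} (xx : x * x = 1) (hx : ∀ r ∈ R, x * r * x ∈ R) : Subgroup G where
  carrier := {y | y ∈ R ∨ x * y ∈ R}
  one_mem' := Or.inl (one_mem _)
  mul_mem' := by
    rintro a b (ha | ha) (hb | hb)
    · exact Or.inl (mul_mem ha hb)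
    · right
      have := mul_mem (hx a ha) hb
      have h2 : x * a * x * (x * b) = x * a * (x * x) * b := by group
      rw [h2, xx, mul_one] at this
      rwa [← mul_assoc]
    · right
      rw [← mul_assoc]
      exact mul_mem ha hb
    · left
      have := mul_mem (hx _ ha) hb
      have h2 : x * (x * a) * x * (x * b) = (x * x) * a * (x * x) * b := by group
      rwa [h2, xx, one_mul, mul_one] at this
  inv_mem' := by
    rintro a (ha | ha)
    · exact Or.inl (inv_mem ha)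
    · right
      have h1 := hx _ (inv_mem ha)
      have h2 : x * (x * a)⁻¹ * x = x * a⁻¹ := by
        rw [mul_inv_rev]; group
      rwa [h2] at h1

theorem mem_ext {R : Subgroup G} {x : G} {xx : x * x = 1} {hx : ∀ r ∈ R, x * r * x ∈ R} {y : G} :
    y ∈ ext R xx hx ↔ y ∈ R ∨ x * y ∈ R := Iff.rfl

theorem card_ext [Finite G] {R : Subgroup G} {x : G} (xx : x * x = 1) (hx : ∀ r ∈ R, x * r * x ∈ R)
    (hxR : x ∉ R) : Nat.card (ext R xx hx) = 2 * Nat.card R := by
  have h1 : Nat.card (R × Bool) = 2 * Nat.card R := by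
    rw [Nat.card_prod]
    have : Nat.card Bool = 2 := by simp
    rw [this, mul_comm]
  rw [← h1]
  symm
  refine Nat.card_congr (Equiv.ofBijective
    (fun p : R × Bool => (⟨if p.2 then (p.1 : G) else x * p.1, ?_⟩ : ext R xx hx)) ⟨?_, ?_⟩)
  · rw [mem_ext]
    split_ifs with h
    · exact Or.inl p.1.2
    · right
      rw [← mul_assoc, xx, one_mul]
      exact p.1.2
  · rintro ⟨a, i⟩ ⟨b, j⟩ h
    have h2 := congrArg (Subtype.val : ext R xx hx → G) h
    cases i <;> cases j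
    · simp only [Bool.false_eq_true, if_false] at h2
      rw [Subtype.ext (mul_left_cancel h2)]
    · simp only [Bool.false_eq_true, if_false, if_true] at h2
      exfalso
      apply hxR
      rw [eq_mul_inv_of_mul_eq h2]
      exact mul_mem b.2 (inv_mem a.2)
    · simp only [Bool.false_eq_true, if_false, if_true] at h2
      exfalso
      apply hxR
      rw [eq_mul_inv_of_mul_eq h2.symm]
      exact mul_mem a.2 (inv_mem b.2)
    · simp only [if_true] at h2
      rw [Subtype.ext h2]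
  · rintro ⟨y, hy⟩
    rcases hy with h | h
    · exact ⟨(⟨y, h⟩, true), Subtype.ext (by simp)⟩
    · refine ⟨(⟨x * y, h⟩, false), Subtype.ext ?_⟩
      simp only [Bool.false_eq_true, if_false]
      rw [← mul_assoc, xx, one_mul]

theorem isPGroup_ext [Finite G] {x : G} (xx : x * x = 1) (hx : ∀ r ∈ D.R, x * r * x ∈ D.R)
    (hxR : x ∉ D.R) : IsPGroup 2 (ext D.R xx hx) := by
  have h := card_ext xx hx hxR
  rcases D.size with h1 | ⟨h1, -⟩
  · exact IsPGroup.of_card (n := 16) (by rw [h, h1]; norm_num)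
  · exact IsPGroup.of_card (n := 13) (by rw [h, h1]; norm_num)

theorem t_notMem_R [Finite G] : D.t ∉ D.R := by
  have := D.notMem_R 1
  rwa [one_mul, inv_one, mul_one] at this

/-- `R⟨t⟩` -/
def S0 : Subgroup G := ext D.R D.tt D.tR

theorem R_le_cent : D.R ≤ centralizer (D.Q : Set G) := by
  intro r hr
  rw [mem_centralizer_iff]
  intro q hq
  exact D.Zc q (D.QZ hq) r hr

theorem S0_le_cent : D.S0 ≤ centralizer (D.Q : Set G) := by
  intro y hy
  rcases hy with h | h
  · exact D.R_le_cent h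
  · have h1 := mul_mem D.t_mem_cent (D.R_le_cent h)
    rwa [← mul_assoc, D.tt, one_mul] at h1

/-- `S0` is self-normalizing in `C_G(Q)` -/
theorem self_norm [Finite G] {m : G} (hm : m ∈ centralizer (D.Q : Set G))
    (h : ∀ s ∈ D.S0, m * s * m⁻¹ ∈ D.S0) : m ∈ D.S0 := by
  have htS : D.t ∈ D.S0 := by
    right
    rw [D.tt]; exact one_mem _
  have h1 := (h _ htS).resolve_left (D.notMem_R m)
  obtain ⟨r, hr, h2⟩ := D.conjR _ h1 ⟨m, by rw [← mul_assoc, D.tt, one_mul]⟩
  rw [← mul_assoc, D.tt, one_mul] at h2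
  have h3 : (r⁻¹ * m) * D.t = D.t * (r⁻¹ * m) := by
    calc (r⁻¹ * m) * D.t = r⁻¹ * (m * D.t * m⁻¹) * m := by group
      _ = r⁻¹ * (r * D.t * r⁻¹) * m := by rw [h2]
      _ = D.t * (r⁻¹ * m) := by group
  rcases D.mem_Q_of_comm (mul_mem (inv_mem (D.R_le_cent hr)) hm) h3 with h4 | h4
  · left
    have := mul_mem hr (D.QR h4)
    rwa [mul_inv_cancel_left] at this
  · right
    have h5 := mul_mem (D.tR r hr) (D.QR h4)
    have h6 : D.t * r * D.t * (D.t * (r⁻¹ * m)) = D.t * r * (D.t * D.t) * r⁻¹ * m := by group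
    rw [h6, D.tt, mul_one] at h5
    have h7 : D.t * r * r⁻¹ * m = D.t * m := by group
    rwa [h7] at h5

/-- **E** -/
theorem exists_conj [Finite G] {g : G} (hx : ∀ r ∈ D.R, (g * D.t * g⁻¹) * r * (g * D.t * g⁻¹) ∈ D.R)
    (h64 : 64 ≤ Nat.card (D.Z ⊓ centralizer ({g * D.t * g⁻¹} : Set G) : Subgroup G)) :
    ∃ h ∈ normalizer (D.R : Set G), h * D.t * h⁻¹ = g * D.t * g⁻¹ := by
  set x : G := g * D.t * g⁻¹ with hxdef
  have xx : x * x = 1 := D.conj_inv_t g
  have hxR : x ∉ D.R := D.notMem_R g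
  set B : Subgroup G := D.Z ⊓ centralizer ({x} : Set G) with hB
  have hBm : ∀ b, b ∈ B ↔ b ∈ D.Z ∧ b * x = x * b := fun b => mem_inf_cent
  have hsm := D.small (g := g) (B := B) (fun b hb => D.ZZ b ((hBm b).1 hb).1)
    (fun b hb => ((hBm b).1 hb).2) (fun b hb k hk => D.notMem_R k (hk ▸ D.ZR ((hBm b).1 hb).1))
  obtain ⟨k, hkx, hkB⟩ := hsm.2 h64
  have hBc := hsm.1
  rw [← hxdef] at hkx
  set T : Subgroup G := ext D.R xx hx with hT
  have hcT : Nat.card T = 2 * Nat.card D.R := card_ext xx hx hxR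
  have hcS : Nat.card D.S0 = 2 * Nat.card D.R := card_ext D.tt D.tR D.t_notMem_R
  set T' : Subgroup G := T.map (MulAut.conj k⁻¹).toMonoidHom with hT'
  have hT'm : ∀ y, y ∈ T' ↔ k * y * k⁻¹ ∈ T := by
    intro y
    rw [hT', mem_map_conj, inv_inv]
  have hT'p : IsPGroup 2 T' := (D.isPGroup_ext xx hx hxR).map _
  have hBT : ∀ b ∈ B, ∀ y ∈ T, b * y = y * b := by
    intro b hb y hy
    have h1 := (hBm b).1 hb
    rcases hy with h | h
    · exact D.Zc b h1.1 y h
    · have h2 := D.Zc b h1.1 _ h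
      calc b * y = (x * x) * b * y := by rw [xx, one_mul]
        _ = x * (x * b) * y := by group
        _ = x * (b * (x * y)) := by rw [← h1.2]; group
        _ = (x * x) * y * b := by rw [h2]; group
        _ = y * b := by rw [xx, one_mul]
  have hT'M : T' ≤ centralizer (D.Q : Set G) := by
    intro y hy
    rw [mem_centralizer_iff]
    intro q hq
    have h1 : k * q * k⁻¹ ∈ B := by
      rw [hkB]
      have : k⁻¹ * (k * q * k⁻¹) * k = q := by group
      rw [this]; exact hq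
    have h2 := hBT _ h1 _ ((hT'm y).1 hy)
    calc q * y = k⁻¹ * (k * q * k⁻¹ * (k * y * k⁻¹)) * k := by group
      _ = y * q := by rw [h2]; group
  obtain ⟨c, -, hc⟩ := exists_conj_le D.S0_le_cent (D.isPGroup_ext D.tt D.tR D.t_notMem_R) hT'p hT'M
    (fun m hm h => D.self_norm hm h)
  -- `h = k c`
  set h : G := k * c with hh
  have hTS : ∀ y, y ∈ T ↔ h⁻¹ * y * h ∈ D.S0 := by
    have h1 : ∀ y ∈ T, h⁻¹ * y * h ∈ D.S0 := by
      intro y hy
      have h2 := hc (k⁻¹ * y * k) ((hT'm _).2 (by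
        have : k * (k⁻¹ * y * k) * k⁻¹ = y := by group
        rw [this]; exact hy))
      have h3 : c⁻¹ * (k⁻¹ * y * k) * c = h⁻¹ * y * h := by rw [hh]; group
      rwa [h3] at h2
    have h2 : T ≤ D.S0.map (MulAut.conj h).toMonoidHom := fun y hy => mem_map_conj.2 (h1 y hy)
    have h3 : T = D.S0.map (MulAut.conj h).toMonoidHom := by
      apply eq_of_le_of_card_ge h2
      rw [hcT, ← hcS]
      exact (card_conj_of_iff (l := h) (fun x => mem_map_conj)).le
    intro y
    rw [h3, mem_map_conj]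
  set R' : Subgroup G := D.R.map (MulAut.conj h).toMonoidHom with hR'
  have hR'm : ∀ y, y ∈ R' ↔ h⁻¹ * y * h ∈ D.R := fun y => mem_map_conj
  have hcR' : Nat.card R' = Nat.card D.R := card_conj_of_iff (l := h) hR'm
  have hR'T : R' ≤ T := fun y hy => (hTS y).2 (Or.inl ((hR'm y).1 hy))
  have hRT : D.R ≤ T := fun y hy => Or.inl hy
  have hRR' : R' = D.R := by
    by_contra hne
    have hn1 : ¬ D.R ≤ R' := fun h1 => hne (eq_of_le_of_card_ge h1 hcR'.le).symm
    have hn2 : ¬ R' ≤ D.R := fun h1 => hne (eq_of_le_of_card_ge h1 hcR'.ge)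
    obtain ⟨r0, hr0, hr0'⟩ := SetLike.not_le_iff_exists.1 hn1
    obtain ⟨s0, hs0, hs0'⟩ := SetLike.not_le_iff_exists.1 hn2
    have hout : ∀ y ∈ T, y ∉ R' → D.t * (h⁻¹ * y * h) ∈ D.R := by
      intro y hy hy'
      rcases (hTS y).1 hy with h1 | h1
      · exact absurd ((hR'm y).2 h1) hy'
      · exact h1
    have hM : Nat.card D.R ≤ 2 * Nat.card (D.R ⊓ R' : Subgroup G) := by
      apply card_le_two_mul r0
      intro y hy hyM
      have hy' : y ∉ R' := fun h1 => hyM (mem_inf.2 ⟨hy, h1⟩)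
      refine mem_inf.2 ⟨mul_mem (inv_mem hr0) hy, ?_⟩
      rw [hR'm]
      have h1 := mul_mem (inv_mem (hout r0 (hRT hr0) hr0')) (hout y (hRT hy) hy')
      have h2 : (D.t * (h⁻¹ * r0 * h))⁻¹ * (D.t * (h⁻¹ * y * h)) = h⁻¹ * (r0⁻¹ * y) * h := by group
      rwa [h2] at h1
    set Z' : Subgroup G := D.Z.map (MulAut.conj h).toMonoidHom with hZ'
    have hZ'm : ∀ y, y ∈ Z' ↔ h⁻¹ * y * h ∈ D.Z := fun y => mem_map_conj
    have hcZ' : Nat.card Z' = 512 := by
      rw [← D.cardZ]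
      exact card_conj_of_iff (l := h) hZ'm
    have hZ'T : Z' ≤ T := fun y hy => hR'T ((hR'm y).2 (D.ZR ((hZ'm y).1 hy)))
    have hZc : ∀ e ∈ Z', ∀ m ∈ R', e * m = m * e := by
      intro e he m hm
      have h1 := D.Zc _ ((hZ'm e).1 he) _ ((hR'm m).1 hm)
      calc e * m = h * (h⁻¹ * e * h * (h⁻¹ * m * h)) * h⁻¹ := by group
        _ = m * e := by rw [h1]; group
    have hZZ : ∀ e ∈ Z' ⊓ D.R, e ∈ D.Z := by
      intro e he
      rw [mem_inf] at he
      exact D.cen2 e he.2 (D.R ⊓ R') inf_le_left hM fun m hm => hZc e he.1 m (mem_inf.1 hm).2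
    have hcount : Nat.card Z' ≤ 2 * Nat.card (Z' ⊓ D.R : Subgroup G) := by
      by_cases hex : ∃ z0 ∈ Z', z0 ∉ D.R
      · obtain ⟨z0, hz0, hz0'⟩ := hex
        apply card_le_two_mul z0
        intro y hy hyM
        have hy' : y ∉ D.R := fun h1 => hyM (mem_inf.2 ⟨hy, h1⟩)
        have h1 : x * z0 ∈ D.R := (hZ'T hz0).resolve_left hz0'
        have h2 : x * y ∈ D.R := (hZ'T hy).resolve_left hy'
        refine mem_inf.2 ⟨mul_mem (inv_mem hz0) hy, ?_⟩
        have h3 := mul_mem (inv_mem h1) h2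
        have h4 : (x * z0)⁻¹ * (x * y) = z0⁻¹ * y := by group
        rwa [h4] at h3
      · push Not at hex
        apply card_le_two_mul 1
        intro y hy hyM
        exact absurd (mem_inf.2 ⟨hy, hex y hy⟩) hyM
    have hle : Z' ⊓ D.R ≤ B := by
      intro e he
      rw [hBm]
      have he' := hZZ e he
      refine ⟨he', ?_⟩
      have h1 : x * s0 ∈ D.R := (hR'T hs0).resolve_left hs0'
      have h2 := D.Zc e he' _ h1
      have h3 := hZc e (mem_inf.1 he).1 s0 hs0
      calc e * x = e * (x * s0) * s0⁻¹ := by group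
        _ = x * (s0 * e) * s0⁻¹ := by rw [h2]; group
        _ = x * e := by rw [← h3]; group
    have := Nat.card_le_card_of_injective _ (Subgroup.inclusion_injective hle)
    rw [hcZ'] at hcount
    omega
  have hhN : h ∈ normalizer (D.R : Set G) := by
    rw [mem_normalizer_iff'']
    intro y
    rw [← hR'm, hRR']
  have hxT : x ∈ T := by
    right
    rw [xx]; exact one_mem _
  have hconj : h⁻¹ * x * h = (h⁻¹ * g) * D.t * (h⁻¹ * g)⁻¹ := by rw [hxdef]; group
  have h1 : D.t * (h⁻¹ * x * h) ∈ D.R := ((hTS x).1 hxT).resolve_left (by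
    rw [hconj]
    exact D.notMem_R _)
  obtain ⟨r, hr, h2⟩ := D.conjR _ h1 ⟨h⁻¹ * g, by rw [← mul_assoc, D.tt, one_mul, hconj]⟩
  rw [← mul_assoc, D.tt, one_mul] at h2
  refine ⟨h * r, mul_mem hhN (le_normalizer hr), ?_⟩
  calc h * r * D.t * (h * r)⁻¹ = h * (r * D.t * r⁻¹) * h⁻¹ := by group
    _ = x := by rw [← h2]; group

/-- `Z = Z(R)` -/
theorem mem_Z_iff [Finite G] {e : G} : e ∈ D.Z ↔ e ∈ D.R ∧ ∀ r ∈ D.R, e * r = r * e := by
  constructor
  · intro h
    exact ⟨D.ZR h, fun r hr => D.Zc e h r hr⟩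
  · rintro ⟨h1, h2⟩
    refine D.cen2 e h1 D.R le_rfl ?_ h2
    omega

theorem conj_Z [Finite G] {x : G} (xx : x * x = 1) (hx : ∀ r ∈ D.R, x * r * x ∈ D.R) :
    ∀ z ∈ D.Z, x * z * x ∈ D.Z := by
  intro z hz
  rw [mem_Z_iff] at hz ⊢
  refine ⟨hx z hz.1, fun r hr => ?_⟩
  have h1 := hz.2 _ (hx r hr)
  calc x * z * x * r = x * (z * (x * r * 1)) := by group
    _ = x * (z * (x * r * (x * x))) := by rw [xx]
    _ = x * (z * (x * r * x)) * x := by group
    _ = (x * x) * r * x * z * x := by rw [h1]; group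
    _ = r * (x * z * x) := by rw [xx]; group

/-- **F** -/
theorem fix_ge [Finite G] {g : G} (hx : ∀ r ∈ D.R, (g * D.t * g⁻¹) * r * (g * D.t * g⁻¹) ∈ D.R) :
    64 ≤ Nat.card (D.Z ⊓ centralizer ({g * D.t * g⁻¹} : Set G) : Subgroup G) := by
  set x : G := g * D.t * g⁻¹ with hxdef
  have xx : x * x = 1 := D.conj_inv_t g
  have hxZ := D.conj_Z xx hx
  set C1 : Subgroup G := D.Z ⊓ centralizer ({x} : Set G) with hC1
  set C0 : Subgroup G := D.R ⊓ centralizer ({x} : Set G) with hC0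
  have hC1m : ∀ b, b ∈ C1 ↔ b ∈ D.Z ∧ b * x = x * b := fun b => mem_inf_cent
  have hC0m : ∀ b, b ∈ C0 ↔ b ∈ D.R ∧ b * x = x * b := fun b => mem_inf_cent
  by_contra hcon
  push Not at hcon
  -- `|C1| = 32`
  have h1 : 512 ≤ Nat.card C1 * Nat.card C1 := by
    have := (card_le_sq D.ZZ xx hxZ).1
    rwa [D.cardZ] at this
  have h2 : Nat.card C1 ∣ 512 := by
    have h3 : C1 ≤ D.Z := inf_le_left
    have := card_subgroup_dvd_card (C1.subgroupOf D.Z)
    rwa [card_sub_eq h3, D.cardZ] at this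
  have h32 : Nat.card C1 = 32 := by
    have h3 : (512 : ℕ) = 2 ^ 9 := by norm_num
    rw [h3, Nat.dvd_prime_pow Nat.prime_two] at h2
    obtain ⟨k, hk, h4⟩ := h2
    rw [h4] at h1 hcon ⊢
    interval_cases k <;> omega
  -- `C0` is elementary abelian
  set B : Subgroup G := C1.map (MulAut.conj g⁻¹).toMonoidHom with hB
  have hBm : ∀ y, y ∈ B ↔ g * y * g⁻¹ ∈ C1 := by
    intro y
    rw [hB, mem_map_conj, inv_inv]
  have hcB : Nat.card B = 32 := by
    rw [← h32]
    exact card_conj_of_iff (l := g⁻¹) (fun x => by rw [inv_inv]; exact hBm x)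
  have hBL : B ≤ D.L := by
    intro y hy
    have h3 := (hC1m _).1 ((hBm y).1 hy)
    have h4 := D.mem_L_of (g := g) (D.ZZ _ h3.1) h3.2 (fun k hk => D.notMem_R k (hk ▸ D.ZR h3.1))
    have h5 : g⁻¹ * (g * y * g⁻¹) * g = y := by group
    rwa [h5] at h4
  have hBB : ∀ y ∈ B, y * y = 1 := by
    intro y hy
    have h3 := D.ZZ _ ((hC1m _).1 ((hBm y).1 hy)).1
    calc y * y = g⁻¹ * (g * y * g⁻¹ * (g * y * g⁻¹)) * g := by group
      _ = 1 := by rw [h3]; group
  have hC0sq : ∀ c ∈ C0, c * c = 1 := by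
    intro c hc
    rw [hC0m] at hc
    have h3 : (g⁻¹ * c * g) * D.t = D.t * (g⁻¹ * c * g) := by
      have := hc.2
      rw [hxdef] at this
      calc (g⁻¹ * c * g) * D.t = g⁻¹ * (c * (g * D.t * g⁻¹)) * g := by group
        _ = D.t * (g⁻¹ * c * g) := by rw [this]; group
    have h4 : c * c * (c * c) = 1 := D.ZZ _ (D.sqR c hc.1)
    have h5 : ∀ y ∈ B, (g⁻¹ * c * g) * y = y * (g⁻¹ * c * g) := by
      intro y hy
      have h6 := D.Zc _ ((hC1m _).1 ((hBm y).1 hy)).1 c hc.1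
      calc (g⁻¹ * c * g) * y = g⁻¹ * (c * (g * y * g⁻¹)) * g := by group
        _ = y * (g⁻¹ * c * g) := by rw [← h6]; group
    have key : (g⁻¹ * c * g) * (g⁻¹ * c * g) = 1 := by
      rcases (D.cent _).1 h3 with h6 | h6
      · refine D.ord4 _ h6 B hBL hBB (by rw [hcB]) h5 ?_
        calc g⁻¹ * c * g * (g⁻¹ * c * g) * (g⁻¹ * c * g * (g⁻¹ * c * g)) = g⁻¹ * (c * c * (c * c)) * g := by group
          _ = 1 := by rw [h4]; group
      · have h7 : D.t * (g⁻¹ * c * g) * (D.t * (g⁻¹ * c * g)) = (g⁻¹ * c * g) * (g⁻¹ * c * g) := by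
          calc D.t * (g⁻¹ * c * g) * (D.t * (g⁻¹ * c * g)) = D.t * ((g⁻¹ * c * g) * D.t) * (g⁻¹ * c * g) := by group
            _ = (D.t * D.t) * ((g⁻¹ * c * g) * (g⁻¹ * c * g)) := by rw [h3]; group
            _ = _ := by rw [D.tt, one_mul]
        rw [← h7]
        refine D.ord4 _ h6 B hBL hBB (by rw [hcB]) ?_ ?_
        · intro y hy
          rw [mul_assoc, h5 y hy, ← mul_assoc, ← D.Lt (hBL hy), mul_assoc]
        · rw [h7]
          calc g⁻¹ * c * g * (g⁻¹ * c * g) * (g⁻¹ * c * g * (g⁻¹ * c * g)) = g⁻¹ * (c * c * (c * c)) * g := by group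
            _ = 1 := by rw [h4]; group
    calc c * c = g * ((g⁻¹ * c * g) * (g⁻¹ * c * g)) * g⁻¹ := by group
      _ = 1 := by rw [key]; group
  have hC0le : Nat.card C0 ≤ 64 := by
    refine (D.small (g := g) hC0sq (fun b hb => ((hC0m b).1 hb).2) ?_).1
    intro b hb k hk
    exact D.notMem_R k (hk ▸ ((hC0m b).1 hb).1)
  have h3 := card_N1 D.ZR D.sqR D.Zc xx hx hxZ
  have h4 := card_N1_le (R := D.R) D.ZZ D.Zc xx hx
  rw [← hC0, ← hC1, h32] at h4
  rw [D.cardZ] at h3
  rcases D.size with h5 | ⟨h5, h6⟩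
  · rw [h5] at h3
    nlinarith only [hC0le, h3, h4]
  · have h7 : C0 ≤ C1 := by
      intro c hc
      exact (hC1m c).2 ⟨h6 c ((hC0m c).1 hc).1 (hC0sq c hc), ((hC0m c).1 hc).2⟩
    have h8 := Nat.card_le_card_of_injective _ (Subgroup.inclusion_injective h7)
    rw [h5] at h3
    rw [h32] at h8
    nlinarith only [h3, h4, h8]

/-- `D ∩ N(R) = t ^ N(R)` -/
theorem exists_conj_H [Finite G] {g : G} (h : g * D.t * g⁻¹ ∈ normalizer (D.R : Set G)) :
    ∃ k ∈ normalizer (D.R : Set G), k * D.t * k⁻¹ = g * D.t * g⁻¹ := by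
  have xx : (g * D.t * g⁻¹)⁻¹ = g * D.t * g⁻¹ := inv_of_sq (D.conj_inv_t g)
  have hx : ∀ r ∈ D.R, (g * D.t * g⁻¹) * r * (g * D.t * g⁻¹) ∈ D.R := by
    intro r hr
    have h4 := (mem_normalizer_iff.1 h r).1 hr
    rwa [xx] at h4
  exact D.exists_conj hx (D.fix_ge hx)

theorem t_mem_H : D.t ∈ normalizer (D.R : Set G) := by
  rw [mem_normalizer_iff]
  intro q
  rw [D.t_inv]
  refine ⟨fun h => D.tR q h, fun h => ?_⟩
  have h1 := D.tR _ h
  have h2 : D.t * (D.t * q * D.t) * D.t = (D.t * D.t) * q * (D.t * D.t) := by group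
  rwa [h2, D.tt, one_mul, mul_one] at h1

/-- `N_L(R) = N_L(Q)` -/
theorem mem_H_iff [Finite G] {n : G} (hn : n ∈ D.L) :
    n ∈ normalizer (D.R : Set G) ↔ n ∈ normalizer (D.Q : Set G) := by
  refine ⟨fun h => ?_, D.NR n hn⟩
  rw [mem_normalizer_iff]
  apply conj_mem_iff_of_le
  intro a ha
  have hnt := D.Lt hn
  have hnt' : n⁻¹ * D.t = D.t * n⁻¹ := D.Lt (inv_mem hn)
  apply D.RQ _ ((mem_normalizer_iff.1 h a).1 (D.QR ha))
  calc n * a * n⁻¹ * D.t = n * a * (n⁻¹ * D.t) := by group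
    _ = n * (a * D.t) * n⁻¹ := by rw [hnt']; group
    _ = (n * D.t) * a * n⁻¹ := by rw [D.Qt ha]; group
    _ = D.t * (n * a * n⁻¹) := by rw [hnt]; group

theorem card_eq_two_mul [Finite G] {K : Subgroup G} (ht : D.t ∈ K) (hK : ∀ x ∈ K, x * D.t = D.t * x) :
    Nat.card K = 2 * Nat.card (K ⊓ D.L : Subgroup G) := by
  apply le_antisymm
  · apply card_le_two_mul D.t
    intro x hx hxL
    rcases (D.cent x).1 (hK x hx) with h | h
    · exact absurd (mem_inf.2 ⟨hx, h⟩) hxL
    · rw [D.t_inv]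
      exact mem_inf.2 ⟨mul_mem ht hx, h⟩
  · have h1 : Nat.card ((K ⊓ D.L : Subgroup G) × Bool) ≤ Nat.card K := by
      refine Nat.card_le_card_of_injective
        (fun p : (K ⊓ D.L : Subgroup G) × Bool => (⟨(if p.2 then (p.1 : G) else D.t * p.1), ?_⟩ : K)) ?_
      · split_ifs
        · exact (mem_inf.1 p.1.2).1
        · exact mul_mem ht (mem_inf.1 p.1.2).1
      · rintro ⟨x, b⟩ ⟨y, c⟩ h
        have h2 := congrArg (Subtype.val : K → G) h
        have hx := (mem_inf.1 x.2).2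
        have hy := (mem_inf.1 y.2).2
        cases b <;> cases c <;> simp only [Bool.false_eq_true, if_true, if_false] at h2
        · rw [Subtype.ext (mul_left_cancel h2)]
        · exfalso
          apply D.tL
          have : D.t = y * (x : G)⁻¹ := by rw [← h2, mul_inv_cancel_right]
          rw [this]
          exact mul_mem hy (inv_mem hx)
        · exfalso
          apply D.tL
          have : D.t = x * (y : G)⁻¹ := by rw [h2, mul_inv_cancel_right]
          rw [this]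
          exact mul_mem hx (inv_mem hy)
        · rw [Subtype.ext h2]
    rw [Nat.card_prod] at h1
    have h2 : Nat.card Bool = 2 := by simp
    rw [h2] at h1
    omega

theorem odd_relIndex [Finite G] :
    Odd ((normalizer (D.R : Set G)).relIndex (centralizer ({D.t} : Set G))) := by
  set H := normalizer (D.R : Set G) with hH
  set C := centralizer ({D.t} : Set G) with hC
  have hCm : ∀ x, x ∈ C ↔ x * D.t = D.t * x := fun x => mem_centralizer_singleton_iff
  have hLC : C ⊓ D.L = D.L := inf_eq_right.2 fun x hx => (hCm x).2 (D.Lt hx)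
  have h1 := D.card_eq_two_mul (K := C) ((hCm _).2 rfl) (fun x hx => (hCm x).1 hx)
  have h2 := D.card_eq_two_mul (K := H ⊓ C) (mem_inf.2 ⟨D.t_mem_H, (hCm _).2 rfl⟩)
    (fun x hx => (hCm x).1 (mem_inf.1 hx).2)
  have h3 : H ⊓ C ⊓ D.L = normalizer (D.Q : Set G) ⊓ D.L := by
    ext x
    rw [mem_inf, mem_inf, mem_inf]
    constructor
    · rintro ⟨⟨h, -⟩, hx⟩
      exact ⟨(D.mem_H_iff hx).1 h, hx⟩
    · rintro ⟨h, hx⟩
      exact ⟨⟨(D.mem_H_iff hx).2 h, (hCm x).2 (D.Lt hx)⟩, hx⟩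
  rw [hLC] at h1
  rw [h3] at h2
  have h4 : Nat.card (H ⊓ C : Subgroup G) * H.relIndex C = Nat.card C := by
    rw [← inf_relIndex_right H C, relIndex, ← card_sub_eq (inf_le_right : H ⊓ C ≤ C), card_mul_index]
  have h5 : Nat.card (normalizer (D.Q : Set G) ⊓ D.L : Subgroup G) * (normalizer (D.Q : Set G)).relIndex D.L =
      Nat.card D.L := by
    rw [← inf_relIndex_right (normalizer (D.Q : Set G)) D.L, relIndex,
      ← card_sub_eq (inf_le_right : normalizer (D.Q : Set G) ⊓ D.L ≤ D.L), card_mul_index]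
  rw [h1, h2, ← h5] at h4
  have hpos : 0 < 2 * Nat.card (normalizer (D.Q : Set G) ⊓ D.L : Subgroup G) :=
    Nat.mul_pos two_pos Nat.card_pos
  have h6 : H.relIndex C = (normalizer (D.Q : Set G)).relIndex D.L := by
    apply Nat.eq_of_mul_eq_mul_left hpos
    rw [h4]; ring
  rw [h6]
  exact D.odd

section Quot

variable [Finite G] {X : Type*} [Group X] (π : normalizer (D.R : Set G) →* X)
  (hker : ∀ h, π h = 1 ↔ (h : G) ∈ D.R)

/-- the image of `N_L(R)` -/
def Y : Subgroup X := (D.L.subgroupOf (normalizer (D.R : Set G))).map π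

/-- the image of `t` -/
def tb : X := π ⟨D.t, D.t_mem_H⟩

include hker

omit [Finite G] in
theorem π_eq_iff {g h : normalizer (D.R : Set G)} : π g = π h ↔ (g : G)⁻¹ * h ∈ D.R := by
  rw [← inv_mul_eq_one, ← map_inv, ← map_mul, hker]
  rfl

omit [Finite G] hker in
theorem tb_sq : tb D π * tb D π = 1 := by
  rw [tb, ← map_mul]
  have : (⟨D.t, D.t_mem_H⟩ * ⟨D.t, D.t_mem_H⟩ : normalizer (D.R : Set G)) = 1 := Subtype.ext D.tt
  rw [this, map_one]

theorem tb_ne : tb D π ≠ 1 := by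
  intro h
  exact D.t_notMem_R ((hker _).1 h)

omit [Finite G] hker in
theorem quot_comm (y : X) (hy : y ∈ Y D π) : tb D π * y = y * tb D π := by
  obtain ⟨n, hn, rfl⟩ := hy
  have h1 : ⟨D.t, D.t_mem_H⟩ * n = n * ⟨D.t, D.t_mem_H⟩ := Subtype.ext (D.Lt hn).symm
  change π ⟨D.t, D.t_mem_H⟩ * π n = π n * π ⟨D.t, D.t_mem_H⟩
  rw [← map_mul, ← map_mul, h1]

omit [Finite G] in
theorem quot_cent (hsurj : Function.Surjective π) (y : X) (hy : y * tb D π = tb D π * y) :
    y ∈ Y D π ∨ tb D π * y ∈ Y D π := by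
  obtain ⟨h, rfl⟩ := hsurj y
  have h1 : π ⟨D.t, D.t_mem_H⟩ = π (h * ⟨D.t, D.t_mem_H⟩ * h⁻¹) := by
    rw [map_mul, map_mul, map_inv]
    change tb D π = π h * tb D π * (π h)⁻¹
    rw [hy]; group
  have h2 := (D.π_eq_iff π hker).1 h1
  have h3 : (((⟨D.t, D.t_mem_H⟩ : normalizer (D.R : Set G)) : G)⁻¹ *
      ((h * ⟨D.t, D.t_mem_H⟩ * h⁻¹ : normalizer (D.R : Set G)) : G)) = D.t * ((h : G) * D.t * (h : G)⁻¹) := by
    change D.t⁻¹ * ((h : G) * D.t * (h : G)⁻¹) = _
    rw [D.t_inv]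
  rw [h3] at h2
  obtain ⟨r, hr, hct⟩ := D.conjR _ h2 ⟨h, by rw [← mul_assoc, D.tt, one_mul]⟩
  rw [← mul_assoc, D.tt, one_mul] at hct
  have h5 : (r⁻¹ * h) * D.t = D.t * (r⁻¹ * h) := by
    calc (r⁻¹ * h) * D.t = r⁻¹ * ((h : G) * D.t * (h : G)⁻¹) * h := by group
      _ = r⁻¹ * (r * D.t * r⁻¹) * h := by rw [hct]
      _ = D.t * (r⁻¹ * h) := by group
  have hrH : r ∈ normalizer (D.R : Set G) := le_normalizer hr
  set h' : normalizer (D.R : Set G) := ⟨r, hrH⟩⁻¹ * h with hh'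
  have hπ : π h' = π h := by
    rw [hh', map_mul, map_inv, (hker ⟨r, hrH⟩).2 hr, inv_one, one_mul]
  rw [← hπ]
  rcases (D.cent _).1 h5 with h6 | h6
  · left
    exact ⟨h', h6, rfl⟩
  · right
    exact ⟨⟨D.t, D.t_mem_H⟩ * h', h6, by rw [map_mul]; rfl⟩

/-- involutions of `Y` lift -/
theorem lift_Y {y : X} (hy : y ∈ Y D π) (hyy : y * y = 1) :
    ∃ n : normalizer (D.R : Set G), (n : G) ∈ D.L ∧ (n : G) * n = 1 ∧ π n = y := by
  obtain ⟨n, hn, rfl⟩ := hy
  have hn' : (n : G) ∈ D.L := hn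
  have h1 : (n : G) * n ∈ D.Q := by
    have h2 : π (n * n) = 1 := by rw [map_mul, hyy]
    have h3 := (hker _).1 h2
    exact D.RQ _ h3 (D.Lt (mul_mem hn' hn'))
  obtain ⟨a, ha, h2⟩ := D.lift n hn' ((D.mem_H_iff hn').1 n.2) h1
  have haH : a ∈ normalizer (D.R : Set G) := le_normalizer (D.QR ha)
  refine ⟨n * ⟨a, haH⟩, mul_mem hn' (D.QL ha), h2, ?_⟩
  rw [map_mul, (hker ⟨a, haH⟩).2 (D.QR ha), mul_one]

theorem quot_all (y : X) (hy : y ∈ Y D π) (hyy : y * y = 1) : IsConj (tb D π) (tb D π * y) := by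
  obtain ⟨n, hn, hnn, rfl⟩ := D.lift_Y π hker hy hyy
  obtain ⟨g, hg⟩ := D.all n hn hnn
  have hmem : g * D.t * g⁻¹ ∈ normalizer (D.R : Set G) := by
    rw [← hg]
    exact mul_mem D.t_mem_H n.2
  obtain ⟨k, hk, hk1⟩ := D.exists_conj_H hmem
  rw [isConj_iff]
  refine ⟨π ⟨k, hk⟩, ?_⟩
  rw [← hg] at hk1
  change π ⟨k, hk⟩ * π ⟨D.t, D.t_mem_H⟩ * (π ⟨k, hk⟩)⁻¹ = π ⟨D.t, D.t_mem_H⟩ * π n
  rw [← map_mul, ← map_mul, ← map_inv, ← map_mul]
  congr 1
  exact Subtype.ext hk1

theorem quot_DY (nofix : ∀ n ∈ D.R, (D.t * n) * (D.t * n) = 1 → ∃ r ∈ D.R, D.t * n = r * D.t * r⁻¹)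
    (hsurj : Function.Surjective π) (y : X) (hy : y ∈ Y D π) : ¬ IsConj (tb D π) y := by
  intro hc
  obtain ⟨c, hc⟩ := isConj_iff.1 hc
  have h1 : y * y = 1 := by
    rw [← hc]
    calc (c * tb D π * c⁻¹) * (c * tb D π * c⁻¹) = c * (tb D π * tb D π) * c⁻¹ := by group
      _ = 1 := by rw [D.tb_sq π]; group
  obtain ⟨n, hn, hnn, hπ⟩ := D.lift_Y π hker hy h1
  obtain ⟨h, rfl⟩ := hsurj c
  have hnR : (n : G) ∉ D.R := by
    intro h2
    have h3 := (hker n).2 h2
    rw [hπ, ← hc] at h3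
    apply D.tb_ne π hker
    calc tb D π = (π h)⁻¹ * (π h * tb D π * (π h)⁻¹) * π h := by group
      _ = 1 := by rw [h3]; group
  -- `h⁻¹ n h = t m`
  have h2 : π ⟨D.t, D.t_mem_H⟩ = π (h⁻¹ * n * h) := by
    rw [map_mul, map_mul, map_inv, hπ, ← hc]
    change tb D π = _
    group
  have h3 := (D.π_eq_iff π hker).1 h2
  have h4 : (((⟨D.t, D.t_mem_H⟩ : normalizer (D.R : Set G)) : G)⁻¹ *
      ((h⁻¹ * n * h : normalizer (D.R : Set G)) : G)) = D.t * ((h : G)⁻¹ * n * h) := by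
    change D.t⁻¹ * ((h : G)⁻¹ * n * h) = _
    rw [D.t_inv]
  rw [h4] at h3
  obtain ⟨r, -, h6⟩ := nofix _ h3 (by
    have h7 : D.t * (D.t * ((h : G)⁻¹ * n * h)) = (h : G)⁻¹ * n * h := by
      rw [← mul_assoc, D.tt, one_mul]
    rw [h7]
    calc (h : G)⁻¹ * n * h * ((h : G)⁻¹ * n * h) = (h : G)⁻¹ * (n * n) * h := by group
      _ = 1 := by rw [hnn]; group)
  rw [← mul_assoc, D.tt, one_mul] at h6
  apply D.DL (h * r)
  have h7 : (h : G) * r * D.t * (h * r)⁻¹ = h * (r * D.t * r⁻¹) * (h : G)⁻¹ := by group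
  rw [h7, ← h6]
  have h8 : (h : G) * ((h : G)⁻¹ * n * h) * (h : G)⁻¹ = n := by group
  rw [h8]
  exact hn

/-- `Y ≃ N_L(Q) / Q` -/
theorem exists_equiv {Γ : Type*} [Group Γ] (θ : (D.L ⊓ normalizer (D.Q : Set G) : Subgroup G) →* Γ)
    (hθ : Function.Surjective θ) (hθk : ∀ n, θ n = 1 ↔ (n : G) ∈ D.Q) : Nonempty (Y D π ≃* Γ) := by
  have hNH : D.L ⊓ normalizer (D.Q : Set G) ≤ normalizer (D.R : Set G) := by
    intro n hn
    rw [mem_inf] at hn
    exact (D.mem_H_iff hn.1).2 hn.2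
  let ψ : (D.L ⊓ normalizer (D.Q : Set G) : Subgroup G) →* X := π.comp (inclusion hNH)
  have hrange : ψ.range = Y D π := by
    ext y
    constructor
    · rintro ⟨n, rfl⟩
      exact ⟨inclusion hNH n, (mem_inf.1 n.2).1, rfl⟩
    · rintro ⟨n, hn, rfl⟩
      exact ⟨⟨n, mem_inf.2 ⟨hn, (D.mem_H_iff hn).1 n.2⟩⟩, rfl⟩
  have hker' : ψ.ker = θ.ker := by
    ext n
    rw [MonoidHom.mem_ker, MonoidHom.mem_ker, hθk]
    change π (inclusion hNH n) = 1 ↔ _
    rw [hker]
    constructor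
    · intro h
      exact D.RQ _ h (D.Lt (mem_inf.1 n.2).1)
    · intro h
      exact D.QR h
  exact ⟨(MulEquiv.subgroupCongr hrange.symm).trans ((QuotientGroup.quotientKerEquivRange ψ).symm.trans
    ((QuotientGroup.quotientMulEquivOfEq hker').trans (QuotientGroup.quotientKerEquivOfSurjective θ hθ)))⟩

omit hker in
/-- a sign on the quotient gives one on `G` -/
theorem exists_hom_of_quot (m : X →* ℤˣ) (hm : m (tb D π) = -1) : ∃ m : G →* ℤˣ, m D.t = -1 := by
  refine TR.exists_hom_of_class (H := normalizer (D.R : Set G)) (m.comp π) D.tt D.t_mem_H hm ?_ D.odd_relIndex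
  intro g h _
  obtain ⟨k, hk, hk1⟩ := D.exists_conj_H (g := g⁻¹) (by rw [inv_inv]; exact h)
  rw [inv_inv] at hk1
  exact ⟨k, hk, hk1.symm⟩

end Quot

/-- The reduction to `N_G(R) / R`. -/
theorem main [Finite G] (nofix : ∀ n ∈ D.R, (D.t * n) * (D.t * n) = 1 → ∃ r ∈ D.R, D.t * n = r * D.t * r⁻¹)
    (θ : (D.L ⊓ normalizer (D.Q : Set G) : Subgroup G) →* Matrix.GeneralLinearGroup (Fin 3) (ZMod 2))
    (hθ : Function.Surjective θ) (hθk : ∀ n, θ n = 1 ↔ (n : G) ∈ D.Q) : ∃ m : G →* ℤˣ, m D.t = -1 := by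
  have hn : (D.R.subgroupOf (normalizer (D.R : Set G))).Normal := normal_in_normalizer
  set π := QuotientGroup.mk' (D.R.subgroupOf (normalizer (D.R : Set G))) with hπ
  have hker : ∀ h, π h = 1 ↔ (h : G) ∈ D.R := by
    intro h
    rw [← MonoidHom.mem_ker, hπ, QuotientGroup.ker_mk', mem_subgroupOf]
  have hsurj : Function.Surjective π := QuotientGroup.mk'_surjective _
  obtain ⟨e⟩ := D.exists_equiv π hker θ hθ hθk
  obtain ⟨m, hm⟩ := LThreeModel.exists_hom (t := tb D π) (Y := Y D π)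
    ⟨D.tb_sq π, D.quot_comm π, D.quot_cent π hker hsurj, D.quot_all π hker, D.quot_DY π hker nofix hsurj⟩ e
  exact D.exists_hom_of_quot π m hm

/-- `t` cannot act trivially on `R / Z` if an involution of `N_L(Q)` does not. -/
theorem false_of_triv [Finite G] (ht : ∀ r ∈ D.R, D.t * r * D.t * r⁻¹ ∈ D.Z) {y : G} (hy : y ∈ D.L)
    (hyN : y ∈ normalizer (D.Q : Set G)) (yy : y * y = 1) {r : G} (hr : r ∈ D.R)
    (hyr : y * r * y⁻¹ * r⁻¹ ∉ D.Z) : False := by
  obtain ⟨g, hg⟩ := D.all y hy yy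
  have hyR := D.NR y hy hyN
  obtain ⟨k, hk, hk1⟩ := D.exists_conj_H (g := g) (by rw [← hg]; exact mul_mem D.t_mem_H hyR)
  rw [← hg] at hk1
  have kZ : ∀ k ∈ normalizer (D.R : Set G), ∀ z ∈ D.Z, k * z * k⁻¹ ∈ D.Z := by
    intro k hk z hz
    rw [D.mem_Z_iff] at hz ⊢
    refine ⟨(mem_normalizer_iff.1 hk z).1 hz.1, fun r hr => ?_⟩
    have h6 := hz.2 _ ((mem_normalizer_iff''.1 hk r).1 hr)
    calc k * z * k⁻¹ * r = k * (z * (k⁻¹ * r * k)) * k⁻¹ := by group
      _ = r * (k * z * k⁻¹) := by rw [h6]; group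
  -- `t y` acts trivially on `R / Z`
  have h1 : ∀ r ∈ D.R, (D.t * y) * r * (D.t * y)⁻¹ * r⁻¹ ∈ D.Z := by
    intro r hr
    rw [← hk1]
    have h2 := kZ k hk _ (ht _ ((mem_normalizer_iff''.1 hk r).1 hr))
    have h3 : k * (D.t * (k⁻¹ * r * k) * D.t * (k⁻¹ * r * k)⁻¹) * k⁻¹ =
        (k * D.t * k⁻¹) * r * (k * D.t⁻¹ * k⁻¹) * r⁻¹ := by
      rw [D.t_inv]; group
    rw [h3] at h2
    have h4 : (k * D.t * k⁻¹) * r * (k * D.t * k⁻¹)⁻¹ * r⁻¹ = (k * D.t * k⁻¹) * r * (k * D.t⁻¹ * k⁻¹) * r⁻¹ := by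
      group
    rw [h4]
    exact h2
  apply hyr
  have hyr' : y * r * y⁻¹ ∈ D.R := (mem_normalizer_iff.1 hyR r).1 hr
  have h2 := h1 r hr
  have h3 := ht _ hyr'
  have h4 : y * r * y⁻¹ * r⁻¹ = (D.t * (y * r * y⁻¹) * D.t * (y * r * y⁻¹)⁻¹)⁻¹ *
      ((D.t * y) * r * (D.t * y)⁻¹ * r⁻¹) := by
    have h5 : (D.t * y)⁻¹ = y⁻¹ * D.t := by rw [mul_inv_rev, D.t_inv]
    rw [h5]
    group
  rw [h4]
  exact mul_mem (inv_mem h3) h2

end RData

end Cfsg.Agent.StdSpSix.RLevel
end

-- part: StdSpSix/EpsY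
section
/-!
# The group `Y₁` of order `2¹²`

`Q ≤ L` elementary abelian of order `64`, generated by the `b w`, `w` in a space `W` with 8 elements; `y w`
centralises `Q`, `y 0 = t`, `(y v * y w)² = b (v + w)`.  `τ m = [m, t]`, `r w = t * y w`,
`Y₁ = ⟨r w, Q⟩ = {m ∈ C_G(Q) : τ m ∈ Q, [m, r w] = a (p m) w}`, `p m = π (τ m)`: for `m, m' ∈ Y₁`,
`[m, m'] = a (p m) (p m')`, `m² = b (p m)`; `Z = {m ∈ Y₁ : p m = 0}` is elementary abelian of order `512`.
-/

set_option autoImplicit false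

namespace Cfsg.Agent.StdSpSix.Eps

open Subgroup
open Cfsg.Agent.StdSpSix.QLevel (card_le_two_mul card_sub_eq inv_of_sq comm_of_sq mem_inf_cent card_le_sq)
open Cfsg.Agent.StdSpSix.QLevel.Data (card_conj_of_iff mem_map_conj conj_mem_iff_of_le)
open Cfsg.Agent.StdSpSix.RLevel

/-- a space with eight elements -/
abbrev F3 : Type := ZMod 2 × ZMod 2 × ZMod 2

theorem F3.add_self (u : F3) : u + u = 0 := by revert u; decide

theorem F3.add_add_self (u v : F3) : u + (u + v) = v := by revert u v; decide +kernel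

theorem F3.eq_of_add {u v : F3} (h : u + v = 0) : u = v := by revert u v; decide +kernel

/-- the standard form -/
def dot (k v : F3) : ZMod 2 := k.1 * v.1 + k.2.1 * v.2.1 + k.2.2 * v.2.2

theorem dot_add (k u v : F3) : dot k (u + v) = dot k u + dot k v := by revert k u v; decide +kernel

/-- transvections -/
def tv (k c : F3) (h : dot k c = 0) : F3 ≃+ F3 where
  toFun v := v + dot k v • c
  invFun v := v + dot k v • c
  left_inv v := by revert k c v; decide +kernel
  right_inv v := by revert k c v; decide +kernel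
  map_add' u v := by rw [dot_add]; module

theorem tv_apply (k c : F3) (h : dot k c = 0) (v : F3) : tv k c h v = v + dot k v • c := rfl

/-- The data. -/
structure WData (G : Type*) [Group G] extends Core G where
  b : F3 → G
  y : F3 → G
  π : G → F3
  b0 : b 0 = 1
  y0 : y 0 = t
  QQ : ∀ x ∈ Q, x * x = 1
  bQ : ∀ w, b w ∈ Q
  gen : ∀ P : Subgroup G, (∀ w, b w ∈ P) → Q ≤ P
  πmul : ∀ x ∈ Q, ∀ z ∈ Q, π (x * z) = π x + π z
  πb : ∀ w, π (b w) = w
  y2 : ∀ w, y w * y w = 1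
  yQ : ∀ w, ∀ q ∈ Q, q * y w = y w * q
  yy : ∀ v w, (y v * y w) * (y v * y w) = b (v + w)
  bil : ∀ u v w, b u * b (v + w) * b (u + (v + w)) = (b u * b v * b (u + v)) * (b u * b w * b (u + w))
  a1 : ∀ u v, b u * b v * b (u + v) = 1 → u = 0 ∨ v = 0 ∨ u = v
  act : ∀ n ∈ L, n ∈ normalizer (Q : Set G) → ∃ σ : F3 ≃+ F3, (∀ w, n * b w * n⁻¹ = b (σ w)) ∧
    ∀ w, ∃ q ∈ Q, n * y w * n⁻¹ = y (σ w) * q
  wit : ∀ σ : F3 ≃+ F3, ∃ n ∈ L, n ∈ normalizer (Q : Set G) ∧ ∀ w, n * b w * n⁻¹ = b (σ w)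

namespace WData

variable {G : Type*} [Group G] (D : WData G)

theorem qc {x z : G} (hx : x ∈ D.Q) (hz : z ∈ D.Q) : x * z = z * x := comm_of_sq D.QQ hx hz

theorem q_inv {x : G} (hx : x ∈ D.Q) : x⁻¹ = x := inv_of_sq (D.QQ x hx)

theorem y_inv (w : F3) : (D.y w)⁻¹ = D.y w := inv_of_sq (D.y2 w)

/-- `a u v = b u b v b (u + v)` -/
def a (u v : F3) : G := D.b u * D.b v * D.b (u + v)

theorem aQ (u v : F3) : D.a u v ∈ D.Q := mul_mem (mul_mem (D.bQ u) (D.bQ v)) (D.bQ _)

theorem b2 (u : F3) : D.b u * D.b u = 1 := D.QQ _ (D.bQ u)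

theorem a_comm (u v : F3) : D.a u v = D.a v u := by
  unfold a
  rw [D.qc (D.bQ u) (D.bQ v), add_comm]

@[simp] theorem a_zero (u : F3) : D.a u 0 = 1 := by
  unfold a
  rw [D.b0, mul_one, add_zero, D.b2]

@[simp] theorem zero_a (u : F3) : D.a 0 u = 1 := by rw [a_comm, a_zero]

@[simp] theorem a_self (u : F3) : D.a u u = 1 := by
  unfold a
  rw [D.b2, one_mul, F3.add_self, D.b0]

theorem a_add (u v w : F3) : D.a u (v + w) = D.a u v * D.a u w := D.bil u v w

theorem add_a (u v w : F3) : D.a (u + v) w = D.a u w * D.a v w := by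
  rw [a_comm, a_add, a_comm, D.a_comm w v]

theorem a_eq_one {u v : F3} (h : D.a u v = 1) : u = 0 ∨ v = 0 ∨ u = v := D.a1 u v h

theorem b_mul (u v : F3) : D.b u * D.b v * D.a u v = D.b (u + v) := by
  unfold a
  have h1 := D.QQ _ (mul_mem (D.bQ u) (D.bQ v))
  rw [← mul_assoc (D.b u * D.b v), h1, one_mul]

theorem π_one : D.π 1 = 0 := by rw [← D.b0, D.πb]

theorem π_a (u v : F3) : D.π (D.a u v) = 0 := by
  unfold a
  rw [D.πmul _ (mul_mem (D.bQ u) (D.bQ v)) _ (D.bQ _), D.πmul _ (D.bQ u) _ (D.bQ v), D.πb, D.πb, D.πb, F3.add_self]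

theorem b_ne {w : F3} (hw : w ≠ 0) : D.b w ≠ 1 := by
  intro h
  apply hw
  rw [← D.πb w, h, D.π_one]

/-- `C_G(Q)` -/
def M : Subgroup G := centralizer (D.Q : Set G)

theorem mem_M {x : G} : x ∈ D.M ↔ ∀ q ∈ D.Q, q * x = x * q := by
  unfold M
  rw [mem_centralizer_iff]
  rfl

theorem QM {q : G} (hq : q ∈ D.Q) : q ∈ D.M := D.mem_M.2 fun _ hz => D.qc hz hq

theorem yM (w : F3) : D.y w ∈ D.M := D.mem_M.2 (D.yQ w)

theorem tM : D.t ∈ D.M := by rw [← D.y0]; exact D.yM 0

theorem conj_q {x q : G} (hx : x ∈ D.M) (hq : q ∈ D.Q) : x * q * x⁻¹ = q := by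
  rw [← D.mem_M.1 hx q hq, mul_inv_cancel_right]

/-- `r w = t * y w` -/
def r (w : F3) : G := D.t * D.y w

theorem rM (w : F3) : D.r w ∈ D.M := mul_mem D.tM (D.yM w)

@[simp] theorem r_zero : D.r 0 = 1 := by
  unfold r
  rw [D.y0, D.tt]

/-- `τ m = [m, t]` -/
def τ (m : G) : G := m * D.t * m⁻¹ * D.t

theorem conj_t (m : G) : m * D.t * m⁻¹ = D.τ m * D.t := by
  unfold τ
  rw [mul_assoc (m * D.t * m⁻¹), D.tt, mul_one]

theorem τ_mul {m n : G} (hm : m ∈ D.M) (hn : D.τ n ∈ D.Q) : D.τ (m * n) = D.τ m * D.τ n := by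
  have h1 : m * n * D.t * (m * n)⁻¹ = D.τ n * (m * D.t * m⁻¹) := by
    calc m * n * D.t * (m * n)⁻¹ = m * (n * D.t * n⁻¹) * m⁻¹ := by group
      _ = m * (D.τ n * D.t) * m⁻¹ := by rw [D.conj_t]
      _ = (m * D.τ n * m⁻¹) * (m * D.t * m⁻¹) := by group
      _ = D.τ n * (m * D.t * m⁻¹) := by rw [D.conj_q hm hn]
  have h2 : D.τ n * (m * D.t * m⁻¹) * D.t = D.τ n * D.τ m := by
    rw [D.conj_t, mul_assoc, mul_assoc, D.tt, mul_one]
  change m * n * D.t * (m * n)⁻¹ * D.t = _
  rw [h1, h2]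
  -- `τ n` commutes with `τ m`
  have h3 : D.τ n * D.τ m = D.τ m * D.τ n := by
    have h4 : D.τ m ∈ D.M := mul_mem (mul_mem (mul_mem hm D.tM) (inv_mem hm)) D.tM
    exact D.mem_M.1 h4 _ hn
  exact h3

@[simp] theorem τ_one : D.τ 1 = 1 := by
  unfold τ
  rw [one_mul, inv_one, mul_one, D.tt]

theorem τ_inv {m : G} (hm : m ∈ D.M) (h : D.τ m ∈ D.Q) : D.τ m⁻¹ = D.τ m := by
  have h1 : m⁻¹ * (D.τ m)⁻¹ * m = D.τ m⁻¹ := by
    unfold τ
    rw [mul_inv_rev, mul_inv_rev, mul_inv_rev, inv_inv, D.t_inv]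
    group
  rw [← h1, D.q_inv h]
  have := D.conj_q (inv_mem hm) h
  rwa [inv_inv] at this

theorem τ_q {q : G} (hq : q ∈ D.Q) : D.τ q = 1 := by
  unfold τ
  rw [D.Qt hq, mul_inv_cancel_right, D.tt]

theorem τ_t : D.τ D.t = 1 := by
  unfold τ
  rw [mul_inv_cancel_right, D.tt]

theorem τ_r (w : F3) : D.τ (D.r w) = D.b w := by
  have h := D.yy 0 w
  rw [zero_add, D.y0] at h
  rw [← h]
  unfold τ r
  rw [mul_inv_rev, D.y_inv, D.t_inv]
  calc D.t * D.y w * D.t * (D.y w * D.t) * D.t = D.t * D.y w * D.t * D.y w * (D.t * D.t) := by group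
    _ = D.t * D.y w * (D.t * D.y w) := by rw [D.tt]; group

/-- `{m ∈ C_G(Q) : [m, t] ∈ Q}` -/
def O : Subgroup G where
  carrier := {m | m ∈ D.M ∧ D.τ m ∈ D.Q}
  one_mem' := ⟨one_mem _, by rw [D.τ_one]; exact one_mem _⟩
  mul_mem' := by
    rintro m n ⟨hm, hm1⟩ ⟨hn, hn1⟩
    exact ⟨mul_mem hm hn, by rw [D.τ_mul hm hn1]; exact mul_mem hm1 hn1⟩
  inv_mem' := by
    rintro m ⟨hm, hm1⟩
    exact ⟨inv_mem hm, by rw [D.τ_inv hm hm1]; exact hm1⟩

theorem mem_O {m : G} : m ∈ D.O ↔ m ∈ D.M ∧ D.τ m ∈ D.Q := Iff.rfl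

theorem rO (w : F3) : D.r w ∈ D.O := ⟨D.rM w, by rw [D.τ_r]; exact D.bQ w⟩

theorem QO {q : G} (hq : q ∈ D.Q) : q ∈ D.O := ⟨D.QM hq, by rw [D.τ_q hq]; exact one_mem _⟩

theorem tO : D.t ∈ D.O := ⟨D.tM, by rw [D.τ_t]; exact one_mem _⟩

/-- the kernel of `τ` -/
theorem mem_or_of_τ {m : G} (hm : m ∈ D.M) (h : D.τ m = 1) : m ∈ D.Q ∨ D.t * m ∈ D.Q := by
  have h1 := D.conj_t m
  rw [h, one_mul] at h1
  apply D.mem_Q_of_comm hm
  calc m * D.t = m * D.t * m⁻¹ * m := by group
    _ = D.t * m := by rw [h1]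

theorem y_comm (v w : F3) : D.y v * D.y w = D.b (v + w) * (D.y w * D.y v) := by
  have h := D.yy v w
  have h1 : (D.y v * D.y w)⁻¹ = D.y w * D.y v := by rw [mul_inv_rev, D.y_inv, D.y_inv]
  rw [← h, ← h1]
  group

theorem t_y (w : F3) : D.t * D.y w = D.b w * (D.y w * D.t) := by
  have := D.y_comm 0 w
  rwa [zero_add, D.y0] at this

/-- `[r v, r w] = a v w` -/
theorem r_comm (v w : F3) : D.r v * D.r w * (D.r v)⁻¹ = D.a v w * D.r w := by
  rw [mul_inv_eq_iff_eq_mul]
  unfold r a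
  have hb : ∀ u w, D.b u * D.y w = D.y w * D.b u := fun u w => D.yQ w _ (D.bQ u)
  have ht : ∀ u, D.b u * D.t = D.t * D.b u := fun u => D.Qt (D.bQ u)
  have e1 : D.t * D.y v * (D.t * D.y w) = D.b v * (D.y v * D.y w) := by
    calc D.t * D.y v * (D.t * D.y w) = (D.t * D.y v) * D.t * D.y w := by group
      _ = (D.b v * (D.y v * D.t)) * D.t * D.y w := by rw [D.t_y v]
      _ = D.b v * (D.y v * (D.t * D.t) * D.y w) := by group
      _ = D.b v * (D.y v * D.y w) := by rw [D.tt, mul_one]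
  have e2 : D.t * D.y w * (D.t * D.y v) = D.b w * (D.y w * D.y v) := by
    calc D.t * D.y w * (D.t * D.y v) = (D.t * D.y w) * D.t * D.y v := by group
      _ = (D.b w * (D.y w * D.t)) * D.t * D.y v := by rw [D.t_y w]
      _ = D.b w * (D.y w * (D.t * D.t) * D.y v) := by group
      _ = D.b w * (D.y w * D.y v) := by rw [D.tt, mul_one]
  rw [e1, D.y_comm v w]
  have e3 : D.b v * D.b w * D.b (v + w) * (D.t * D.y w) * (D.t * D.y v) =
      D.b v * D.b w * D.b (v + w) * (D.t * D.y w * (D.t * D.y v)) := by group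
  rw [e3, e2]
  have e4 : D.b w * D.b (v + w) * D.b w = D.b (v + w) := by
    rw [mul_assoc, D.qc (D.bQ (v + w)) (D.bQ w), ← mul_assoc, D.b2, one_mul]
  calc D.b v * (D.b (v + w) * (D.y w * D.y v)) = D.b v * D.b (v + w) * (D.y w * D.y v) := by group
    _ = D.b v * (D.b w * D.b (v + w) * D.b w) * (D.y w * D.y v) := by rw [e4]
    _ = D.b v * D.b w * D.b (v + w) * (D.b w * (D.y w * D.y v)) := by group

/-- `Y₁` -/
def Y1 : Subgroup G where
  carrier := {m | m ∈ D.O ∧ ∀ u, m * D.r u * m⁻¹ = D.a (D.π (D.τ m)) u * D.r u}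
  one_mem' := ⟨one_mem _, fun u => by rw [D.τ_one, D.π_one, D.zero_a]; group⟩
  mul_mem' := by
    rintro m n ⟨hm, hm1⟩ ⟨hn, hn1⟩
    refine ⟨mul_mem hm hn, fun u => ?_⟩
    rw [D.τ_mul hm.1 hn.2, D.πmul _ hm.2 _ hn.2, D.add_a]
    calc m * n * D.r u * (m * n)⁻¹ = m * (n * D.r u * n⁻¹) * m⁻¹ := by group
      _ = m * (D.a (D.π (D.τ n)) u * D.r u) * m⁻¹ := by rw [hn1]
      _ = (m * D.a (D.π (D.τ n)) u * m⁻¹) * (m * D.r u * m⁻¹) := by group
      _ = D.a (D.π (D.τ n)) u * (D.a (D.π (D.τ m)) u * D.r u) := by rw [D.conj_q hm.1 (D.aQ _ _), hm1]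
      _ = _ := by rw [← mul_assoc, D.qc (D.aQ _ _) (D.aQ _ _)]
  inv_mem' := by
    rintro m ⟨hm, hm1⟩
    refine ⟨inv_mem hm, fun u => ?_⟩
    rw [D.τ_inv hm.1 hm.2]
    have h1 : m⁻¹ * D.a (D.π (D.τ m)) u * m = D.a (D.π (D.τ m)) u := by
      have := D.conj_q (inv_mem hm.1) (D.aQ (D.π (D.τ m)) u)
      rwa [inv_inv] at this
    have h2 : D.r u = D.a (D.π (D.τ m)) u * (m⁻¹ * D.r u * m) := by
      calc D.r u = m⁻¹ * (m * D.r u * m⁻¹) * m := by group
        _ = m⁻¹ * (D.a (D.π (D.τ m)) u * D.r u) * m := by rw [hm1]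
        _ = (m⁻¹ * D.a (D.π (D.τ m)) u * m) * (m⁻¹ * D.r u * m) := by group
        _ = _ := by rw [h1]
    rw [inv_inv]
    conv_rhs => rw [h2, ← mul_assoc, D.QQ _ (D.aQ _ _), one_mul]

/-- `p m = π (τ m)` -/
def p (m : G) : F3 := D.π (D.τ m)

theorem rY (w : F3) : D.r w ∈ D.Y1 := ⟨D.rO w, fun u => by rw [D.τ_r, D.πb, D.r_comm]⟩

theorem QY {q : G} (hq : q ∈ D.Q) : q ∈ D.Y1 := ⟨D.QO hq, fun u => by
  rw [D.τ_q hq, D.π_one, D.zero_a, one_mul, D.mem_M.1 (D.rM u) q hq, mul_inv_cancel_right]⟩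

theorem p_mul {m n : G} (hm : m ∈ D.O) (hn : n ∈ D.O) : D.p (m * n) = D.p m + D.p n := by
  unfold p
  rw [D.τ_mul hm.1 hn.2, D.πmul _ hm.2 _ hn.2]

theorem p_inv {m : G} (hm : m ∈ D.O) : D.p m⁻¹ = D.p m := by
  unfold p
  rw [D.τ_inv hm.1 hm.2]

@[simp] theorem p_r (w : F3) : D.p (D.r w) = w := by
  unfold p
  rw [D.τ_r, D.πb]

theorem p_q {q : G} (hq : q ∈ D.Q) : D.p q = 0 := by
  unfold p
  rw [D.τ_q hq, D.π_one]

@[simp] theorem p_one : D.p 1 = 0 := D.p_q (one_mem _)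

theorem p_t : D.p D.t = 0 := by
  unfold p
  rw [D.τ_t, D.π_one]

theorem t_notMem_Y1 : D.t ∉ D.Y1 := by
  intro h
  have h1 := h.2 (1, 0, 0)
  rw [D.τ_t, D.π_one, D.zero_a, one_mul] at h1
  have h2 := D.t_y (1, 0, 0)
  apply D.b_ne (w := (1, 0, 0)) (by decide)
  unfold r at h1
  rw [D.t_inv] at h1
  have h3 : D.y (1, 0, 0) * D.t = D.t * D.y (1, 0, 0) := by
    calc D.y (1, 0, 0) * D.t = (D.t * D.t) * D.y (1, 0, 0) * D.t := by rw [D.tt, one_mul]
      _ = D.t * (D.t * D.y (1, 0, 0)) * D.t := by group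
      _ = D.t * D.y (1, 0, 0) := h1
  rw [h3] at h2
  exact mul_eq_right.1 h2.symm

theorem τ_surj {P : Subgroup G} (hP : ∀ w, D.r w ∈ P) {q : G} (hq : q ∈ D.Q) :
    ∃ m ∈ D.Y1 ⊓ P, D.τ m = q := by
  let K : Subgroup G :=
    { carrier := {q | ∃ m ∈ D.Y1 ⊓ P, D.τ m = q}
      one_mem' := ⟨1, one_mem _, D.τ_one⟩
      mul_mem' := by
        rintro _ _ ⟨m, hm, rfl⟩ ⟨n, hn, rfl⟩
        exact ⟨m * n, mul_mem hm hn, D.τ_mul (mem_inf.1 hm).1.1.1 (mem_inf.1 hn).1.1.2⟩
      inv_mem' := by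
        rintro _ ⟨m, hm, rfl⟩
        have h := (mem_inf.1 hm).1.1.2
        rw [D.q_inv h]
        exact ⟨m, hm, rfl⟩ }
  exact D.gen K (fun w => ⟨D.r w, mem_inf.2 ⟨D.rY w, hP w⟩, D.τ_r w⟩) hq

theorem mem_Q_of_τ {m : G} (hm : m ∈ D.Y1) (h : D.τ m = 1) : m ∈ D.Q := by
  rcases D.mem_or_of_τ hm.1.1 h with h1 | h1
  · exact h1
  · exfalso
    apply D.t_notMem_Y1
    have h2 := mul_mem (D.QY h1) (inv_mem hm)
    rwa [mul_inv_cancel_right] at h2

/-- `Y₁` is generated by `Q` and the `r w` -/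
theorem Y1_le {P : Subgroup G} (hQ : D.Q ≤ P) (hP : ∀ w, D.r w ∈ P) : D.Y1 ≤ P := by
  intro m hm
  obtain ⟨n, hn, h⟩ := D.τ_surj hP hm.1.2
  rw [mem_inf] at hn
  have h1 : n⁻¹ * m ∈ D.Q := by
    apply D.mem_Q_of_τ (mul_mem (inv_mem hn.1) hm)
    rw [D.τ_mul (inv_mem hn.1.1.1) hm.1.2, D.τ_inv hn.1.1.1 hn.1.1.2, h, D.QQ _ hm.1.2]
  have h2 := mul_mem hn.2 (hQ h1)
  rwa [mul_inv_cancel_left] at h2

/-- `[m, n] = a (p m) (p n)` -/
theorem Y1_comm {m n : G} (hm : m ∈ D.Y1) (hn : n ∈ D.Y1) : m * n * m⁻¹ = D.a (D.p m) (D.p n) * n := by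
  let K : Subgroup G :=
    { carrier := {n | n ∈ D.Y1 ∧ ∀ m ∈ D.Y1, m * n * m⁻¹ = D.a (D.p m) (D.p n) * n}
      one_mem' := ⟨one_mem _, fun m _ => by rw [D.p_one, D.a_zero]; group⟩
      mul_mem' := by
        rintro x z ⟨hx, hx1⟩ ⟨hz, hz1⟩
        refine ⟨mul_mem hx hz, fun m hm => ?_⟩
        rw [D.p_mul hx.1 hz.1, D.a_add]
        calc m * (x * z) * m⁻¹ = (m * x * m⁻¹) * (m * z * m⁻¹) := by group
          _ = (D.a (D.p m) (D.p x) * x) * (D.a (D.p m) (D.p z) * z) := by rw [hx1 m hm, hz1 m hm]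
          _ = D.a (D.p m) (D.p x) * (x * D.a (D.p m) (D.p z)) * z := by group
          _ = _ := by rw [← D.mem_M.1 hx.1.1 _ (D.aQ _ _)]; group
      inv_mem' := by
        rintro x ⟨hx, hx1⟩
        refine ⟨inv_mem hx, fun m hm => ?_⟩
        rw [D.p_inv hx.1]
        calc m * x⁻¹ * m⁻¹ = (m * x * m⁻¹)⁻¹ := by group
          _ = x⁻¹ * (D.a (D.p m) (D.p x))⁻¹ := by rw [hx1 m hm, mul_inv_rev]
          _ = _ := by rw [D.q_inv (D.aQ _ _), D.mem_M.1 (inv_mem hx.1.1) _ (D.aQ _ _)] }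
  have h : D.Y1 ≤ K := D.Y1_le
    (fun q hq => ⟨D.QY hq, fun m hm => by rw [D.p_q hq, D.a_zero, one_mul, D.conj_q hm.1.1 hq]⟩)
    (fun w => ⟨D.rY w, fun m hm => by rw [D.p_r]; exact hm.2 w⟩)
  exact (h hn).2 m hm

/-- `m² = b (p m)` -/
theorem Y1_sq {m : G} (hm : m ∈ D.Y1) : m * m = D.b (D.p m) := by
  let K : Subgroup G :=
    { carrier := {n | n ∈ D.Y1 ∧ n * n = D.b (D.p n)}
      one_mem' := ⟨one_mem _, by rw [D.p_one, D.b0, mul_one]⟩
      mul_mem' := by
        rintro x z ⟨hx, hx1⟩ ⟨hz, hz1⟩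
        refine ⟨mul_mem hx hz, ?_⟩
        rw [D.p_mul hx.1 hz.1, ← D.b_mul]
        have h1 : z * x = D.a (D.p z) (D.p x) * x * z := by
          rw [← D.Y1_comm hz hx]; group
        calc x * z * (x * z) = x * (z * x) * z := by group
          _ = x * D.a (D.p z) (D.p x) * (x * (z * z)) := by rw [h1]; group
          _ = D.a (D.p z) (D.p x) * (x * x) * (z * z) := by rw [← D.mem_M.1 hx.1.1 _ (D.aQ _ _)]; group
          _ = D.a (D.p z) (D.p x) * (D.b (D.p x) * D.b (D.p z)) := by rw [hx1, hz1]; group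
          _ = _ := by
            rw [D.a_comm, D.qc (D.aQ _ _) (mul_mem (D.bQ _) (D.bQ _))]
      inv_mem' := by
        rintro x ⟨hx, hx1⟩
        refine ⟨inv_mem hx, ?_⟩
        rw [D.p_inv hx.1, ← mul_inv_rev, hx1, D.q_inv (D.bQ _)] }
  have h : D.Y1 ≤ K := D.Y1_le
    (fun q hq => ⟨D.QY hq, by rw [D.p_q hq, D.b0, D.QQ q hq]⟩)
    (fun w => ⟨D.rY w, by
      rw [D.p_r]
      unfold r
      have := D.yy 0 w
      rwa [zero_add, D.y0] at this⟩)
  exact (h hm).2

/-- `Z` -/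
def Z : Subgroup G where
  carrier := {m | m ∈ D.Y1 ∧ D.p m = 0}
  one_mem' := ⟨one_mem _, D.p_one⟩
  mul_mem' := by
    rintro m n ⟨hm, hm1⟩ ⟨hn, hn1⟩
    exact ⟨mul_mem hm hn, by rw [D.p_mul hm.1 hn.1, hm1, hn1, add_zero]⟩
  inv_mem' := by
    rintro m ⟨hm, hm1⟩
    exact ⟨inv_mem hm, by rw [D.p_inv hm.1, hm1]⟩

theorem mem_Z {m : G} : m ∈ D.Z ↔ m ∈ D.Y1 ∧ D.p m = 0 := Iff.rfl

theorem QZ {q : G} (hq : q ∈ D.Q) : q ∈ D.Z := ⟨D.QY hq, D.p_q hq⟩

theorem ZZ {z : G} (hz : z ∈ D.Z) : z * z = 1 := by rw [D.Y1_sq hz.1, hz.2, D.b0]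

theorem Z_comm {z m : G} (hz : z ∈ D.Z) (hm : m ∈ D.Y1) : z * m = m * z := by
  have h := D.Y1_comm hz.1 hm
  rw [hz.2, D.zero_a, one_mul] at h
  exact mul_inv_eq_iff_eq_mul.1 h

theorem mem_Z_of_sq {m : G} (hm : m ∈ D.Y1) (h : m * m = 1) : m ∈ D.Z := by
  refine ⟨hm, ?_⟩
  rw [D.Y1_sq hm] at h
  by_contra hne
  exact D.b_ne hne h

theorem t_conj (m : G) : D.t * m * D.t = (D.τ m)⁻¹ * m := by
  unfold τ
  rw [mul_inv_rev, mul_inv_rev, mul_inv_rev, inv_inv, D.t_inv]
  group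

theorem t_conj' {m : G} (hm : m ∈ D.O) : D.t * m * D.t = D.τ m * m := by
  rw [D.t_conj, D.q_inv hm.2]

theorem tY {m : G} (hm : m ∈ D.Y1) : D.t * m * D.t ∈ D.Y1 := by
  rw [D.t_conj' hm.1]
  exact mul_mem (D.QY hm.1.2) hm

theorem Y1_or {m : G} (hm : m ∈ D.O) : m ∈ D.Y1 ∨ D.t * m ∈ D.Y1 := by
  obtain ⟨n, hn, h⟩ := D.τ_surj (P := ⊤) (fun _ => mem_top _) hm.2
  have hn := (mem_inf.1 hn).1
  have h1 : n⁻¹ * m ∈ D.M := mul_mem (inv_mem hn.1.1) hm.1
  have h2 : D.τ (n⁻¹ * m) = 1 := by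
    rw [D.τ_mul (inv_mem hn.1.1) hm.2, D.τ_inv hn.1.1 hn.1.2, h, D.QQ _ hm.2]
  rcases D.mem_or_of_τ h1 h2 with h3 | h3
  · left
    have := mul_mem hn (D.QY h3)
    rwa [mul_inv_cancel_left] at this
  · right
    have h4 := mul_mem (D.tY hn) (D.QY h3)
    have h5 : D.t * n * D.t * (D.t * (n⁻¹ * m)) = D.t * n * (D.t * D.t) * n⁻¹ * m := by group
    rw [h5, D.tt, mul_one] at h4
    have h6 : D.t * n * n⁻¹ * m = D.t * m := by group
    rwa [h6] at h4

/-- involutions of `t Y₁` -/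
theorem inv_tY {n : G} (hn : n ∈ D.Y1) (h : (D.t * n) * (D.t * n) = 1) : ∃ q ∈ D.Q, D.t * n = D.y (D.p n) * q := by
  have h1 : D.τ n = D.b (D.p n) := by
    have h2 : (D.t * n) * (D.t * n) = D.τ n * (n * n) := by
      calc (D.t * n) * (D.t * n) = (D.t * n * D.t) * n := by group
        _ = _ := by rw [D.t_conj' hn.1]; group
    rw [h2, D.Y1_sq hn] at h
    rw [eq_inv_of_mul_eq_one_left h, D.q_inv (D.bQ _)]
  have h3 : (D.r (D.p n))⁻¹ * n ∈ D.Q := by
    apply D.mem_Q_of_τ (mul_mem (inv_mem (D.rY _)) hn)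
    rw [D.τ_mul (inv_mem (D.rM _)) hn.1.2, D.τ_inv (D.rM _) (D.rO _).2, D.τ_r, h1, D.b2]
  refine ⟨_, h3, ?_⟩
  unfold r
  rw [mul_inv_rev, D.t_inv, D.y_inv]
  calc D.t * n = (D.y (D.p n) * D.y (D.p n)) * D.t * n := by rw [D.y2, one_mul]
    _ = _ := by group

/-- action of `Y₁` on the `y w` -/
theorem Y1_y {m : G} (hm : m ∈ D.Y1) (w : F3) : m * D.y w * m⁻¹ = (D.τ m * D.a (D.p m) w) * D.y w := by
  have h1 : D.y w = D.t * D.r w := by unfold r; rw [← mul_assoc, D.tt, one_mul]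
  rw [h1]
  calc m * (D.t * D.r w) * m⁻¹ = (m * D.t * m⁻¹) * (m * D.r w * m⁻¹) := by group
    _ = D.τ m * D.t * (D.a (D.p m) w * D.r w) := by rw [D.conj_t, hm.2]; rfl
    _ = D.τ m * (D.t * D.a (D.p m) w) * D.r w := by group
    _ = D.τ m * (D.a (D.p m) w * D.t) * D.r w := by rw [D.Qt (D.aQ _ _)]
    _ = _ := by group

theorem Y1_y_surj (w : F3) {q : G} (hq : q ∈ D.Q) : ∃ m ∈ D.Y1, m * D.y w * m⁻¹ = D.y w * q := by
  obtain ⟨m, hm, h⟩ := D.τ_surj (P := ⊤) (fun _ => mem_top _) (mul_mem hq (D.aQ (D.π q) w))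
  have hm := (mem_inf.1 hm).1
  refine ⟨m, hm, ?_⟩
  have h1 : D.p m = D.π q := by
    change D.π (D.τ m) = _
    rw [h, D.πmul _ hq _ (D.aQ _ _), D.π_a, add_zero]
  rw [D.Y1_y hm, h, h1, mul_assoc q, D.QQ _ (D.aQ _ _), mul_one, D.yQ w q hq]

section Card

variable [Finite G]

omit [Finite G] in
theorem card_Y1 : Nat.card D.Y1 = 4096 := by
  let f : D.Y1 →* D.Q := MonoidHom.mk' (fun m => ⟨D.τ m, m.2.1.2⟩) (fun m n => Subtype.ext (D.τ_mul m.2.1.1 n.2.1.2))
  have h1 : f.ker = D.Q.subgroupOf D.Y1 := by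
    ext m
    rw [MonoidHom.mem_ker, mem_subgroupOf]
    constructor
    · intro h
      exact D.mem_Q_of_τ m.2 (congrArg Subtype.val h)
    · intro h
      exact Subtype.ext (D.τ_q h)
  have h2 : f.range = ⊤ := by
    rw [MonoidHom.range_eq_top]
    rintro ⟨q, hq⟩
    obtain ⟨n, hn, h⟩ := D.τ_surj (P := ⊤) (fun _ => mem_top _) hq
    exact ⟨⟨n, (mem_inf.1 hn).1⟩, Subtype.ext h⟩
  have h3 : Nat.card f.ker * Nat.card f.range = Nat.card D.Y1 := by
    rw [← index_ker, card_mul_index]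
  rw [h1, h2, card_sub_eq (fun q hq => D.QY hq), card_top, D.cardQ] at h3
  exact h3.symm

theorem card_F3 : Nat.card (Multiplicative F3) = 8 := by
  rw [Nat.card_eq_fintype_card]
  rfl

theorem card_Z : Nat.card D.Z = 512 := by
  let f : D.Y1 →* Multiplicative F3 := MonoidHom.mk' (fun m => Multiplicative.ofAdd (D.p m))
    (fun m n => congrArg Multiplicative.ofAdd (D.p_mul m.2.1 n.2.1))
  have hZY : D.Z ≤ D.Y1 := fun z hz => hz.1
  have h1 : f.ker = D.Z.subgroupOf D.Y1 := by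
    ext m
    rw [MonoidHom.mem_ker, mem_subgroupOf]
    constructor
    · intro h
      exact ⟨m.2, Multiplicative.ofAdd.injective h⟩
    · intro h
      exact congrArg Multiplicative.ofAdd h.2
  have h2 : f.range = ⊤ := by
    rw [MonoidHom.range_eq_top]
    intro w
    exact ⟨⟨D.r (Multiplicative.toAdd w), D.rY _⟩, congrArg Multiplicative.ofAdd (D.p_r _)⟩
  have h3 : Nat.card f.ker * Nat.card f.range = Nat.card D.Y1 := by
    rw [← index_ker, card_mul_index]
  rw [h1, h2, card_sub_eq hZY, card_top, card_F3, D.card_Y1] at h3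
  omega

end Card

/-! ### the action of `N_L(Q)` -/

theorem norm_Q {n q : G} (hn : n ∈ normalizer (D.Q : Set G)) (hq : q ∈ D.Q) : n * q * n⁻¹ ∈ D.Q :=
  (mem_normalizer_iff.1 hn q).1 hq

theorem norm_Q' {n q : G} (hn : n ∈ normalizer (D.Q : Set G)) (hq : q ∈ D.Q) : n⁻¹ * q * n ∈ D.Q :=
  (mem_normalizer_iff''.1 hn q).1 hq

theorem norm_M {n m : G} (hn : n ∈ normalizer (D.Q : Set G)) (hm : m ∈ D.M) : n * m * n⁻¹ ∈ D.M := by
  rw [D.mem_M] at hm ⊢
  intro q hq
  have h := hm _ (D.norm_Q' hn hq)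
  calc q * (n * m * n⁻¹) = n * (n⁻¹ * q * n * m) * n⁻¹ := by group
    _ = n * m * n⁻¹ * q := by rw [h]; group

theorem norm_τ {n : G} (hn : n ∈ D.L) (m : G) : D.τ (n * m * n⁻¹) = n * D.τ m * n⁻¹ := by
  have h1 := D.Lt hn
  have h2 := D.Lt (inv_mem hn)
  unfold τ
  calc n * m * n⁻¹ * D.t * (n * m * n⁻¹)⁻¹ * D.t = n * m * (n⁻¹ * D.t) * n * m⁻¹ * (n⁻¹ * D.t) := by group
    _ = n * m * (D.t * n⁻¹) * n * m⁻¹ * (D.t * n⁻¹) := by rw [h2]
    _ = n * (m * D.t * m⁻¹ * D.t) * n⁻¹ := by group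

/-- `n` acts on `W` as `σ` -/
def Acts (n : G) (σ : F3 ≃+ F3) : Prop := n ∈ D.L ∧ n ∈ normalizer (D.Q : Set G) ∧ ∀ w, n * D.b w * n⁻¹ = D.b (σ w)

theorem acts_π {n : G} {σ : F3 ≃+ F3} (h : D.Acts n σ) {q : G} (hq : q ∈ D.Q) : D.π (n * q * n⁻¹) = σ (D.π q) := by
  let K : Subgroup G :=
    { carrier := {q | q ∈ D.Q ∧ D.π (n * q * n⁻¹) = σ (D.π q)}
      one_mem' := ⟨one_mem _, by
        have : n * 1 * n⁻¹ = 1 := by group
        rw [this, D.π_one, map_zero]⟩
      mul_mem' := by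
        rintro x z ⟨hx, hx1⟩ ⟨hz, hz1⟩
        refine ⟨mul_mem hx hz, ?_⟩
        have h1 : n * (x * z) * n⁻¹ = (n * x * n⁻¹) * (n * z * n⁻¹) := by group
        rw [h1, D.πmul _ (D.norm_Q h.2.1 hx) _ (D.norm_Q h.2.1 hz), hx1, hz1, D.πmul _ hx _ hz, map_add]
      inv_mem' := by
        rintro x ⟨hx, hx1⟩
        rw [D.q_inv hx]
        exact ⟨hx, hx1⟩ }
  have h1 : D.Q ≤ K := D.gen K fun w => ⟨D.bQ w, by rw [h.2.2, D.πb, D.πb]⟩
  exact (h1 hq).2

theorem acts_y {n : G} {σ : F3 ≃+ F3} (h : D.Acts n σ) (w : F3) : ∃ q ∈ D.Q, n * D.y w * n⁻¹ = D.y (σ w) * q := by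
  obtain ⟨σ', h1, h2⟩ := D.act n h.1 h.2.1
  have h3 : ∀ w, σ' w = σ w := by
    intro w
    rw [← D.πb (σ' w), ← D.πb (σ w), ← h1, ← h.2.2]
  obtain ⟨q, hq, h4⟩ := h2 w
  rw [h3] at h4
  exact ⟨q, hq, h4⟩

theorem acts_r {n : G} {σ : F3 ≃+ F3} (h : D.Acts n σ) (w : F3) : ∃ q ∈ D.Q, n * D.r w * n⁻¹ = D.r (σ w) * q := by
  obtain ⟨q, hq, h1⟩ := D.acts_y h w
  refine ⟨q, hq, ?_⟩
  unfold r
  calc n * (D.t * D.y w) * n⁻¹ = (n * D.t) * n⁻¹ * (n * D.y w * n⁻¹) := by group
    _ = (D.t * n) * n⁻¹ * (D.y (σ w) * q) := by rw [D.Lt h.1, h1]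
    _ = D.t * D.y (σ w) * q := by group

theorem exists_acts {n : G} (hn : n ∈ D.L) (hnQ : n ∈ normalizer (D.Q : Set G)) : ∃ σ, D.Acts n σ := by
  obtain ⟨σ, h1, -⟩ := D.act n hn hnQ
  exact ⟨σ, hn, hnQ, h1⟩

theorem acts_Y1 {n : G} {σ : F3 ≃+ F3} (h : D.Acts n σ) {m : G} (hm : m ∈ D.Y1) : n * m * n⁻¹ ∈ D.Y1 := by
  have h1 : D.Y1 ≤ D.Y1.comap (MulAut.conj n).toMonoidHom := by
    apply D.Y1_le
    · intro q hq
      exact D.QY (D.norm_Q h.2.1 hq)
    · intro w
      obtain ⟨q, hq, h2⟩ := D.acts_r h w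
      change n * D.r w * n⁻¹ ∈ D.Y1
      rw [h2]
      exact mul_mem (D.rY _) (D.QY hq)
  exact h1 hm

theorem acts_p {n : G} {σ : F3 ≃+ F3} (h : D.Acts n σ) {m : G} (hm : m ∈ D.O) : D.p (n * m * n⁻¹) = σ (D.p m) := by
  unfold p
  rw [D.norm_τ h.1, D.acts_π h hm.2]

theorem norm_Y1 [Finite G] {n : G} (hn : n ∈ D.L) (hnQ : n ∈ normalizer (D.Q : Set G)) :
    n ∈ normalizer (D.Y1 : Set G) := by
  obtain ⟨σ, h⟩ := D.exists_acts hn hnQ
  rw [mem_normalizer_iff]
  exact conj_mem_iff_of_le fun m hm => D.acts_Y1 h hm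

/-- an involution of `N_L(Q)` acting as a given involution on `W` -/
theorem exists_inv (σ : F3 ≃+ F3) (hσ : ∀ w, σ (σ w) = w) : ∃ n, D.Acts n σ ∧ n * n = 1 := by
  obtain ⟨n, hn, hnQ, h⟩ := D.wit σ
  have h1 : n * n ∈ D.Q := by
    apply D.CQ _ (mul_mem hn hn)
    let K : Subgroup G := centralizer ({n * n} : Set G)
    have h2 : D.Q ≤ K := D.gen K fun w => by
      rw [mem_centralizer_singleton_iff]
      have h3 : n * n * D.b w * (n * n)⁻¹ = D.b w := by
        calc n * n * D.b w * (n * n)⁻¹ = n * (n * D.b w * n⁻¹) * n⁻¹ := by group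
          _ = D.b w := by rw [h, h, hσ]
      exact (mul_inv_eq_iff_eq_mul.1 h3).symm
    intro q hq
    exact (mem_centralizer_singleton_iff.1 (h2 hq)).symm
  obtain ⟨q, hq, h2⟩ := D.lift n hn hnQ h1
  refine ⟨n * q, ⟨mul_mem hn (D.QL hq), mul_mem hnQ (le_normalizer hq), fun w => ?_⟩, h2⟩
  rw [← h]
  calc n * q * D.b w * (n * q)⁻¹ = n * (q * D.b w) * q⁻¹ * n⁻¹ := by group
    _ = n * (D.b w * q) * q⁻¹ * n⁻¹ := by rw [D.qc hq (D.bQ w)]
    _ = n * D.b w * n⁻¹ := by group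

/-- a subgroup of index at most two contains the quotient of two elements outside -/
theorem mem_of_index {R M : Subgroup G} [Finite G] (hM : M ≤ R) (h : Nat.card R ≤ 2 * Nat.card M) {x z : G}
    (hx : x ∈ R) (hz : z ∈ R) (hxM : x ∉ M) (hzM : z ∉ M) : x⁻¹ * z ∈ M := by
  by_contra hcon
  have h1 : Nat.card (M × Fin 3) ≤ Nat.card R := by
    refine Nat.card_le_card_of_injective
      (fun q : M × Fin 3 => (⟨(![1, x, z] q.2) * (q.1 : G), ?_⟩ : R)) ?_
    · apply mul_mem _ (hM q.1.2)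
      rcases q with ⟨-, i⟩
      fin_cases i
      · exact one_mem _
      · exact hx
      · exact hz
    · rintro ⟨u, i⟩ ⟨v, j⟩ h2
      have h3 : (![1, x, z] i) * (u : G) = (![1, x, z] j) * (v : G) := congrArg (Subtype.val : R → G) h2
      have key : ∀ g h : G, ∀ u v : M, g * (u : G) = h * v → g⁻¹ * h ∈ M := by
        intro g h u v he
        have : g⁻¹ * h = u * (v : G)⁻¹ := by
          rw [eq_mul_inv_iff_mul_eq, mul_assoc, ← he, inv_mul_cancel_left]
        rw [this]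
        exact mul_mem u.2 (inv_mem v.2)
      have h4 := key _ _ _ _ h3
      have h5 := key _ _ _ _ h3.symm
      have hij : i = j := by
        fin_cases i <;> fin_cases j
        · rfl
        · exfalso; apply hxM
          simpa using h4
        · exfalso; apply hzM
          simpa using h4
        · exfalso; apply hxM
          simpa using h5
        · rfl
        · exfalso; apply hcon
          simpa using h4
        · exfalso; apply hzM
          simpa using h5
        · exfalso; apply hcon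
          simpa using h5
        · rfl
      subst hij
      have h6 := mul_left_cancel h3
      rw [Subtype.ext h6]
  rw [Nat.card_prod] at h1
  have h2 : Nat.card (Fin 3) = 3 := by simp
  rw [h2] at h1
  have h3 : 0 < Nat.card M := Nat.card_pos
  omega

/-- **Case I** is impossible -/
theorem false_of_I [Finite G] (hy : ∀ w, w ≠ 0 → ∀ g, D.y w ≠ g * D.t * g⁻¹) : False := by
  let R : RData G :=
    { toCore := D.toCore
      Z := D.Z
      R := D.Y1
      QZ := fun q hq => D.QZ hq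
      ZR := fun z hz => hz.1
      ZZ := fun z hz => D.ZZ hz
      cardZ := D.card_Z
      Zc := fun z hz m hm => D.Z_comm hz hm
      tR := fun m hm => D.tY hm
      NR := fun n hn hnQ => D.norm_Y1 hn hnQ
      RQ := fun m hm h => by
        apply D.mem_Q_of_τ hm
        unfold τ
        rw [h, mul_inv_cancel_right, D.tt]
      conjR := by
        rintro n hn ⟨g, hg⟩
        obtain ⟨q, hq, h1⟩ := D.inv_tY hn (by rw [hg]; exact D.conj_inv_t g)
        obtain ⟨m, hm, h2⟩ := D.Y1_y_surj (D.p n) hq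
        by_cases h0 : D.p n = 0
        · refine ⟨m, hm, ?_⟩
          rw [h1, ← h2, h0, D.y0]
        · exfalso
          apply hy _ h0 (m⁻¹ * g)
          have h3 : m⁻¹ * g * D.t * (m⁻¹ * g)⁻¹ = m⁻¹ * (g * D.t * g⁻¹) * m := by group
          rw [h3, ← hg, h1, ← h2]
          group
      cen2 := by
        intro e he M hM hc hcom
        refine ⟨he, ?_⟩
        by_contra hp
        -- an element of `M` with `p ∉ {0, p e}`
        have h1 : ∀ m ∈ M, D.p m = 0 ∨ D.p m = D.p e := by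
          intro m hm
          have h2 := D.Y1_comm he (hM hm)
          rw [hcom m hm, mul_inv_cancel_right] at h2
          have h3 := mul_eq_right.1 h2.symm
          rcases D.a_eq_one h3 with h4 | h4 | h4
          · exact absurd h4 hp
          · exact Or.inl h4
          · exact Or.inr h4.symm
        have h2 : ∀ p : F3, p ≠ 0 → ∃ v w : F3, v ≠ 0 ∧ v ≠ p ∧ w ≠ 0 ∧ w ≠ p ∧ v + w ≠ 0 ∧ v + w ≠ p := by decide +kernel
        obtain ⟨v, w, h3, h4, h5, h6, h7, h8⟩ := h2 _ hp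
        have hv : D.r v ∉ M := fun h => by
          have := h1 _ h
          rw [D.p_r] at this
          (clear * - G D e v h3 h4 this; tauto)
        have hw : D.r w ∉ M := fun h => by
          have := h1 _ h
          rw [D.p_r] at this
          (clear * - G D e w h5 h6 this; tauto)
        have h9 := h1 _ (mem_of_index hM hc (D.rY v) (D.rY w) hv hw)
        rw [D.p_mul (inv_mem (D.rO v)) (D.rO w), D.p_inv (D.rO v), D.p_r, D.p_r] at h9
        (clear * - G D e v w h7 h8 h9; tauto)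
      sqR := fun m hm => by rw [D.Y1_sq hm]; exact D.QZ (D.bQ _)
      size := Or.inr ⟨by rw [D.card_Y1]; norm_num, fun m hm h => D.mem_Z_of_sq hm h⟩ }
  obtain ⟨n, hn, hnn⟩ := D.exists_inv (tv (1, 0, 0) (0, 1, 0) (by decide)) (by
    intro w
    rw [tv_apply, tv_apply]
    revert w
    decide)
  refine R.false_of_triv ?_ hn.1 hn.2.1 hnn (D.rY (1, 0, 0)) ?_
  · intro m hm
    change D.t * m * D.t * m⁻¹ ∈ D.Z
    rw [D.t_conj' hm.1, mul_inv_cancel_right]
    exact D.QZ hm.1.2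
  · intro h
    have h1 := h.2
    rw [D.p_mul (D.acts_Y1 hn (D.rY _)).1 (inv_mem (D.rO _)), D.acts_p hn (D.rO _), D.p_inv (D.rO _), D.p_r,
      tv_apply] at h1
    revert h1
    decide

end WData

end Cfsg.Agent.StdSpSix.Eps
end

-- part: StdSpSix/EpsII
section
/-!
# Case II: all `y w` are conjugate to `t`

`N₀ = {g ∈ C_G(Q) : y x ^ g ∈ y (x + c) Q}` has order `2¹⁶`, `R = C_{N₀}(Z)` has order `2¹⁵`, `N₀ = R⟨t⟩`.
-/

set_option autoImplicit false
set_option synthInstance.maxSize 2000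

namespace Cfsg.Agent.StdSpSix.Eps

open Subgroup
open Cfsg.Agent.StdSpSix.QLevel (card_le_two_mul card_sub_eq inv_of_sq comm_of_sq mem_inf_cent card_le_sq)
open Cfsg.Agent.StdSpSix.QLevel.Data (card_conj_of_iff mem_map_conj conj_mem_iff_of_le)
open Cfsg.Agent.StdSpSix.RLevel

namespace WData

variable {G : Type*} [Group G] (D : WData G)

theorem O_y {m : G} (hm : m ∈ D.O) (w : F3) : ∃ q ∈ D.Q, m * D.y w * m⁻¹ = D.y w * q := by
  have key : ∀ n ∈ D.Y1, ∃ q ∈ D.Q, n * D.y w * n⁻¹ = D.y w * q := by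
    intro n hn
    refine ⟨_, mul_mem hn.1.2 (D.aQ (D.p n) w), ?_⟩
    rw [D.Y1_y hn, D.yQ w _ (mul_mem hn.1.2 (D.aQ (D.p n) w))]
  rcases D.Y1_or hm with h | h
  · exact key m h
  · obtain ⟨q, hq, h1⟩ := key _ h
    refine ⟨D.b w * q, mul_mem (D.bQ w) hq, ?_⟩
    calc m * D.y w * m⁻¹ = (D.t * D.t) * m * D.y w * m⁻¹ * (D.t * D.t)⁻¹ := by rw [D.tt]; group
      _ = D.t * (D.t * m * D.y w * (D.t * m)⁻¹) * D.t⁻¹ := by group
      _ = D.t * D.y w * (q * D.t) := by rw [h1, D.t_inv]; group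
      _ = D.b w * (D.y w * D.t) * (D.t * q) := by rw [D.Qt hq, D.t_y]
      _ = D.b w * D.y w * (D.t * D.t) * q := by group
      _ = D.y w * (D.b w * q) := by rw [D.tt, D.yQ w _ (D.bQ w)]; group

/-- the cosets `y w Q` are different -/
theorem p_y (w : F3) {q : G} (hq : q ∈ D.Q) : D.p (D.t * (D.y w * q)) = w := by
  rw [← mul_assoc]
  change D.p (D.r w * q) = w
  rw [D.p_mul (D.rO w) (D.QO hq), D.p_r, D.p_q hq, add_zero]

/-- `D ∩ O` -/
theorem DO [Finite G] {g : G} (h : g * D.t * g⁻¹ ∈ D.O) : ∃ x, ∃ q ∈ D.Q, g * D.t * g⁻¹ = D.y x * q := by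
  rcases D.Y1_or h with h1 | h1
  · exfalso
    exact D.false_of_cent (fun z hz => D.ZZ hz) D.card_Z g (fun z hz => D.Z_comm hz h1)
  · have h2 : D.t * (D.t * (g * D.t * g⁻¹)) = g * D.t * g⁻¹ := by rw [← mul_assoc, D.tt, one_mul]
    obtain ⟨q, hq, h3⟩ := D.inv_tY h1 (by rw [h2]; exact D.conj_inv_t g)
    rw [h2] at h3
    exact ⟨_, q, hq, h3⟩

/-- all `y w` are in `D` -/
theorem all_y (h : ∃ w, w ≠ 0 ∧ ∃ g, D.y w = g * D.t * g⁻¹) (w : F3) : ∃ g, D.y w = g * D.t * g⁻¹ := by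
  by_cases hw : w = 0
  · refine ⟨1, ?_⟩
    rw [hw, D.y0]; group
  · obtain ⟨w0, hw0, g, hg⟩ := h
    have h1 : ∀ u v : F3, u ≠ 0 → v ≠ 0 → ∃ k : F3, dot k u = 1 ∧ dot k (u + v) = 0 := by decide +kernel
    obtain ⟨k, h2, h3⟩ := h1 w0 w hw0 hw
    obtain ⟨n, hn, hnQ, h4⟩ := D.wit (tv k (w0 + w) h3)
    obtain ⟨q, hq, h5⟩ := D.acts_y (σ := tv k (w0 + w) h3) ⟨hn, hnQ, h4⟩ w0
    rw [tv_apply, h2, one_smul, F3.add_add_self] at h5
    obtain ⟨m, -, h6⟩ := D.Y1_y_surj w hq
    refine ⟨m⁻¹ * n * g, ?_⟩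
    calc D.y w = m⁻¹ * (m * D.y w * m⁻¹) * m := by group
      _ = m⁻¹ * (n * D.y w0 * n⁻¹) * m := by rw [h6, h5]
      _ = _ := by rw [hg]; group

/-! ### `N₀` -/

/-- `N₀` -/
def N0 : Subgroup G where
  carrier := {g | g ∈ D.M ∧ ∃ c, ∀ x, ∃ q ∈ D.Q, g * D.y x * g⁻¹ = D.y (x + c) * q}
  one_mem' := ⟨one_mem _, 0, fun x => ⟨1, one_mem _, by rw [add_zero]; group⟩⟩
  mul_mem' := by
    rintro g h ⟨hg, c, hg1⟩ ⟨hh, d, hh1⟩
    refine ⟨mul_mem hg hh, c + d, fun x => ?_⟩
    obtain ⟨q, hq, h1⟩ := hh1 x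
    obtain ⟨q', hq', h2⟩ := hg1 (x + d)
    refine ⟨q' * q, mul_mem hq' hq, ?_⟩
    have h3 := D.conj_q hg hq
    calc g * h * D.y x * (g * h)⁻¹ = g * (h * D.y x * h⁻¹) * g⁻¹ := by group
      _ = (g * D.y (x + d) * g⁻¹) * (g * q * g⁻¹) := by rw [h1]; group
      _ = _ := by rw [h2, h3, add_assoc, add_comm d c]; group
  inv_mem' := by
    rintro g ⟨hg, c, hg1⟩
    refine ⟨inv_mem hg, c, fun x => ?_⟩
    obtain ⟨q, hq, h1⟩ := hg1 (x + c)
    rw [add_assoc, F3.add_self, add_zero] at h1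
    refine ⟨q⁻¹, inv_mem hq, ?_⟩
    have h3 := D.conj_q (inv_mem hg) (inv_mem hq)
    rw [inv_inv] at h3 ⊢
    have h4 : D.y x = (g * D.y (x + c) * g⁻¹) * q⁻¹ := by rw [h1]; group
    calc g⁻¹ * D.y x * g = D.y (x + c) * (g⁻¹ * q⁻¹ * g) := by rw [h4]; group
      _ = _ := by rw [h3]

/-- the translation part -/
def cc (g : G) : F3 := D.p (D.t * (g * D.t * g⁻¹))

theorem cc_eq {g q : G} {c : F3} (hq : q ∈ D.Q) (h : g * D.t * g⁻¹ = D.y c * q) : D.cc g = c := by
  unfold cc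
  rw [h, D.p_y c hq]

theorem N0_y {g : G} (hg : g ∈ D.N0) (x : F3) : ∃ q ∈ D.Q, g * D.y x * g⁻¹ = D.y (x + D.cc g) * q := by
  obtain ⟨hg1, c, h⟩ := hg
  obtain ⟨q, hq, h1⟩ := h 0
  rw [D.y0, zero_add] at h1
  rw [D.cc_eq hq h1]
  exact h x

theorem N0_t {g : G} (hg : g ∈ D.N0) : ∃ q ∈ D.Q, g * D.t * g⁻¹ = D.y (D.cc g) * q := by
  have := D.N0_y hg 0
  rwa [D.y0, zero_add] at this

theorem cc_mul {g h : G} (hg : g ∈ D.N0) (hh : h ∈ D.N0) : D.cc (g * h) = D.cc g + D.cc h := by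
  obtain ⟨q, hq, h1⟩ := D.N0_t hh
  obtain ⟨q', hq', h2⟩ := D.N0_y hg (D.cc h)
  apply D.cc_eq (mul_mem hq' hq)
  have h3 := D.conj_q hg.1 hq
  calc g * h * D.t * (g * h)⁻¹ = g * (h * D.t * h⁻¹) * g⁻¹ := by group
    _ = (g * D.y (D.cc h) * g⁻¹) * (g * q * g⁻¹) := by rw [h1]; group
    _ = _ := by rw [h2, h3, add_comm (D.cc h)]; group

theorem cc_one : D.cc 1 = 0 := D.cc_eq (one_mem _) (by rw [D.y0]; group)

theorem cc_inv {g : G} (hg : g ∈ D.N0) : D.cc g⁻¹ = D.cc g := by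
  have h := D.cc_mul hg (inv_mem hg)
  rw [mul_inv_cancel, D.cc_one] at h
  exact (F3.eq_of_add h.symm).symm

theorem O_N0 {m : G} (hm : m ∈ D.O) : m ∈ D.N0 :=
  ⟨hm.1, 0, fun x => by rw [add_zero]; exact D.O_y hm x⟩

theorem cc_O {m : G} (hm : m ∈ D.O) : D.cc m = 0 := by
  obtain ⟨q, hq, h⟩ := D.O_y hm 0
  apply D.cc_eq hq
  rw [← h, D.y0]

theorem O_of_cc {g : G} (hg : g ∈ D.N0) (h : D.cc g = 0) : g ∈ D.O := by
  refine ⟨hg.1, ?_⟩
  obtain ⟨q, hq, h1⟩ := D.N0_t hg
  rw [h, D.y0, D.conj_t, ← D.Qt hq] at h1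
  rw [mul_right_cancel h1]
  exact hq

theorem N0_r {g : G} (hg : g ∈ D.N0) (x : F3) : g * D.r x * g⁻¹ ∈ D.Y1 := by
  obtain ⟨q, hq, h1⟩ := D.N0_t hg
  obtain ⟨q', hq', h2⟩ := D.N0_y hg x
  have h3 : g * D.r x * g⁻¹ = (D.r (D.cc g))⁻¹ * D.r (x + D.cc g) * (q * q') := by
    unfold r
    rw [mul_inv_rev, D.y_inv, D.t_inv]
    calc g * (D.t * D.y x) * g⁻¹ = (g * D.t * g⁻¹) * (g * D.y x * g⁻¹) := by group
      _ = D.y (D.cc g) * q * (D.y (x + D.cc g) * q') := by rw [h1, h2]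
      _ = D.y (D.cc g) * (q * D.y (x + D.cc g)) * q' := by group
      _ = D.y (D.cc g) * (D.y (x + D.cc g) * q) * q' := by rw [D.yQ _ q hq]
      _ = D.y (D.cc g) * (1 : G) * D.y (x + D.cc g) * (q * q') := by group
      _ = D.y (D.cc g) * (D.t * D.t) * D.y (x + D.cc g) * (q * q') := by rw [D.tt]
      _ = _ := by group
  rw [h3]
  exact mul_mem (mul_mem (inv_mem (D.rY _)) (D.rY _)) (D.QY (mul_mem hq hq'))

theorem N0_Y1 {g : G} (hg : g ∈ D.N0) {m : G} (hm : m ∈ D.Y1) : g * m * g⁻¹ ∈ D.Y1 := by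
  have h1 : D.Y1 ≤ D.Y1.comap (MulAut.conj g).toMonoidHom := by
    apply D.Y1_le
    · intro q hq
      change g * q * g⁻¹ ∈ D.Y1
      rw [D.conj_q hg.1 hq]
      exact D.QY hq
    · intro w
      exact D.N0_r hg w
  exact h1 hm

theorem N0_τ {g : G} (hg : g ∈ D.N0) {m : G} (hm : m ∈ D.Y1) : D.τ (g * m * g⁻¹) = D.τ m * D.a (D.p m) (D.cc g) := by
  obtain ⟨q, hq, h1⟩ := D.N0_t (inv_mem hg)
  rw [inv_inv, D.cc_inv hg] at h1
  -- `m t' m⁻¹ = τ m a t'`, `t' = g⁻¹ t g`
  have h2 : m * (g⁻¹ * D.t * g) * m⁻¹ = D.τ m * D.a (D.p m) (D.cc g) * (g⁻¹ * D.t * g) := by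
    rw [h1]
    calc m * (D.y (D.cc g) * q) * m⁻¹ = (m * D.y (D.cc g) * m⁻¹) * (m * q * m⁻¹) := by group
      _ = _ := by rw [D.Y1_y hm, D.conj_q hm.1.1 hq]; group
  have h3 := D.conj_q hg.1 (mul_mem hm.1.2 (D.aQ (D.p m) (D.cc g)))
  unfold τ at h2 h3 ⊢
  calc g * m * g⁻¹ * D.t * (g * m * g⁻¹)⁻¹ * D.t = g * (m * (g⁻¹ * D.t * g) * m⁻¹) * g⁻¹ * D.t := by group
    _ = g * (m * D.t * m⁻¹ * D.t * D.a (D.p m) (D.cc g) * (g⁻¹ * D.t * g)) * g⁻¹ * D.t := by rw [h2]
    _ = (g * (m * D.t * m⁻¹ * D.t * D.a (D.p m) (D.cc g)) * g⁻¹) * (D.t * D.t) := by group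
    _ = _ := by rw [h3, D.tt, mul_one]

/-! ### the action on `Z` -/

/-- `β_g` -/
def be (g z : G) : G := g * z * g⁻¹ * z⁻¹

theorem conj_be (g z : G) : g * z * g⁻¹ = be g z * z := by unfold be; group

theorem be_mem {g z : G} (hg : g ∈ D.N0) (hz : z ∈ D.Z) : be g z ∈ D.Q := by
  have h1 : be g z ∈ D.Y1 := mul_mem (D.N0_Y1 hg hz.1) (inv_mem hz.1)
  apply D.mem_Q_of_τ h1
  unfold be
  rw [D.τ_mul (D.N0_Y1 hg hz.1).1.1 (inv_mem hz.1).1.2, D.τ_inv hz.1.1.1 hz.1.1.2, D.N0_τ hg hz.1, hz.2, D.zero_a,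
    mul_one, D.QQ _ hz.1.1.2]

theorem be_mul_left {g h z : G} (hg : g ∈ D.N0) (hh : h ∈ D.N0) (hz : z ∈ D.Z) :
    be (g * h) z = be g z * be h z := by
  have h1 := D.conj_q hg.1 (D.be_mem hh hz)
  rw [D.qc (D.be_mem hg hz) (D.be_mem hh hz)]
  calc be (g * h) z = g * (h * z * h⁻¹) * g⁻¹ * z⁻¹ := by unfold be; group
    _ = (g * be h z * g⁻¹) * (g * z * g⁻¹ * z⁻¹) := by rw [conj_be h z]; group
    _ = _ := by rw [h1]; rfl

theorem be_mul_right {g z z' : G} (hg : g ∈ D.N0) (hz : z ∈ D.Z) (hz' : z' ∈ D.Z) :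
    be g (z * z') = be g z * be g z' := by
  have h1 := D.mem_M.1 hz.1.1.1 _ (D.be_mem hg hz')
  calc be g (z * z') = (g * z * g⁻¹) * (g * z' * g⁻¹) * z'⁻¹ * z⁻¹ := by unfold be; group
    _ = be g z * (z * be g z') * z⁻¹ := by rw [conj_be g z, conj_be g z']; group
    _ = be g z * be g z' := by rw [← h1]; group

theorem be_q {g q : G} (hg : g ∈ D.N0) (hq : q ∈ D.Q) : be g q = 1 := by
  unfold be
  rw [D.conj_q hg.1 hq, mul_inv_cancel]

theorem be_eq_of_τ {g z z' : G} (hg : g ∈ D.N0) (hz : z ∈ D.Z) (hz' : z' ∈ D.Z) (h : D.τ z = D.τ z') :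
    be g z = be g z' := by
  have h1 : z⁻¹ * z' ∈ D.Q := by
    apply D.mem_Q_of_τ (mul_mem (inv_mem hz.1) hz'.1)
    rw [D.τ_mul (inv_mem hz.1.1.1) hz'.1.1.2, D.τ_inv hz.1.1.1 hz.1.1.2, h, D.QQ _ hz'.1.1.2]
  have h2 := D.be_mul_right hg hz (D.QZ h1)
  rw [mul_inv_cancel_left, D.be_q hg h1, mul_one] at h2
  exact h2.symm

theorem be_t {z : G} (hz : z ∈ D.Z) : be D.t z = D.τ z := by
  unfold be
  rw [D.t_inv, D.t_conj' hz.1.1, mul_inv_cancel_right]

theorem be_Y1 {m z : G} (hm : m ∈ D.Y1) (hz : z ∈ D.Z) : be m z = 1 := by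
  unfold be
  rw [← D.Z_comm hz hm, mul_inv_cancel_right, mul_inv_cancel]

/-- the alternative for elements of `O` -/
theorem be_O {m : G} (hm : m ∈ D.O) : (∀ z ∈ D.Z, be m z = 1) ∨ (∀ z ∈ D.Z, be m z = D.τ z) := by
  rcases D.Y1_or hm with h | h
  · exact Or.inl fun z hz => D.be_Y1 h hz
  · right
    intro z hz
    have h1 := D.be_mul_left (D.O_N0 D.tO) (D.O_N0 hm) hz
    rw [D.be_Y1 h hz, D.be_t hz] at h1
    have h2 := eq_inv_of_mul_eq_one_right h1.symm
    rw [h2, D.q_inv hz.1.1.2]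

theorem mem_Z_of_τ {m : G} (hm : m ∈ D.Y1) {u v : F3} (h : D.τ m = D.a u v) : m ∈ D.Z := by
  refine ⟨hm, ?_⟩
  change D.π _ = 0
  rw [h, D.π_a]

/-- elements of `Z` above `a u v` -/
theorem exists_z (u v : F3) : ∃ z ∈ D.Z, D.τ z = D.a u v := by
  obtain ⟨z, hz, h⟩ := D.τ_surj (P := ⊤) (fun _ => mem_top _) (D.aQ u v)
  exact ⟨z, D.mem_Z_of_τ (mem_inf.1 hz).1 h, h⟩

/-- `[g, m]`, `m ∈ Y₁` -/
theorem ga_mem {g m : G} (hg : g ∈ D.N0) (hm : m ∈ D.Y1) :
    be g m ∈ D.Z ∧ D.τ (be g m) = D.a (D.p m) (D.cc g) := by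
  have h1 : be g m ∈ D.Y1 := mul_mem (D.N0_Y1 hg hm) (inv_mem hm)
  have h2 : D.τ (be g m) = D.a (D.p m) (D.cc g) := by
    unfold be
    rw [D.τ_mul (D.N0_Y1 hg hm).1.1 (inv_mem hm).1.2, D.τ_inv hm.1.1 hm.1.2, D.N0_τ hg hm,
      D.qc hm.1.2 (D.aQ _ _), mul_assoc, D.QQ _ hm.1.2, mul_one]
  exact ⟨D.mem_Z_of_τ h1 h2, h2⟩

theorem gg_conj {g m : G} (hg : g ∈ D.N0) (hm : m ∈ D.Y1) : g * g * m * (g * g)⁻¹ = be g (be g m) * m := by
  have h1 := D.ga_mem hg hm
  calc g * g * m * (g * g)⁻¹ = g * (g * m * g⁻¹) * g⁻¹ := by group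
    _ = g * (be g m * m) * g⁻¹ := by rw [conj_be g m]
    _ = (g * be g m * g⁻¹) * (g * m * g⁻¹) := by group
    _ = be g (be g m) * be g m * (be g m * m) := by rw [conj_be g (be g m), conj_be g m]
    _ = be g (be g m) * (be g m * be g m) * m := by group
    _ = _ := by rw [D.ZZ h1.1, mul_one]

/-- an element of `Z` not centralised by `t` -/
theorem exists_ne : ∃ z ∈ D.Z, D.τ z ≠ 1 := by
  obtain ⟨z, hz, h⟩ := D.exists_z (1, 0, 0) (0, 1, 0)
  refine ⟨z, hz, ?_⟩
  rw [h]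
  intro h1
  have := D.a_eq_one h1
  revert this
  decide

theorem gg_O {g : G} (hg : g ∈ D.N0) : g * g ∈ D.O := by
  apply D.O_of_cc (mul_mem hg hg)
  rw [D.cc_mul hg hg, F3.add_self]

theorem gg_Y1 {g : G} (hg : g ∈ D.N0) : g * g ∈ D.Y1 := by
  rcases D.Y1_or (D.gg_O hg) with h | h
  · exact h
  · exfalso
    obtain ⟨z, hz, h1⟩ := D.exists_ne
    have h2 := D.gg_conj hg hz.1
    rw [D.be_q hg (D.be_mem hg hz), one_mul] at h2
    have h3 : be (g * g) z = 1 := by
      unfold be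
      rw [h2, mul_inv_cancel]
    have h4 := D.be_mul_left (D.O_N0 D.tO) (D.O_N0 (D.gg_O hg)) hz
    rw [D.be_Y1 h hz, D.be_t hz, h3, mul_one] at h4
    exact h1 h4.symm

/-- `β_g (a c x) = a s x`, `s = p (g²)` -/
theorem be_ac {g z : G} (hg : g ∈ D.N0) (hz : z ∈ D.Z) {x : F3} (h : D.τ z = D.a x (D.cc g)) :
    be g z = D.a (D.p (g * g)) x := by
  have h1 := D.ga_mem hg (D.rY x)
  rw [D.p_r] at h1
  rw [D.be_eq_of_τ hg hz h1.1 (by rw [h, h1.2])]
  have h2 := D.gg_conj hg (D.rY x)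
  rw [D.Y1_comm (D.gg_Y1 hg) (D.rY x), D.p_r] at h2
  exact (mul_right_cancel h2).symm

theorem p_gg {g : G} (hg : g ∈ D.N0) (hc : D.cc g ≠ 0) : D.p (g * g) = 0 ∨ D.p (g * g) = D.cc g := by
  have h := D.be_ac hg (one_mem D.Z) (x := D.cc g) (by rw [D.τ_one, D.a_self])
  have h1 : be g (1 : G) = 1 := by unfold be; group
  rw [h1] at h
  rcases D.a_eq_one h.symm with h2 | h2 | h2
  · exact Or.inl h2
  · exact absurd h2 hc
  · exact Or.inr h2

/-- the normalised elements -/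
def Nrm (g : G) : Prop := g ∈ D.N0 ∧ ∀ z ∈ D.Z, ∀ x, D.τ z = D.a x (D.cc g) → be g z = 1

theorem cc_t_mul {g : G} (hg : g ∈ D.N0) : D.cc (D.t * g) = D.cc g := by
  rw [D.cc_mul (D.O_N0 D.tO) hg, D.cc_O D.tO, zero_add]

theorem nrm_or {g : G} (hg : g ∈ D.N0) (hc : D.cc g ≠ 0) : D.Nrm g ∨ D.Nrm (D.t * g) := by
  rcases D.p_gg hg hc with h | h
  · left
    refine ⟨hg, fun z hz x hx => ?_⟩
    rw [D.be_ac hg hz hx, h, D.zero_a]
  · right
    refine ⟨mul_mem (D.O_N0 D.tO) hg, fun z hz x hx => ?_⟩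
    rw [D.cc_t_mul hg] at hx
    rw [D.be_mul_left (D.O_N0 D.tO) hg hz, D.be_t hz, D.be_ac hg hz hx, h, hx, D.a_comm, D.QQ _ (D.aQ _ _)]

theorem b_inj {u v : F3} (h : D.b u = D.b v) : u = v := by rw [← D.πb u, h, D.πb]

theorem acts_symm {n : G} {σ : F3 ≃+ F3} (h : D.Acts n σ) : D.Acts n⁻¹ σ.symm := by
  refine ⟨inv_mem h.1, inv_mem h.2.1, fun w => ?_⟩
  have h1 := h.2.2 (σ.symm w)
  rw [AddEquiv.apply_symm_apply] at h1
  rw [← h1]
  group

/-- an element of `C_G(Q)` acting as the translation by `c` -/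
theorem exists_N0 [Finite G] (hy : ∀ w, ∃ g, D.y w = g * D.t * g⁻¹) (c : F3) : ∃ g ∈ D.N0, D.cc g = c := by
  obtain ⟨g0, hg0⟩ := hy c
  obtain ⟨k, hk, hkQ⟩ := (D.small (g := g0) (B := D.Q) D.QQ (fun q hq => by rw [← hg0]; exact D.yQ c q hq)
    (fun q hq k hk => D.DL k (hk ▸ D.QL hq))).2 (by rw [D.cardQ])
  rw [← hg0] at hk
  have hkN : k ∈ normalizer (D.Q : Set G) := mem_normalizer_iff''.2 hkQ
  -- `k` normalises `O`
  have hkt : k * D.t = D.y c * k := by rw [← hk]; group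
  have h1 : ∀ m ∈ D.O, k⁻¹ * m * k⁻¹⁻¹ ∈ D.O := by
    intro m hm
    refine ⟨D.norm_M (inv_mem hkN) hm.1, ?_⟩
    obtain ⟨q, hq, h2⟩ := D.O_y hm c
    have h3 : D.τ (k⁻¹ * m * k⁻¹⁻¹) = k⁻¹ * (m * D.y c * m⁻¹ * D.y c) * k := by
      unfold τ
      have h4 : D.t = k⁻¹ * D.y c * k := by rw [← hk]; group
      calc k⁻¹ * m * k⁻¹⁻¹ * D.t * (k⁻¹ * m * k⁻¹⁻¹)⁻¹ * D.t =
          k⁻¹ * m * (k * D.t) * k⁻¹ * m⁻¹ * (k * D.t) := by group
        _ = k⁻¹ * m * (D.y c * k) * k⁻¹ * m⁻¹ * (D.y c * k) := by rw [hkt]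
        _ = k⁻¹ * (m * D.y c * m⁻¹ * D.y c) * k := by group
    rw [h3, h2]
    have h5 : D.y c * q * D.y c = q := by rw [← D.yQ c q hq, mul_assoc, D.y2, mul_one]
    rw [h5]
    exact D.norm_Q' hkN hq
  have h2 : ∀ m, m ∈ D.O ↔ k⁻¹ * m * k⁻¹⁻¹ ∈ D.O := conj_mem_iff_of_le h1
  have h3 : ∀ x, ∃ z, ∃ q ∈ D.Q, k * D.y x * k⁻¹ = D.y z * q := by
    intro x
    obtain ⟨g1, hg1⟩ := hy x
    have h4 : k * D.y x * k⁻¹ = (k * g1) * D.t * (k * g1)⁻¹ := by rw [hg1]; group
    rw [h4]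
    apply D.DO
    rw [← h4, h2]
    have h5 : k⁻¹ * (k * D.y x * k⁻¹) * k⁻¹⁻¹ = D.y x := by group
    rw [h5]
    have h6 := mul_mem D.tO (D.rO x)
    unfold r at h6
    rwa [← mul_assoc, D.tt, one_mul] at h6
  choose σ hσ using h3
  -- the linear part
  have h4 : ∀ x x', k * D.b (x + x') * k⁻¹ = D.b (σ x + σ x') := by
    intro x x'
    obtain ⟨q, hq, h5⟩ := hσ x
    obtain ⟨q', hq', h6⟩ := hσ x'
    have hc1 : q * D.y (σ x') = D.y (σ x') * q := D.yQ _ q hq
    rw [← D.yy, ← D.yy]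
    have h7 : k * (D.y x * D.y x') * k⁻¹ = D.y (σ x) * D.y (σ x') * (q * q') := by
      calc k * (D.y x * D.y x') * k⁻¹ = (k * D.y x * k⁻¹) * (k * D.y x' * k⁻¹) := by group
        _ = D.y (σ x) * (q * D.y (σ x')) * q' := by rw [h5, h6]; group
        _ = _ := by rw [hc1]; group
    have h8 : ∀ w, (q * q') * D.y w = D.y w * (q * q') := fun w => D.yQ w _ (mul_mem hq hq')
    calc k * (D.y x * D.y x' * (D.y x * D.y x')) * k⁻¹ = (k * (D.y x * D.y x') * k⁻¹) * (k * (D.y x * D.y x') * k⁻¹) := by group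
      _ = D.y (σ x) * D.y (σ x') * ((q * q') * D.y (σ x)) * D.y (σ x') * (q * q') := by rw [h7]; group
      _ = D.y (σ x) * D.y (σ x') * D.y (σ x) * ((q * q') * D.y (σ x')) * (q * q') := by rw [h8]; group
      _ = D.y (σ x) * D.y (σ x') * (D.y (σ x) * D.y (σ x')) * ((q * q') * (q * q')) := by rw [h8]; group
      _ = _ := by rw [D.QQ _ (mul_mem hq hq'), mul_one]
  have h0 : σ 0 = c := by
    obtain ⟨q, hq, h5⟩ := hσ 0
    rw [D.y0, hk] at h5
    have h6 := D.p_y c (one_mem D.Q)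
    rw [mul_one, h5, D.p_y _ hq] at h6
    exact h6
  have hψ : ∀ x, k * D.b x * k⁻¹ = D.b (σ x + c) := by
    intro x
    have := h4 x 0
    rwa [add_zero, h0] at this
  let ψ0 : F3 →+ F3 :=
    { toFun := fun x => σ x + c
      map_zero' := by rw [h0, F3.add_self]
      map_add' := fun x x' => by
        apply D.b_inj
        rw [← hψ, h4]
        congr 1
        have : ∀ a b c : F3, a + b = a + c + (b + c) := by decide +kernel
        exact this _ _ _ }
  have hψ0 : Function.Injective ψ0 := by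
    rw [injective_iff_map_eq_zero]
    intro x hx
    have h5 := hψ x
    have h6 : σ x + c = 0 := hx
    rw [h6, D.b0] at h5
    have h7 : D.b x = D.b 0 := by
      rw [D.b0]
      calc D.b x = k⁻¹ * (k * D.b x * k⁻¹) * k := by group
        _ = 1 := by rw [h5]; group
    exact D.b_inj h7
  let ψ : F3 ≃+ F3 := AddEquiv.ofBijective ψ0 (Finite.injective_iff_bijective.1 hψ0)
  have hψa : ∀ x, ψ x = σ x + c := fun x => rfl
  obtain ⟨n, hn, hnQ, hnb⟩ := D.wit ψ
  have hnA : D.Acts n ψ := ⟨hn, hnQ, hnb⟩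
  have hni := D.acts_symm hnA
  have hgN : k * n⁻¹ ∈ D.N0 := by
    refine ⟨?_, c, fun x => ?_⟩
    · -- `k n⁻¹ ∈ C_G(Q)`
      let K : Subgroup G := centralizer ({k * n⁻¹} : Set G)
      have h2 : D.Q ≤ K := D.gen K fun w => by
        rw [mem_centralizer_singleton_iff]
        have h3 : k * n⁻¹ * D.b w * (k * n⁻¹)⁻¹ = D.b w := by
          have h5 := hni.2.2 w
          rw [inv_inv] at h5
          calc k * n⁻¹ * D.b w * (k * n⁻¹)⁻¹ = k * (n⁻¹ * D.b w * n) * k⁻¹ := by group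
            _ = D.b w := by rw [h5, hψ, ← hψa, AddEquiv.apply_symm_apply]
        exact (mul_inv_eq_iff_eq_mul.1 h3).symm
      rw [D.mem_M]
      intro q hq
      exact mem_centralizer_singleton_iff.1 (h2 hq)
    · obtain ⟨q, hq, h5⟩ := D.acts_y hni x
      obtain ⟨q', hq', h6⟩ := hσ (ψ.symm x)
      refine ⟨q' * (k * q * k⁻¹), mul_mem hq' (D.norm_Q hkN hq), ?_⟩
      have h7 : σ (ψ.symm x) = x + c := by
        have h8 := hψa (ψ.symm x)
        rw [AddEquiv.apply_symm_apply] at h8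
        conv_rhs => rw [h8]
        rw [add_assoc, F3.add_self, add_zero]
      rw [h7] at h6
      rw [inv_inv] at h5
      calc k * n⁻¹ * D.y x * (k * n⁻¹)⁻¹ = k * (n⁻¹ * D.y x * n) * k⁻¹ := by group
        _ = (k * D.y (ψ.symm x) * k⁻¹) * (k * q * k⁻¹) := by rw [h5]; group
        _ = _ := by rw [h6]; group
  refine ⟨k * n⁻¹, hgN, ?_⟩
  apply D.cc_eq (one_mem _)
  rw [mul_one, ← hk]
  calc k * n⁻¹ * D.t * (k * n⁻¹)⁻¹ = k * (n⁻¹ * D.t) * n * k⁻¹ := by group
    _ = k * (D.t * n⁻¹) * n * k⁻¹ := by rw [D.Lt (inv_mem hn)]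
    _ = k * D.t * k⁻¹ := by group

/-! ### coordinates on `Λ` -/

/-- powers -/
def pw (x : G) (s : ZMod 2) : G := if s = 1 then x else 1

omit [Group G] in
theorem _root_.Cfsg.Agent.StdSpSix.Eps.zmod2 (s : ZMod 2) : s = 0 ∨ s = 1 := by revert s; decide

theorem pw_mem {H : Subgroup G} {x : G} (hx : x ∈ H) (s : ZMod 2) : pw x s ∈ H := by
  unfold pw
  split_ifs
  · exact hx
  · exact one_mem _

@[simp] theorem pw_zero (x : G) : pw x 0 = 1 := by unfold pw; rw [if_neg (by decide)]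

@[simp] theorem pw_one (x : G) : pw x 1 = x := by unfold pw; rw [if_pos rfl]

theorem pw_add {x : G} (hx : x * x = 1) (s s' : ZMod 2) : pw x (s + s') = pw x s * pw x s' := by
  rcases zmod2 s with h | h <;> rcases zmod2 s' with h' | h' <;> subst h <;> subst h'
  · rw [add_zero, pw_zero, one_mul]
  · rw [zero_add, pw_zero, one_mul]
  · rw [add_zero, pw_zero, mul_one]
  · have : (1 : ZMod 2) + 1 = 0 := rfl
    rw [this, pw_zero, pw_one, hx]

/-- the cross product -/
def cross (u v : F3) : F3 :=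
  (u.2.1 * v.2.2 + u.2.2 * v.2.1, u.1 * v.2.2 + u.2.2 * v.1, u.1 * v.2.1 + u.2.1 * v.1)

/-- the elements of `Λ` -/
def A (v : F3) : G :=
  pw (D.a (0, 1, 0) (0, 0, 1)) v.1 * (pw (D.a (1, 0, 0) (0, 0, 1)) v.2.1 * pw (D.a (1, 0, 0) (0, 1, 0)) v.2.2)

theorem A_mem (v : F3) : D.A v ∈ D.Q :=
  mul_mem (pw_mem (D.aQ _ _) _) (mul_mem (pw_mem (D.aQ _ _) _) (pw_mem (D.aQ _ _) _))

theorem A_zero : D.A 0 = 1 := by
  unfold A
  rw [Prod.fst_zero, Prod.snd_zero, Prod.fst_zero, Prod.snd_zero, pw_zero, pw_zero, pw_zero, mul_one, mul_one]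

theorem A_add (u v : F3) : D.A (u + v) = D.A u * D.A v := by
  unfold A
  rw [Prod.fst_add, Prod.snd_add, Prod.fst_add, Prod.snd_add, pw_add (D.QQ _ (D.aQ _ _)),
    pw_add (D.QQ _ (D.aQ _ _)), pw_add (D.QQ _ (D.aQ _ _))]
  set x := pw (D.a (0, 1, 0) (0, 0, 1)) u.1
  set x' := pw (D.a (0, 1, 0) (0, 0, 1)) v.1 with hx'
  set z := pw (D.a (1, 0, 0) (0, 0, 1)) u.2.1 with hz
  set z' := pw (D.a (1, 0, 0) (0, 0, 1)) v.2.1 with hz'
  set w := pw (D.a (1, 0, 0) (0, 1, 0)) u.2.2 with hw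
  set w' := pw (D.a (1, 0, 0) (0, 1, 0)) v.2.2
  have mx' : x' ∈ D.Q := pw_mem (D.aQ _ _) _
  have mz : z ∈ D.Q := pw_mem (D.aQ _ _) _
  have mz' : z' ∈ D.Q := pw_mem (D.aQ _ _) _
  have mw : w ∈ D.Q := pw_mem (D.aQ _ _) _
  calc x * x' * (z * z' * (w * w')) = x * (x' * z) * (z' * w) * w' := by group
    _ = x * z * (x' * w) * z' * w' := by rw [D.qc mx' mz, D.qc mz' mw]; group
    _ = _ := by rw [D.qc mx' mw]; group

/-- induction on `F3` -/
theorem ind3 {P : F3 → Prop} (h0 : P 0) (h1 : P (1, 0, 0)) (h2 : P (0, 1, 0)) (h3 : P (0, 0, 1))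
    (ha : ∀ u v, P u → P v → P (u + v)) (u : F3) : P u := by
  have h4 : u = (u.1, 0, 0) + (0, u.2.1, 0) + (0, 0, u.2.2) := by
    revert u; decide
  rw [h4]
  have h5 : ∀ s : ZMod 2, P (s, 0, 0) := by
    intro s
    rcases zmod2 s with h | h <;> subst h
    · exact h0
    · exact h1
  have h6 : ∀ s : ZMod 2, P (0, s, 0) := by
    intro s
    rcases zmod2 s with h | h <;> subst h
    · exact h0
    · exact h2
  have h7 : ∀ s : ZMod 2, P (0, 0, s) := by
    intro s
    rcases zmod2 s with h | h <;> subst h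
    · exact h0
    · exact h3
  exact ha _ _ (ha _ _ (h5 _) (h6 _)) (h7 _)

theorem cross_add (u v w : F3) : cross u (v + w) = cross u v + cross u w := by
  revert u v w; decide +kernel

theorem cross_comm (u v : F3) : cross u v = cross v u := by revert u v; decide +kernel

theorem cross_zero (u : F3) : cross u 0 = 0 := by revert u; decide +kernel

theorem zero_cross (u : F3) : cross 0 u = 0 := by revert u; decide +kernel

theorem a_eq_A (u v : F3) : D.a u v = D.A (cross u v) := by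
  have key : ∀ e : F3, (D.a e (1, 0, 0) = D.A (cross e (1, 0, 0))) → (D.a e (0, 1, 0) = D.A (cross e (0, 1, 0))) →
      (D.a e (0, 0, 1) = D.A (cross e (0, 0, 1))) → ∀ v, D.a e v = D.A (cross e v) := by
    intro e h1 h2 h3
    refine ind3 ?_ h1 h2 h3 ?_
    · rw [cross_zero, D.a_zero, D.A_zero]
    · intro u v hu hv
      rw [D.a_add, cross_add, D.A_add, hu, hv]
  have e1 : cross (1, 0, 0) (1, 0, 0) = 0 := by decide
  have e2 : cross (0, 1, 0) (0, 1, 0) = 0 := by decide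
  have e3 : cross (0, 0, 1) (0, 0, 1) = 0 := by decide
  have f12 : cross (1, 0, 0) (0, 1, 0) = (0, 0, 1) := by decide
  have f13 : cross (1, 0, 0) (0, 0, 1) = (0, 1, 0) := by decide
  have f23 : cross (0, 1, 0) (0, 0, 1) = (1, 0, 0) := by decide
  have g12 : D.A (0, 0, 1) = D.a (1, 0, 0) (0, 1, 0) := by
    unfold A; rw [pw_zero, pw_zero, pw_one, one_mul, one_mul]
  have g13 : D.A (0, 1, 0) = D.a (1, 0, 0) (0, 0, 1) := by
    unfold A; rw [pw_zero, pw_zero, pw_one, one_mul, mul_one]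
  have g23 : D.A (1, 0, 0) = D.a (0, 1, 0) (0, 0, 1) := by
    unfold A; rw [pw_zero, pw_zero, pw_one, mul_one, mul_one]
  refine ind3 (P := fun u => D.a u v = D.A (cross u v)) ?_ ?_ ?_ ?_ ?_ u
  · rw [zero_cross, D.zero_a, D.A_zero]
  · apply key
    · rw [e1, D.a_self, D.A_zero]
    · rw [f12, g12]
    · rw [f13, g13]
  · apply key
    · rw [cross_comm, f12, g12, D.a_comm]
    · rw [e2, D.a_self, D.A_zero]
    · rw [f23, g23]
  · apply key
    · rw [cross_comm, f13, g13, D.a_comm]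
    · rw [cross_comm, f23, g23, D.a_comm]
    · rw [e3, D.a_self, D.A_zero]
  · intro u w hu hw
    rw [D.add_a, cross_comm, cross_add, D.A_add, hu, hw, cross_comm v u, cross_comm v w]

theorem A_ne {v : F3} (hv : v ≠ 0) : D.A v ≠ 1 := by
  have h : ∀ v : F3, v ≠ 0 → ∃ u w : F3, cross u w = v ∧ u ≠ 0 ∧ w ≠ 0 ∧ u ≠ w := by decide +kernel
  obtain ⟨u, w, h1, h2, h3, h4⟩ := h v hv
  rw [← h1, ← D.a_eq_A]
  intro h5
  rcases D.a_eq_one h5 with h6 | h6 | h6
  · exact h2 h6
  · exact h3 h6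
  · exact h4 h6

theorem A_inj {u v : F3} (h : D.A u = D.A v) : u = v := by
  apply F3.eq_of_add
  by_contra hne
  apply D.A_ne hne
  rw [D.A_add, h, D.QQ _ (D.A_mem _)]

/-- normal form of the elements of `Q` -/
theorem normal_form {q : G} (hq : q ∈ D.Q) : ∃ v, q = D.b (D.π q) * D.A v := by
  let K : Subgroup G :=
    { carrier := {q | q ∈ D.Q ∧ ∃ v, q = D.b (D.π q) * D.A v}
      one_mem' := ⟨one_mem _, 0, by rw [D.π_one, D.b0, D.A_zero, mul_one]⟩
      mul_mem' := by
        rintro x z ⟨hx, v, hv⟩ ⟨hz, w, hw⟩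
        refine ⟨mul_mem hx hz, cross (D.π x) (D.π z) + v + w, ?_⟩
        rw [D.πmul _ hx _ hz, D.A_add, D.A_add, ← D.a_eq_A]
        have h1 := D.qc (D.A_mem v) (D.bQ (D.π z))
        have h2 := D.qc (D.aQ (D.π x) (D.π z)) (D.bQ (D.π x + D.π z))
        calc x * z = D.b (D.π x) * D.A v * (D.b (D.π z) * D.A w) := by rw [← hv, ← hw]
          _ = D.b (D.π x) * (D.A v * D.b (D.π z)) * D.A w := by group
          _ = D.b (D.π x) * D.b (D.π z) * D.A v * D.A w := by rw [h1]; group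
          _ = D.b (D.π x) * D.b (D.π z) * (D.a (D.π x) (D.π z) * D.a (D.π x) (D.π z)) * D.A v * D.A w := by
            rw [D.QQ _ (D.aQ _ _), mul_one]
          _ = (D.b (D.π x) * D.b (D.π z) * D.a (D.π x) (D.π z)) * D.a (D.π x) (D.π z) * D.A v * D.A w := by group
          _ = _ := by rw [D.b_mul]; group
      inv_mem' := by
        rintro x ⟨hx, hv⟩
        rw [D.q_inv hx]
        exact ⟨hx, hv⟩ }
  have h : D.Q ≤ K := D.gen K fun w => ⟨D.bQ w, 0, by rw [D.πb, D.A_zero, mul_one]⟩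
  exact (h hq).2

theorem eq_A {q : G} (hq : q ∈ D.Q) (h : D.π q = 0) : ∃ v, q = D.A v := by
  obtain ⟨v, hv⟩ := D.normal_form hq
  rw [h, D.b0, one_mul] at hv
  exact ⟨v, hv⟩

theorem τ_Z {z : G} (hz : z ∈ D.Z) : ∃ v, D.τ z = D.A v := D.eq_A hz.1.1.2 hz.2

theorem exists_zA (v : F3) : ∃ z ∈ D.Z, D.τ z = D.A v := by
  have h : ∀ v : F3, ∃ u w : F3, cross u w = v := by decide +kernel
  obtain ⟨u, w, h1⟩ := h v
  rw [← h1, ← D.a_eq_A]
  exact D.exists_z u w

theorem acts_a {n : G} {σ : F3 ≃+ F3} (h : D.Acts n σ) (u v : F3) : n * D.a u v * n⁻¹ = D.a (σ u) (σ v) := by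
  unfold a
  rw [← map_add, ← h.2.2, ← h.2.2, ← h.2.2]
  group

/-- `C_Q(N_L(Q)) = 1` -/
theorem eq_one_of_inv {k : G} (hk : k ∈ D.Q) (h : ∀ n σ, D.Acts n σ → n * k * n⁻¹ = k) : k = 1 := by
  have h1 : D.π k = 0 := by
    by_contra hne
    have h2 : ∀ w : F3, w ≠ 0 → ∃ k c : F3, dot k c = 0 ∧ dot k w = 1 ∧ c ≠ 0 := by decide +kernel
    obtain ⟨e, c, h3, h4, h5⟩ := h2 _ hne
    obtain ⟨n, hn, hnQ, h6⟩ := D.wit (tv e c h3)
    have h7 := D.acts_π (σ := tv e c h3) ⟨hn, hnQ, h6⟩ hk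
    rw [h n (tv e c h3) ⟨hn, hnQ, h6⟩, tv_apply, h4, one_smul] at h7
    exact h5 (left_eq_add.1 h7)
  obtain ⟨v, hv⟩ := D.eq_A hk h1
  by_contra hne
  have hv0 : v ≠ 0 := by
    rintro rfl
    exact hne (by rw [hv, D.A_zero])
  have h2 : ∀ v : F3, v ≠ 0 → ∃ u w e c : F3, cross u w = v ∧ dot e c = 0 ∧ dot e u = 0 ∧ dot e w = 1 ∧
      cross u c ≠ 0 := by decide +kernel
  obtain ⟨u, w, e, c, h3, h4, h5, h6, h7⟩ := h2 v hv0
  obtain ⟨n, hn, hnQ, h8⟩ := D.wit (tv e c h4)
  have h9 := h n (tv e c h4) ⟨hn, hnQ, h8⟩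
  rw [hv, ← h3, ← D.a_eq_A, D.acts_a (σ := tv e c h4) ⟨hn, hnQ, h8⟩, tv_apply, tv_apply, h5, h6, one_smul, zero_smul,
    add_zero, D.a_add] at h9
  apply D.A_ne h7
  rw [← D.a_eq_A]
  exact mul_eq_left.1 h9

end WData

end Cfsg.Agent.StdSpSix.Eps
end

-- part: StdSpSix/EpsR
section
/-!
# The group `R` of order `2¹⁵` and the sign
-/

set_option autoImplicit false
set_option synthInstance.maxSize 2000

namespace Cfsg.Agent.StdSpSix.Eps

open Subgroup
open Cfsg.Agent.StdSpSix.QLevel (card_le_two_mul card_sub_eq inv_of_sq comm_of_sq mem_inf_cent card_le_sq)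
open Cfsg.Agent.StdSpSix.QLevel.Data (card_conj_of_iff mem_map_conj conj_mem_iff_of_le)
open Cfsg.Agent.StdSpSix.RLevel

theorem exists_x {c : F3} (hc : c ≠ 0) : ∃ x : F3, x ≠ 0 ∧ x ≠ c := by
  revert c; decide +kernel

theorem exists_cross {c v : F3} (hc : c ≠ 0) (h : dot c v = 0) : ∃ x : F3, WData.cross x c = v := by
  revert c v; decide +kernel

theorem dot_cross (x c : F3) : dot c (WData.cross x c) = 0 := by revert x c; decide +kernel

theorem add_dot (c d v : F3) : dot (c + d) v = dot c v + dot d v := by revert c d v; decide +kernel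

namespace WData

variable {G : Type*} [Group G] (D : WData G)

theorem exists_nrm [Finite G] (hy : ∀ w, ∃ g, D.y w = g * D.t * g⁻¹) {c : F3} (hc : c ≠ 0) :
    ∃ g, D.Nrm g ∧ D.cc g = c := by
  obtain ⟨g, hg, rfl⟩ := D.exists_N0 hy c
  rcases D.nrm_or hg hc with h | h
  · exact ⟨g, h, rfl⟩
  · exact ⟨_, h, D.cc_t_mul hg⟩

theorem nrm_uniq {g h : G} (hg : D.Nrm g) (hh : D.Nrm h) (hc : D.cc g ≠ 0) (hgh : D.cc g = D.cc h) :
    ∀ z ∈ D.Z, be g z = be h z := by
  have hm : g * h ∈ D.O := by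
    apply D.O_of_cc (mul_mem hg.1 hh.1)
    rw [D.cc_mul hg.1 hh.1, hgh, F3.add_self]
  rcases D.be_O hm with h1 | h1
  · intro z hz
    have h2 := h1 z hz
    rw [D.be_mul_left hg.1 hh.1 hz] at h2
    rw [eq_inv_of_mul_eq_one_left h2, D.q_inv (D.be_mem hh.1 hz)]
  · exfalso
    obtain ⟨x, hx, hx'⟩ := exists_x hc
    obtain ⟨z, hz, hz1⟩ := D.exists_z x (D.cc g)
    have h2 := h1 z hz
    rw [D.be_mul_left hg.1 hh.1 hz, hg.2 z hz x hz1, hh.2 z hz x (by rw [← hgh]; exact hz1), one_mul, hz1] at h2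
    rcases D.a_eq_one h2.symm with h3 | h3 | h3
    · exact hx h3
    · exact hc h3
    · exact hx' h3

theorem nrm_zero {g z : G} {v : F3} (hg : D.Nrm g) (hc : D.cc g ≠ 0) (hz : z ∈ D.Z) (h : D.τ z = D.A v)
    (hv : dot (D.cc g) v = 0) : be g z = 1 := by
  obtain ⟨x, hx⟩ := exists_cross hc hv
  apply hg.2 z hz x
  rw [h, ← hx, D.a_eq_A]

theorem nrm_k {g z z' : G} {v v' : F3} (hg : D.Nrm g) (hc : D.cc g ≠ 0) (hz : z ∈ D.Z) (hz' : z' ∈ D.Z)
    (h : D.τ z = D.A v) (h' : D.τ z' = D.A v') (hv : dot (D.cc g) v = 1) (hv' : dot (D.cc g) v' = 1) :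
    be g z = be g z' := by
  have h1 : be g (z * z') = 1 := by
    apply D.nrm_zero (v := v + v') hg hc (mul_mem hz hz')
    · rw [D.τ_mul hz.1.1.1 hz'.1.1.2, h, h', D.A_add]
    · rw [dot_add, hv, hv']; rfl
  rw [D.be_mul_right hg.1 hz hz'] at h1
  rw [eq_inv_of_mul_eq_one_left h1, D.q_inv (D.be_mem hg.1 hz')]

theorem nrm_sum {g h k : G} (hg : D.Nrm g) (hh : D.Nrm h) (hk : D.Nrm k) (hc : D.cc g ≠ 0) (hd : D.cc h ≠ 0)
    (hcd : D.cc g ≠ D.cc h) (hk1 : D.cc k = D.cc g + D.cc h) {z : G} (hz : z ∈ D.Z) :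
    be g z * be h z * be k z = 1 := by
  have hm : g * h * k ∈ D.O := by
    apply D.O_of_cc (mul_mem (mul_mem hg.1 hh.1) hk.1)
    rw [D.cc_mul (mul_mem hg.1 hh.1) hk.1, D.cc_mul hg.1 hh.1, hk1, F3.add_self]
  have hb : ∀ z ∈ D.Z, be (g * h * k) z = be g z * be h z * be k z := by
    intro z hz
    rw [D.be_mul_left (mul_mem hg.1 hh.1) hk.1 hz, D.be_mul_left hg.1 hh.1 hz]
  rcases D.be_O hm with h1 | h1
  · rw [← hb z hz, h1 z hz]
  · exfalso
    obtain ⟨z, hz, hz1⟩ := D.exists_z (D.cc h) (D.cc g)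
    have h2 := h1 z hz
    have e1 : be g z = 1 := hg.2 z hz _ hz1
    have e2 : be h z = 1 := hh.2 z hz (D.cc g) (by rw [hz1, D.a_comm])
    have e3 : be k z = 1 := hk.2 z hz (D.cc h) (by rw [hz1, hk1, D.a_add, D.a_self, mul_one])
    rw [hb z hz, e1, e2, e3, one_mul, one_mul, hz1] at h2
    rcases D.a_eq_one h2.symm with h3 | h3 | h3
    · exact hd h3
    · exact hc h3
    · exact hcd h3.symm

/-- the constant `k` -/
theorem exists_k [Finite G] (hy : ∀ w, ∃ g, D.y w = g * D.t * g⁻¹) :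
    ∃ k ∈ D.Q, ∀ g, D.Nrm g → D.cc g ≠ 0 → ∀ z ∈ D.Z, ∀ v, D.τ z = D.A v → dot (D.cc g) v = 1 → be g z = k := by
  have he : ((1, 0, 0) : F3) ≠ 0 := by decide
  obtain ⟨g1, hg1, hc1⟩ := D.exists_nrm hy he
  obtain ⟨z1, hz1, hz2⟩ := D.exists_zA (1, 0, 0)
  have hd1 : dot (D.cc g1) (1, 0, 0) = 1 := by rw [hc1]; decide
  have hc1' : D.cc g1 ≠ 0 := by rw [hc1]; exact he
  refine ⟨be g1 z1, D.be_mem hg1.1 hz1, fun g hg hc z hz v hv hdv => ?_⟩
  by_cases hce : D.cc g = (1, 0, 0)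
  · rw [D.nrm_uniq hg hg1 hc (by rw [hce, hc1]) z hz]
    exact D.nrm_k hg1 hc1' hz hz1 hv hz2 (by rw [hc1, ← hce]; exact hdv) hd1
  · have h1 : D.cc g + (1, 0, 0) ≠ 0 := fun h => hce (F3.eq_of_add h)
    obtain ⟨h, hh, hch⟩ := D.exists_nrm hy h1
    have h2 : ∀ c : F3, c ≠ 0 → c ≠ (1, 0, 0) → ∃ v : F3, dot (c + (1, 0, 0)) v = 0 ∧ dot (1, 0, 0) v = 1 := by
      decide +kernel
    obtain ⟨v', h3, h4⟩ := h2 _ hc hce
    obtain ⟨z', hz', hz'v⟩ := D.exists_zA v'
    have h5 := D.nrm_sum hh hg1 hg (by rw [hch]; exact h1) hc1' (by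
      rw [hch, hc1]
      intro h6
      apply hc
      have : ∀ c : F3, c + (1, 0, 0) = (1, 0, 0) → c = 0 := by decide
      exact this _ h6) (by rw [hch, hc1, add_assoc, F3.add_self, add_zero]) hz'
    rw [D.nrm_zero hh (by rw [hch]; exact h1) hz' hz'v (by rw [hch]; exact h3), one_mul] at h5
    have h6 : dot (D.cc g) v' = 1 := by
      rw [add_dot, h4] at h3
      have : ∀ s : ZMod 2, s + 1 = 0 → s = 1 := by decide
      exact this _ h3
    rw [D.nrm_k hg hc hz hz' hv hz'v hdv h6, D.nrm_k hg1 hc1' hz1 hz' hz2 hz'v hd1 (by rw [hc1]; exact h4),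
      eq_inv_of_mul_eq_one_right h5, D.q_inv (D.be_mem hg1.1 hz')]

/-! ### `N_L(Q)` acts on `N₀` -/

theorem acts_N0 {n g : G} {σ : F3 ≃+ F3} (h : D.Acts n σ) (hg : g ∈ D.N0) :
    n * g * n⁻¹ ∈ D.N0 ∧ D.cc (n * g * n⁻¹) = σ (D.cc g) := by
  have key : ∀ x, ∃ q ∈ D.Q, (n * g * n⁻¹) * D.y x * (n * g * n⁻¹)⁻¹ = D.y (x + σ (D.cc g)) * q := by
    intro x
    obtain ⟨q1, hq1, h1⟩ := D.acts_y (D.acts_symm h) x
    obtain ⟨q2, hq2, h2⟩ := D.N0_y hg (σ.symm x)
    obtain ⟨q3, hq3, h3⟩ := D.acts_y h (σ.symm x + D.cc g)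
    rw [map_add, AddEquiv.apply_symm_apply] at h3
    rw [inv_inv] at h1
    refine ⟨q3 * (n * (q2 * q1) * n⁻¹), mul_mem hq3 (D.norm_Q h.2.1 (mul_mem hq2 hq1)), ?_⟩
    have h4 := D.conj_q hg.1 hq1
    calc (n * g * n⁻¹) * D.y x * (n * g * n⁻¹)⁻¹ = n * g * (n⁻¹ * D.y x * n) * g⁻¹ * n⁻¹ := by group
      _ = n * (g * D.y (σ.symm x) * g⁻¹) * (g * q1 * g⁻¹) * n⁻¹ := by rw [h1]; group
      _ = n * (D.y (σ.symm x + D.cc g) * q2) * q1 * n⁻¹ := by rw [h2, h4]
      _ = (n * D.y (σ.symm x + D.cc g) * n⁻¹) * (n * (q2 * q1) * n⁻¹) := by group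
      _ = _ := by rw [h3]; group
  refine ⟨⟨D.norm_M h.2.1 hg.1, _, key⟩, ?_⟩
  obtain ⟨q, hq, h1⟩ := key 0
  rw [D.y0, zero_add] at h1
  exact D.cc_eq hq h1

theorem acts_Z {n z : G} {σ : F3 ≃+ F3} (h : D.Acts n σ) (hz : z ∈ D.Z) : n * z * n⁻¹ ∈ D.Z :=
  ⟨D.acts_Y1 h hz.1, by rw [D.acts_p h hz.1.1, hz.2, map_zero]⟩

theorem conj_be_conj (n g z : G) : n * be g z * n⁻¹ = be (n * g * n⁻¹) (n * z * n⁻¹) := by
  unfold be; group

theorem acts_Nrm {n g : G} {σ : F3 ≃+ F3} (h : D.Acts n σ) (hg : D.Nrm g) : D.Nrm (n * g * n⁻¹) := by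
  have h1 := D.acts_N0 h hg.1
  refine ⟨h1.1, fun z hz x hx => ?_⟩
  rw [h1.2] at hx
  have hs := D.acts_symm h
  have h2 : n⁻¹ * z * n⁻¹⁻¹ ∈ D.Z := D.acts_Z hs hz
  have h3 : D.τ (n⁻¹ * z * n⁻¹⁻¹) = D.a (σ.symm x) (D.cc g) := by
    rw [D.norm_τ hs.1, hx, D.acts_a hs, AddEquiv.symm_apply_apply]
  have h4 := hg.2 _ h2 _ h3
  have h5 := conj_be_conj n g (n⁻¹ * z * n⁻¹⁻¹)
  have h6 : n * (n⁻¹ * z * n⁻¹⁻¹) * n⁻¹ = z := by group
  rw [h4, h6, mul_one, mul_inv_cancel] at h5
  exact h5.symm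

theorem be_nrm_eq_one [Finite G] (hy : ∀ w, ∃ g, D.y w = g * D.t * g⁻¹) {g z : G} (hg : D.Nrm g) (hc : D.cc g ≠ 0)
    (hz : z ∈ D.Z) : be g z = 1 := by
  obtain ⟨k, hk, h⟩ := D.exists_k hy
  have hk1 : k = 1 := by
    apply D.eq_one_of_inv hk
    intro n σ hn
    have he : ((1, 0, 0) : F3) ≠ 0 := by decide
    obtain ⟨g1, hg1, hc1⟩ := D.exists_nrm hy he
    obtain ⟨z1, hz1, hz2⟩ := D.exists_zA (1, 0, 0)
    have hd1 : dot (D.cc g1) (1, 0, 0) = 1 := by rw [hc1]; decide
    have hc1' : D.cc g1 ≠ 0 := by rw [hc1]; exact he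
    have h1 := h g1 hg1 hc1' z1 hz1 _ hz2 hd1
    have h2 := D.acts_N0 hn hg1.1
    have h3 := D.acts_Nrm hn hg1
    have h4 := D.acts_Z hn hz1
    obtain ⟨v', hv'⟩ := D.τ_Z h4
    have hσ : σ (D.cc g1) ≠ 0 := fun h5 => hc1' ((AddEquiv.map_eq_zero_iff σ).1 h5)
    have h5 : dot (D.cc (n * g1 * n⁻¹)) v' = 1 := by
      rcases zmod2 (dot (D.cc (n * g1 * n⁻¹)) v') with h6 | h6
      · exfalso
        rw [h2.2] at h6
        obtain ⟨x, hx⟩ := exists_cross hσ h6
        rw [D.norm_τ hn.1, hz2, ← hx, ← D.a_eq_A] at hv'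
        have h7 := D.acts_a (D.acts_symm hn) x (σ (D.cc g1))
        rw [← hv', AddEquiv.symm_apply_apply, D.a_eq_A] at h7
        have h8 : n⁻¹ * (n * D.A (1, 0, 0) * n⁻¹) * n⁻¹⁻¹ = D.A (1, 0, 0) := by group
        rw [h8] at h7
        have h9 := D.A_inj h7
        rw [h9, dot_cross] at hd1
        exact absurd hd1 (by decide)
      · exact h6
    have h6 := h _ h3 (by rw [h2.2]; exact hσ) _ h4 v' hv' h5
    rw [← conj_be_conj, h1] at h6
    exact h6
  obtain ⟨v, hv⟩ := D.τ_Z hz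
  rcases zmod2 (dot (D.cc g) v) with h1 | h1
  · exact D.nrm_zero hg hc hz hv h1
  · rw [h g hg hc z hz v hv h1, hk1]

/-! ### `R` -/

/-- `R` -/
def R : Subgroup G := D.N0 ⊓ centralizer (D.Z : Set G)

theorem mem_R {g : G} : g ∈ D.R ↔ g ∈ D.N0 ∧ ∀ z ∈ D.Z, be g z = 1 := by
  unfold R be
  rw [mem_inf, mem_centralizer_iff]
  constructor
  · rintro ⟨h1, h2⟩
    refine ⟨h1, fun z hz => ?_⟩
    rw [← h2 z hz, mul_inv_cancel_right, mul_inv_cancel]
  · rintro ⟨h1, h2⟩
    refine ⟨h1, fun z hz => ?_⟩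
    have h3 := h2 z hz
    rw [mul_inv_eq_one, mul_inv_eq_iff_eq_mul] at h3
    exact h3.symm

theorem R_comm {g z : G} (hg : g ∈ D.R) (hz : z ∈ D.Z) : z * g = g * z := by
  unfold R at hg
  rw [mem_inf, mem_centralizer_iff] at hg
  exact hg.2 z hz

theorem RN {g : G} (hg : g ∈ D.R) : g ∈ D.N0 := (D.mem_R.1 hg).1

theorem YR {m : G} (hm : m ∈ D.Y1) : m ∈ D.R := D.mem_R.2 ⟨D.O_N0 hm.1, fun _ hz => D.be_Y1 hm hz⟩

theorem RY {g : G} (hg : g ∈ D.R) (hc : D.cc g = 0) : g ∈ D.Y1 := by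
  have hO := D.O_of_cc (D.RN hg) hc
  rcases D.Y1_or hO with h | h
  · exact h
  · exfalso
    obtain ⟨z, hz, h1⟩ := D.exists_ne
    have h2 := D.be_mul_left (D.O_N0 D.tO) (D.RN hg) hz
    rw [D.be_Y1 h hz, D.be_t hz, (D.mem_R.1 hg).2 z hz, mul_one] at h2
    exact h1 h2.symm

theorem exists_R [Finite G] (hy : ∀ w, ∃ g, D.y w = g * D.t * g⁻¹) (c : F3) : ∃ g ∈ D.R, D.cc g = c := by
  by_cases hc : c = 0
  · exact ⟨1, one_mem _, by rw [D.cc_one, hc]⟩
  · obtain ⟨g, hg, rfl⟩ := D.exists_nrm hy hc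
    exact ⟨g, D.mem_R.2 ⟨hg.1, fun z hz => D.be_nrm_eq_one hy hg hc hz⟩, rfl⟩

theorem sq_R {g : G} (hg : g ∈ D.R) : g * g ∈ D.Z := by
  refine ⟨D.gg_Y1 (D.RN hg), ?_⟩
  by_contra hp
  obtain ⟨x, hx, hx'⟩ := exists_x hp
  obtain ⟨z, hz, h1⟩ := D.exists_z x (D.cc g)
  have h2 := D.be_ac (D.RN hg) hz h1
  rw [(D.mem_R.1 hg).2 z hz] at h2
  rcases D.a_eq_one h2.symm with h3 | h3 | h3
  · exact hp h3
  · exact hx h3
  · exact hx' h3.symm

theorem tR {g : G} (hg : g ∈ D.R) : D.t * g * D.t ∈ D.R := by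
  rw [D.mem_R]
  have ht := D.O_N0 D.tO
  refine ⟨mul_mem (mul_mem ht (D.RN hg)) ht, fun z hz => ?_⟩
  rw [D.be_mul_left (mul_mem ht (D.RN hg)) ht hz, D.be_mul_left ht (D.RN hg) hz, (D.mem_R.1 hg).2 z hz, D.be_t hz,
    mul_one, D.QQ _ hz.1.1.2]

theorem card_R [Finite G] (hy : ∀ w, ∃ g, D.y w = g * D.t * g⁻¹) : Nat.card D.R = 2 ^ 15 := by
  let f : D.R →* Multiplicative F3 := MonoidHom.mk' (fun m => Multiplicative.ofAdd (D.cc m))
    (fun m n => congrArg Multiplicative.ofAdd (D.cc_mul (D.RN m.2) (D.RN n.2)))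
  have hYR : D.Y1 ≤ D.R := fun z hz => D.YR hz
  have h1 : f.ker = D.Y1.subgroupOf D.R := by
    ext m
    rw [MonoidHom.mem_ker, mem_subgroupOf]
    constructor
    · intro h
      exact D.RY m.2 (Multiplicative.ofAdd.injective h)
    · intro h
      exact congrArg Multiplicative.ofAdd (D.cc_O h.1)
  have h2 : f.range = ⊤ := by
    rw [MonoidHom.range_eq_top]
    intro w
    obtain ⟨g, hg, h⟩ := D.exists_R hy (Multiplicative.toAdd w)
    exact ⟨⟨g, hg⟩, congrArg Multiplicative.ofAdd h⟩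
  have h3 : Nat.card f.ker * Nat.card f.range = Nat.card D.R := by
    rw [← index_ker, card_mul_index]
  rw [h1, h2, card_sub_eq hYR, card_top, card_F3, D.card_Y1] at h3
  rw [← h3]
  norm_num

/-- involutions of `t R` -/
theorem inv_tR [Finite G] (hy : ∀ w, ∃ g, D.y w = g * D.t * g⁻¹) {n : G} (hn : n ∈ D.R)
    (h : (D.t * n) * (D.t * n) = 1) : ∃ r ∈ D.R, D.t * n = r * D.t * r⁻¹ := by
  have hc : D.cc n = 0 := by
    have h1 : D.t * (D.t * (n * D.t * n⁻¹)) * D.t = n * n := by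
      have h2 : n⁻¹ = D.t * n * D.t := by
        rw [inv_eq_iff_mul_eq_one]
        calc n * (D.t * n * D.t) = D.t⁻¹ * (D.t * n * (D.t * n)) * D.t := by group
          _ = 1 := by rw [h]; group
      rw [h2, ← mul_assoc, D.tt, one_mul]
      calc n * D.t * (D.t * n * D.t) * D.t = n * (D.t * D.t) * n * (D.t * D.t) := by group
        _ = n * n := by rw [D.tt]; group
    have h2 := (D.sq_R hn)
    rw [← h1] at h2
    -- `t (t (n t n⁻¹)) t ∈ Z`
    have h3 : D.t * (n * D.t * n⁻¹) ∈ D.O := by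
      have := mul_mem (mul_mem D.tO h2.1.1) D.tO
      have h4 : D.t * (D.t * (D.t * (n * D.t * n⁻¹)) * D.t) * D.t =
          (D.t * D.t) * (D.t * (n * D.t * n⁻¹)) * (D.t * D.t) := by group
      rwa [h4, D.tt, one_mul, mul_one] at this
    have h4 := h2.2
    rw [D.p_mul (mul_mem D.tO h3) D.tO, D.p_mul D.tO h3, D.p_t, zero_add, add_zero] at h4
    exact h4
  have hnY := D.RY hn hc
  obtain ⟨q, hq, h1⟩ := D.inv_tY hnY h
  obtain ⟨g, hg, h2⟩ := D.exists_R hy (D.p n)
  obtain ⟨q1, hq1, h3⟩ := D.N0_t (D.RN hg)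
  rw [h2] at h3
  obtain ⟨m, hm, h4⟩ := D.Y1_y_surj (D.p n) (mul_mem hq hq1)
  refine ⟨m * g, mul_mem (D.YR hm) hg, ?_⟩
  have h5 := D.conj_q hm.1.1 hq1
  calc D.t * n = D.y (D.p n) * q * (q1 * q1) := by rw [h1, D.QQ _ hq1, mul_one]
    _ = (D.y (D.p n) * (q * q1)) * q1 := by group
    _ = (m * D.y (D.p n) * m⁻¹) * (m * q1 * m⁻¹) := by rw [h4, h5]
    _ = m * (g * D.t * g⁻¹) * m⁻¹ := by rw [h3]; group
    _ = m * g * D.t * (m * g)⁻¹ := by group

theorem norm_R [Finite G] {n : G} (hn : n ∈ D.L) (hnQ : n ∈ normalizer (D.Q : Set G)) :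
    n ∈ normalizer (D.R : Set G) := by
  obtain ⟨σ, h⟩ := D.exists_acts hn hnQ
  rw [mem_normalizer_iff]
  apply conj_mem_iff_of_le
  intro g hg
  rw [D.mem_R]
  refine ⟨(D.acts_N0 h (D.RN hg)).1, fun z hz => ?_⟩
  have h2 : n⁻¹ * z * n⁻¹⁻¹ ∈ D.Z := D.acts_Z (D.acts_symm h) hz
  have h5 := conj_be_conj n g (n⁻¹ * z * n⁻¹⁻¹)
  have h6 : n * (n⁻¹ * z * n⁻¹⁻¹) * n⁻¹ = z := by group
  rw [(D.mem_R.1 hg).2 _ h2, h6, mul_one, mul_inv_cancel] at h5
  exact h5.symm

theorem cen2_R [Finite G] (hy : ∀ w, ∃ g, D.y w = g * D.t * g⁻¹) {e : G} (he : e ∈ D.R) {M : Subgroup G}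
    (hM : M ≤ D.R) (hc : Nat.card D.R ≤ 2 * Nat.card M) (hcom : ∀ m ∈ M, e * m = m * e) : e ∈ D.Z := by
  have hcc : D.cc e = 0 := by
    by_contra hp
    have h1 : ∀ m ∈ M, m ∈ D.Y1 → D.p m = 0 ∨ D.p m = D.cc e := by
      intro m hm hmY
      have h2 := D.N0_τ (D.RN he) hmY
      rw [hcom m hm, mul_inv_cancel_right] at h2
      rcases D.a_eq_one (mul_eq_left.1 h2.symm) with h4 | h4 | h4
      · exact Or.inl h4
      · exact absurd h4 hp
      · exact Or.inr h4
    have h2 : ∀ p : F3, p ≠ 0 → ∃ v w : F3, v ≠ 0 ∧ v ≠ p ∧ w ≠ 0 ∧ w ≠ p ∧ v + w ≠ 0 ∧ v + w ≠ p := by decide +kernel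
    obtain ⟨v, w, h3, h4, h5, h6, h7, h8⟩ := h2 _ hp
    have hv : D.r v ∉ M := fun h => by
      have := h1 _ h (D.rY v)
      rw [D.p_r] at this
      (clear * - G D e v h3 h4 this; tauto)
    have hw : D.r w ∉ M := fun h => by
      have := h1 _ h (D.rY w)
      rw [D.p_r] at this
      (clear * - G D e w h5 h6 this; tauto)
    have h9 := h1 _ (mem_of_index hM hc (D.YR (D.rY v)) (D.YR (D.rY w)) hv hw)
      (mul_mem (inv_mem (D.rY v)) (D.rY w))
    rw [D.p_mul (inv_mem (D.rO v)) (D.rO w), D.p_inv (D.rO v), D.p_r, D.p_r] at h9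
    (clear * - G D e v w h7 h8 h9; tauto)
  have heY := D.RY he hcc
  refine ⟨heY, ?_⟩
  by_contra hp
  have h1 : ∀ m ∈ M, D.cc m = 0 ∨ D.cc m = D.p e := by
    intro m hm
    have h2 := D.N0_τ (D.RN (hM hm)) heY
    rw [← hcom m hm, mul_inv_cancel_right] at h2
    rcases D.a_eq_one (mul_eq_left.1 h2.symm) with h4 | h4 | h4
    · exact absurd h4 hp
    · exact Or.inl h4
    · exact Or.inr h4.symm
  have h2 : ∀ p : F3, p ≠ 0 → ∃ v w : F3, v ≠ 0 ∧ v ≠ p ∧ w ≠ 0 ∧ w ≠ p ∧ v + w ≠ 0 ∧ v + w ≠ p := by decide +kernel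
  obtain ⟨v, w, h3, h4, h5, h6, h7, h8⟩ := h2 _ hp
  obtain ⟨gv, hgv, hv1⟩ := D.exists_R hy v
  obtain ⟨gw, hgw, hw1⟩ := D.exists_R hy w
  have hv : gv ∉ M := fun h => by
    have := h1 _ h
    rw [hv1] at this
    (clear * - G D e v h3 h4 this; tauto)
  have hw : gw ∉ M := fun h => by
    have := h1 _ h
    rw [hw1] at this
    (clear * - G D e w h5 h6 this; tauto)
  have h9 := h1 _ (mem_of_index hM hc hgv hgw hv hw)
  rw [D.cc_mul (inv_mem (D.RN hgv)) (D.RN hgw), D.cc_inv (D.RN hgv), hv1, hw1] at h9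
  (clear * - h7 h8 h9; tauto)

/-- `eps = 1`: a sign on `G` -/
theorem main [Finite G] (θ : (D.L ⊓ normalizer (D.Q : Set G) : Subgroup G) →* Matrix.GeneralLinearGroup (Fin 3) (ZMod 2))
    (hθ : Function.Surjective θ) (hθk : ∀ n, θ n = 1 ↔ (n : G) ∈ D.Q) : ∃ m : G →* ℤˣ, m D.t = -1 := by
  by_cases h : ∃ w, w ≠ 0 ∧ ∃ g, D.y w = g * D.t * g⁻¹
  · have hy := D.all_y h
    let R : RData G :=
      { toCore := D.toCore
        Z := D.Z
        R := D.R
        QZ := fun q hq => D.QZ hq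
        ZR := fun z hz => D.YR hz.1
        ZZ := fun z hz => D.ZZ hz
        cardZ := D.card_Z
        Zc := fun z hz m hm => D.R_comm hm hz
        tR := fun m hm => D.tR hm
        NR := fun n hn hnQ => D.norm_R hn hnQ
        RQ := fun m hm h => by
          have h1 : D.τ m = 1 := by
            unfold τ
            rw [h, mul_inv_cancel_right, D.tt]
          have h2 : m ∈ D.O := ⟨(D.RN hm).1, by rw [h1]; exact one_mem _⟩
          exact D.mem_Q_of_τ (D.RY hm (D.cc_O h2)) h1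
        conjR := by
          rintro n hn ⟨g, hg⟩
          exact D.inv_tR hy hn (by rw [hg]; exact D.conj_inv_t g)
        cen2 := fun e he M hM hc hcom => D.cen2_R hy he hM hc hcom
        sqR := fun m hm => D.sq_R hm
        size := Or.inl (D.card_R hy) }
    exact R.main (fun n hn h => D.inv_tR hy hn h) θ hθ hθk
  · exfalso
    push Not at h
    exact D.false_of_I h

end WData

end Cfsg.Agent.StdSpSix.Eps
end

-- part: StdSpSix/SwZero
section
/-!
# Pattern ALL, the elements `y_u` commute (`ε = 0`): a sign on `G`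
-/

set_option autoImplicit false

namespace Cfsg.Agent.StdSpSix.SwZero

open Subgroup
open Cfsg.Agent.StandardComponent.SpTwo
open Cfsg.Agent.SporRec.TwoSp6
open Cfsg.Agent.StdSpSix.EMask Cfsg.Agent.StdSpSix.EA Cfsg.Agent.StdSpSix.EType Cfsg.Agent.StdSpSix.ELevel

section plane
variable {X V : Type*} [Group X] [AddCommGroup V] [Module (ZMod 2) V] {S : SpData X V} (K : Model.Coord S)

/-- The totally isotropic subspace with codes `< 8`. -/
def WW : Submodule (ZMod 2) V where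
  carrier := {v | ∃ c < 8, v = K.f (Sp.enc c)}
  zero_mem' := ⟨0, by norm_num, by rw [Words.enc_zero, map_zero]⟩
  add_mem' := by
    rintro _ _ ⟨c, hc, rfl⟩ ⟨d, hd, rfl⟩
    exact ⟨c ^^^ d, Nat.xor_lt_two_pow (n := 3) hc hd, by rw [Sp.enc_xor, map_add]⟩
  smul_mem' := by
    rintro r _ ⟨c, hc, rfl⟩
    rcases (show ∀ a : ZMod 2, a = 0 ∨ a = 1 by decide) r with rfl | rfl
    · exact ⟨0, by norm_num, by rw [zero_smul, Words.enc_zero, map_zero]⟩
    · exact ⟨c, hc, by rw [one_smul]⟩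

theorem mem_WW {v : V} : v ∈ WW K ↔ ∃ c < 8, v = K.f (Sp.enc c) := Iff.rfl

theorem card_WW : Nat.card (WW K) = 8 := by
  have hb : Function.Bijective (fun c : Fin 8 => (⟨K.f (Sp.enc c.val), c.val, c.2, rfl⟩ : WW K)) := by
    constructor
    · intro c d h
      have h1 : K.f (Sp.enc c.val) = K.f (Sp.enc d.val) := congrArg Subtype.val h
      have hc := c.2
      have hd := d.2
      exact Fin.ext (enc_inj (by omega) (by omega) (K.f.injective h1))
    · rintro ⟨_, c, hc, rfl⟩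
      exact ⟨⟨c, hc⟩, rfl⟩
  rw [← Nat.card_congr (Equiv.ofBijective _ hb), Nat.card_eq_fintype_card, Fintype.card_fin]

theorem ti_WW : ∀ u ∈ WW K, ∀ v ∈ WW K, S.B u v = 0 := by
  rintro _ ⟨c, hc, rfl⟩ _ ⟨d, hd, rfl⟩
  rw [K.om]
  exact om_small c hc d hd

theorem mem_AW_iff {x : X} : x ∈ QLevelSp.AW S (WW K : Set V) ↔ ∃ m < 64, x = K.e (a m) := by
  obtain ⟨g, rfl⟩ := K.e.surjective x
  have hact : ∀ c, S.ρ (K.e g) (K.f (Sp.enc c)) = K.f (Sp.enc c) ↔ Sp.act g (Sp.enc c) = Sp.enc c := by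
    intro c
    rw [K.act, K.f.injective.eq_iff]
  have h1 : K.e g ∈ QLevelSp.AW S (WW K : Set V) ↔ g ∈ A := by
    rw [QLevelSp.mem_AW]
    constructor
    · intro h
      exact ⟨(hact 1).1 (h _ ⟨1, by norm_num, rfl⟩), (hact 2).1 (h _ ⟨2, by norm_num, rfl⟩),
        (hact 4).1 (h _ ⟨4, by norm_num, rfl⟩)⟩
    · intro h w hw
      obtain ⟨c, hc, rfl⟩ := hw
      rw [hact]
      obtain ⟨m, -, rfl⟩ := mem_A.1 h
      rw [act_a]
      have : sg (dis (Sp.enc c)) m = 0 := by
        unfold sg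
        refine Finset.sum_eq_zero fun i hi => ?_
        rw [Finset.mem_range] at hi
        unfold dis
        rw [om_small c hc (i + 1) (by omega), zero_smul, ite_self]
      rw [this, add_zero]
  rw [h1, mem_A]
  constructor
  · rintro ⟨m, hm, rfl⟩
    exact ⟨m, hm, rfl⟩
  · rintro ⟨m, hm, h⟩
    exact ⟨m, hm, K.e.injective h⟩

end plane

section ctx
variable {G V : Type*} [Group G] [AddCommGroup V] [Module (ZMod 2) V] (C : Ctx G V)

theorem mem_AG_iff (K : Model.Coord C.S) {x : G} :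
    x ∈ QLevelSp.AG C (WW K : Set V) ↔ ∃ m < 64, x = ga C K m := by
  constructor
  · rintro ⟨y, hy, rfl⟩
    obtain ⟨m, hm, rfl⟩ := (mem_AW_iff K).1 hy
    exact ⟨m, hm, rfl⟩
  · rintro ⟨m, hm, rfl⟩
    exact ⟨K.e (a m), (mem_AW_iff K).2 ⟨m, hm, rfl⟩, rfl⟩

/-- a subgroup containing the transvections of the plane contains `A` -/
theorem ga_mem_of (K : Model.Coord C.S) (P : Subgroup G) (hP : ∀ c, 1 ≤ c → c < 8 → C.b (K.f (Sp.enc c)) ∈ P) (m : ℕ) :
    ga C K m ∈ P := by
  have hf : ∀ i < 7, K.e (fac m i) ∈ P.subgroupOf C.L := by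
    intro i hi
    unfold fac
    split_ifs
    · rw [mem_subgroupOf, K.tr]
      exact hP (i + 1) (by omega) (by omega)
    · rw [map_one]
      exact one_mem _
  have h1 : K.e (a m) ∈ P.subgroupOf C.L := by
    unfold a
    rw [map_mul, map_mul, map_mul, map_mul, map_mul, map_mul]
    exact mul_mem (hf 0 (by omega)) (mul_mem (hf 1 (by omega)) (mul_mem (hf 2 (by omega)) (mul_mem (hf 3 (by omega))
      (mul_mem (hf 4 (by omega)) (mul_mem (hf 5 (by omega)) (hf 6 (by omega)))))))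
  exact h1

variable {C}

theorem IsY.t_conj {u : V} {g : G} (h : IsY C u g) : C.t * g * C.t = C.b u * g := by
  have h1 : g * C.t = C.t * C.b u * g := by
    rw [← h.conj, mul_assoc, mul_assoc, h.sq, mul_one]
  calc C.t * g * C.t = C.t * (g * C.t) := by group
    _ = C.t * (C.t * C.b u * g) := by rw [h1]
    _ = (C.t * C.t) * (C.b u * g) := by group
    _ = C.b u * g := by rw [C.tt, one_mul]

variable (C)

theorem exists_hom [Finite G] (hL : ∀ x ∈ C.L, x ∉ C.D) (hall : ∀ x ∈ C.L, x * x = 1 → x ≠ 1 → C.t * x ∈ C.D)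
    (y : V → G) (hy : ∀ u, u ≠ 0 → IsY C u (y u))
    (h0 : ∀ u v, u ≠ 0 → v ≠ 0 → C.S.B u v = 0 → y u * y v = y v * y u) : ∃ m : G →* ℤˣ, m C.t = -1 := by
  obtain ⟨K⟩ := Model.exists_coord C.S C.cardV
  have F := QLevelSp.facts_AW C.S C.cardV (WW K) (card_WW K) (ti_WW K)
  set W : Submodule (ZMod 2) V := WW K with hW
  set AA : Subgroup G := QLevelSp.AG C (W : Set V) with hAA
  have hAL : ∀ x ∈ AA, x ∈ C.L := fun x hx => QLevelSp.AG_le C _ hx
  have hAsq : ∀ x ∈ AA, x * x = 1 := by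
    rintro _ ⟨x, hx, rfl⟩
    exact congrArg Subtype.val (F.sq x hx)
  have hAcard : Nat.card AA = 64 := by
    have h1 : Nat.card AA = Nat.card (QLevelSp.AW C.S (W : Set V)) :=
      card_map_of_injective C.L.subtype_injective
    rw [h1]
    exact F.card
  have hAt : ∀ x ∈ AA, x * C.t = C.t * x := fun x hx => C.commute_of_mem (hAL x hx)
  have hAb : ∀ u ∈ W, ∀ x ∈ AA, Commute x (C.b u) := by
    intro u hu x hx
    obtain ⟨hxL, hxf⟩ := (QLevelSp.mem_AG C).1 hx
    have h1 := C.b_conj ⟨x, hxL⟩ u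
    rw [hxf u hu] at h1
    exact mul_inv_eq_iff_eq_mul.1 h1
  have hbA : ∀ u ∈ W, C.b u ∈ AA := by
    intro u hu
    refine (QLevelSp.mem_AG C).2 ⟨C.b_mem u, fun v hv => ?_⟩
    have h1 : C.S.ρ (C.S.τ u) v = v := by
      rw [C.S.hτ, ti_WW K v hv u hu, zero_smul, add_zero]
    exact h1
  have hAy : ∀ u ∈ W, u ≠ 0 → ∀ x ∈ AA, x * y u = y u * x := fun u hu hu0 x hx =>
    (hy u hu0).comm x (hAL x hx) (hAb u hu x hx)
  have hAA : ∀ x ∈ AA, ∀ z ∈ AA, x * z = z * x := by
    intro x hx z hz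
    have h1 : x * z = (x * z)⁻¹ := eq_inv_of_mul_eq_one_left (hAsq _ (mul_mem hx hz))
    have h2 : x⁻¹ = x := (eq_inv_of_mul_eq_one_left (hAsq x hx)).symm
    have h3 : z⁻¹ = z := (eq_inv_of_mul_eq_one_left (hAsq z hz)).symm
    rw [h1, mul_inv_rev, h2, h3]
  -- the group `R`
  set Gens : Set G := (AA : Set G) ∪ {g | ∃ u ∈ W, u ≠ 0 ∧ g = y u} with hGens
  have hgc : ∀ g ∈ Gens, ∀ h ∈ Gens, g * h = h * g := by
    rintro g (hg | ⟨u, hu, hu0, rfl⟩) h (hh | ⟨v, hv, hv0, rfl⟩)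
    · exact hAA g hg h hh
    · exact hAy v hv hv0 g hg
    · exact (hAy u hu hu0 h hh).symm
    · exact h0 u v hu0 hv0 (ti_WW K u hu v hv)
  set R : Subgroup G := _root_.Subgroup.closure Gens with hR
  have hRc : ∀ x ∈ R, ∀ z ∈ R, x * z = z * x := by
    intro x hx z hz
    have h1 : R ≤ centralizer Gens := by
      rw [hR, closure_le]
      intro g hg
      exact mem_centralizer_iff.2 fun h hh => hgc h hh g hg
    have h2 : R ≤ centralizer ({x} : Set G) := by
      rw [hR, closure_le]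
      intro g hg
      refine mem_centralizer_iff.2 fun h hh => ?_
      rw [Set.mem_singleton_iff.1 hh]
      exact (mem_centralizer_iff.1 (h1 hx) g hg).symm
    exact mem_centralizer_iff.1 (h2 hz) x rfl
  have hRsq : ∀ x ∈ R, x * x = 1 := by
    intro x hx
    refine closure_induction (p := fun x _ => x * x = 1) ?_ (one_mul 1) ?_ ?_ hx
    · rintro g (hg | ⟨u, hu, hu0, rfl⟩)
      · exact hAsq g hg
      · exact (hy u hu0).sq
    · intro x z hx hz px pz
      calc x * z * (x * z) = x * (z * x) * z := by group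
        _ = x * (x * z) * z := by rw [hRc x hx z hz]
        _ = (x * x) * (z * z) := by group
        _ = 1 := by rw [px, pz, one_mul]
    · intro x _ px
      rw [← mul_inv_rev, px, inv_one]
  have hAR : AA ≤ R := fun x hx => _root_.Subgroup.subset_closure (Or.inl hx)
  have hyR : ∀ u ∈ W, u ≠ 0 → y u ∈ R := fun u hu hu0 => _root_.Subgroup.subset_closure (Or.inr ⟨u, hu, hu0, rfl⟩)
  have htR : ∀ x ∈ R, C.t * x * C.t ∈ R := by
    intro x hx
    refine closure_induction (p := fun x _ => C.t * x * C.t ∈ R) ?_ ?_ ?_ ?_ hx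
    · rintro g (hg | ⟨u, hu, hu0, rfl⟩)
      · have h1 : C.t * g * C.t = g := by rw [← hAt g hg, mul_assoc, C.tt, mul_one]
        rw [h1]
        exact hAR hg
      · rw [IsY.t_conj (hy u hu0)]
        exact mul_mem (hAR (hbA u hu)) (hyR u hu hu0)
    · rw [mul_one, C.tt]
      exact one_mem _
    · intro x z _ _ px pz
      have h1 : C.t * (x * z) * C.t = C.t * x * C.t * (C.t * z * C.t) := by
        calc C.t * (x * z) * C.t = C.t * x * 1 * z * C.t := by group
          _ = C.t * x * (C.t * C.t) * z * C.t := by rw [C.tt]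
          _ = C.t * x * C.t * (C.t * z * C.t) := by group
      rw [h1]
      exact mul_mem px pz
    · intro x _ px
      have h1 : C.t * x⁻¹ * C.t = (C.t * x * C.t)⁻¹ := by
        rw [mul_inv_rev, mul_inv_rev, C.t_inv, mul_assoc]
      rw [h1]
      exact inv_mem px
  -- `C_R(t) = A`
  have hCA : ∀ l ∈ C.L, (∀ x ∈ AA, l * x = x * l) → l ∈ AA := by
    intro l hl h
    have h1 := F.CA ⟨l, hl⟩ (fun x hx => Subtype.ext (h _ ((QLevelSp.mem_AG_coe C).2 hx)))
    exact (QLevelSp.mem_AG_coe C).2 h1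
  have hw0 : ∃ u ∈ W, u ≠ 0 := by
    refine ⟨K.f (Sp.enc 1), ⟨1, by norm_num, rfl⟩, ?_⟩
    intro h
    have h1 : Sp.enc 1 = 0 := K.f.injective (h.trans (map_zero K.f).symm)
    exact absurd h1 (by decide)
  have htnR : C.t ∉ R := by
    intro ht
    obtain ⟨u, hu, hu0⟩ := hw0
    have h1 := hRc _ (hyR u hu hu0) _ ht
    have h2 := (hy u hu0).conj
    rw [h1, mul_assoc, (hy u hu0).sq] at h2
    have h3 : C.b u = C.b 0 := by
      rw [C.b_zero]
      exact (mul_left_cancel h2).symm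
    exact hu0 (C.b_inj h3)
  have hRA : ∀ x ∈ R, x * C.t = C.t * x → x ∈ AA := by
    intro x hx hxt
    rcases (C.cent x).1 hxt with h1 | h1
    · exact hCA x h1 fun z hz => hRc x hx z (hAR hz)
    · exfalso
      have h2 : C.t * x ∈ AA := by
        refine hCA _ h1 fun z hz => ?_
        calc C.t * x * z = C.t * (x * z) := by group
          _ = C.t * (z * x) := by rw [hRc x hx z (hAR hz)]
          _ = C.t * z * x := by group
          _ = z * C.t * x := by rw [hAt z hz]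
          _ = z * (C.t * x) := by group
      apply htnR
      have h3 : C.t = C.t * x * x⁻¹ := by group
      rw [h3]
      exact mul_mem (hAR h2) (inv_mem hx)
  -- the commutator map
  let φ : R →* G := MonoidHom.mk' (fun r => C.t * r * C.t * r) (by
    intro r s
    have h1 := hRc _ (htR s s.2) _ r.2
    change C.t * (r * s : G) * C.t * (r * s) = C.t * r * C.t * r * (C.t * s * C.t * s)
    calc C.t * (r * s : G) * C.t * (r * s) = C.t * r * 1 * s * C.t * (r * s) := by group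
      _ = C.t * r * (C.t * C.t) * s * C.t * (r * s) := by rw [C.tt]
      _ = C.t * r * C.t * ((C.t * s * C.t) * r) * s := by group
      _ = C.t * r * C.t * (r * (C.t * s * C.t)) * s := by rw [h1]
      _ = C.t * r * C.t * r * (C.t * s * C.t * s) := by group)
  have hφ : ∀ r : R, φ r = C.t * r * C.t * r := fun _ => rfl
  have hrange : φ.range = AA := by
    apply le_antisymm
    · rintro _ ⟨r, rfl⟩
      rw [hφ]
      refine hRA _ (mul_mem (htR r r.2) r.2) ?_
      have h1 := hRc _ (htR r r.2) _ r.2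
      calc C.t * (r : G) * C.t * r * C.t = r * (C.t * (r : G) * C.t) * C.t := by rw [h1]
        _ = r * C.t * r * (C.t * C.t) := by group
        _ = 1 * (r * C.t * r) := by rw [C.tt]; group
        _ = C.t * C.t * (r * C.t * r) := by rw [C.tt]
        _ = C.t * (C.t * (r : G) * C.t * r) := by group
    · intro x hx
      obtain ⟨m, -, rfl⟩ := (mem_AG_iff C K).1 hx
      refine ga_mem_of C K _ (fun c h1 h2 => ?_) m
      have hu : K.f (Sp.enc c) ∈ W := ⟨c, h2, rfl⟩
      have hu0 : K.f (Sp.enc c) ≠ 0 := by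
        intro h
        have h3 : Sp.enc c = Sp.enc 0 := by
          rw [Words.enc_zero]
          exact K.f.injective (h.trans (map_zero K.f).symm)
        have := enc_inj (by omega) (by omega) h3
        omega
      refine ⟨⟨_, hyR _ hu hu0⟩, ?_⟩
      rw [hφ]
      change C.t * y _ * C.t * y _ = _
      rw [IsY.t_conj (hy _ hu0), mul_assoc, (hy _ hu0).sq, mul_one]
  have hker : Nat.card φ.ker = 64 := by
    rw [← hAcard]
    refine Nat.card_congr
      { toFun := fun r => ⟨r.1.1, hRA _ r.1.2 (by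
          have h1 : C.t * (r.1 : G) * C.t * r.1 = 1 := r.2
          have h2 := hRsq _ r.1.2
          have h3 : C.t * (r.1 : G) * C.t = r.1 := by
            calc C.t * (r.1 : G) * C.t = C.t * (r.1 : G) * C.t * (r.1 * r.1) := by rw [h2, mul_one]
              _ = (C.t * (r.1 : G) * C.t * r.1) * r.1 := by group
              _ = r.1 := by rw [h1, one_mul]
          calc (r.1 : G) * C.t = (C.t * C.t) * (r.1 : G) * C.t := by rw [C.tt, one_mul]
            _ = C.t * (C.t * (r.1 : G) * C.t) := by group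
            _ = C.t * r.1 := by rw [h3])⟩
        invFun := fun x => ⟨⟨x.1, hAR x.2⟩, by
          rw [MonoidHom.mem_ker, hφ]
          change C.t * (x : G) * C.t * x = 1
          rw [← hAt _ x.2, mul_assoc (x : G), C.tt, mul_one]
          exact hAsq _ x.2⟩
        left_inv := fun r => rfl
        right_inv := fun x => rfl }
  have hcard : Nat.card R = 4096 := by
    rw [← card_mul_index φ.ker, index_ker, hker, hrange, hAcard]
  exact QLevelSp.exists_hom C hL hall W (card_WW K) (ti_WW K) R hRsq hcard htR hAR hRA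

end ctx

end Cfsg.Agent.StdSpSix.SwZero
end

-- part: StdSpSix/AbelRank
section
/-!
# Abelian `2`-subgroups of order at least 64 of `Sp₆(2)` are elementary abelian

In particular an element of order 4 does not centralise an elementary abelian group of order 32.
-/

set_option autoImplicit false

namespace Cfsg.Agent.StdSpSix.AbelRank

open Subgroup Matrix Cfsg.Agent.SporRec.TwoSp6
open Cfsg.Agent.StandardComponent.SpTwo
open Cfsg.Agent.StdSpSix.QLevelModel

/-- abelian subgroups of `P0` of exponent dividing 4 -/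
theorem le_A0 {B : Subgroup Sp.S} (hB : B ≤ P0) (hcomm : ∀ x ∈ B, ∀ y ∈ B, x * y = y * x)
    (h4 : ∀ x ∈ B, x * x * (x * x) = 1) (hcard : 64 ≤ Nat.card B) : B ≤ A0 := by
  classical
  by_contra hle
  rw [SetLike.not_le_iff_exists] at hle
  obtain ⟨b, hb, hbA⟩ := hle
  have hmulM : ∀ x ∈ B, ∀ y ∈ B, ((x * y : Sp.S) : M6).toBlocks₁₁ = (x : M6).toBlocks₁₁ * (y : M6).toBlocks₁₁ := by
    intro x hx y hy
    change ((x : M6) * (y : M6)).toBlocks₁₁ = _
    rw [mul11, mem_P0.1 (hB hy), Matrix.mul_zero, add_zero]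
  have hcommM : ∀ x ∈ B, ∀ y ∈ B, (x : M6).toBlocks₁₁ * (y : M6).toBlocks₁₁ =
      (y : M6).toBlocks₁₁ * (x : M6).toBlocks₁₁ := by
    intro x hx y hy
    rw [← hmulM x hx y hy, ← hmulM y hy x hx, hcomm x hx y hy]
  have hfour : ∀ x ∈ B, Four ((x : M6).toBlocks₁₁) := by
    intro x hx
    unfold Four
    rw [← hmulM x hx x hx, ← hmulM _ (mul_mem hx hx) _ (mul_mem hx hx), h4 x hx]
    exact one11
  -- elements of `A` commuting with `c`
  have hfixM : ∀ c ∈ B, ∀ x, ua x ∈ B → (c : M6).toBlocks₁₁ * sy x * (c : M6).toBlocks₁₁ᵀ = sy x := by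
    intro c hc x hx
    have h1 : (c : M6) * (ua x : M6) = (ua x : M6) * (c : M6) := congrArg Subtype.val (hcomm c hc _ hx)
    have h2 := congrArg Matrix.toBlocks₁₂ h1
    rw [mul12, mul12, ua12, ua22, ua11, Matrix.mul_one, Matrix.one_mul, add_comm ((c : M6).toBlocks₁₂)] at h2
    have h3 := add_right_cancel h2
    have h5 := blk22 (hB hc)
    have h6 : (c : M6).toBlocks₂₂ * (c : M6).toBlocks₁₁ᵀ = 1 := mul_eq_one_comm.1 h5
    rw [h3, Matrix.mul_assoc, h6, Matrix.mul_one]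
  -- the number of elements of `B ∩ A`
  have hcount : ∀ F : Finset (Fin 6 → ZMod 2), (∀ x, ua x ∈ B → x ∈ F) → Nat.card (B ⊓ A0 : Subgroup Sp.S) ≤ F.card := by
    intro F hF
    have h1 : ∀ g : (B ⊓ A0 : Subgroup Sp.S), ∃ x, (g : Sp.S) = ua x := fun g => exists_ua (mem_inf.1 g.2).2
    choose f hf using h1
    have h2 : Nat.card (B ⊓ A0 : Subgroup Sp.S) ≤ Nat.card F := by
      refine Nat.card_le_card_of_injective (fun g => (⟨f g, hF _ ?_⟩ : F)) ?_
      · rw [← hf]; exact (mem_inf.1 g.2).1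
      · intro g g' h
        have h3 := congrArg (Subtype.val : F → _) h
        apply Subtype.ext
        rw [hf, hf]
        exact congrArg ua h3
    have h5 : Nat.card F = F.card := by rw [Nat.card_eq_fintype_card, Fintype.card_coe]
    rwa [h5] at h2
  -- the image of `B` in `GL₃(2)`
  let ψ : B →* K3 := th.comp (inclusion hB)
  have hker : Nat.card ψ.ker = Nat.card (B ⊓ A0 : Subgroup Sp.S) := by
    refine Nat.card_congr ⟨fun g => ⟨(g : B), mem_inf.2 ⟨(g : B).2, (th_eq_one _).1 g.2⟩⟩,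
      fun a => ⟨⟨a, (mem_inf.1 a.2).1⟩, (th_eq_one _).2 (mem_inf.1 a.2).2⟩, fun g => rfl, fun a => rfl⟩
  have hB2 : Nat.card B = Nat.card (B ⊓ A0 : Subgroup Sp.S) * Nat.card ψ.range := by
    rw [← hker, ← index_ker, card_mul_index]
  have hrange : ∀ F : Finset K3, (∀ c : B, ψ c ∈ F) → Nat.card ψ.range ≤ F.card := by
    intro F hF
    have h2 : Nat.card ψ.range ≤ Nat.card F := by
      refine Nat.card_le_card_of_injective (fun g => (⟨g, ?_⟩ : F)) ?_
      · obtain ⟨g, c, rfl⟩ := g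
        exact hF c
      · intro g g' h
        exact Subtype.ext (congrArg (Subtype.val : F → _) h)
    have h5 : Nat.card F = F.card := by rw [Nat.card_eq_fintype_card, Fintype.card_coe]
    rwa [h5] at h2
  have hψ : ∀ c : B, ((ψ c : K3) : M3) = ((c : Sp.S) : M6).toBlocks₁₁ := fun c => rfl
  by_cases hord : ∃ d ∈ B, (d : M6).toBlocks₁₁ * (d : M6).toBlocks₁₁ ≠ 1
  · obtain ⟨d, hd, hdM⟩ := hord
    have h3 := hrange {1, ψ ⟨d, hd⟩, ψ ⟨d, hd⟩ * ψ ⟨d, hd⟩, ψ ⟨d, hd⟩ * ψ ⟨d, hd⟩ * ψ ⟨d, hd⟩} (by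
      intro c
      rw [Finset.mem_insert, Finset.mem_insert, Finset.mem_insert, Finset.mem_singleton]
      rcases q2 _ ⟨hfour d hd, hdM⟩ _ ⟨hfour c c.2, hcommM d hd c c.2⟩ with h | h | h | h
      · exact Or.inl (Units.ext (by rw [hψ, h]; rfl))
      · exact Or.inr (Or.inl (Units.ext (by rw [hψ, hψ, h])))
      · exact Or.inr (Or.inr (Or.inl (Units.ext (by rw [Units.val_mul, hψ, hψ, h]))))
      · exact Or.inr (Or.inr (Or.inr (Units.ext (by rw [Units.val_mul, Units.val_mul, hψ, hψ, h])))))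
    have h4 := hcount _ (fun x hx => Finset.mem_filter.2 ⟨Finset.mem_univ x, hfixM d hd x hx⟩)
    have h5 := h4.trans (q1 _ ⟨hfour d hd, hdM⟩)
    have h6 : ({1, ψ ⟨d, hd⟩, ψ ⟨d, hd⟩ * ψ ⟨d, hd⟩, ψ ⟨d, hd⟩ * ψ ⟨d, hd⟩ * ψ ⟨d, hd⟩} : Finset K3).card ≤ 4 :=
      Finset.card_le_four
    nlinarith only [hcard, hB2, h3, h5, h6]
  push Not at hord
  -- the matrix of `b`
  have hform : ∀ c ∈ B, (c : M6).toBlocks₁₁ ≠ 1 → ∃ w φ, Inv w φ ∧ (c : M6).toBlocks₁₁ = 1 + vecMulVec w φ := by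
    intro c hc hc1
    rcases r1 _ (hord c hc) with h2 | ⟨w, φ, h2, h3⟩
    · exact absurd h2 hc1
    · exact ⟨w, φ, h2, h3⟩
  have hb1 : (b : M6).toBlocks₁₁ ≠ 1 := fun h => hbA (mem_A0.2 ⟨hB hb, h⟩)
  obtain ⟨w, φ, hwφ, hbM⟩ := hform b hb hb1
  have hfix : ∀ c ∈ B, ∀ w φ, Inv w φ → (c : M6).toBlocks₁₁ = 1 + vecMulVec w φ → ∀ x, ua x ∈ B →
      sy x *ᵥ φ = 0 ∨ sy x *ᵥ φ = w := by
    intro c hc w φ hi hM x hx
    have h1 : (c : M6) * (ua x : M6) = (ua x : M6) * (c : M6) := congrArg Subtype.val (hcomm c hc _ hx)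
    have h2 := congrArg Matrix.toBlocks₁₂ h1
    rw [mul12, mul12, ua12, ua22, ua11, Matrix.mul_one, Matrix.one_mul, add_comm ((c : M6).toBlocks₁₂)] at h2
    have h3 := add_right_cancel h2
    have h4 : (c : M6).toBlocks₂₂ = (c : M6).toBlocks₁₁ᵀ := by
      have h5 := blk22 (hB hc)
      have h6 : (c : M6).toBlocks₁₁ᵀ * (c : M6).toBlocks₁₁ᵀ = 1 := by
        rw [← transpose_mul, hord c hc, transpose_one]
      calc (c : M6).toBlocks₂₂ = ((c : M6).toBlocks₁₁ᵀ * (c : M6).toBlocks₁₁ᵀ) * (c : M6).toBlocks₂₂ := by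
            rw [h6, Matrix.one_mul]
        _ = (c : M6).toBlocks₁₁ᵀ := by rw [Matrix.mul_assoc, h5, Matrix.mul_one]
    rw [h4, hM, transpose_add, transpose_one, transpose_vecMulVec, Matrix.add_mul, Matrix.mul_add, Matrix.one_mul,
      Matrix.mul_one, vecMulVec_mul, mul_vecMulVec] at h3
    have h5 := add_left_cancel h3
    have h6 : φ ᵥ* sy x = sy x *ᵥ φ := by
      rw [← sy_symm x, vecMul_transpose, sy_symm]
    rw [h6] at h5
    rcases r2 _ _ h5 with h7 | h7 | h7
    · exact absurd h7 hi.1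
    · exact Or.inl h7
    · exact Or.inr h7
  by_cases h2 : ∀ c ∈ B, (c : M6).toBlocks₁₁ = 1 ∨ (c : M6).toBlocks₁₁ = (b : M6).toBlocks₁₁
  · have h3 := hrange {1, ψ ⟨b, hb⟩} (by
      intro c
      rw [Finset.mem_insert, Finset.mem_singleton]
      rcases h2 c c.2 with h | h
      · exact Or.inl (Units.ext (by rw [hψ, h]; rfl))
      · exact Or.inr (Units.ext (by rw [hψ, hψ, h])))
    have h4 := hcount _ (fun x hx => Finset.mem_filter.2 ⟨Finset.mem_univ x, hfix b hb w φ hwφ hbM x hx⟩)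
    have h5 := h4.trans (r4 w φ hwφ)
    have h6 : ({1, ψ ⟨b, hb⟩} : Finset K3).card ≤ 2 := Finset.card_le_two
    nlinarith only [hcard, hB2, h3, h5, h6]
  · push Not at h2
    obtain ⟨c, hc, hc1, hcb⟩ := h2
    obtain ⟨w', φ', hi', hcM⟩ := hform c hc hc1
    have hcom : ∀ x ∈ B, ∀ y ∈ B, ∀ u ψ v χ, Inv u ψ → Inv v χ → (x : M6).toBlocks₁₁ = 1 + vecMulVec u ψ →
        (y : M6).toBlocks₁₁ = 1 + vecMulVec v χ → Com u ψ v χ := by
      intro x hx y hy u ψ v χ h1 h2 h3 h4
      apply r3 u ψ h1 v χ h2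
      rw [← h3, ← h4]
      exact hcommM x hx y hy
    have hD : ComD w φ w' φ' := by
      refine ⟨hi', hcom b hb c hc _ _ _ _ hwφ hi' hbM hcM, ?_⟩
      by_contra hne
      push Not at hne
      apply hcb
      rw [hbM, hcM, hne.1, hne.2]
    have h3 := hrange {1, ψ ⟨b, hb⟩, ψ ⟨c, hc⟩, ψ ⟨b, hb⟩ * ψ ⟨c, hc⟩} (by
      intro d
      rw [Finset.mem_insert, Finset.mem_insert, Finset.mem_insert, Finset.mem_singleton]
      by_cases hd1 : ((d : Sp.S) : M6).toBlocks₁₁ = 1
      · exact Or.inl (Units.ext (by rw [hψ, hd1]; rfl))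
      · right
        obtain ⟨u, χ, hi, hdM⟩ := hform d d.2 hd1
        have h4 := r6 w φ hwφ w' φ' hD u χ ⟨hi, hcom b hb d d.2 _ _ _ _ hwφ hi hbM hdM,
          hcom c hc d d.2 _ _ _ _ hi' hi hcM hdM⟩
        rw [← hbM, ← hcM, ← hdM] at h4
        rcases h4 with h4 | h4 | h4
        · exact Or.inl (Units.ext (by rw [hψ, hψ, h4]))
        · exact Or.inr (Or.inl (Units.ext (by rw [hψ, hψ, h4])))
        · exact Or.inr (Or.inr (Units.ext (by rw [Units.val_mul, hψ, hψ, hψ, h4]))))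
    have h4 := hcount (Finset.univ.filter fun x : Fin 6 → ZMod 2 => (sy x *ᵥ φ = 0 ∨ sy x *ᵥ φ = w) ∧
      (sy x *ᵥ φ' = 0 ∨ sy x *ᵥ φ' = w')) (fun x hx => Finset.mem_filter.2 ⟨Finset.mem_univ x,
      hfix b hb w φ hwφ hbM x hx, hfix c hc w' φ' hi' hcM x hx⟩)
    have h5 := h4.trans (r5 w φ hwφ w' φ' hD)
    have h6 : ({1, ψ ⟨b, hb⟩, ψ ⟨c, hc⟩, ψ ⟨b, hb⟩ * ψ ⟨c, hc⟩} : Finset K3).card ≤ 4 := Finset.card_le_four
    nlinarith only [hcard, hB2, h3, h5, h6]

/-- Abelian subgroups of exponent dividing 4 and order at least 64 are elementary abelian. -/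
theorem sq_of_abelian_S (B : Subgroup Sp.S) (hcomm : ∀ x ∈ B, ∀ y ∈ B, x * y = y * x)
    (h4 : ∀ x ∈ B, x * x * (x * x) = 1) (hcard : 64 ≤ Nat.card B) : ∀ x ∈ B, x * x = 1 := by
  have hp : IsPGroup 2 B := by
    intro x
    refine ⟨2, Subtype.ext ?_⟩
    have h := h4 x x.2
    change ((x : Sp.S)) ^ (2 ^ 2) = 1
    rw [← h]
    norm_num only [pow_succ, mul_assoc, _root_.pow_zero, _root_.one_mul]
  obtain ⟨l, hl⟩ := exists_conj_le P0 B (by rw [index_P0]; decide) hp
  set B' : Subgroup Sp.S := B.map (MulAut.conj l⁻¹).toMonoidHom with hB'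
  have hmem : ∀ x, x ∈ B' ↔ l * x * l⁻¹ ∈ B := by
    intro x
    rw [hB', QLevel.Data.mem_map_conj, inv_inv]
  have hB'P : B' ≤ P0 := by
    intro x hx
    have := hl _ ((hmem x).1 hx)
    have h2 : l⁻¹ * (l * x * l⁻¹) * l = x := by group
    rwa [h2] at this
  have hcomm' : ∀ x ∈ B', ∀ y ∈ B', x * y = y * x := by
    intro x hx y hy
    have h1 := hcomm _ ((hmem x).1 hx) _ ((hmem y).1 hy)
    calc x * y = l⁻¹ * (l * x * l⁻¹ * (l * y * l⁻¹)) * l := by group
      _ = y * x := by rw [h1]; group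
  have h4' : ∀ x ∈ B', x * x * (x * x) = 1 := by
    intro x hx
    have h1 := h4 _ ((hmem x).1 hx)
    calc x * x * (x * x) = l⁻¹ * (l * x * l⁻¹ * (l * x * l⁻¹) * (l * x * l⁻¹ * (l * x * l⁻¹))) * l := by group
      _ = 1 := by rw [h1]; group
  have hcard' : 64 ≤ Nat.card B' := by
    rw [QLevel.Data.card_conj_of_iff (l := l⁻¹) (A := B) (fun x => by rw [inv_inv]; exact hmem x)]
    exact hcard
  have h := le_A0 hB'P hcomm' h4' hcard'
  intro x hx
  have h1 : l⁻¹ * x * l ∈ B' := by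
    rw [hmem]
    have h2 : l * (l⁻¹ * x * l) * l⁻¹ = x := by group
    rwa [h2]
  have h2 := A0_sq (h h1)
  calc x * x = l * (l⁻¹ * x * l * (l⁻¹ * x * l)) * l⁻¹ := by group
    _ = 1 := by rw [h2]; group

variable {X V : Type*} [Group X] [AddCommGroup V] [Module (ZMod 2) V]

theorem sq_of_abelian (S : SpData X V) (hV : Nat.card V = 64) (B : Subgroup X)
    (hcomm : ∀ x ∈ B, ∀ y ∈ B, x * y = y * x) (h4 : ∀ x ∈ B, x * x * (x * x) = 1) (hcard : 64 ≤ Nat.card B) :
    ∀ x ∈ B, x * x = 1 := by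
  obtain ⟨c⟩ := Model.exists_coord S hV
  have hm : ∀ x, x ∈ B.comap c.e.toMonoidHom ↔ c.e x ∈ B := fun x => Iff.rfl
  have hc : Nat.card (B.comap c.e.toMonoidHom) = Nat.card B :=
    Nat.card_congr (Equiv.subtypeEquiv c.e.toEquiv hm)
  have h := sq_of_abelian_S (B.comap c.e.toMonoidHom) (fun x hx y hy => by
      apply c.e.injective
      rw [map_mul, map_mul]
      exact hcomm _ hx _ hy) (fun x hx => by
      apply c.e.injective
      rw [map_mul, map_mul, map_one]
      exact h4 _ hx) (by rw [hc]; exact hcard)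
  intro x hx
  obtain ⟨y, rfl⟩ := c.e.surjective x
  rw [← map_mul, h y hx, map_one]

/-- **(F3)** No element of order 4 of `Sp₆(2)` centralises an elementary abelian subgroup of order 32. -/
theorem sq_of_commute (S : SpData X V) (hV : Nat.card V = 64) (B : Subgroup X) (hsq : ∀ x ∈ B, x * x = 1)
    (hcard : 32 ≤ Nat.card B) {c : X} (hc : ∀ x ∈ B, c * x = x * c) (h4 : c * c * (c * c) = 1) : c * c = 1 := by
  by_cases hcB : c ∈ B
  · exact hsq c hcB
  have hBc : ∀ x ∈ B, ∀ y ∈ B, x * y = y * x := fun x hx y hy => QLevel.comm_of_sq hsq hx hy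
  have hcz : ∀ x ∈ B, ∀ i : ℤ, c ^ i * x = x * c ^ i := fun x hx i => (Commute.zpow_left (hc x hx) i : _)
  let T : Subgroup X :=
    { carrier := {x | ∃ b ∈ B, ∃ i : ℤ, x = b * c ^ i}
      one_mem' := ⟨1, one_mem _, 0, by group⟩
      mul_mem' := by
        rintro _ _ ⟨b, hb, i, rfl⟩ ⟨b', hb', j, rfl⟩
        refine ⟨b * b', mul_mem hb hb', i + j, ?_⟩
        calc b * c ^ i * (b' * c ^ j) = b * (c ^ i * b') * c ^ j := by group
          _ = b * b' * c ^ (i + j) := by rw [hcz b' hb' i]; group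
      inv_mem' := by
        rintro _ ⟨b, hb, i, rfl⟩
        refine ⟨b⁻¹, inv_mem hb, -i, ?_⟩
        rw [_root_.mul_inv_rev, ← _root_.zpow_neg]
        exact hcz _ (inv_mem hb) (-i) }
  have hBT : B ≤ T := fun b hb => ⟨b, hb, 0, by group⟩
  have hcT : c ∈ T := ⟨1, one_mem _, 1, by group⟩
  have hfin : Finite X := by
    obtain ⟨k⟩ := Model.exists_coord S hV
    exact Finite.of_equiv _ k.e.toEquiv
  have h64 : 64 ≤ Nat.card T := by
    have h1 : Nat.card B * B.relIndex T = Nat.card T := by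
      rw [mul_comm, ← Subgroup.relIndex_bot_left, ← Subgroup.relIndex_bot_left, mul_comm]
      exact relIndex_mul_relIndex _ _ _ bot_le hBT
    have h2 : B.relIndex T ≠ 1 := by
      rw [Ne, relIndex_eq_one]
      exact fun h => hcB (h hcT)
    have h3 : B.relIndex T ≠ 0 := by
      rw [relIndex]
      exact index_ne_zero_of_finite
    have h4 : 2 ≤ B.relIndex T := by omega
    nlinarith
  refine sq_of_abelian S hV T ?_ ?_ h64 c hcT
  · rintro _ ⟨b, hb, i, rfl⟩ _ ⟨b', hb', j, rfl⟩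
    calc b * c ^ i * (b' * c ^ j) = b * (c ^ i * b') * c ^ j := by group
      _ = b * b' * c ^ (i + j) := by rw [hcz b' hb' i]; group
      _ = b' * b * c ^ (j + i) := by rw [hBc b hb b' hb', add_comm]
      _ = b' * (b * c ^ j) * c ^ i := by group
      _ = b' * c ^ j * (b * c ^ i) := by rw [← hcz b hb j]; group
  · rintro _ ⟨b, hb, i, rfl⟩
    have e1 : b * c ^ i * (b * c ^ i) = c ^ (i + i) := by
      calc b * c ^ i * (b * c ^ i) = b * (c ^ i * b) * c ^ i := by group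
        _ = b * b * c ^ (i + i) := by rw [hcz b hb i]; group
        _ = c ^ (i + i) := by rw [hsq b hb, one_mul]
    have e2 : c ^ (4 : ℤ) = 1 := by
      calc c ^ (4 : ℤ) = c ^ 4 := by norm_cast
        _ = c * c * (c * c) := by rw [pow_succ, pow_succ, pow_two, mul_assoc]
        _ = 1 := h4
    rw [e1]
    calc c ^ (i + i) * c ^ (i + i) = (c ^ (4 : ℤ)) ^ i := by rw [← _root_.zpow_add, ← _root_.zpow_mul]; congr 1; ring
      _ = 1 := by rw [e2, _root_.one_zpow]

end Cfsg.Agent.StdSpSix.AbelRank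
end

-- part: StdSpSix/EpsFin
section
/-!
# Pattern ALL, `[y_u, y_v] = b_{u+v}` (`ε = 1`): a sign on `G`
-/

set_option autoImplicit false
set_option synthInstance.maxSize 2000

namespace Cfsg.Agent.StdSpSix.EpsFin

open Subgroup
open Cfsg.Agent.StandardComponent.SpTwo
open Cfsg.Agent.SporRec.TwoSp6
open Cfsg.Agent.StdSpSix.Eps
open Cfsg.Agent.StdSpSix.SwZero (WW card_WW ti_WW mem_WW mem_AG_iff ga_mem_of)
open Cfsg.Agent.StdSpSix.QLevelSp (AW AG mem_AW mem_AG AG_le mem_AG_coe mem_normalizer_AG)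

/-! ### the plane -/

/-- the plane in coordinates -/
def io : F3 →ₗ[ZMod 2] Sp.V where
  toFun w := w.1 • Sp.enc 1 + w.2.1 • Sp.enc 2 + w.2.2 • Sp.enc 4
  map_add' u v := by
    simp only [Prod.fst_add, Prod.snd_add]
    module
  map_smul' r u := by
    simp only [Prod.smul_fst, Prod.smul_snd, smul_eq_mul, RingHom.id_apply]
    module

theorem io_enc {c : ℕ} (hc : c < 8) : ∃ w, io w = Sp.enc c := by
  have key : ∀ c : Fin 8, ∃ w : F3, io w = Sp.enc c := by decide +kernel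
  exact key ⟨c, hc⟩

theorem io_lt (w : F3) : ∃ c < 8, io w = Sp.enc c := by
  have key : ∀ w : F3, ∃ c : Fin 8, io w = Sp.enc c := by decide +kernel
  obtain ⟨c, hc⟩ := key w
  exact ⟨c, c.2, hc⟩

theorem om_io (u v : F3) : Sp.om (io u) (io v) = 0 := by
  obtain ⟨c, hc, h1⟩ := io_lt u
  obtain ⟨d, hd, h2⟩ := io_lt v
  rw [h1, h2]
  exact EA.om_small c hc d hd

theorem io_ne {w : F3} (h : io w = 0) : w = 0 := by
  revert w; decide +kernel

theorem io_inj {u v : F3} (h : io u = io v) : u = v := by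
  apply F3.eq_of_add
  apply io_ne
  rw [map_add, h, Sp.add_self]

theorem om8 (w : F3) : Sp.om (io w) (Sp.enc 8) = w.1 ∧ Sp.om (io w) (Sp.enc 16) = w.2.1 ∧
    Sp.om (io w) (Sp.enc 32) = w.2.2 := by
  revert w; decide +kernel

theorem io_perp {x : Sp.V} (h : ∀ w, Sp.om x (io w) = 0) : ∃ w, x = io w := by
  have key : ∀ x : Sp.V, (∀ w : F3, Sp.om x (io w) = 0) → ∃ w : F3, x = io w := by decide +kernel
  exact key x h

section plane

variable {X V : Type*} [Group X] [AddCommGroup V] [Module (ZMod 2) V] {S : SpData X V} (K : Model.Coord S)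

/-- the plane in `V` -/
def ι (w : F3) : V := K.f (io w)

theorem ι_add (u v : F3) : ι K (u + v) = ι K u + ι K v := by
  unfold ι
  rw [map_add, map_add]

theorem ι_zero : ι K 0 = 0 := by
  unfold ι
  rw [map_zero, map_zero]

theorem ι_inj {u v : F3} (h : ι K u = ι K v) : u = v := io_inj (K.f.injective h)

theorem ι_ne {u : F3} (h : u ≠ 0) : ι K u ≠ 0 := fun h1 => h (ι_inj K (h1.trans (ι_zero K).symm))

theorem ι_B (u v : F3) : S.B (ι K u) (ι K v) = 0 := by
  unfold ι
  rw [K.om, om_io]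

theorem mem_W_iff {v : V} : v ∈ WW K ↔ ∃ w, v = ι K w := by
  rw [mem_WW]
  constructor
  · rintro ⟨c, hc, rfl⟩
    obtain ⟨w, hw⟩ := io_enc hc
    exact ⟨w, by unfold ι; rw [hw]⟩
  · rintro ⟨w, rfl⟩
    obtain ⟨c, hc, h⟩ := io_lt w
    exact ⟨c, hc, by unfold ι; rw [h]⟩

theorem ι_perp {v : V} (h : ∀ w, S.B v (ι K w) = 0) : ∃ w, v = ι K w := by
  obtain ⟨x, rfl⟩ := K.f.surjective v
  obtain ⟨w, hw⟩ := io_perp (x := x) (fun w => by rw [← K.om]; exact h w)
  exact ⟨w, by unfold ι; rw [hw]⟩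

theorem fix_ι {g : X} (hg : g ∈ AW S (WW K : Set V)) (w : F3) : S.ρ g (ι K w) = ι K w :=
  hg _ ((mem_W_iff K).2 ⟨w, rfl⟩)

theorem mem_AW_ι {g : X} (h : ∀ w, S.ρ g (ι K w) = ι K w) : g ∈ AW S (WW K : Set V) := by
  intro v hv
  obtain ⟨w, rfl⟩ := (mem_W_iff K).1 hv
  exact h w

theorem sub_mem {g : X} (hg : g ∈ AW S (WW K : Set V)) (z : V) : ∃ w, S.ρ g z + z = ι K w := by
  apply ι_perp
  intro w
  rw [map_add, LinearMap.add_apply]
  conv_lhs => rw [← fix_ι K hg w, S.inv, fix_ι K hg w]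
  exact CharTwo.add_self_eq_zero _

theorem phi_mul {g h : X} (hg : g ∈ AW S (WW K : Set V)) (hh : h ∈ AW S (WW K : Set V)) (z : V) :
    S.B (S.ρ (g * h) z) z = S.B (S.ρ g z) z + S.B (S.ρ h z) z := by
  obtain ⟨w, hw⟩ := sub_mem K hh z
  have h1 : S.ρ h z = z + ι K w := by
    rw [← hw, add_comm z, aab]
  rw [S.ρ_mul, h1, map_add, fix_ι K hg, map_add, LinearMap.add_apply, map_add, LinearMap.add_apply, S.alt, zero_add]

theorem τ_mem_AW (w : F3) : S.τ (ι K w) ∈ AW S (WW K : Set V) := by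
  apply mem_AW_ι
  intro v
  rw [S.hτ, ι_B, zero_smul, add_zero]

theorem ι_of_τ_mem {v : V} (h : S.τ v ∈ AW S (WW K : Set V)) : ∃ w, v = ι K w := by
  by_cases hv : v = 0
  · exact ⟨0, by rw [hv, ι_zero]⟩
  · apply ι_perp
    intro w
    have h1 := fix_ι K h w
    rw [S.hτ] at h1
    have h2 : S.B (ι K w) v • v = 0 := left_eq_add.1 h1.symm
    rcases z2 (S.B (ι K w) v) with h3 | h3
    · rw [S.symm]; exact h3
    · rw [h3, one_smul] at h2
      exact absurd h2 hv

/-- the action of `a u v` -/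
theorem rho_a {u v : V} (huv : S.B u v = 0) (z : V) :
    S.ρ (S.τ u * S.τ v * S.τ (u + v)) z = z + S.B z u • v + S.B z v • u := by
  have hvu : S.B v u = 0 := by rw [S.symm]; exact huv
  rw [S.ρ_mul, S.hτ, map_add, map_smul, S.ττ, S.ττ, hvu]
  simp only [map_add, LinearMap.add_apply, S.alt, huv, hvu, add_zero, mul_zero, zero_smul]
  rcases z2 (S.B z u) with h1 | h1 <;> rcases z2 (S.B z v) with h2 | h2 <;> rw [h1, h2]
  · simp
  · have : (0 : ZMod 2) + 1 = 1 := rfl
    rw [this, one_smul, one_smul, zero_smul, zero_smul, add_zero, add_zero]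
    calc z + v + (u + v) = z + u + (v + v) := by abel
      _ = z + (1 : ZMod 2) • u := by rw [aa, add_zero, one_smul]
  · have : (1 : ZMod 2) + 0 = 1 := rfl
    rw [this, one_smul, one_smul, zero_smul, zero_smul, add_zero, add_zero]
    calc z + u + (u + v) = z + v + (u + u) := by abel
      _ = z + (1 : ZMod 2) • v := by rw [aa, add_zero, one_smul]
  · have : (1 : ZMod 2) + 1 = 0 := rfl
    rw [this, zero_smul, one_smul, one_smul, add_zero]

theorem bil (u v w : F3) : S.τ (ι K u) * S.τ (ι K (v + w)) * S.τ (ι K (u + (v + w))) =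
    (S.τ (ι K u) * S.τ (ι K v) * S.τ (ι K (u + v))) * (S.τ (ι K u) * S.τ (ι K w) * S.τ (ι K (u + w))) := by
  apply S.ext_iff
  intro z
  rw [S.ρ_mul (S.τ (ι K u) * S.τ (ι K v) * S.τ (ι K (u + v))), ι_add K u, ι_add K u, ι_add K u,
    rho_a (ι_B K _ _), rho_a (ι_B K _ _), rho_a (ι_B K _ _)]
  simp only [map_add, map_smul, LinearMap.add_apply, LinearMap.smul_apply, ι_B, ι_add, smul_zero, add_zero]
  module

theorem a1 {u v : F3} (h : S.τ (ι K u) * S.τ (ι K v) * S.τ (ι K (u + v)) = 1) : u = 0 ∨ v = 0 ∨ u = v := by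
  by_contra hcon
  push Not at hcon
  obtain ⟨hu, hv, huv⟩ := hcon
  have h1 : ∃ z, S.B z (ι K u) ≠ 0 := by
    by_contra h2
    push Not at h2
    exact ι_ne K hu (S.nondeg _ fun z => by rw [S.symm]; exact h2 z)
  obtain ⟨z, hz⟩ := h1
  have h2 := rho_a (ι_B K u v) z
  rw [← ι_add, h, S.ρ_one, (z2 _).resolve_left hz, one_smul, add_assoc] at h2
  have h3 : ι K v + S.B z (ι K v) • ι K u = 0 := left_eq_add.1 h2
  rcases z2 (S.B z (ι K v)) with h4 | h4
  · rw [h4, zero_smul, add_zero] at h3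
    exact ι_ne K hv h3
  · rw [h4, one_smul, ← ι_add, ← ι_zero K] at h3
    have := ι_inj K h3
    exact huv (F3.eq_of_add this).symm

/-- the elements normalising `A` preserve the plane -/
theorem exists_σ {g : X} (hg : g ∈ normalizer (AW S (WW K : Set V) : Set X)) :
    ∃ σ : F3 ≃+ F3, ∀ w, S.ρ g (ι K w) = ι K (σ w) := by
  have h1 : ∀ w, ∃ w', S.ρ g (ι K w) = ι K w' := by
    intro w
    apply ι_of_τ_mem
    rw [← S.conj_τ]
    exact (mem_normalizer_iff.1 hg _).1 (τ_mem_AW K w)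
  choose f hf using h1
  let f0 : F3 →+ F3 :=
    { toFun := f
      map_zero' := ι_inj K (by rw [← hf, ι_zero, map_zero])
      map_add' := fun u v => ι_inj K (by rw [← hf, ι_add, map_add, hf, hf, ι_add]) }
  have hf0 : Function.Injective f0 := by
    intro u v huv
    apply ι_inj K
    apply S.ρ_inj g
    rw [hf, hf]
    exact congrArg (ι K) huv
  exact ⟨AddEquiv.ofBijective f0 (Finite.injective_iff_bijective.1 hf0), hf⟩

/-- every linear map of the plane is induced -/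
theorem exists_g (σ : F3 ≃+ F3) : ∃ g : X, ∀ w, S.ρ g (ι K w) = ι K (σ w) := by
  have hI0 : Invol.Ind (io (1, 0, 0)) (io (0, 1, 0)) (io (0, 0, 1)) := by decide +kernel
  have hne : ∀ {u v : F3}, u ≠ v → io u ≠ io v := fun h h1 => h (io_inj h1)
  have hσ : ∀ {u v : F3}, u ≠ v → io (σ u) ≠ io (σ v) := fun h => hne fun h1 => h (σ.injective h1)
  have h0 : (0 : Sp.V) = io (σ 0) := by rw [map_zero, map_zero]
  have hI : Invol.Ind (io (σ (1, 0, 0))) (io (σ (0, 1, 0))) (io (σ (0, 0, 1))) := by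
    refine ⟨?_, ?_, hσ (by decide), ?_, hσ (by decide), hσ (by decide), ?_⟩
    · rw [h0]; exact hσ (by decide)
    · rw [h0]; exact hσ (by decide)
    · rw [h0]; exact hσ (by decide)
    · rw [← map_add, ← map_add]; exact hσ (by decide)
  obtain ⟨g, h1, h2, h3⟩ := Invol.exists_triple hI0 ⟨om_io _ _, om_io _ _, om_io _ _⟩ hI ⟨om_io _ _, om_io _ _, om_io _ _⟩
  refine ⟨K.e g, fun w => ?_⟩
  unfold ι
  rw [K.act]
  congr 1
  refine WData.ind3 (P := fun w => Sp.act g (io w) = io (σ w)) ?_ h1 h2 h3 ?_ w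
  · rw [map_zero, map_zero, map_zero, Invol.act_zero]
  · intro u v hu hv
    rw [map_add, map_add, map_add, Sp.act_add, hu, hv]

end plane

section ctx

variable {G V : Type*} [Group G] [AddCommGroup V] [Module (ZMod 2) V] (C : Ctx G V) (K : Model.Coord C.S)

open Classical in
/-- the projection `Q → W` -/
noncomputable def pr (g : G) : F3 :=
  if h : g ∈ C.L then (C.S.B (C.S.ρ ⟨g, h⟩ (K.f (Sp.enc 8))) (K.f (Sp.enc 8)),
    C.S.B (C.S.ρ ⟨g, h⟩ (K.f (Sp.enc 16))) (K.f (Sp.enc 16)),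
    C.S.B (C.S.ρ ⟨g, h⟩ (K.f (Sp.enc 32))) (K.f (Sp.enc 32))) else 0

theorem pr_mul {g h : G} (hg : g ∈ AG C (WW K : Set V)) (hh : h ∈ AG C (WW K : Set V)) :
    pr C K (g * h) = pr C K g + pr C K h := by
  obtain ⟨x, hx, rfl⟩ := hg
  obtain ⟨z, hz, rfl⟩ := hh
  have h1 : C.L.subtype x * C.L.subtype z = C.L.subtype (x * z) := rfl
  have e : ∀ x : C.L, pr C K (C.L.subtype x) = (C.S.B (C.S.ρ x (K.f (Sp.enc 8))) (K.f (Sp.enc 8)),
    C.S.B (C.S.ρ x (K.f (Sp.enc 16))) (K.f (Sp.enc 16)),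
    C.S.B (C.S.ρ x (K.f (Sp.enc 32))) (K.f (Sp.enc 32))) := by
    intro x
    unfold pr
    rw [dif_pos (show C.L.subtype x ∈ C.L from x.2)]
    rfl
  rw [h1, e, e, e, phi_mul K hx hz, phi_mul K hx hz, phi_mul K hx hz]
  rfl

theorem pr_b (w : F3) : pr C K (C.b (ι K w)) = w := by
  unfold pr
  rw [dif_pos (C.b_mem _)]
  have h1 : (⟨C.b (ι K w), C.b_mem _⟩ : C.L) = C.S.τ (ι K w) := rfl
  have sq : ∀ s : ZMod 2, s * s = s := by decide
  have key : ∀ c, C.S.B (C.S.ρ (C.S.τ (ι K w)) (K.f (Sp.enc c))) (K.f (Sp.enc c)) = Sp.om (io w) (Sp.enc c) := by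
    intro c
    rw [C.S.hτ, map_add, LinearMap.add_apply, C.S.alt, zero_add, map_smul, LinearMap.smul_apply, C.S.symm (K.f _) (ι K w),
      smul_eq_mul, sq]
    unfold ι
    rw [K.om]
  rw [h1, key, key, key, (om8 w).1, (om8 w).2.1, (om8 w).2.2]

variable {C} in
/-- the data -/
noncomputable def wdata [Finite G] (hL : ∀ x ∈ C.L, x ∉ C.D) (hall : ∀ x ∈ C.L, x * x = 1 → C.t * x ∈ C.D)
    (y : V → G) (hy : ∀ u, u ≠ 0 → IsY C u (y u))
    (h1 : ∀ u v, u ≠ 0 → v ≠ 0 → u ≠ v → C.S.B u v = 0 → (y u * y v) * (y u * y v) = C.b (u + v)) : WData G :=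
  have F := QLevelSp.facts_AW C.S C.cardV (WW K) (card_WW K) (ti_WW K)
  have hQQ : ∀ x ∈ AG C (WW K : Set V), x * x = 1 := by
    rintro _ ⟨x, hx, rfl⟩
    exact congrArg Subtype.val (F.sq x hx)
  have hbQ : ∀ w, C.b (ι K w) ∈ AG C (WW K : Set V) := fun w => (mem_AG_coe C).2 (τ_mem_AW K w)
  have hQc : ∀ x ∈ AG C (WW K : Set V), ∀ z ∈ AG C (WW K : Set V), x * z = z * x := fun x hx z hz =>
    QLevel.comm_of_sq hQQ hx hz
  have hCA : ∀ l ∈ C.L, (∀ a ∈ AG C (WW K : Set V), l * a = a * l) → l ∈ AG C (WW K : Set V) := by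
    intro l hl h
    have h1 := F.CA ⟨l, hl⟩ (fun a ha => Subtype.ext (h _ ((mem_AG_coe C).2 ha)))
    exact (mem_AG_coe C).2 h1
  have hyQ : ∀ w, w ≠ 0 → ∀ q ∈ AG C (WW K : Set V), q * y (ι K w) = y (ι K w) * q := fun w hw q hq =>
    (hy _ (ι_ne K hw)).comm q (AG_le C _ hq) (hQc q hq _ (hbQ w))
  have hty : ∀ w, w ≠ 0 → C.t * y (ι K w) * (C.t * y (ι K w)) = C.b (ι K w) := by
    intro w hw
    have h := hy _ (ι_ne K hw)
    calc C.t * y (ι K w) * (C.t * y (ι K w)) = C.t * (y (ι K w) * C.t * y (ι K w)) := by group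
      _ = (C.t * C.t) * C.b (ι K w) := by rw [h.conj]; group
      _ = _ := by rw [C.tt, one_mul]
  { t := C.t
    L := C.L
    Q := AG C (WW K : Set V)
    tt := C.tt
    cent := C.cent
    DL := fun g h => hL _ h ⟨g, rfl⟩
    all := fun l hl hll => hall l hl hll
    QL := AG_le C _
    cardQ := by rw [AG, card_map_of_injective C.L.subtype_injective, F.card]
    sat := by
      intro B hB hBsq hBc
      have h1 : Nat.card (B.subgroupOf C.L) = Nat.card B := QLevel.card_sub_eq hB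
      obtain ⟨l, hl⟩ := F.sat (B.subgroupOf C.L) (fun x hx => Subtype.ext (hBsq _ hx)) (by rw [h1]; exact hBc)
      refine ⟨l, l.2, fun x => ?_⟩
      constructor
      · intro hx
        have h2 := (hl ⟨x, hB hx⟩).1 hx
        exact (mem_AG_coe C).2 h2
      · intro hx
        have hxL := AG_le C _ hx
        have hxL' : x ∈ C.L := by
          have h2 := mul_mem (mul_mem l.2 hxL) (inv_mem l.2)
          have h3 : (l : G) * ((l : G)⁻¹ * x * l) * (l : G)⁻¹ = x := by group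
          rwa [h3] at h2
        exact (hl ⟨x, hxL'⟩).2 ((mem_AG_coe C).1 hx)
    CQ := hCA
    ord4 := by
      intro c hc B hB hBsq hBc hcom h4
      have h1 : Nat.card (B.subgroupOf C.L) = Nat.card B := QLevel.card_sub_eq hB
      have h2 := AbelRank.sq_of_commute C.S C.cardV (B.subgroupOf C.L) (fun x hx => Subtype.ext (hBsq _ hx))
        (by rw [h1]; exact hBc) (c := ⟨c, hc⟩) (fun x hx => Subtype.ext (hcom _ hx)) (Subtype.ext h4)
      exact congrArg Subtype.val h2
    odd := by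
      have h1 : (normalizer (AG C (WW K : Set V) : Set G)).subgroupOf C.L = normalizer (AW C.S (WW K : Set V) : Set C.L) := by
        ext x
        rw [mem_subgroupOf]
        exact mem_normalizer_AG C
      rw [relIndex, h1]
      exact F.odd
    lift := by
      intro n hn hN hnn
      have h1 : (⟨n, hn⟩ : C.L) ∈ normalizer (AW C.S (WW K : Set V) : Set C.L) := (mem_normalizer_AG C).1 hN
      obtain ⟨a, ha, h2⟩ := F.lift _ h1 ((mem_AG_coe C).1 hnn)
      exact ⟨a, (mem_AG_coe C).2 ha, congrArg Subtype.val h2⟩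
    b := fun w => C.b (ι K w)
    y := fun w => if w = 0 then C.t else y (ι K w)
    π := pr C K
    b0 := by rw [ι_zero, C.b_zero]
    y0 := if_pos rfl
    QQ := hQQ
    bQ := hbQ
    gen := by
      intro P hP q hq
      obtain ⟨m, -, rfl⟩ := (mem_AG_iff C K).1 hq
      refine ga_mem_of C K P (fun c h1 h2 => ?_) m
      obtain ⟨w, hw⟩ := io_enc h2
      rw [← hw]
      exact hP w
    πmul := fun x hx z hz => pr_mul C K hx hz
    πb := pr_b C K
    y2 := by
      intro w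
      split_ifs with h
      · exact C.tt
      · exact (hy _ (ι_ne K h)).sq
    yQ := by
      intro w q hq
      split_ifs with h
      · exact C.commute_of_mem (AG_le C _ hq)
      · exact hyQ w h q hq
    yy := by
      intro v w
      by_cases hv : v = 0
      · by_cases hw : w = 0
        · rw [if_pos hv, if_pos hw, hv, hw, add_zero, ι_zero, C.b_zero, C.tt, one_mul]
        · rw [if_pos hv, if_neg hw, hv, zero_add]
          exact hty w hw
      · by_cases hw : w = 0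
        · rw [if_neg hv, if_pos hw, hw, add_zero]
          have h := hy _ (ι_ne K hv)
          calc y (ι K v) * C.t * (y (ι K v) * C.t) = (y (ι K v) * C.t * y (ι K v)) * C.t := by group
            _ = C.t * (C.b (ι K v) * C.t) := by rw [h.conj]; group
            _ = C.t * (C.t * C.b (ι K v)) := by rw [C.commute_of_mem (C.b_mem _)]
            _ = (C.t * C.t) * C.b (ι K v) := by group
            _ = _ := by rw [C.tt, one_mul]
        · rw [if_neg hv, if_neg hw]
          by_cases hvw : v = w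
          · rw [hvw, F3.add_self, ι_zero, C.b_zero, (hy _ (ι_ne K hw)).sq, one_mul]
          · rw [h1 _ _ (ι_ne K hv) (ι_ne K hw) (fun h => hvw (ι_inj K h)) (ι_B K _ _), ι_add]
    bil := fun u v w => congrArg Subtype.val (bil K u v w)
    a1 := fun u v h => a1 K (Subtype.ext h)
    act := by
      intro n hn hnQ
      have hn' : (⟨n, hn⟩ : C.L) ∈ normalizer (AW C.S (WW K : Set V) : Set C.L) := (mem_normalizer_AG C).1 hnQ
      obtain ⟨σ, hσ⟩ := exists_σ K hn'
      have hb : ∀ w, n * C.b (ι K w) * n⁻¹ = C.b (ι K (σ w)) := by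
        intro w
        rw [← hσ]
        exact C.b_conj ⟨n, hn⟩ _
      refine ⟨σ, hb, fun w => ?_⟩
      have hnt : n * C.t = C.t * n := C.commute_of_mem hn
      by_cases hw : w = 0
      · refine ⟨1, one_mem _, ?_⟩
        rw [if_pos hw, hw, map_zero, if_pos rfl, hnt]; group
      · have hw' : σ w ≠ 0 := fun h => hw ((AddEquiv.map_eq_zero_iff σ).1 h)
        rw [if_neg hw, if_neg hw']
        set g := y (ι K w) with hg
        set g' := y (ι K (σ w)) with hg'
        have hyw := hy _ (ι_ne K hw)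
        have hyw' := hy _ (ι_ne K hw')
        rw [← hg] at hyw
        rw [← hg'] at hyw'
        have gi : g⁻¹ = g := QLevel.inv_of_sq hyw.sq
        have gi' : g'⁻¹ = g' := QLevel.inv_of_sq hyw'.sq
        have hg't : g' * C.t * g' = C.t * C.b (ι K (σ w)) := hyw'.conj
        have hngt : (n * g * n⁻¹) * C.t * (n * g * n⁻¹)⁻¹ = C.t * C.b (ι K (σ w)) := by
          have hnt' : n⁻¹ * C.t = C.t * n⁻¹ := C.commute_of_mem (inv_mem hn)
          calc (n * g * n⁻¹) * C.t * (n * g * n⁻¹)⁻¹ = n * g * (n⁻¹ * C.t) * n * g⁻¹ * n⁻¹ := by group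
            _ = n * (g * C.t * g) * n⁻¹ := by rw [hnt', gi]; group
            _ = (n * C.t) * C.b (ι K w) * n⁻¹ := by rw [hyw.conj]; group
            _ = C.t * (n * C.b (ι K w) * n⁻¹) := by rw [hnt]; group
            _ = _ := by rw [hb]
        -- `k = g' n g n⁻¹` commutes with `t` and `Q`
        set k := g' * (n * g * n⁻¹) with hk
        have hkt : k * C.t = C.t * k := by
          have h2 : g'⁻¹ * (C.t * C.b (ι K (σ w))) * g' = C.t := by rw [← hg't]; rw [gi']; calc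
            g' * (g' * C.t * g') * g' = (g' * g') * C.t * (g' * g') := by group
            _ = C.t := by rw [hyw'.sq, one_mul, mul_one]
          calc k * C.t = g' * ((n * g * n⁻¹) * C.t * (n * g * n⁻¹)⁻¹) * g'⁻¹ * (g' * (n * g * n⁻¹)) := by
                rw [hk]; group
            _ = (g'⁻¹ * (C.t * C.b (ι K (σ w))) * g') * (g' * (n * g * n⁻¹)) := by rw [hngt, gi']
            _ = C.t * k := by rw [h2]
        have hkQ : ∀ q ∈ AG C (WW K : Set V), k * q = q * k := by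
          intro q hq
          have h2 := hyQ _ hw' q hq
          have h3 := hyQ _ hw _ ((mem_normalizer_iff''.1 hnQ q).1 hq)
          rw [← hg'] at h2
          rw [← hg] at h3
          calc k * q = g' * n * (g * (n⁻¹ * q * n)) * n⁻¹ := by rw [hk]; group
            _ = (g' * q) * n * g * n⁻¹ := by rw [← h3]; group
            _ = q * k := by rw [← h2, hk]; group
        have hgk : n * g * n⁻¹ = g' * k := by
          rw [hk, ← mul_assoc, hyw'.sq, one_mul]
        refine ⟨k, ?_, hgk⟩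
        rcases (C.cent k).1 hkt with h2 | h2
        · exact hCA k h2 hkQ
        · exfalso
          have h3 : C.t * k ∈ AG C (WW K : Set V) := by
            apply hCA _ h2
            intro q hq
            have h4 := C.commute_of_mem (AG_le C _ hq)
            calc C.t * k * q = C.t * (k * q) := by group
              _ = (C.t * q) * k := by rw [hkQ q hq]; group
              _ = q * (C.t * k) := by rw [← h4.eq]; group
          have h4 : (g' * k) * (g' * k) = 1 := by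
            rw [← hgk]
            calc (n * g * n⁻¹) * (n * g * n⁻¹) = n * (g * g) * n⁻¹ := by group
              _ = 1 := by rw [hyw.sq]; group
          -- `g' k = g' t (t k)`
          have h5 : (C.t * k) * g' = g' * (C.t * k) := hyQ _ hw' _ h3
          have h5t : (C.t * k) * C.t = C.t * (C.t * k) := C.commute_of_mem h2
          have h6 : (g' * k) * (g' * k) = (g' * C.t * g') * C.t * ((C.t * k) * (C.t * k)) := by
            have e1 : g' * k = g' * C.t * (C.t * k) := by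
              calc g' * k = g' * (C.t * C.t) * k := by rw [C.tt, mul_one]
                _ = _ := by group
            rw [e1]
            calc g' * C.t * (C.t * k) * (g' * C.t * (C.t * k)) = g' * C.t * ((C.t * k) * g') * C.t * (C.t * k) := by group
              _ = g' * C.t * g' * ((C.t * k) * C.t) * (C.t * k) := by rw [h5]; group
              _ = _ := by rw [h5t]; group
          rw [h6, hQQ _ h3, mul_one, hg't] at h4
          have h7 : C.t * C.b (ι K (σ w)) * C.t = C.b (ι K (σ w)) := by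
            have h8 := C.commute_of_mem (C.b_mem (ι K (σ w)))
            calc C.t * C.b (ι K (σ w)) * C.t = C.t * (C.b (ι K (σ w)) * C.t) := by group
              _ = (C.t * C.t) * C.b (ι K (σ w)) := by rw [h8.eq]; group
              _ = _ := by rw [C.tt, one_mul]
          rw [h7] at h4
          apply ι_ne K hw'
          apply C.b_inj
          rw [h4, C.b_zero]
    wit := by
      intro σ
      obtain ⟨g, hg⟩ := exists_g K σ
      have hb : ∀ w, (g : G) * C.b (ι K w) * (g : G)⁻¹ = C.b (ι K (σ w)) := by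
        intro w
        rw [← hg]
        exact C.b_conj g _
      refine ⟨g, g.2, ?_, hb⟩
      rw [mem_normalizer_AG, mem_normalizer_iff]
      apply QLevel.Data.conj_mem_iff_of_le
      intro a ha
      apply mem_AW_ι
      intro w
      have h2 : C.S.ρ g (ι K (σ.symm w)) = ι K w := by rw [hg, AddEquiv.apply_symm_apply]
      rw [C.S.ρ_mul, C.S.ρ_mul, ← h2, C.S.ρ_inv_apply, fix_ι K ha] }

variable {C} in
/-- `eps = 1` -/
theorem exists_hom [Finite G] (hL : ∀ x ∈ C.L, x ∉ C.D) (hall : ∀ x ∈ C.L, x * x = 1 → C.t * x ∈ C.D)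
    (y : V → G) (hy : ∀ u, u ≠ 0 → IsY C u (y u))
    (h1 : ∀ u v, u ≠ 0 → v ≠ 0 → u ≠ v → C.S.B u v = 0 → (y u * y v) * (y u * y v) = C.b (u + v)) :
    ∃ m : G →* ℤˣ, m C.t = -1 := by
  obtain ⟨K⟩ := Model.exists_coord C.S C.cardV
  have F := QLevelSp.facts_AW C.S C.cardV (WW K) (card_WW K) (ti_WW K)
  obtain ⟨θ, hθ, hk⟩ := F.quo
  set D := wdata K hL hall y hy h1 with hD
  have hDQ : D.Q = AG C (WW K : Set V) := rfl
  have hDL : D.L = C.L := rfl
  have hDN : ∀ g : G, g ∈ D.L ⊓ normalizer (D.Q : Set G) →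
      ∃ h : g ∈ C.L, (⟨g, h⟩ : C.L) ∈ normalizer (AW C.S (WW K) : Set C.L) := by
    intro g hg
    have h1 : g ∈ C.L := (mem_inf.1 hg).1
    exact ⟨h1, (mem_normalizer_AG C).1 (mem_inf.1 hg).2⟩
  let φ : (D.L ⊓ normalizer (D.Q : Set G) : Subgroup G) →* normalizer (AW C.S (WW K) : Set C.L) :=
    { toFun := fun g => ⟨⟨g, (hDN g g.2).1⟩, (hDN g g.2).2⟩
      map_one' := rfl
      map_mul' := fun _ _ => rfl }
  refine D.main (θ.comp φ) ?_ ?_
  · intro U
    obtain ⟨n, rfl⟩ := hθ U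
    exact ⟨⟨((n : C.L) : G), mem_inf.2 ⟨(n : C.L).2, (mem_normalizer_AG C).2 n.2⟩⟩, rfl⟩
  · intro n
    change θ (φ n) = 1 ↔ _
    rw [hk]
    exact (mem_AG_coe C).symm

end ctx

end Cfsg.Agent.StdSpSix.EpsFin
end

-- part: StdSpSix/AllMain
section
/-!
# Pattern ALL: the end, given the elements `y_u` and the dichotomy
-/

set_option autoImplicit false

namespace Cfsg.Agent.StdSpSix.AllMain

variable {G V : Type*} [Group G] [Finite G] [AddCommGroup V] [Module (ZMod 2) V]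

/-- The pattern ALL, from the existence of the `y_u` and the dichotomy `eps ∈ {0, 1}`. -/
theorem exists_hom_of {C : Ctx G V} (hL : ∀ x ∈ C.L, x ∉ C.D)
    (hall : ∀ x ∈ C.L, x * x = 1 → C.t * x ∈ C.D)
    (hsw : ∀ u, u ≠ 0 → ∃ g, IsY C u g)
    (hdich : (∀ u v g h, u ≠ 0 → v ≠ 0 → u ≠ v → C.S.B u v = 0 → IsY C u g → IsY C v h → g * h * g * h = 1) ∨
      (∀ u v g h, u ≠ 0 → v ≠ 0 → u ≠ v → C.S.B u v = 0 → IsY C u g → IsY C v h → g * h * g * h = C.b (u + v))) :
    ∃ m : G →* ℤˣ, m C.t = -1 := by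
  classical
  have hy' : ∀ u : V, ∃ g : G, u ≠ 0 → IsY C u g := by
    intro u
    by_cases hu : u = 0
    · exact ⟨1, fun h => absurd hu h⟩
    · obtain ⟨g, hg⟩ := hsw u hu
      exact ⟨g, fun _ => hg⟩
  choose y hy using hy'
  rcases hdich with h0 | h1
  · refine SwZero.exists_hom C hL (fun x hx hxx _ => hall x hx hxx) y hy ?_
    intro u v hu hv hB
    by_cases huv : u = v
    · rw [huv]
    · have h2 := h0 u v (y u) (y v) hu hv huv hB (hy u hu) (hy v hv)
      have h3 : (y u * y v) * (y u * y v) = 1 := by rw [← mul_assoc]; exact h2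
      have h4 : y u * y v = (y u * y v)⁻¹ := eq_inv_of_mul_eq_one_left h3
      rw [mul_inv_rev] at h4
      rw [h4, (eq_inv_of_mul_eq_one_left (hy u hu).sq).symm, (eq_inv_of_mul_eq_one_left (hy v hv).sq).symm]
  · refine EpsFin.exists_hom hL hall y hy ?_
    intro u v hu hv huv hB
    rw [← mul_assoc]
    exact h1 u v (y u) (y v) hu hv huv hB (hy u hu) (hy v hv)

end Cfsg.Agent.StdSpSix.AllMain
end

private theorem dce_7652be41a9e7 : _root_.True := by
  try have : _root_.True := by simp only [_root_.Cfsg.Agent.StdSpSix.RLevel.N1.congr_simp]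
  try have : _root_.True := by simp only [_root_.Cfsg.Agent.StdSpSix.RLevel.RData.tb.eq_1]
  exact _root_.True.intro
end

-- part: StdSpSix/AllXDef
section
prune_inst 0x4c0302014012200000000051202001c429a000002000b0000a1400b0206c08c4140020620bc00361080028c042038004001100110026000000e008200411c01a0040212069008a000200000008800000000000000000000000000000000000000000000000
set_option linter.all false
open scoped Cfsg.Agent.FastGrp

-- part: StdSpSix/AllCode
section
/-!
# Elements of `Sp₆(2)` acting on the 64 codes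

For a coordinate system `K` of a `SpData`: `vec K c` = vector with code `c`, `cd K x c` = code of the image of `vec K c`
under `x`.  Universal facts on centralisers ("an element commuting with these words is one of those words") are reduced
to finite searches over the images of the six basis codes `1, 2, 4, 8, 16, 32`.
-/

set_option autoImplicit false
set_option maxHeartbeats 400000

namespace Cfsg.Agent.StdSpSix.AllCode

open Cfsg.Agent.StandardComponent.SpTwo
open Cfsg.Agent.SporRec.TwoSp6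
open Cfsg.Agent.StdSpSix.Words Cfsg.Agent.StdSpSix.Model

variable {X V : Type*} [Group X] [AddCommGroup V] [Module (ZMod 2) V] {D : SpData X V} (K : Coord D)

/-- The vector with code `c`. -/
def vec (c : ℕ) : V := K.f (Sp.enc c)

theorem vec_xor (c d : ℕ) : vec K (c ^^^ d) = vec K c + vec K d := by
  unfold vec; rw [Sp.enc_xor, map_add]

theorem vec_inj {c d : ℕ} (hc : c < 64) (hd : d < 64) (h : vec K c = vec K d) : c = d := by
  by_contra hne
  exact ne_of_enc hc hd hne (K.f.injective h)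

theorem exists_vec (v : V) : ∃ c < 64, v = vec K c := by
  obtain ⟨x, rfl⟩ := K.f.surjective v
  obtain ⟨c, hc, rfl⟩ := Sp.exists_enc x
  exact ⟨c, hc, rfl⟩

theorem vec_zero : vec K 0 = 0 := by unfold vec; rw [enc_zero, map_zero]

theorem B_vec (c d : ℕ) : D.B (vec K c) (vec K d) = if Sp.fN c d then 1 else 0 := by
  unfold vec; rw [K.om, Sp.om_enc]

theorem B_vec_zero {c d : ℕ} (h : Sp.fN c d = false) : D.B (vec K c) (vec K d) = 0 := by
  rw [B_vec, h]; rfl

theorem fN_eq {c d c' d' : ℕ} (h : D.B (vec K c) (vec K d) = D.B (vec K c') (vec K d')) : Sp.fN c d = Sp.fN c' d' := by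
  rw [B_vec, B_vec] at h
  cases h1 : Sp.fN c d <;> cases h2 : Sp.fN c' d' <;> simp [h1, h2] at h ⊢

theorem fN_of_zero {c d : ℕ} (h : D.B (vec K c) (vec K d) = 0) : Sp.fN c d = false := by
  rw [B_vec] at h
  cases h1 : Sp.fN c d <;> simp [h1] at h ⊢

/-- The code of the image of the vector with code `c`. -/
noncomputable def cd (x : X) (c : ℕ) : ℕ := (exists_vec K (D.ρ x (vec K c))).choose

theorem cd_lt (x : X) (c : ℕ) : cd K x c < 64 := (exists_vec K (D.ρ x (vec K c))).choose_spec.1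

theorem cd_spec (x : X) (c : ℕ) : D.ρ x (vec K c) = vec K (cd K x c) :=
  (exists_vec K (D.ρ x (vec K c))).choose_spec.2

theorem cd_eq {x : X} {c d : ℕ} (hd : d < 64) (h : D.ρ x (vec K c) = vec K d) : cd K x c = d :=
  vec_inj K (cd_lt K x c) hd (by rw [← cd_spec, h])

theorem xor_lt {c d : ℕ} (hc : c < 64) (hd : d < 64) : c ^^^ d < 64 :=
  Nat.xor_lt_two_pow (n := 6) hc hd

theorem cd_xor (x : X) (c d : ℕ) : cd K x (c ^^^ d) = cd K x c ^^^ cd K x d := by
  apply cd_eq K (xor_lt (cd_lt K x c) (cd_lt K x d))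
  rw [vec_xor, map_add, cd_spec, cd_spec, vec_xor]

theorem cd_fN (x : X) (c d : ℕ) : Sp.fN (cd K x c) (cd K x d) = Sp.fN c d := by
  apply fN_eq K
  rw [← cd_spec, ← cd_spec, D.inv]

theorem cd_mul (x y : X) (c : ℕ) : cd K (x * y) c = cd K x (cd K y c) := by
  apply cd_eq K (cd_lt K x _)
  rw [D.ρ_mul, cd_spec, cd_spec]

theorem cd_one {c : ℕ} (hc : c < 64) : cd K 1 c = c := cd_eq K hc (D.ρ_one _)

theorem cd_ne {x : X} {c d : ℕ} (hc : c < 64) (hd : d < 64) (h : c ≠ d) : cd K x c ≠ cd K x d := by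
  intro h'
  apply h
  apply vec_inj K hc hd
  apply D.ρ_inj x
  rw [cd_spec, cd_spec, h']

theorem cd_zero (x : X) : cd K x 0 = 0 := by
  apply cd_eq K (by norm_num)
  rw [vec_zero, map_zero]

/-- Every code is a sum of basis codes. -/
theorem code_split : ∀ c < 64, c = ((if Nat.testBit c 0 then 1 else 0 : ℕ) ^^^ ((if Nat.testBit c 1 then 2 else 0 : ℕ) ^^^
    ((if Nat.testBit c 2 then 4 else 0 : ℕ) ^^^ ((if Nat.testBit c 3 then 8 else 0 : ℕ) ^^^ ((if Nat.testBit c 4 then 16 else 0 : ℕ) ^^^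
    (if Nat.testBit c 5 then 32 else 0 : ℕ))))) : ℕ) := by decide +kernel

theorem ext6 {x y : X} (h1 : cd K x 1 = cd K y 1) (h2 : cd K x 2 = cd K y 2) (h4 : cd K x 4 = cd K y 4)
    (h8 : cd K x 8 = cd K y 8) (h16 : cd K x 16 = cd K y 16) (h32 : cd K x 32 = cd K y 32) : x = y := by
  apply D.ext_iff
  intro v
  obtain ⟨c, hc, rfl⟩ := exists_vec K v
  rw [cd_spec, cd_spec]
  congr 1
  have key : ∀ (b : Bool) (d : ℕ), cd K x d = cd K y d →
      cd K x (if b then d else 0) = cd K y (if b then d else 0) := by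
    intro b d h
    cases b
    · simp only [Bool.false_eq_true, if_false, cd_zero]
    · simpa using h
  rw [code_split c hc]
  simp only [cd_xor]
  rw [key _ 1 h1, key _ 2 h2, key _ 4 h4, key _ 8 h8, key _ 16 h16, key _ 32 h32]

theorem wc_lt {ks : List ℕ} (hks : ∀ k ∈ ks, k < 64) {c : ℕ} (hc : c < 64) : wc ks c < 64 := by
  induction ks with
  | nil => exact hc
  | cons k ks ih =>
    have h1 := ih fun l hl => hks l (List.mem_cons_of_mem _ hl)
    change tc k (wc ks c) < 64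
    unfold tc
    split_ifs
    · exact xor_lt h1 (hks k List.mem_cons_self)
    · exact h1

theorem cd_word {ks : List ℕ} (hks : ∀ k ∈ ks, k < 64) {c : ℕ} (hc : c < 64) : cd K (w K ks) c = wc ks c := by
  apply cd_eq K (wc_lt hks hc)
  unfold w vec
  rw [K.act, act_W]

theorem cd_tau {k : ℕ} (hk : k < 64) {c : ℕ} (hc : c < 64) : cd K (D.τ (vec K k)) c = tc k c := by
  have h : D.τ (vec K k) = w K [k] := by
    unfold w vec
    rw [W_cons, W_nil, mul_one, K.tr]
  rw [h, cd_word K (ks := [k]) (by simpa using hk) hc]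
  rfl

theorem w_nil : w K [] = 1 := by unfold w; rw [W_nil, map_one]

theorem w_cons (k : ℕ) (ks : List ℕ) : w K (k :: ks) = D.τ (vec K k) * w K ks := by
  unfold w vec
  rw [W_cons, map_mul, K.tr]

theorem w_append (ks ls : List ℕ) : w K (ks ++ ls) = w K ks * w K ls := by
  unfold w; rw [W_append, map_mul]

/-- Equality of words, as a Boolean. -/
def eqB (ks ls : List ℕ) : Bool := Fast.eq6 ks ls

theorem w_eq {ks ls : List ℕ} (h : eqB ks ls = true) : w K ks = w K ls := by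
  unfold w
  rw [W_eq (Fast.eq6_iff.1 h)]

theorem w_one {ks : List ℕ} (h : eqB ks [] = true) : w K ks = 1 := by rw [w_eq K h, w_nil]

theorem fix_iff {x : X} {c : ℕ} (hc : c < 64) : Commute x (D.τ (vec K c)) ↔ cd K x c = c := by
  constructor
  · intro h
    apply cd_eq K hc
    exact D.fix_of_τ_commute h.symm
  · intro h
    apply (D.τ_commute_of_fix (w := vec K c) ?_).symm
    rw [cd_spec, h]

theorem cd_comm {x : X} {ks : List ℕ} (hks : ∀ k ∈ ks, k < 64) (h : Commute x (w K ks)) {c : ℕ} (hc : c < 64) :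
    cd K x (wc ks c) = wc ks (cd K x c) := by
  have h1 : cd K (x * w K ks) c = cd K (w K ks * x) c := by rw [h.eq]
  rw [cd_mul, cd_mul, cd_word K hks hc, cd_word K hks (cd_lt K x c)] at h1
  exact h1

theorem eq_word {x : X} {ks : List ℕ} (hks : ∀ k ∈ ks, k < 64) (h1 : cd K x 1 = wc ks 1) (h2 : cd K x 2 = wc ks 2)
    (h4 : cd K x 4 = wc ks 4) (h8 : cd K x 8 = wc ks 8) (h16 : cd K x 16 = wc ks 16)
    (h32 : cd K x 32 = wc ks 32) : x = w K ks := by
  apply ext6 K
  all_goals rw [cd_word K hks (by norm_num)]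
  all_goals assumption

/-- The action as a linear equivalence. -/
def lin (g : Sp.S) : Sp.V ≃ₗ[ZMod 2] Sp.V where
  toFun := Sp.act g
  invFun := Sp.act g⁻¹
  left_inv v := by rw [← Sp.act_mul, inv_mul_cancel, Sp.act_one]
  right_inv v := by rw [← Sp.act_mul, mul_inv_cancel, Sp.act_one]
  map_add' := Sp.act_add g
  map_smul' := Invol.act_smul g

theorem lin_apply (g : Sp.S) (v : Sp.V) : lin g v = Sp.act g v := rfl

/-- twisting a coordinate system by an element of the group -/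
def twist (g : Sp.S) : Coord D where
  e := (MulAut.conj g).trans K.e
  f := (lin g).trans K.f
  act := fun h v => by
    rw [MulEquiv.trans_apply, MulAut.conj_apply, LinearEquiv.trans_apply, LinearEquiv.trans_apply, lin_apply,
      lin_apply, K.act, ← Sp.act_mul, ← Sp.act_mul, inv_mul_cancel_right]
  om := fun u v => by
    rw [LinearEquiv.trans_apply, LinearEquiv.trans_apply, lin_apply, lin_apply, K.om, Sp.act_om]
  tr := fun u => by
    rw [MulEquiv.trans_apply, MulAut.conj_apply, LinearEquiv.trans_apply, lin_apply, Sp.conj_tr, K.tr]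

theorem vec_twist (g : Sp.S) (c : ℕ) : vec (twist K g) c = K.f (Sp.act g (Sp.enc c)) := by
  unfold vec twist
  rw [LinearEquiv.trans_apply, lin_apply]

include K in
/-- a coordinate system with a prescribed isotropic pair -/
theorem exists_frame_two {a b : V} (ha : a ≠ 0) (hb : b ≠ 0) (hab : b ≠ a) (h : D.B a b = 0) :
    ∃ K' : Coord D, vec K' 1 = a ∧ vec K' 2 = b := by
  obtain ⟨a, rfl⟩ := K.f.surjective a
  obtain ⟨b, rfl⟩ := K.f.surjective b
  have ha' : a ≠ 0 := fun h => ha (by rw [h, map_zero])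
  have hb' : b ≠ 0 := fun h => hb (by rw [h, map_zero])
  have hab' : b ≠ a := fun h => hab (by rw [h])
  obtain ⟨g, h1, h2⟩ := Sp.exists_pair (u := Sp.enc 1) (w := Sp.enc 2) (by decide) (by decide) (by decide) (by decide)
    ha' hb' hab' (by rw [← K.om]; exact h)
  exact ⟨twist K g, by rw [vec_twist, h1], by rw [vec_twist, h2]⟩

include K in
/-- a coordinate system with a prescribed isotropic triple -/
theorem exists_frame_three {a b c : V} (ha : a ≠ 0) (hb : b ≠ 0) (hab : b ≠ a) (hc : c ≠ 0) (hca : c ≠ a) (hcb : c ≠ b)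
    (hcab : c ≠ a + b) (h : D.B a b = 0) (h' : D.B a c = 0) (h'' : D.B b c = 0) :
    ∃ K' : Coord D, vec K' 1 = a ∧ vec K' 2 = b ∧ vec K' 4 = c := by
  obtain ⟨a, rfl⟩ := K.f.surjective a
  obtain ⟨b, rfl⟩ := K.f.surjective b
  obtain ⟨c, rfl⟩ := K.f.surjective c
  obtain ⟨g, h1, h2, h3⟩ := Invol.exists_triple (u := Sp.enc 1) (w := Sp.enc 2) (t := Sp.enc 4) (by decide)
    (by unfold Invol.Orth; decide) (u' := a) (w' := b) (t' := c)
    ⟨fun h => ha (by rw [h, map_zero]), fun h => hb (by rw [h, map_zero]), fun h => hab (by rw [h]),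
      fun h => hc (by rw [h, map_zero]), fun h => hca (by rw [h]), fun h => hcb (by rw [h]),
      fun h => hcab (by rw [h, map_add])⟩
    ⟨by rw [← K.om]; exact h, by rw [← K.om]; exact h', by rw [← K.om]; exact h''⟩
  exact ⟨twist K g, by rw [vec_twist, h1], by rw [vec_twist, h2], by rw [vec_twist, h3]⟩

/-- change of frame inside the group: the element of `X` moving one frame to the other -/
theorem exists_move (K' : Coord D) : ∃ g : X, ∀ c, D.ρ g (vec K c) = vec K' c := by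
  have h1 : ∃ x : Sp.S, ∀ v, Sp.act x v = K.f.symm (K'.f v) := by
    obtain ⟨g, hg⟩ := exists_of_isometry (K.f.symm.toLinearMap ∘ₗ K'.f.toLinearMap) (by
      intro u v
      change Sp.om (K.f.symm (K'.f u)) (K.f.symm (K'.f v)) = _
      rw [← K.om, K.f.apply_symm_apply, K.f.apply_symm_apply, K'.om])
    exact ⟨g, hg⟩
  obtain ⟨x, hx⟩ := h1
  refine ⟨K.e x, fun c => ?_⟩
  unfold vec
  rw [K.act, hx, K.f.apply_symm_apply]

/-- words in two frames are conjugate -/
theorem w_move {K' : Coord D} {g : X} (hg : ∀ c, D.ρ g (vec K c) = vec K' c) (ks : List ℕ) :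
    g * w K ks * g⁻¹ = w K' ks := by
  induction ks with
  | nil => rw [w_nil, w_nil]; group
  | cons k ks ih =>
    rw [w_cons, w_cons, ← ih, ← hg, ← D.conj_τ]
    group

end Cfsg.Agent.StdSpSix.AllCode
end

-- part: StdSpSix/AllFacts
section
/-!
# Facts on `Sp₆(2)` for the pattern `ALL`

Codes: `l = ⟨1, 2⟩`, `l^⊥ = ⟨1, 2, 4, 32⟩`, `λ = W [1,2,3]`; `u = 1`, `u^⊥ = ⟨1, 2, 16, 4, 32⟩`.
`y1 = W [1,16,17]`, `y2 = W [2,8,10]` act on `l` as the transpositions fixing `1`, `2`.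
-/

set_option autoImplicit false
set_option maxHeartbeats 400000

namespace Cfsg.Agent.StdSpSix.AllFacts

open Cfsg.Agent.StandardComponent.SpTwo
open Cfsg.Agent.SporRec.TwoSp6
open Cfsg.Agent.StdSpSix.Words Cfsg.Agent.StdSpSix.Model Cfsg.Agent.StdSpSix.AllCode

variable {X V : Type*} [Group X] [AddCommGroup V] [Module (ZMod 2) V] {D : SpData X V} (K : Coord D)

/-- the values of the form on two lists -/
def qB (c : ℕ) (ones zeros : List ℕ) : Bool := (ones.all fun l => Sp.fN c l) && zeros.all fun l => !Sp.fN c l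

theorem qB_cd {x : X} {ones zeros : List ℕ} (h1 : ∀ l ∈ ones, cd K x l = l) (h0 : ∀ l ∈ zeros, cd K x l = l) (c : ℕ)
    (h : qB c ones zeros = true) : qB (cd K x c) ones zeros = true := by
  unfold qB at h ⊢
  rw [Bool.and_eq_true, List.all_eq_true, List.all_eq_true] at h ⊢
  refine ⟨fun l hl => ?_, fun l hl => ?_⟩
  · have := cd_fN K x c l
    rw [h1 l hl] at this
    rw [this]; exact h.1 l hl
  · have := cd_fN K x c l
    rw [h0 l hl] at this
    rw [this]; exact h.2 l hl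

/-- bounded quantifier as a Boolean -/
def allB (f : ℕ → Bool) : Bool := (List.range 64).all f

theorem allB_spec {f : ℕ → Bool} (h : allB f = true) {a : ℕ} (ha : a < 64) : f a = true := by
  unfold allB at h
  rw [List.all_eq_true] at h
  exact h a (List.mem_range.2 ha)

/-- Boolean implication -/
def impB (a b : Bool) : Bool := !a || b

theorem impB_spec {a b : Bool} (h : impB a b = true) (ha : a = true) : b = true := by
  subst ha
  exact h

/-! ### elements fixing `l^⊥` pointwise -/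

/-- the eight elements of `Sym² l` -/
def L8 : List (List ℕ) := [[], [1], [2], [3], [1, 2], [1, 3], [2, 3], [1, 2, 3]]

theorem dA0 : (allB fun a => impB (qB a [1] [2, 4, 32]) (allB fun b => impB (qB b [2] [1, 4, 32] && !Sp.fN a b)
    (L8.any fun ks => a == wc ks 8 && b == wc ks 16))) = true := by decide +kernel

theorem dA {a b : ℕ} (ha : a < 64) (qa : qB a [1] [2, 4, 32] = true) (hb : b < 64) (qb : qB b [2] [1, 4, 32] = true)
    (h : Sp.fN a b = false) : ∃ ks ∈ L8, a = wc ks 8 ∧ b = wc ks 16 := by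
  have := impB_spec (allB_spec (impB_spec (allB_spec dA0 ha) qa) hb) (by rw [qb, h]; rfl)
  rw [List.any_eq_true] at this
  obtain ⟨ks, hks, h2⟩ := this
  rw [Bool.and_eq_true] at h2
  exact ⟨ks, hks, eq_of_beq h2.1, eq_of_beq h2.2⟩

theorem dA' : ∀ ks ∈ L8, 1 = wc ks 1 ∧ 2 = wc ks 2 ∧ 4 = wc ks 4 ∧ 32 = wc ks 32 := by decide +kernel

theorem L8_lt : ∀ ks ∈ L8, ∀ k ∈ ks, k < 64 := by decide +kernel

theorem fixA {x : X} (h1 : cd K x 1 = 1) (h2 : cd K x 2 = 2) (h4 : cd K x 4 = 4) (h32 : cd K x 32 = 32) :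
    ∃ ks ∈ L8, x = w K ks := by
  obtain ⟨ks, hks, h8, h16⟩ := dA (cd_lt K x 8)
    (qB_cd K (by simp [h1]) (by simp [h2, h4, h32]) 8 (by decide))
    (cd_lt K x 16)
    (qB_cd K (by simp [h2]) (by simp [h1, h4, h32]) 16 (by decide))
    (by rw [cd_fN]; decide)
  obtain ⟨e1, e2, e4, e32⟩ := dA' ks hks
  exact ⟨ks, hks, eq_word K (L8_lt ks hks) (h1.trans e1) (h2.trans e2) (h4.trans e4) h8 h16 (h32.trans e32)⟩

/-- a Boolean test for commuting words (on the basis codes) -/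
def cB (ks ls : List ℕ) : Bool := [1, 2, 4, 8, 16, 32].all fun c => wc (ks ++ ls) c == wc (ls ++ ks) c

theorem cB_of_commute {ks ls : List ℕ} (hks : ∀ k ∈ ks, k < 64) (hls : ∀ k ∈ ls, k < 64)
    (h : Commute (w K ks) (w K ls)) : cB ks ls = true := by
  have key : ∀ c < 64, wc (ks ++ ls) c = wc (ls ++ ks) c := by
    intro c hc
    have h1 := cd_comm K hls h hc
    rw [cd_word K hks (wc_lt hls hc), cd_word K hks hc] at h1
    change wc (ks ++ ls) c = wc (ls ++ ks) c
    unfold wc at h1 ⊢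
    rw [List.foldr_append, List.foldr_append]
    exact h1
  unfold cB
  rw [List.all_eq_true]
  intro c hc
  have hc' : c < 64 := by
    revert c
    decide
  exact beq_iff_eq.2 (key c hc')

theorem Zlam {x : X} (h1 : cd K x 1 = 1) (h2 : cd K x 2 = 2) (h4 : cd K x 4 = 4) (h32 : cd K x 32 = 32)
    (hy1 : Commute x (w K [1, 16, 17])) (hy2 : Commute x (w K [2, 8, 10])) : x = 1 ∨ x = w K [1, 2, 3] := by
  obtain ⟨ks, hks, rfl⟩ := fixA K h1 h2 h4 h32
  have c1 := cB_of_commute K (L8_lt ks hks) (by decide) hy1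
  have c2 := cB_of_commute K (L8_lt ks hks) (by decide) hy2
  have key : ∀ ks ∈ L8, cB ks [1, 16, 17] = true → cB ks [2, 8, 10] = true → ks = [] ∨ ks = [1, 2, 3] := by
    decide +kernel
  rcases key ks hks c1 c2 with rfl | rfl
  · exact Or.inl (w_nil K)
  · exact Or.inr rfl

theorem ZlamOne {x : X} (h1 : cd K x 1 = 1) (h2 : cd K x 2 = 2) (h4 : cd K x 4 = 4) (h32 : cd K x 32 = 32)
    (hy1 : Commute x (w K [1, 16, 17])) : x = 1 ∨ x = w K [1] ∨ x = w K [1, 2, 3] ∨ x = w K [2, 3] := by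
  obtain ⟨ks, hks, rfl⟩ := fixA K h1 h2 h4 h32
  have c1 := cB_of_commute K (L8_lt ks hks) (by decide) hy1
  have key : ∀ ks ∈ L8, cB ks [1, 16, 17] = true → ks = [] ∨ ks = [1] ∨ ks = [1, 2, 3] ∨ ks = [2, 3] := by
    decide +kernel
  rcases key ks hks c1 with rfl | rfl | rfl | rfl
  · exact Or.inl (w_nil K)
  · exact Or.inr (Or.inl rfl)
  · exact Or.inr (Or.inr (Or.inl rfl))
  · exact Or.inr (Or.inr (Or.inr rfl))

/-! ### the double centraliser of `⟨b₄, λ⟩` -/

def F4 : List (List ℕ) := [[], [4], [1, 2, 3], [4, 1, 2, 3]]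

theorem dF30 : (allB fun a => impB (qB a [1] [2, 4] && (wc [2, 8, 10] a == a)) (allB fun b =>
    impB (qB b [2] [1, 4, a] && ((wc [1, 16, 17] b == b) && (a ^^^ b == wc [1, 16, 17] a))) (allB fun c =>
    impB (qB c [4] [1, 2, a, b] && ((wc [1, 16, 17] c == c) && (wc [2, 8, 10] c == c)))
    (F4.any fun ks => (a == wc ks 8) && ((b == wc ks 16) && (c == wc ks 32)))))) = true := by decide +kernel

theorem dF3 {a b c : ℕ} (ha : a < 64) (qa : qB a [1] [2, 4] = true) (ya : wc [2, 8, 10] a = a) (hb : b < 64)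
    (qb : qB b [2] [1, 4, a] = true) (yb : wc [1, 16, 17] b = b) (yab : a ^^^ b = wc [1, 16, 17] a) (hc : c < 64)
    (qc : qB c [4] [1, 2, a, b] = true) (yc : wc [1, 16, 17] c = c) (yc' : wc [2, 8, 10] c = c) :
    ∃ ks ∈ F4, a = wc ks 8 ∧ b = wc ks 16 ∧ c = wc ks 32 := by
  have h1 := impB_spec (allB_spec dF30 ha) (by rw [Bool.and_eq_true]; exact ⟨qa, beq_iff_eq.2 ya⟩)
  have h2 := impB_spec (allB_spec h1 hb) (by
    rw [Bool.and_eq_true, Bool.and_eq_true]; exact ⟨qb, beq_iff_eq.2 yb, beq_iff_eq.2 yab⟩)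
  have h3 := impB_spec (allB_spec h2 hc) (by
    rw [Bool.and_eq_true, Bool.and_eq_true]; exact ⟨qc, beq_iff_eq.2 yc, beq_iff_eq.2 yc'⟩)
  rw [List.any_eq_true] at h3
  obtain ⟨ks, hks, h4⟩ := h3
  rw [Bool.and_eq_true, Bool.and_eq_true] at h4
  exact ⟨ks, hks, eq_of_beq h4.1, eq_of_beq h4.2.1, eq_of_beq h4.2.2⟩

theorem Ftriple {x : X} (h1 : cd K x 1 = 1) (h2 : cd K x 2 = 2) (h4 : cd K x 4 = 4)
    (hy1 : Commute x (w K [1, 16, 17])) (hy2 : Commute x (w K [2, 8, 10])) :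
    ∃ ks ∈ F4, x = w K ks := by
  have q1 : ∀ c < 64, cd K x (wc [1, 16, 17] c) = wc [1, 16, 17] (cd K x c) := fun c hc =>
    cd_comm K (by decide) hy1 hc
  have q2 : ∀ c < 64, cd K x (wc [2, 8, 10] c) = wc [2, 8, 10] (cd K x c) := fun c hc =>
    cd_comm K (by decide) hy2 hc
  have qq : ∀ (ones zeros : List ℕ) (c : ℕ), (∀ l ∈ ones, Sp.fN (cd K x c) l = true) →
      (∀ l ∈ zeros, Sp.fN (cd K x c) l = false) → qB (cd K x c) ones zeros = true := by
    intro ones zeros c o z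
    unfold qB
    rw [Bool.and_eq_true, List.all_eq_true, List.all_eq_true]
    exact ⟨o, fun l hl => by rw [z l hl]; rfl⟩
  have f : ∀ c l, cd K x l = l → Sp.fN (cd K x c) l = Sp.fN c l := by
    intro c l hl
    have := cd_fN K x c l
    rwa [hl] at this
  obtain ⟨ks, hks, h8, h16, h32⟩ := dF3 (cd_lt K x 8)
    (qB_cd K (by simp [h1]) (by simp [h2, h4]) 8 (by decide))
    (by rw [← q2 8 (by norm_num)]; rfl)
    (cd_lt K x 16)
    (qq _ _ _ (by simp only [List.mem_singleton, forall_eq]; rw [f _ _ h2]; decide) (by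
      simp only [List.mem_cons, List.not_mem_nil, or_false, forall_eq_or_imp, forall_eq]
      rw [f _ _ h1, f _ _ h4, cd_fN]; decide))
    (by rw [← q1 16 (by norm_num)]; rfl)
    (by rw [← q1 8 (by norm_num), ← cd_xor]; rfl)
    (cd_lt K x 32)
    (qq _ _ _ (by simp only [List.mem_singleton, forall_eq]; rw [f _ _ h4]; decide) (by
      simp only [List.mem_cons, List.not_mem_nil, or_false, forall_eq_or_imp, forall_eq]
      rw [f _ _ h1, f _ _ h2, cd_fN, cd_fN]; decide))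
    (by rw [← q1 32 (by norm_num)]; rfl) (by rw [← q2 32 (by norm_num)]; rfl)
  refine ⟨ks, hks, ?_⟩
  have e : ∀ ks ∈ F4, (∀ k ∈ ks, k < 64) ∧ 1 = wc ks 1 ∧ 2 = wc ks 2 ∧ 4 = wc ks 4 := by
    decide +kernel
  obtain ⟨e0, e1, e2, e4⟩ := e ks hks
  exact eq_word K e0 (h1.trans e1) (h2.trans e2) (h4.trans e4) h8 h16 h32

/-! ### elements fixing `u^⊥` pointwise -/

theorem dB : ∀ a < 64, qB a [1] [2, 4, 16, 32] = true → a = 8 ∨ a = 9 := by decide +kernel

theorem fixB {x : X} (h1 : cd K x 1 = 1) (h2 : cd K x 2 = 2) (h4 : cd K x 4 = 4) (h16 : cd K x 16 = 16)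
    (h32 : cd K x 32 = 32) : x = 1 ∨ x = w K [1] := by
  rcases dB (cd K x 8) (cd_lt K x 8)
    (qB_cd K (by simp [h1]) (by simp [h2, h4, h16, h32]) 8 (by decide)) with h8 | h8
  · left
    rw [← w_nil K]
    exact eq_word K (by decide) h1 h2 h4 h8 h16 h32
  · right
    exact eq_word K (by decide) (h1.trans (by decide)) (h2.trans (by decide)) (h4.trans (by decide))
      (h8.trans (by decide)) (h16.trans (by decide)) (h32.trans (by decide))

/-! ### generation of `C(b_u)` by transvections -/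

def T1 : List (List ℕ) := [[], [16], [17], [18], [19], [20], [21], [22], [23], [48], [49], [50], [51], [52], [53], [54],
  [55], [16, 17], [16, 20], [16, 21], [16, 48], [16, 49], [16, 52], [16, 53], [20, 50], [20, 51], [20, 54], [20, 55],
  [48, 54], [48, 55]]

def T2 : List (List ℕ) := [[], [2], [3], [6], [7], [34], [35], [38], [39], [2, 3], [2, 6], [2, 7], [2, 34], [2, 35],
  [2, 38], [2, 39]]

def T3 : List (List ℕ) := [[], [32], [33], [36], [37], [32, 33]]

def T4 : List (List ℕ) := [[], [4], [5], [4, 5]]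

/-- all letters of the word are nonzero codes orthogonal to all codes of the list -/
def pB (ls : List ℕ) (ks : List ℕ) : Bool := ks.all fun k => decide (k < 64) && ls.all fun l => !Sp.fN k l

theorem pB_lt {ls ks : List ℕ} (h : pB ls ks = true) : ∀ k ∈ ks, k < 64 := by
  intro k hk
  unfold pB at h
  rw [List.all_eq_true] at h
  have := h k hk
  rw [Bool.and_eq_true] at this
  exact of_decide_eq_true this.1

theorem pB_fN {ls ks : List ℕ} (h : pB ls ks = true) : ∀ k ∈ ks, ∀ l ∈ ls, Sp.fN k l = false := by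
  intro k hk l hl
  unfold pB at h
  rw [List.all_eq_true] at h
  have h1 := h k hk
  rw [Bool.and_eq_true, List.all_eq_true] at h1
  have h2 := h1.2 l hl
  simpa using h2

theorem fN_symm : ∀ c < 64, ∀ d < 64, Sp.fN c d = Sp.fN d c := fun c _ d _ => by
  have h := Sp.om_enc c d
  rw [Sp.om_symm, Sp.om_enc] at h
  revert h
  cases Sp.fN c d <;> cases Sp.fN d c <;> decide

/-- words in letters orthogonal to `l` fix `l` -/
theorem wc_fix {ls ks : List ℕ} (h : pB ls ks = true) (hl : ∀ l ∈ ls, l < 64) : ∀ l ∈ ls, wc ks l = l := by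
  intro l hl'
  have h1 := pB_fN h
  have h2 := pB_lt h
  clear h
  induction ks with
  | nil => rfl
  | cons k ks ih =>
    change tc k (wc ks l) = l
    rw [ih (fun k hk => h1 k (List.mem_cons_of_mem _ hk)) (fun k hk => h2 k (List.mem_cons_of_mem _ hk))]
    unfold tc
    rw [fN_symm l (hl l hl') k (h2 k List.mem_cons_self), h1 k List.mem_cons_self l hl']
    rfl

theorem word_mem {P : Subgroup X} {ls : List ℕ} (hP : ∀ k < 64, (∀ l ∈ ls, Sp.fN k l = false) → D.τ (vec K k) ∈ P)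
    {ks : List ℕ} (h : pB ls ks = true) : w K ks ∈ P := by
  have h1 := pB_fN h
  have h2 := pB_lt h
  clear h
  induction ks with
  | nil => rw [w_nil]; exact one_mem _
  | cons k ks ih =>
    rw [w_cons]
    refine mul_mem (hP k (h2 k List.mem_cons_self) (h1 k List.mem_cons_self)) (ih ?_ ?_)
    · exact fun k hk => h1 k (List.mem_cons_of_mem _ hk)
    · exact fun k hk => h2 k (List.mem_cons_of_mem _ hk)

theorem dT1 : ∀ a < 64, Sp.fN a 1 = false → a ≠ 0 → a ≠ 1 → ∃ ks ∈ T1, wc ks a = 2 := by decide +kernel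
theorem dT1' : ∀ ks ∈ T1, pB [1] ks = true := by decide +kernel
theorem dT2 : ∀ a < 64, Sp.fN a 1 = false → Sp.fN a 2 = true → ∃ ks ∈ T2, wc ks a = 16 := by decide +kernel
theorem dT2' : ∀ ks ∈ T2, pB [1, 2] ks = true := by decide +kernel
theorem dT3 : ∀ a < 64, qB a [] [1, 2, 16] = true → a ≠ 0 → a ≠ 1 → ∃ ks ∈ T3, wc ks a = 4 := by decide +kernel
theorem dT3' : ∀ ks ∈ T3, pB [1, 2, 16] ks = true := by decide +kernel
theorem dT4 : ∀ a < 64, qB a [4] [1, 2, 16] = true → ∃ ks ∈ T4, wc ks a = 32 := by decide +kernel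
theorem dT4' : ∀ ks ∈ T4, pB [1, 2, 16, 4] ks = true := by decide +kernel

/-- a subgroup containing all transvections orthogonal to `u` contains `C(b_u)`; stepwise form: every `x` fixing `1`
is moved by such words to an element fixing `1, 2, 16, 4, 32`. -/
theorem reduceU {P : Subgroup X} (hP : ∀ k < 64, Sp.fN k 1 = false → D.τ (vec K k) ∈ P) {x : X} (h1 : cd K x 1 = 1) :
    ∃ p ∈ P, cd K (p * x) 1 = 1 ∧ cd K (p * x) 2 = 2 ∧ cd K (p * x) 16 = 16 ∧ cd K (p * x) 4 = 4 ∧
      cd K (p * x) 32 = 32 := by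
  -- first
  have key : ∀ (ls : List ℕ) (x : X), 1 ∈ ls → (∀ l ∈ ls, l < 64 ∧ cd K x l = l) → ∀ ks, pB ls ks = true →
      w K ks ∈ P ∧ ∀ l ∈ ls, cd K (w K ks * x) l = l := by
    intro ls x h1 hx ks hks
    refine ⟨word_mem K (ls := ls) (fun k hk hl => hP k hk (hl 1 h1)) hks, ?_⟩
    intro l hl
    rw [cd_mul, (hx l hl).2, cd_word K (pB_lt hks) (hx l hl).1]
    exact wc_fix hks (fun l hl => (hx l hl).1) l hl
  obtain ⟨ks1, m1, e1⟩ := dT1 (cd K x 2) (cd_lt K x 2)
    (by have := cd_fN K x 2 1; rw [h1] at this; rw [this]; decide)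
    (by have := cd_ne K (x := x) (c := 2) (d := 0) (by norm_num) (by norm_num) (by norm_num); rwa [cd_zero] at this)
    (by have := cd_ne K (x := x) (c := 2) (d := 1) (by norm_num) (by norm_num) (by norm_num); rwa [h1] at this)
  obtain ⟨p1, f1⟩ := key [1] x (by decide) (by intro l hl; rw [List.mem_singleton] at hl; subst hl; exact ⟨by norm_num, h1⟩)
    ks1 (dT1' ks1 m1)
  set x1 := w K ks1 * x with hx1
  have a1 : cd K x1 1 = 1 := f1 1 (by decide)
  have a2 : cd K x1 2 = 2 := by rw [hx1, cd_mul, cd_word K (pB_lt (dT1' ks1 m1)) (cd_lt K x 2), e1]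
  obtain ⟨ks2, m2, e2⟩ := dT2 (cd K x1 16) (cd_lt K x1 16)
    (by have := cd_fN K x1 16 1; rw [a1] at this; rw [this]; decide)
    (by have := cd_fN K x1 16 2; rw [a2] at this; rw [this]; decide)
  obtain ⟨p2, f2⟩ := key [1, 2] x1 (by decide) (by
    intro l hl
    rcases List.mem_cons.1 hl with rfl | hl
    · exact ⟨by norm_num, a1⟩
    · rw [List.mem_singleton] at hl; subst hl; exact ⟨by norm_num, a2⟩) ks2 (dT2' ks2 m2)
  set x2 := w K ks2 * x1 with hx2
  have b1 : cd K x2 1 = 1 := f2 1 (by decide)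
  have b2 : cd K x2 2 = 2 := f2 2 (by decide)
  have b16 : cd K x2 16 = 16 := by rw [hx2, cd_mul, cd_word K (pB_lt (dT2' ks2 m2)) (cd_lt K x1 16), e2]
  obtain ⟨ks3, m3, e3⟩ := dT3 (cd K x2 4) (cd_lt K x2 4)
    (qB_cd K (by simp) (by simp [b1, b2, b16]) 4 (by decide))
    (by have := cd_ne K (x := x2) (c := 4) (d := 0) (by norm_num) (by norm_num) (by norm_num); rwa [cd_zero] at this)
    (by have := cd_ne K (x := x2) (c := 4) (d := 1) (by norm_num) (by norm_num) (by norm_num); rwa [b1] at this)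
  obtain ⟨p3, f3⟩ := key [1, 2, 16] x2 (by decide) (by
    intro l hl
    rcases List.mem_cons.1 hl with rfl | hl
    · exact ⟨by norm_num, b1⟩
    rcases List.mem_cons.1 hl with rfl | hl
    · exact ⟨by norm_num, b2⟩
    · rw [List.mem_singleton] at hl; subst hl; exact ⟨by norm_num, b16⟩) ks3 (dT3' ks3 m3)
  set x3 := w K ks3 * x2 with hx3
  have c1 : cd K x3 1 = 1 := f3 1 (by decide)
  have c2 : cd K x3 2 = 2 := f3 2 (by decide)
  have c16 : cd K x3 16 = 16 := f3 16 (by decide)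
  have c4 : cd K x3 4 = 4 := by rw [hx3, cd_mul, cd_word K (pB_lt (dT3' ks3 m3)) (cd_lt K x2 4), e3]
  obtain ⟨ks4, m4, e4⟩ := dT4 (cd K x3 32) (cd_lt K x3 32)
    (qB_cd K (by simp [c4]) (by simp [c1, c2, c16]) 32 (by decide))
  obtain ⟨p4, f4⟩ := key [1, 2, 16, 4] x3 (by decide) (by
    intro l hl
    rcases List.mem_cons.1 hl with rfl | hl
    · exact ⟨by norm_num, c1⟩
    rcases List.mem_cons.1 hl with rfl | hl
    · exact ⟨by norm_num, c2⟩
    rcases List.mem_cons.1 hl with rfl | hl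
    · exact ⟨by norm_num, c16⟩
    · rw [List.mem_singleton] at hl; subst hl; exact ⟨by norm_num, c4⟩) ks4 (dT4' ks4 m4)
  refine ⟨w K ks4 * (w K ks3 * (w K ks2 * w K ks1)), mul_mem p4 (mul_mem p3 (mul_mem p2 p1)), ?_⟩
  have e : w K ks4 * (w K ks3 * (w K ks2 * w K ks1)) * x = w K ks4 * x3 := by
    rw [hx3, hx2, hx1]; group
  rw [e]
  exact ⟨f4 1 (by decide), f4 2 (by decide), f4 16 (by decide), f4 4 (by decide), by
    rw [cd_mul, cd_word K (pB_lt (dT4' ks4 m4)) (cd_lt K x3 32), e4]⟩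

theorem genU {P : Subgroup X} (hP : ∀ k < 64, Sp.fN k 1 = false → D.τ (vec K k) ∈ P) {x : X} (h1 : cd K x 1 = 1) :
    x ∈ P := by
  obtain ⟨p, hp, e1, e2, e16, e4, e32⟩ := reduceU K hP h1
  rcases fixB K e1 e2 e4 e16 e32 with h | h
  · have : x = p⁻¹ := eq_inv_of_mul_eq_one_right h
    rw [this]; exact inv_mem hp
  · have h3 : w K [1] ∈ P := word_mem K (ls := [1]) (fun k hk hl => hP k hk (hl 1 (by decide))) (by decide)
    have : x = p⁻¹ * w K [1] := by rw [← h, inv_mul_cancel_left]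
    rw [this]; exact mul_mem (inv_mem hp) h3

/-! ### generation of `C(λ)` -/

def S1 : List (List ℕ) := [[], [32], [33], [34], [35], [36], [37], [38], [39], [32, 33], [32, 34], [32, 35]]

def S2 : List (List ℕ) := [[], [4], [5], [6], [7], [4, 5], [4, 6], [4, 7]]

def Y6 : List (List ℕ) := [[], [1, 16, 17], [2, 8, 10], [1, 16, 17, 2, 8, 10], [2, 8, 10, 1, 16, 17],
  [1, 16, 17, 2, 8, 10, 1, 16, 17]]

theorem dS1 : ∀ a < 64, qB a [] [1, 2] = true → a ∉ [0, 1, 2, 3] → ∃ ks ∈ S1, wc ks a = 4 := by decide +kernel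
theorem dS1' : ∀ ks ∈ S1, pB [1, 2] ks = true := by decide +kernel
theorem dS2 : ∀ a < 64, qB a [4] [1, 2] = true → ∃ ks ∈ S2, wc ks a = 32 := by decide +kernel
theorem dS2' : ∀ ks ∈ S2, pB [1, 2, 4] ks = true := by decide +kernel
theorem dY6 : ∀ a < 4, ∀ b < 4, (a ≠ 0 ∧ b ≠ 0 ∧ a ≠ b) → ∃ ks ∈ Y6, wc ks a = 1 ∧ wc ks b = 2 := by decide +kernel
theorem Y6_lt : ∀ ks ∈ Y6, ∀ k ∈ ks, k < 64 := by decide +kernel
theorem L8_p : ∀ ks ∈ L8, pB [1, 2] ks = true := by decide +kernel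

/-- elements commuting with `λ` permute `1, 2, 3` -/
theorem lamLine {x : X} (h : Commute x (w K [1, 2, 3])) : cd K x 1 < 4 ∧ cd K x 1 ≠ 0 ∧ cd K x 2 < 4 ∧
    cd K x 2 ≠ 0 ∧ cd K x 1 ≠ cd K x 2 := by
  have q : ∀ c < 64, cd K x (wc [1, 2, 3] c) = wc [1, 2, 3] (cd K x c) := fun c hc =>
    cd_comm K (by decide) h hc
  have n : ∀ c < 64, wc [1, 2, 3] c ^^^ c < 4 := by decide +kernel
  have h1 : cd K x 1 = wc [1, 2, 3] (cd K x 16) ^^^ cd K x 16 := by
    rw [← q 16 (by norm_num), ← cd_xor]; rfl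
  have h2 : cd K x 2 = wc [1, 2, 3] (cd K x 8) ^^^ cd K x 8 := by
    rw [← q 8 (by norm_num), ← cd_xor]; rfl
  refine ⟨?_, ?_, ?_, ?_, ?_⟩
  · rw [h1]; exact n _ (cd_lt K x 16)
  · have := cd_ne K (x := x) (c := 1) (d := 0) (by norm_num) (by norm_num) (by norm_num); rwa [cd_zero] at this
  · rw [h2]; exact n _ (cd_lt K x 8)
  · have := cd_ne K (x := x) (c := 2) (d := 0) (by norm_num) (by norm_num) (by norm_num); rwa [cd_zero] at this
  · exact cd_ne K (x := x) (c := 1) (d := 2) (by norm_num) (by norm_num) (by norm_num)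

/-- a subgroup containing the transvections of `l^⊥` contains every element fixing `l` pointwise -/
theorem genL {P : Subgroup X} (hP : ∀ k < 64, Sp.fN k 1 = false → Sp.fN k 2 = false → D.τ (vec K k) ∈ P) {x : X}
    (h1 : cd K x 1 = 1) (h2 : cd K x 2 = 2) : x ∈ P := by
  have key : ∀ (ls : List ℕ) (x : X), 1 ∈ ls → 2 ∈ ls → (∀ l ∈ ls, l < 64 ∧ cd K x l = l) → ∀ ks, pB ls ks = true →
      w K ks ∈ P ∧ ∀ l ∈ ls, cd K (w K ks * x) l = l := by
    intro ls x h1 h2 hx ks hks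
    refine ⟨word_mem K (ls := ls) (fun k hk hl => hP k hk (hl 1 h1) (hl 2 h2)) hks, ?_⟩
    intro l hl
    rw [cd_mul, (hx l hl).2, cd_word K (pB_lt hks) (hx l hl).1]
    exact wc_fix hks (fun l hl => (hx l hl).1) l hl
  have h3 : cd K x 3 = 3 := by
    have := cd_xor K x 1 2
    rw [h1, h2] at this
    exact this
  have n0 := cd_ne K (x := x) (c := 4) (d := 0) (by norm_num) (by norm_num) (by norm_num)
  have n1 := cd_ne K (x := x) (c := 4) (d := 1) (by norm_num) (by norm_num) (by norm_num)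
  have n2 := cd_ne K (x := x) (c := 4) (d := 2) (by norm_num) (by norm_num) (by norm_num)
  have n3 := cd_ne K (x := x) (c := 4) (d := 3) (by norm_num) (by norm_num) (by norm_num)
  rw [cd_zero] at n0
  rw [h1] at n1
  rw [h2] at n2
  rw [h3] at n3
  obtain ⟨ks1, m1, e1⟩ := dS1 (cd K x 4) (cd_lt K x 4)
    (qB_cd K (by simp) (by simp [h1, h2]) 4 (by decide))
    (by simp [n0, n1, n2, n3])
  obtain ⟨p1, f1⟩ := key [1, 2] x (by decide) (by decide) (by
    intro l hl
    rcases List.mem_cons.1 hl with rfl | hl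
    · exact ⟨by norm_num, h1⟩
    · rw [List.mem_singleton] at hl; subst hl; exact ⟨by norm_num, h2⟩) ks1 (dS1' ks1 m1)
  set x1 := w K ks1 * x with hx1
  have a1 : cd K x1 1 = 1 := f1 1 (by decide)
  have a2 : cd K x1 2 = 2 := f1 2 (by decide)
  have a4 : cd K x1 4 = 4 := by rw [hx1, cd_mul, cd_word K (pB_lt (dS1' ks1 m1)) (cd_lt K x 4), e1]
  obtain ⟨ks2, m2, e2⟩ := dS2 (cd K x1 32) (cd_lt K x1 32)
    (qB_cd K (by simp [a4]) (by simp [a1, a2]) 32 (by decide))
  obtain ⟨p2, f2⟩ := key [1, 2, 4] x1 (by decide) (by decide) (by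
    intro l hl
    rcases List.mem_cons.1 hl with rfl | hl
    · exact ⟨by norm_num, a1⟩
    rcases List.mem_cons.1 hl with rfl | hl
    · exact ⟨by norm_num, a2⟩
    · rw [List.mem_singleton] at hl; subst hl; exact ⟨by norm_num, a4⟩) ks2 (dS2' ks2 m2)
  obtain ⟨ks, hks, e⟩ := fixA K (x := w K ks2 * x1) (f2 1 (by decide)) (f2 2 (by decide)) (f2 4 (by decide)) (by
    rw [cd_mul, cd_word K (pB_lt (dS2' ks2 m2)) (cd_lt K x1 32), e2])
  have p3 : w K ks ∈ P := word_mem K (ls := [1, 2]) (fun k hk hl => hP k hk (hl 1 (by decide)) (hl 2 (by decide)))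
    (L8_p ks hks)
  have : x = (w K ks1)⁻¹ * ((w K ks2)⁻¹ * w K ks) := by
    rw [← e, hx1]; group
  rw [this]
  exact mul_mem (inv_mem p1) (mul_mem (inv_mem p2) p3)

/-- a subgroup containing the transvections of `l^⊥` and `y1`, `y2` contains `C(λ)` -/
theorem genLam {P : Subgroup X} (hP : ∀ k < 64, Sp.fN k 1 = false → Sp.fN k 2 = false → D.τ (vec K k) ∈ P)
    (hy1 : w K [1, 16, 17] ∈ P) (hy2 : w K [2, 8, 10] ∈ P) {x : X} (h : Commute x (w K [1, 2, 3])) : x ∈ P := by
  obtain ⟨a1, a2, a3, a4, a5⟩ := lamLine K h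
  obtain ⟨ks, hks, e1, e2⟩ := dY6 _ a1 _ a3 ⟨a2, a4, a5⟩
  have hw : w K ks ∈ P := by
    have hw6 : ∀ ks ∈ Y6, w K ks ∈ P := by
      intro ks hks
      simp only [Y6, List.mem_cons, List.not_mem_nil, or_false] at hks
      rcases hks with rfl | rfl | rfl | rfl | rfl | rfl
      · rw [w_nil]; exact one_mem _
      · exact hy1
      · exact hy2
      · exact (w_append K [1, 16, 17] [2, 8, 10]) ▸ mul_mem hy1 hy2
      · exact (w_append K [2, 8, 10] [1, 16, 17]) ▸ mul_mem hy2 hy1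
      · have : w K [1, 16, 17, 2, 8, 10, 1, 16, 17] = w K [1, 16, 17] * (w K [2, 8, 10] * w K [1, 16, 17]) := by
          rw [← w_append, ← w_append]; rfl
        rw [this]; exact mul_mem hy1 (mul_mem hy2 hy1)
    exact hw6 ks hks
  have h3 : w K ks * x ∈ P := by
    apply genL K hP
    · rw [cd_mul, cd_word K (Y6_lt ks hks) (cd_lt K x 1), e1]
    · rw [cd_mul, cd_word K (Y6_lt ks hks) (cd_lt K x 2), e2]
  have : x = (w K ks)⁻¹ * (w K ks * x) := by group
  rw [this]
  exact mul_mem (inv_mem hw) h3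

end Cfsg.Agent.StdSpSix.AllFacts
end

-- part: StdSpSix/AllFactsTwo
section
/-!
# Facts on `Sp₆(2)` for the pattern `ALL`, second part

`Rv x r`: `B(v, x v) = B(v, r)`; the vector `r` is fixed by the centraliser of `x`; `r = 0` iff `x` is of type `a2` (for
involutions).
-/

set_option autoImplicit false
set_option maxHeartbeats 400000

namespace Cfsg.Agent.StdSpSix.AllFactsTwo

open Cfsg.Agent.StandardComponent.SpTwo
open Cfsg.Agent.SporRec.TwoSp6
open Cfsg.Agent.StdSpSix.Words Cfsg.Agent.StdSpSix.Model Cfsg.Agent.StdSpSix.AllCode Cfsg.Agent.StdSpSix.AllFacts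

variable {X V : Type*} [Group X] [AddCommGroup V] [Module (ZMod 2) V] {D : SpData X V} (K : Coord D)

/-! ### the canonical vector of an involution -/

/-- `B(v, x v) = B(v, r)` for all `v` -/
def Rv (D : SpData X V) (x : X) (r : V) : Prop := ∀ v, D.B v (D.ρ x v) = D.B v r

theorem eq_of_B {r s : V} (h : ∀ v, D.B v r = D.B v s) : r = s := by
  have h0 : ∀ v, D.B (r + s) v = 0 := by
    intro v
    rw [D.symm, map_add, h v]
    exact CharTwo.add_self_eq_zero _
  exact eq_of_add r s (D.nondeg _ h0)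

theorem Rv.unique {x : X} {r s : V} (hr : Rv D x r) (hs : Rv D x s) : r = s :=
  eq_of_B (D := D) fun v => by rw [← hr v, hs v]

theorem Rv.fix {x g : X} {r : V} (hr : Rv D x r) (h : Commute g x) : D.ρ g r = r := by
  apply eq_of_B (D := D)
  intro v
  have h1 := hr (D.ρ g⁻¹ v)
  have h2 : D.ρ x (D.ρ g⁻¹ v) = D.ρ g⁻¹ (D.ρ x v) := by
    rw [← D.ρ_mul, ← D.ρ_mul, (h.symm.inv_right).eq]
  rw [h2, D.inv, hr v] at h1
  rw [h1, D.inv_left, inv_inv]

theorem Rv_tau (r : V) : Rv D (D.τ r) r := by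
  intro v
  rw [D.hτ, map_add, map_smul, smul_eq_mul, D.alt, zero_add]
  rcases z2 (D.B v r) with h | h <;> rw [h] <;> decide

theorem Rv.conj {x : X} {r : V} (hr : Rv D x r) (g : X) : Rv D (g * x * g⁻¹) (D.ρ g r) := by
  intro v
  have h1 := hr (D.ρ g⁻¹ v)
  rw [D.ρ_mul, D.ρ_mul, D.symm, D.inv_left, D.symm, h1, D.symm, ← D.inv_left, D.symm]

theorem Rv.mul_tau {x : X} {r u : V} (hr : Rv D x r) (h : D.ρ x u = u) : Rv D (x * D.τ u) (r + u) := by
  intro v
  rw [D.ρ_mul, D.hτ, map_add, map_add, map_smul, h, hr v, map_smul, smul_eq_mul, map_add]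
  congr 1
  rcases z2 (D.B v u) with h | h <;> rw [h] <;> decide

theorem Rv_word {ks : List ℕ} {r : ℕ} (hks : ∀ k ∈ ks, k < 64)
    (h : ∀ c < 64, Sp.fN c (wc ks c) = Sp.fN c r) : Rv D (w K ks) (vec K r) := by
  intro v
  obtain ⟨c, hc, rfl⟩ := exists_vec K v
  rw [cd_spec, cd_word K hks hc, B_vec, B_vec, h c hc]

theorem Rv_lam : Rv D (w K [1, 2, 3]) 0 := by
  rw [← vec_zero K]
  exact Rv_word K (by decide) (by decide +kernel)

/-- An involution is of type `a2` or has a nonzero canonical vector. -/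
theorem classify {x : X} (hx : x * x = 1) (h1 : x ≠ 1) :
    (∃ g, g * x * g⁻¹ = w K [1, 2, 3]) ∨ ∃ r, r ≠ 0 ∧ Rv D x r := by
  have back : ∀ (ks : List ℕ) (r : ℕ), (∀ k ∈ ks, k < 64) → (∀ c < 64, Sp.fN c (wc ks c) = Sp.fN c r) →
      (r < 64) → r ≠ 0 → (∃ g, g * x * g⁻¹ = w K ks) → ∃ r, r ≠ 0 ∧ Rv D x r := by
    rintro ks r hks h hr hr0 ⟨g, hg⟩
    have h2 := (Rv_word K hks h).conj g⁻¹
    rw [← hg] at h2
    have e : g⁻¹ * (g * x * g⁻¹) * g⁻¹⁻¹ = x := by group
    rw [e] at h2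
    refine ⟨_, ?_, h2⟩
    intro h0
    have h3 : vec K r = 0 := by
      rw [← D.ρ_apply_inv g (vec K r), h0, map_zero]
    apply hr0
    apply vec_inj K hr (by norm_num)
    rw [h3, vec_zero]
  rcases exists_conj K hx h1 with ⟨_, h⟩ | ⟨_, h⟩ | ⟨_, h⟩ | ⟨_, h⟩
  · exact Or.inr (back [1] 1 (by decide) (by decide +kernel) (by norm_num) (by norm_num) h)
  · exact Or.inr (back [1, 2] 3 (by decide) (by decide +kernel) (by norm_num) (by norm_num) h)
  · exact Or.inl h
  · exact Or.inr (back [1, 2, 4] 7 (by decide) (by decide +kernel) (by norm_num) (by norm_num) h)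

/-! ### the image of a code as a sum -/

/-- The value on `c` of the linear map with the given values on the basis codes. -/
def lin6 (a1 a2 a4 a8 a16 a32 c : ℕ) : ℕ := (if c.testBit 0 then a1 else 0) ^^^ ((if c.testBit 1 then a2 else 0) ^^^
    ((if c.testBit 2 then a4 else 0) ^^^ ((if c.testBit 3 then a8 else 0) ^^^ ((if c.testBit 4 then a16 else 0) ^^^
    (if c.testBit 5 then a32 else 0)))))

theorem cd_lin (x : X) {c : ℕ} (hc : c < 64) :
    cd K x c = lin6 (cd K x 1) (cd K x 2) (cd K x 4) (cd K x 8) (cd K x 16) (cd K x 32) c := by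
  have key : ∀ (b : Bool) (d : ℕ), cd K x (if b then d else 0) = if b then cd K x d else 0 := by
    intro b d
    cases b
    · simp only [Bool.false_eq_true, if_false, cd_zero]
    · simp
  conv_lhs => rw [code_split c hc]
  simp only [cd_xor, key]
  rfl

/-! ### no element of order five commutes with `λ` -/

/-- fifth iterate of a linear map given by four values -/
def it5 (a b p q c : ℕ) : ℕ :=
  lin6 a b p 0 0 q (lin6 a b p 0 0 q (lin6 a b p 0 0 q (lin6 a b p 0 0 q (lin6 a b p 0 0 q c))))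

theorem d5a : (allB fun a => impB (decide (a < 4)) (allB fun b => impB (decide (b < 4) && (a != 0) && (b != 0) &&
    (a != b) && (it5 a b 0 0 1 == 1) && (it5 a b 0 0 2 == 2)) ((a == 1) && (b == 2)))) = true := by decide +kernel

theorem d5b : (allB fun p => impB (qB p [] [1, 2] && (! [0, 1, 2, 3].contains p)) (allB fun q =>
    impB (qB q [] [1, 2] && Sp.fN p q && (it5 1 2 p q 4 == 4) && (it5 1 2 p q 32 == 32)) ((p == 4) && (q == 32)))) =
    true := by decide +kernel

/-- codes in the span of the listed basis codes stay there -/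
theorem it5_eq {x : X} (h5 : x ^ 5 = 1) {c : ℕ} (hc : c < 64)
    (h : ∀ c < 64, c.testBit 3 = false → c.testBit 4 = false →
      cd K x c = lin6 (cd K x 1) (cd K x 2) (cd K x 4) 0 0 (cd K x 32) c ∧ (cd K x c).testBit 3 = false ∧
        (cd K x c).testBit 4 = false) (hc3 : c.testBit 3 = false) (hc4 : c.testBit 4 = false) :
    it5 (cd K x 1) (cd K x 2) (cd K x 4) (cd K x 32) c = c := by
  have e : cd K (x ^ 5) c = cd K x (cd K x (cd K x (cd K x (cd K x c)))) := by
    have : x ^ 5 = x * (x * (x * (x * x))) := by simp only [pow_succ, pow_zero, one_mul, mul_assoc]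
    rw [this, cd_mul, cd_mul, cd_mul, cd_mul]
  rw [h5, cd_one K hc] at e
  unfold it5
  have s0 := h c hc hc3 hc4
  have s1 := h _ (cd_lt K x c) s0.2.1 s0.2.2
  have s2 := h _ (cd_lt K x _) s1.2.1 s1.2.2
  have s3 := h _ (cd_lt K x _) s2.2.1 s2.2.2
  have s4 := h _ (cd_lt K x _) s3.2.1 s3.2.2
  rw [← s0.1, ← s1.1, ← s2.1, ← s3.1, ← s4.1]
  exact e.symm

theorem d4 : (allB fun a => impB (decide (a < 4)) (allB fun b => impB (decide (b < 4)) (allB fun d =>
    impB (decide (d < 4) && (a != 0) && (b != 0) && (a != b) && (d != 0)) ((d == a) || (d == b) || (d == a ^^^ b))))) =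
    true := by decide +kernel

theorem no_five {x : X} (h : Commute x (w K [1, 2, 3])) (h5 : x ^ 5 = 1) : x = 1 := by
  obtain ⟨a1, a2, a3, a4, a5⟩ := lamLine K h
  -- the span of `1, 2, 4, 32` is stable
  have perp : ∀ c < 64, qB c [] [1, 2] = true → qB (cd K x c) [] [1, 2] = true := by
    intro c hc hq
    have hinv : ∀ d < 4, d ≠ 0 → ∃ e < 4, cd K x e = d := by
      have t : ∀ a < 4, ∀ b < 4, ∀ d < 4, (a ≠ 0 ∧ b ≠ 0 ∧ a ≠ b ∧ d ≠ 0) → d = a ∨ d = b ∨ d = a ^^^ b := by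
        intro a ha b hb d hd h
        have := impB_spec (allB_spec (impB_spec (allB_spec (impB_spec (allB_spec d4 (show a < 64 by omega))
          (decide_eq_true ha)) (show b < 64 by omega)) (decide_eq_true hb)) (show d < 64 by omega)) (by
          simp only [Bool.and_eq_true, decide_eq_true_eq, bne_iff_ne]
          exact ⟨⟨⟨⟨hd, h.1⟩, h.2.1⟩, h.2.2.1⟩, h.2.2.2⟩)
        simp only [Bool.or_eq_true, beq_iff_eq] at this
        rcases this with (h | h) | h
        · exact Or.inl h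
        · exact Or.inr (Or.inl h)
        · exact Or.inr (Or.inr h)
      intro d hd hd0
      rcases t _ a1 _ a3 d hd ⟨a2, a4, a5, hd0⟩ with h | h | h
      · exact ⟨1, by norm_num, h.symm⟩
      · exact ⟨2, by norm_num, h.symm⟩
      · exact ⟨3, by norm_num, by rw [h]; exact cd_xor K x 1 2⟩
    have f3 : ∀ c < 64, qB c [] [1, 2] = true → ∀ e < 4, Sp.fN c e = false := by decide +kernel
    have g : ∀ d < 4, d ≠ 0 → Sp.fN (cd K x c) d = false := by
      intro d hd hd0
      obtain ⟨e, he, rfl⟩ := hinv d hd hd0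
      rw [cd_fN]
      exact f3 c hc hq e he
    unfold qB
    simp only [List.all_nil, List.all_cons, Bool.true_and, Bool.and_true]
    rw [g 1 (by norm_num) (by norm_num), g 2 (by norm_num) (by norm_num)]
    rfl
  have bits : ∀ c < 64, qB c [] [1, 2] = true ↔ (c.testBit 3 = false ∧ c.testBit 4 = false) := by decide +kernel
  have st : ∀ c < 64, c.testBit 3 = false → c.testBit 4 = false →
      cd K x c = lin6 (cd K x 1) (cd K x 2) (cd K x 4) 0 0 (cd K x 32) c ∧ (cd K x c).testBit 3 = false ∧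
        (cd K x c).testBit 4 = false := by
    intro c hc h3 h4
    refine ⟨?_, (bits _ (cd_lt K x c)).1 (perp c hc ((bits c hc).2 ⟨h3, h4⟩))⟩
    rw [cd_lin K x hc]
    unfold lin6
    rw [h3, h4]
    simp
  have i1 := it5_eq K h5 (c := 1) (by norm_num) st (by decide) (by decide)
  have i2 := it5_eq K h5 (c := 2) (by norm_num) st (by decide) (by decide)
  have i4 := it5_eq K h5 (c := 4) (by norm_num) st (by decide) (by decide)
  have i32 := it5_eq K h5 (c := 32) (by norm_num) st (by decide) (by decide)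
  -- on the line the values at `4, 32` do not matter
  have cut : ∀ a < 4, ∀ b < 4, ∀ p q : ℕ, ∀ c < 4, lin6 a b p 0 0 q c = lin6 a b 0 0 0 0 c ∧
      lin6 a b 0 0 0 0 c < 4 := by
    intro a ha b hb p q c hc
    have t : ∀ c < 4, c.testBit 2 = false ∧ c.testBit 5 = false := by decide +kernel
    have t2 : ∀ a < 4, ∀ b < 4, ∀ c < 4, lin6 a b 0 0 0 0 c < 4 := by decide +kernel
    refine ⟨?_, t2 a ha b hb c hc⟩
    unfold lin6
    rw [(t c hc).1, (t c hc).2]
    simp
  have cut5 : ∀ c < 4, it5 (cd K x 1) (cd K x 2) (cd K x 4) (cd K x 32) c = it5 (cd K x 1) (cd K x 2) 0 0 c := by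
    intro c hc
    unfold it5
    have k := fun c hc => cut (cd K x 1) a1 (cd K x 2) a3 (cd K x 4) (cd K x 32) c hc
    have s0 := k c hc
    rw [s0.1]
    have s1 := k _ s0.2
    rw [s1.1]
    have s2 := k _ s1.2
    rw [s2.1]
    have s3 := k _ s2.2
    rw [s3.1]
    have s4 := k _ s3.2
    rw [s4.1]
  rw [cut5 1 (by norm_num)] at i1
  rw [cut5 2 (by norm_num)] at i2
  have r1 := impB_spec (allB_spec (impB_spec (allB_spec d5a (cd_lt K x 1)) (decide_eq_true a1)) (cd_lt K x 2)) (by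
    simp only [Bool.and_eq_true, decide_eq_true_eq, bne_iff_ne, beq_iff_eq]
    exact ⟨⟨⟨⟨⟨a3, a2⟩, a4⟩, a5⟩, i1⟩, i2⟩)
  rw [Bool.and_eq_true, beq_iff_eq, beq_iff_eq] at r1
  obtain ⟨e1, e2⟩ := r1
  have e3 : cd K x 3 = 3 := by
    have := cd_xor K x 1 2
    rw [e1, e2] at this
    exact this
  have n0 := cd_ne K (x := x) (c := 4) (d := 0) (by norm_num) (by norm_num) (by norm_num)
  have n1 := cd_ne K (x := x) (c := 4) (d := 1) (by norm_num) (by norm_num) (by norm_num)
  have n2 := cd_ne K (x := x) (c := 4) (d := 2) (by norm_num) (by norm_num) (by norm_num)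
  have n3 := cd_ne K (x := x) (c := 4) (d := 3) (by norm_num) (by norm_num) (by norm_num)
  rw [cd_zero] at n0
  rw [e1] at n1
  rw [e2] at n2
  rw [e3] at n3
  rw [e1, e2] at i4 i32
  have r2 := impB_spec (allB_spec (impB_spec (allB_spec d5b (cd_lt K x 4)) (by
    rw [Bool.and_eq_true]
    exact ⟨perp 4 (by norm_num) (by decide), by simp [n0, n1, n2, n3]⟩)) (cd_lt K x 32)) (by
    simp only [Bool.and_eq_true, beq_iff_eq]
    exact ⟨⟨⟨perp 32 (by norm_num) (by decide), by rw [cd_fN]; decide⟩, i4⟩, i32⟩)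
  rw [Bool.and_eq_true, beq_iff_eq, beq_iff_eq] at r2
  obtain ⟨ks, hks, hx⟩ := fixA K e1 e2 r2.1 r2.2
  have sq : ∀ ks ∈ L8, eqB (ks ++ ks) [] = true := by decide +kernel
  have hxx : x * x = 1 := by
    rw [hx, ← w_append, w_one K (sq ks hks)]
  calc x = x * (x * x) * (x * x) := by rw [hxx, mul_one, mul_one]
    _ = x ^ 5 := by simp only [pow_succ, pow_zero, one_mul, mul_assoc]
    _ = 1 := h5

/-! ### two commuting `a2`'s -/

/-- an element commuting with `λ` permutes the three points -/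
theorem line_image {x : X} (h : Commute x (w K [1, 2, 3])) {c : ℕ} (hc : c < 4) (hc0 : c ≠ 0) :
    cd K x c < 4 ∧ cd K x c ≠ 0 := by
  obtain ⟨a1, a2, a3, a4, a5⟩ := lamLine K h
  refine ⟨?_, ?_⟩
  · have hx : cd K x 3 < 4 := by
      have := cd_xor K x 1 2
      have t : ∀ a < 4, ∀ b < 4, a ^^^ b < 4 := by decide +kernel
      have h3 : cd K x 3 = cd K x 1 ^^^ cd K x 2 := this
      rw [h3]
      exact t _ a1 _ a3
    interval_cases c
    · exact absurd rfl hc0
    · exact a1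
    · exact a3
    · exact hx
  · have := cd_ne K (x := x) (c := c) (d := 0) (by omega) (by norm_num) hc0
    rwa [cd_zero] at this

theorem dM : (allB fun p => impB (p != 0) (allB fun q => impB ((q != 0) && (q != p) && (!Sp.fN p q) &&
    decide (wc [p, q, p ^^^ q] 1 < 4) && decide (wc [p, q, p ^^^ q] 2 < 4) &&
    (!([1, 2, 3].contains p && [1, 2, 3].contains q)))
    (([p, q, p ^^^ q].filter fun c => decide (c < 4)).length == 1))) = true := by
  rewrite [Fast.wc_fast, Fast.fN_fast]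
  decide +kernel

/-- Two distinct commuting `a2`'s: their lines meet in exactly one point, fixed by everything commuting with both. -/
theorem meet {K' : Coord D} (hc : Commute (w K' [1, 2, 3]) (w K [1, 2, 3])) (hne : w K' [1, 2, 3] ≠ w K [1, 2, 3]) :
    ∃ a : V, a ≠ 0 ∧ ∀ x, Commute x (w K' [1, 2, 3]) → Commute x (w K [1, 2, 3]) → D.ρ x a = a := by
  obtain ⟨p, hp, ep⟩ := exists_vec K (vec K' 1)
  obtain ⟨q, hq, eq⟩ := exists_vec K (vec K' 2)
  have e3 : vec K' 3 = vec K (p ^^^ q) := by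
    have h3 : (3 : ℕ) = 1 ^^^ 2 := by decide
    rw [vec_xor, ← ep, ← eq, h3, vec_xor K' 1 2]
  have hs : w K' [1, 2, 3] = w K [p, q, p ^^^ q] := by
    simp only [w_cons, w_nil]
    rw [ep, eq, e3]
  have hpq : ∀ k ∈ [p, q, p ^^^ q], k < 64 := by
    intro k hk
    simp only [List.mem_cons, List.not_mem_nil, or_false] at hk
    rcases hk with rfl | rfl | rfl
    · exact hp
    · exact hq
    · exact xor_lt hp hq
  have hp0 : p ≠ 0 := by
    rintro rfl
    have : (1 : ℕ) = 0 := vec_inj K' (by norm_num) (by norm_num) (by rw [ep, vec_zero, vec_zero])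
    exact absurd this (by norm_num)
  have hq0 : q ≠ 0 := by
    rintro rfl
    have : (2 : ℕ) = 0 := vec_inj K' (by norm_num) (by norm_num) (by rw [eq, vec_zero, vec_zero])
    exact absurd this (by norm_num)
  have hqp : q ≠ p := by
    rintro rfl
    have : (1 : ℕ) = 2 := vec_inj K' (by norm_num) (by norm_num) (by rw [ep, eq])
    exact absurd this (by norm_num)
  have hf : Sp.fN p q = false := by
    apply fN_of_zero K
    rw [← ep, ← eq]
    exact B_vec_zero K' (by decide)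
  have hl := lamLine K hc
  rw [hs, cd_word K hpq (by norm_num), cd_word K hpq (by norm_num)] at hl
  have hn : ([1, 2, 3].contains p && [1, 2, 3].contains q) = false := by
    by_contra hcon
    rw [Bool.not_eq_false, Bool.and_eq_true, List.contains_iff_mem, List.contains_iff_mem] at hcon
    apply hne
    rw [hs]
    apply w_eq
    have t : ∀ p ∈ [1, 2, 3], ∀ q ∈ [1, 2, 3], p ≠ q → eqB [p, q, p ^^^ q] [1, 2, 3] = true := by decide +kernel
    exact t p hcon.1 q hcon.2 (Ne.symm hqp)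
  have r := impB_spec (allB_spec (impB_spec (allB_spec dM hp) (bne_iff_ne.2 hp0)) hq) (by
    simp only [Bool.and_eq_true, bne_iff_ne, decide_eq_true_eq, hf, hn]
    exact ⟨⟨⟨⟨⟨hq0, hqp⟩, rfl⟩, hl.1⟩, hl.2.2.1⟩, rfl⟩)
  rw [beq_iff_eq, List.length_eq_one_iff] at r
  obtain ⟨a, ha⟩ := r
  have ham : a ∈ [p, q, p ^^^ q].filter fun c => decide (c < 4) := by rw [ha]; exact List.mem_singleton_self a
  rw [List.mem_filter, decide_eq_true_eq] at ham
  have ha0 : a ≠ 0 := by
    rintro rfl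
    have := ham.1
    simp only [List.mem_cons, List.not_mem_nil, or_false] at this
    rcases this with h | h | h
    · exact hp0 h.symm
    · exact hq0 h.symm
    · exact hqp (Nat.xor_eq_zero_iff.1 h.symm).symm
  have ha64 : a < 64 := by omega
  refine ⟨vec K a, fun h => ha0 (vec_inj K ha64 (by norm_num) (by rw [h, vec_zero])), fun x h1 h2 => ?_⟩
  rw [cd_spec]
  congr 1
  have b1 := line_image K h2 ham.2 ha0
  -- the image is in the other line, too
  have b2 : cd K x a ∈ [p, q, p ^^^ q] := by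
    have tr : ∀ c < 4, c ≠ 0 → ∃ d ∈ [p, q, p ^^^ q], vec K' c = vec K d := by
      intro c hc hc0
      interval_cases c
      · exact absurd rfl hc0
      · exact ⟨p, by simp, ep⟩
      · exact ⟨q, by simp, eq⟩
      · exact ⟨p ^^^ q, by simp, e3⟩
    have tr' : ∃ c < 4, c ≠ 0 ∧ vec K' c = vec K a := by
      have := ham.1
      simp only [List.mem_cons, List.not_mem_nil, or_false] at this
      rcases this with rfl | rfl | rfl
      · exact ⟨1, by norm_num, by norm_num, ep⟩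
      · exact ⟨2, by norm_num, by norm_num, eq⟩
      · exact ⟨3, by norm_num, by norm_num, e3⟩
    obtain ⟨c, hc4, hc0, hca⟩ := tr'
    have b := line_image K' h1 hc4 hc0
    obtain ⟨d, hd, hde⟩ := tr _ b.1 b.2
    have hd64 : d < 64 := hpq d hd
    have : cd K x a = d := by
      apply cd_eq K hd64
      rw [← hca, cd_spec, hde]
    rw [this]
    exact hd
  have b3 : cd K x a ∈ [p, q, p ^^^ q].filter fun c => decide (c < 4) := by
    rw [List.mem_filter, decide_eq_true_eq]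
    exact ⟨b2, b1.1⟩
  rw [ha, List.mem_singleton] at b3
  exact b3

/-! ### the group `U_u` -/

/-- the 32 elements of `U_u`, `u = 1` -/
def UL : List (List ℕ) := [[], [1]] ++ ([2, 4, 6, 16, 18, 20, 22, 32, 34, 36, 38, 48, 50, 52, 54].flatMap fun n =>
  [[1, n, n ^^^ 1], [n, n ^^^ 1]])

theorem dU : (allB fun a => impB (Sp.fN a 1) (UL.any fun ks => (a == wc ks 8) && ((a ^^^ wc [1, 2, 3] a) == wc ks 2) &&
    ((a ^^^ wc [1, 4, 5] a) == wc ks 4) && ((a ^^^ wc [1, 16, 17] a) == wc ks 16) &&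
    ((a ^^^ wc [1, 32, 33] a) == wc ks 32) && (wc ks 1 == 1))) = true := by decide +kernel

theorem UL_lt : ∀ ks ∈ UL, ∀ k ∈ ks, k < 64 := by decide +kernel

theorem fixU {x : X} (h1 : cd K x 1 = 1) (h2 : Commute x (w K [1, 2, 3])) (h4 : Commute x (w K [1, 4, 5]))
    (h16 : Commute x (w K [1, 16, 17])) (h32 : Commute x (w K [1, 32, 33])) : ∃ ks ∈ UL, x = w K ks := by
  have key : ∀ n, (∀ k ∈ [1, n, n ^^^ 1], k < 64) → Commute x (w K [1, n, n ^^^ 1]) → wc [1, n, n ^^^ 1] 8 = 8 ^^^ n →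
      cd K x n = cd K x 8 ^^^ wc [1, n, n ^^^ 1] (cd K x 8) := by
    intro n hn h h8
    have := cd_comm K hn h (c := 8) (by norm_num)
    rw [h8, cd_xor] at this
    rw [← this, ← Nat.xor_assoc, Nat.xor_self, Nat.zero_xor]
  have e2 := key 2 (by decide) h2 (by decide)
  have e4 := key 4 (by decide) h4 (by decide)
  have e16 := key 16 (by decide) h16 (by decide)
  have e32 := key 32 (by decide) h32 (by decide)
  have r := impB_spec (allB_spec dU (cd_lt K x 8)) (by
    have := cd_fN K x 8 1; rw [h1] at this; rw [this]; decide)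
  rw [List.any_eq_true] at r
  obtain ⟨ks, hks, hk⟩ := r
  simp only [Bool.and_eq_true, beq_iff_eq] at hk
  obtain ⟨⟨⟨⟨⟨k8, k2⟩, k4⟩, k16⟩, k32⟩, k1⟩ := hk
  exact ⟨ks, hks, eq_word K (UL_lt ks hks) (h1.trans k1.symm) (e2.trans k2) (e4.trans k4) k8 (e16.trans k16)
    (e32.trans k32)⟩

end Cfsg.Agent.StdSpSix.AllFactsTwo
end

-- part: StdSpSix/AllBase
section
/-!
# Pattern `ALL`: swaps of `t` and `t z`

`All C`: no element of `L` is conjugate to `t`, every `t x`, `x ∈ L`, `x² = 1`, is.  If `g t g⁻¹ = t z` then conjugation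
by `g` identifies the involutions of `L` commuting with `g⁻¹ z g` and with `z` (`down`, `up`).  Output: for `z = b_u` and
`z = λ` one can choose `g` with `g z g⁻¹ = z`.
-/

set_option autoImplicit false
set_option maxHeartbeats 400000

namespace Cfsg.Agent.StdSpSix.AllBase

open Cfsg.Agent.StandardComponent.SpTwo
open Cfsg.Agent.SporRec.TwoSp6
open Cfsg.Agent.StdSpSix.Words Cfsg.Agent.StdSpSix.Model Cfsg.Agent.StdSpSix.AllCode Cfsg.Agent.StdSpSix.AllFacts
open Cfsg.Agent.StdSpSix.AllFactsTwo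

variable {G V : Type*} [Group G] [AddCommGroup V] [Module (ZMod 2) V] {C : Ctx G V}

/-- the pattern `ALL` -/
structure All (C : Ctx G V) : Prop where
  none : ∀ x ∈ C.L, x ∉ C.D
  all : ∀ x ∈ C.L, x * x = 1 → C.t * x ∈ C.D

/-- a word, as an element of `G` -/
noncomputable def ww (K : Coord C.S) (ks : List ℕ) : G := ((w K ks : C.L) : G)

variable (K : Coord C.S)

theorem ww_mem (ks : List ℕ) : ww K ks ∈ C.L := (w K ks).2

theorem ww_mul (ks ls : List ℕ) : ww K ks * ww K ls = ww K (ks ++ ls) := by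
  unfold ww; rw [w_append]; rfl

theorem ww_eq {ks ls : List ℕ} (h : eqB ks ls = true) : ww K ks = ww K ls := by
  unfold ww; rw [w_eq K h]

theorem ww_nil : ww K [] = 1 := by unfold ww; rw [w_nil]; rfl

theorem ww_one {ks : List ℕ} (h : eqB ks [] = true) : ww K ks = 1 := by rw [ww_eq K h, ww_nil]

theorem ww_cons (k : ℕ) (ks : List ℕ) : ww K (k :: ks) = C.b (vec K k) * ww K ks := by
  unfold ww; rw [w_cons]; rfl

theorem b_eq (k : ℕ) : C.b (vec K k) = ww K [k] := by rw [ww_cons, ww_nil, mul_one]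

theorem ww_commute {ks ls : List ℕ} (h : eqB (ks ++ ls) (ls ++ ks) = true) : Commute (ww K ks) (ww K ls) := by
  change ww K ks * ww K ls = ww K ls * ww K ks
  rw [ww_mul, ww_mul, ww_eq K h]

theorem ww_sq {ks : List ℕ} (h : eqB (ks ++ ks) [] = true) : ww K ks * ww K ks = 1 := by
  rw [ww_mul, ww_one K h]

theorem coe_commute {x y : C.L} : Commute (x : G) (y : G) ↔ Commute x y :=
  ⟨fun h => Subtype.ext h, fun h => congrArg Subtype.val h⟩

theorem ww_t (ks : List ℕ) : Commute (ww K ks) C.t := C.commute_of_mem (ww_mem K ks)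

theorem inv_of_sq {x : G} (h : x * x = 1) : x⁻¹ = x := inv_eq_of_mul_eq_one_right h

theorem ww_ne {ks ls : List ℕ} (hks : ∀ k ∈ ks, k < 64) (hls : ∀ k ∈ ls, k < 64)
    (h : ∃ c < 64, wc ks c ≠ wc ls c) : ww K ks ≠ ww K ls := by
  obtain ⟨c, hc, hne⟩ := h
  intro h'
  apply hne
  have h2 : w K ks = w K ls := Subtype.ext h'
  rw [← cd_word K hks hc, ← cd_word K hls hc, h2]

/-! ### frames -/

/-- a coordinate system with a prescribed nonzero vector -/
theorem exists_frame_one {X : Type*} [Group X] {D : SpData X V} (K : Coord D) {a : V} (ha : a ≠ 0) :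
    ∃ K' : Coord D, vec K' 1 = a := by
  obtain ⟨a, rfl⟩ := K.f.surjective a
  obtain ⟨g, hg⟩ := Sp.exists_act (u := Sp.enc 1) (w := a) (by decide) fun h => ha (by rw [h, map_zero])
  exact ⟨twist K g, by rw [vec_twist, hg]⟩

/-- the frame moved by an element of the group -/
theorem exists_frame_conj {X : Type*} [Group X] {D : SpData X V} (K : Coord D) (l : X) :
    ∃ K' : Coord D, ∀ c, D.ρ l (vec K c) = vec K' c := by
  obtain ⟨g, rfl⟩ := K.e.surjective l
  exact ⟨twist K g, fun c => by rw [vec_twist]; unfold vec; rw [K.act]⟩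

/-- moving words -/
theorem ww_move {K' : Coord C.S} {l : C.L} (hl : ∀ c, C.S.ρ l (vec K c) = vec K' c) (ks : List ℕ) :
    (l : G) * ww K ks * (l : G)⁻¹ = ww K' ks :=
  congrArg Subtype.val (w_move K hl ks)

/-! ### transport of involutions -/

variable {z g : G}

theorem down (H : All C) (hz : z ∈ C.L) (hz2 : z * z = 1) (hg : g * C.t * g⁻¹ = C.t * z) {s : G} (hs : s ∈ C.L)
    (hs2 : s * s = 1) (hc : Commute s z) : g⁻¹ * s * g ∈ C.L := by
  have hst : Commute s C.t := C.commute_of_mem hs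
  have hstz : s * (C.t * z) = C.t * z * s := (hst.mul_right hc).eq
  have h1 : Commute (g⁻¹ * s * g) C.t := by
    change g⁻¹ * s * g * C.t = C.t * (g⁻¹ * s * g)
    calc g⁻¹ * s * g * C.t = g⁻¹ * (s * (g * C.t * g⁻¹)) * g := by group
      _ = g⁻¹ * (g * C.t * g⁻¹ * s) * g := by rw [hg, hstz]
      _ = C.t * (g⁻¹ * s * g) := by group
  rcases (C.cent _).1 h1 with h | h
  · exact h
  · exfalso
    have hx : z * s ∈ C.L := mul_mem hz hs
    have hx2 : z * s * (z * s) = 1 := by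
      calc z * s * (z * s) = z * (s * z) * s := by group
        _ = z * (z * s) * s := by rw [hc.eq]
        _ = (z * z) * (s * s) := by group
        _ = 1 := by rw [hz2, hs2, one_mul]
    have hD := C.D_conj (H.all _ hx hx2) g⁻¹
    have e : g⁻¹ * (C.t * (z * s)) * g⁻¹⁻¹ = C.t * (g⁻¹ * s * g) := by
      calc g⁻¹ * (C.t * (z * s)) * g⁻¹⁻¹ = g⁻¹ * (C.t * z) * s * g := by group
        _ = g⁻¹ * (g * C.t * g⁻¹) * s * g := by rw [hg]
        _ = C.t * (g⁻¹ * s * g) := by group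
    rw [e] at hD
    exact H.none _ h hD

theorem up (H : All C) (hg : g * C.t * g⁻¹ = C.t * z) {s : G} (hs : g⁻¹ * s * g ∈ C.L)
    (hs2 : s * s = 1) (hc : Commute s z) : s ∈ C.L := by
  have h0 := C.commute_of_mem hs
  have h1 : s * (C.t * z) = C.t * z * s := by
    rw [← hg]
    calc s * (g * C.t * g⁻¹) = g * (g⁻¹ * s * g * C.t) * g⁻¹ := by group
      _ = g * (C.t * (g⁻¹ * s * g)) * g⁻¹ := by rw [h0.eq]
      _ = g * C.t * g⁻¹ * s := by group
  have h2 : Commute s C.t := by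
    change s * C.t = C.t * s
    have : s * C.t * z = C.t * s * z := by
      rw [mul_assoc, h1, mul_assoc, mul_assoc, hc.eq]
    exact mul_right_cancel this
  rcases (C.cent s).1 h2 with h | h
  · exact h
  · exfalso
    have hx2 : C.t * s * (C.t * s) = 1 := by
      calc C.t * s * (C.t * s) = C.t * (s * C.t) * s := by group
        _ = C.t * (C.t * s) * s := by rw [h2.eq]
        _ = (C.t * C.t) * (s * s) := by group
        _ = 1 := by rw [C.tt, hs2, one_mul]
    have hD := H.all _ h hx2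
    have e : C.t * (C.t * s) = s := by rw [← mul_assoc, C.tt, one_mul]
    rw [e] at hD
    have hD' := C.D_conj hD g⁻¹
    have e2 : g⁻¹ * s * g⁻¹⁻¹ = g⁻¹ * s * g := by group
    rw [e2] at hD'
    exact H.none _ hs hD'

theorem conj_sq {s : G} (hs : s * s = 1) (g : G) : g * s * g⁻¹ * (g * s * g⁻¹) = 1 := by
  calc g * s * g⁻¹ * (g * s * g⁻¹) = g * (s * s) * g⁻¹ := by group
    _ = 1 := by rw [hs]; group

theorem conj_sq' {s : G} (hs : s * s = 1) (g : G) : g⁻¹ * s * g * (g⁻¹ * s * g) = 1 := by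
  calc g⁻¹ * s * g * (g⁻¹ * s * g) = g⁻¹ * (s * s) * g := by group
    _ = 1 := by rw [hs]; group

theorem conj_comm {x y : G} (h : Commute x y) (g : G) : Commute (g * x * g⁻¹) (g * y * g⁻¹) := by
  change g * x * g⁻¹ * (g * y * g⁻¹) = g * y * g⁻¹ * (g * x * g⁻¹)
  calc g * x * g⁻¹ * (g * y * g⁻¹) = g * (x * y) * g⁻¹ := by group
    _ = g * (y * x) * g⁻¹ := by rw [h.eq]
    _ = g * y * g⁻¹ * (g * x * g⁻¹) := by group

theorem conj_comm' {x y : G} (h : Commute x y) (g : G) : Commute (g⁻¹ * x * g) (g⁻¹ * y * g) := by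
  have := conj_comm h g⁻¹
  rwa [inv_inv] at this

/-- double centraliser property of an involution: what commutes with all involutions commuting with `z` is `1` or `z` -/
def ZC (C : Ctx G V) (z : G) : Prop :=
  ∀ x ∈ C.L, (∀ s ∈ C.L, s * s = 1 → Commute s z → Commute x s) → x = 1 ∨ x = z

theorem fix_of_commute {x : C.L} {k : ℕ} (hk : k < 64) (h : Commute (x : G) (ww K [k])) : cd K x k = k := by
  rw [← fix_iff K hk]
  rw [← b_eq] at h
  exact Subtype.ext h

theorem ZC_b : ZC C (ww K [1]) := by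
  intro x hx h
  have hk : ∀ k, k < 64 → Sp.fN k 1 = false → cd K (⟨x, hx⟩ : C.L) k = k := by
    intro k hk hf
    apply fix_of_commute K hk
    apply h _ (ww_mem K [k])
    · rw [← b_eq]; exact C.b_sq _
    · rw [← b_eq, ← b_eq, C.b_commute_iff]; exact B_vec_zero K hf
  rcases fixB K (hk 1 (by norm_num) (by decide)) (hk 2 (by norm_num) (by decide)) (hk 4 (by norm_num) (by decide))
    (hk 16 (by norm_num) (by decide)) (hk 32 (by norm_num) (by decide)) with e | e
  · exact Or.inl (congrArg Subtype.val e)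
  · exact Or.inr (congrArg Subtype.val e)

theorem ZC_lam : ZC C (ww K [1, 2, 3]) := by
  intro x hx h
  have hk : ∀ k, k < 64 → eqB [k, k] [] = true → eqB ([k] ++ [1, 2, 3]) ([1, 2, 3] ++ [k]) = true →
      cd K (⟨x, hx⟩ : C.L) k = k := by
    intro k hk h1 h2
    exact fix_of_commute K hk (h _ (ww_mem K [k]) (ww_sq K h1) (ww_commute K h2))
  have c1 : Commute (⟨x, hx⟩ : C.L) (w K [1, 16, 17]) :=
    Subtype.ext (h _ (ww_mem K _) (ww_sq K (by decide +kernel)) (ww_commute K (by decide +kernel)))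
  have c2 : Commute (⟨x, hx⟩ : C.L) (w K [2, 8, 10]) :=
    Subtype.ext (h _ (ww_mem K _) (ww_sq K (by decide +kernel)) (ww_commute K (by decide +kernel)))
  rcases Zlam K (hk 1 (by norm_num) (by decide +kernel) (by decide +kernel))
    (hk 2 (by norm_num) (by decide +kernel) (by decide +kernel))
    (hk 4 (by norm_num) (by decide +kernel) (by decide +kernel))
    (hk 32 (by norm_num) (by decide +kernel) (by decide +kernel)) c1 c2 with e | e
  · exact Or.inl (congrArg Subtype.val e)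
  · exact Or.inr (congrArg Subtype.val e)

/-- transport of the canonical vector -/
theorem rv_transport (H : All C) (hz : z ∈ C.L) (hz2 : z * z = 1) (hZ : ZC C z) (hg : g * C.t * g⁻¹ = C.t * z)
    (hz' : g⁻¹ * z * g ∈ C.L) {r : V} (hr : r ≠ 0) (hrv : Rv C.S (⟨g⁻¹ * z * g, hz'⟩ : C.L) r) :
    g⁻¹ * z * g = C.b r := by
  have c0 : Commute (C.S.τ r) (⟨g⁻¹ * z * g, hz'⟩ : C.L) :=
    C.S.τ_commute_of_fix (hrv.fix (Commute.refl _))
  have c0' : Commute (C.b r) (g⁻¹ * z * g) := coe_commute.2 c0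
  set y := g * C.b r * g⁻¹ with hy
  have hyz : Commute y z := by
    have := conj_comm c0' g
    have e : g * (g⁻¹ * z * g) * g⁻¹ = z := by group
    rwa [e] at this
  have hgy : g⁻¹ * y * g = C.b r := by rw [hy]; group
  have hyL : y ∈ C.L := up H hg (by rw [hgy]; exact C.b_mem r) (conj_sq (C.b_sq r) g) hyz
  have hcom : ∀ s ∈ C.L, s * s = 1 → Commute s z → Commute y s := by
    intro s hs hs2 hsz
    have h1 := down H hz hz2 hg hs hs2 hsz
    have h2 : Commute (⟨g⁻¹ * s * g, h1⟩ : C.L) (⟨g⁻¹ * z * g, hz'⟩ : C.L) :=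
      coe_commute.1 (conj_comm' hsz g)
    have h3 : Commute (C.b r) (g⁻¹ * s * g) := coe_commute.2 (C.S.τ_commute_of_fix (hrv.fix h2))
    have h4 := conj_comm h3 g
    have e : g * (g⁻¹ * s * g) * g⁻¹ = s := by group
    rwa [e] at h4
  rcases hZ y hyL hcom with h | h
  · exfalso
    apply hr
    have h1 : C.b r = 1 := by rw [← hgy, h]; group
    apply C.b_inj
    rw [h1, C.b_zero]
  · rw [← h]; exact hgy

/-- order five does not travel between `a2` and `b1` -/
theorem no_b1 (H : All C) (hg : g * C.t * g⁻¹ = C.t * ww K [1, 2, 3])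
    {r : V} (hr : r ≠ 0) (h : g⁻¹ * ww K [1, 2, 3] * g = C.b r) : False := by
  obtain ⟨K', hK'⟩ := exists_frame_one K hr
  have up' : ∀ ks : List ℕ, eqB (ks ++ ks) [] = true → eqB (ks ++ [1]) ([1] ++ ks) = true →
      g * ww K' ks * g⁻¹ ∈ C.L ∧ Commute (g * ww K' ks * g⁻¹) (ww K [1, 2, 3]) := by
    intro ks h1 h2
    have c1 : Commute (ww K' ks) (g⁻¹ * ww K [1, 2, 3] * g) := by
      rw [h, ← hK', b_eq]; exact ww_commute K' h2
    have c2 := conj_comm c1 g
    have e : g * (g⁻¹ * ww K [1, 2, 3] * g) * g⁻¹ = ww K [1, 2, 3] := by group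
    rw [e] at c2
    refine ⟨up H hg ?_ (conj_sq (ww_sq K' h1) g) c2, c2⟩
    have e2 : g⁻¹ * (g * ww K' ks * g⁻¹) * g = ww K' ks := by group
    rw [e2]; exact ww_mem K' ks
  obtain ⟨m1, c1⟩ := up' [2, 4] (by decide +kernel) (by decide +kernel)
  obtain ⟨m2, c2⟩ := up' [16, 48] (by decide +kernel) (by decide +kernel)
  set x : C.L := ⟨_, m1⟩ * ⟨_, m2⟩ with hx
  have hxc : Commute x (w K [1, 2, 3]) := coe_commute.1 (c1.mul_left c2)
  have hxe : (x : G) = g * ww K' [2, 4, 16, 48] * g⁻¹ := by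
    rw [hx]
    change g * ww K' [2, 4] * g⁻¹ * (g * ww K' [16, 48] * g⁻¹) = _
    have : ww K' [2, 4, 16, 48] = ww K' [2, 4] * ww K' [16, 48] := by rw [ww_mul]; rfl
    rw [this]; group
  have h5 : ww K' [2, 4, 16, 48] ^ 5 = 1 := by
    have e : ww K' [2, 4, 16, 48] ^ 5 = ww K' ([2, 4, 16, 48] ++ ([2, 4, 16, 48] ++ ([2, 4, 16, 48] ++
        ([2, 4, 16, 48] ++ [2, 4, 16, 48])))) := by
      rw [← ww_mul, ← ww_mul, ← ww_mul, ← ww_mul]
      simp only [pow_succ, pow_zero, one_mul, mul_assoc]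
    rw [e]
    exact ww_one K' (by decide +kernel)
  have hx5 : x ^ 5 = 1 := by
    apply Subtype.ext
    change (x : G) ^ 5 = 1
    rw [hxe, conj_pow, h5]; group
  have hx1 := no_five K hxc hx5
  have : ww K' [2, 4, 16, 48] = ww K' [] := by
    rw [ww_nil]
    have e : (x : G) = 1 := by rw [hx1]; rfl
    rw [hxe] at e
    calc ww K' [2, 4, 16, 48] = g⁻¹ * (g * ww K' [2, 4, 16, 48] * g⁻¹) * g := by group
      _ = 1 := by rw [e]; group
  exact ww_ne K' (by decide) (by decide) ⟨2, by norm_num, by decide +kernel⟩ this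

theorem no_a2 (H : All C) (hg : g * C.t * g⁻¹ = C.t * ww K [1]) {l : C.L}
    (h : (l : G) * (g⁻¹ * ww K [1] * g) * (l : G)⁻¹ = ww K [1, 2, 3]) : False := by
  have dn : ∀ ks : List ℕ, eqB (ks ++ ks) [] = true → eqB (ks ++ [1]) ([1] ++ ks) = true →
      (l : G) * (g⁻¹ * ww K ks * g) * (l : G)⁻¹ ∈ C.L ∧
        Commute ((l : G) * (g⁻¹ * ww K ks * g) * (l : G)⁻¹) (ww K [1, 2, 3]) := by
    intro ks h1 h2
    have m := down H (ww_mem K [1]) (ww_sq K (by decide +kernel)) hg (ww_mem K ks) (ww_sq K h1) (ww_commute K h2)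
    refine ⟨mul_mem (mul_mem l.2 m) (inv_mem l.2), ?_⟩
    rw [← h]
    exact conj_comm (conj_comm' (ww_commute K h2) g) l
  obtain ⟨m1, c1⟩ := dn [2, 4] (by decide +kernel) (by decide +kernel)
  obtain ⟨m2, c2⟩ := dn [16, 48] (by decide +kernel) (by decide +kernel)
  set x : C.L := ⟨_, m1⟩ * ⟨_, m2⟩ with hx
  have hxc : Commute x (w K [1, 2, 3]) := coe_commute.1 (c1.mul_left c2)
  have hxe : (x : G) = ((l : G) * g⁻¹) * ww K [2, 4, 16, 48] * ((l : G) * g⁻¹)⁻¹ := by
    rw [hx]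
    change (l : G) * (g⁻¹ * ww K [2, 4] * g) * (l : G)⁻¹ * ((l : G) * (g⁻¹ * ww K [16, 48] * g) * (l : G)⁻¹) = _
    have : ww K [2, 4, 16, 48] = ww K [2, 4] * ww K [16, 48] := by rw [ww_mul]; rfl
    rw [this]; group
  have h5 : ww K [2, 4, 16, 48] ^ 5 = 1 := by
    have e : ww K [2, 4, 16, 48] ^ 5 = ww K ([2, 4, 16, 48] ++ ([2, 4, 16, 48] ++ ([2, 4, 16, 48] ++
        ([2, 4, 16, 48] ++ [2, 4, 16, 48])))) := by
      rw [← ww_mul, ← ww_mul, ← ww_mul, ← ww_mul]
      simp only [pow_succ, pow_zero, one_mul, mul_assoc]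
    rw [e]
    exact ww_one K (by decide +kernel)
  have hx5 : x ^ 5 = 1 := by
    apply Subtype.ext
    change (x : G) ^ 5 = 1
    rw [hxe, conj_pow, h5]; group
  have hx1 := no_five K hxc hx5
  have : ww K [2, 4, 16, 48] = ww K [] := by
    rw [ww_nil]
    have e : (x : G) = 1 := by rw [hx1]; rfl
    rw [hxe] at e
    calc ww K [2, 4, 16, 48] = ((l : G) * g⁻¹)⁻¹ * (((l : G) * g⁻¹) * ww K [2, 4, 16, 48] * ((l : G) * g⁻¹)⁻¹) *
        ((l : G) * g⁻¹) := by group
      _ = 1 := by rw [e]; group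
  exact ww_ne K (by decide) (by decide) ⟨2, by norm_num, by decide +kernel⟩ this

/-- `t` and `t λ` are swapped by an element commuting with `λ` -/
theorem exists_swap_lam (H : All C) : ∃ g : G, g * C.t * g⁻¹ = C.t * ww K [1, 2, 3] ∧
    g * ww K [1, 2, 3] * g⁻¹ = ww K [1, 2, 3] := by
  have hl2 : ww K [1, 2, 3] * ww K [1, 2, 3] = 1 := ww_sq K (by decide +kernel)
  obtain ⟨g, hg⟩ := H.all _ (ww_mem K [1, 2, 3]) hl2
  have hg' : g * C.t * g⁻¹ = C.t * ww K [1, 2, 3] := hg.symm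
  have hz' := down H (ww_mem K [1, 2, 3]) hl2 hg' (ww_mem K [1, 2, 3]) hl2 (Commute.refl _)
  have hz1 : (⟨g⁻¹ * ww K [1, 2, 3] * g, hz'⟩ : C.L) ≠ 1 := by
    intro h
    have h1 : g⁻¹ * ww K [1, 2, 3] * g = 1 := congrArg Subtype.val h
    have h2 : ww K [1, 2, 3] = ww K [] := by
      rw [ww_nil]
      calc ww K [1, 2, 3] = g * (g⁻¹ * ww K [1, 2, 3] * g) * g⁻¹ := by group
        _ = 1 := by rw [h1]; group
    exact ww_ne K (by decide) (by decide) ⟨8, by norm_num, by decide +kernel⟩ h2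
  rcases classify K (x := (⟨g⁻¹ * ww K [1, 2, 3] * g, hz'⟩ : C.L)) (Subtype.ext (conj_sq' hl2 g)) hz1 with
    ⟨l, hl⟩ | ⟨r, hr, hrv⟩
  · have hl' : (l : G) * (g⁻¹ * ww K [1, 2, 3] * g) * (l : G)⁻¹ = ww K [1, 2, 3] := congrArg Subtype.val hl
    refine ⟨g * (l : G)⁻¹, ?_, ?_⟩
    · have hlt := (C.commute_of_mem l.2).eq
      calc g * (l : G)⁻¹ * C.t * (g * (l : G)⁻¹)⁻¹ = g * ((l : G)⁻¹ * (C.t * (l : G))) * g⁻¹ := by group
        _ = g * C.t * g⁻¹ := by rw [← hlt]; group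
        _ = _ := hg'
    · calc g * (l : G)⁻¹ * ww K [1, 2, 3] * (g * (l : G)⁻¹)⁻¹ = g * ((l : G)⁻¹ * ww K [1, 2, 3] * (l : G)) * g⁻¹ := by
            group
        _ = g * ((l : G)⁻¹ * ((l : G) * (g⁻¹ * ww K [1, 2, 3] * g) * (l : G)⁻¹) * (l : G)) * g⁻¹ := by rw [hl']
        _ = ww K [1, 2, 3] := by group
  · exact (no_b1 K H hg' hr (rv_transport H (ww_mem K _) hl2 (ZC_lam K) hg' hz' hr hrv)).elim

/-- `t` and `t b_u` are swapped by an element commuting with `b_u` -/
theorem exists_swap_b (H : All C) : ∃ g : G, g * C.t * g⁻¹ = C.t * ww K [1] ∧ g * ww K [1] * g⁻¹ = ww K [1] := by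
  have hl2 : ww K [1] * ww K [1] = 1 := ww_sq K (by decide +kernel)
  obtain ⟨g, hg⟩ := H.all _ (ww_mem K [1]) hl2
  have hg' : g * C.t * g⁻¹ = C.t * ww K [1] := hg.symm
  have hz' := down H (ww_mem K [1]) hl2 hg' (ww_mem K [1]) hl2 (Commute.refl _)
  have hz1 : (⟨g⁻¹ * ww K [1] * g, hz'⟩ : C.L) ≠ 1 := by
    intro h
    have h1 : g⁻¹ * ww K [1] * g = 1 := congrArg Subtype.val h
    have h2 : ww K [1] = ww K [] := by
      rw [ww_nil]
      calc ww K [1] = g * (g⁻¹ * ww K [1] * g) * g⁻¹ := by group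
        _ = 1 := by rw [h1]; group
    exact ww_ne K (by decide) (by decide) ⟨8, by norm_num, by decide +kernel⟩ h2
  rcases classify K (x := (⟨g⁻¹ * ww K [1] * g, hz'⟩ : C.L)) (Subtype.ext (conj_sq' hl2 g)) hz1 with
    ⟨l, hl⟩ | ⟨r, hr, hrv⟩
  · exact (no_a2 K H hg' (congrArg Subtype.val hl)).elim
  · have h1 := rv_transport H (ww_mem K _) hl2 (ZC_b K) hg' hz' hr hrv
    obtain ⟨K', hK'⟩ := exists_frame_one K hr
    obtain ⟨l, hl⟩ := exists_move K' K
    have h2 : (l : G) * ww K' [1] * (l : G)⁻¹ = ww K [1] := ww_move K' hl [1]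
    have h3 : g⁻¹ * ww K [1] * g = ww K' [1] := by rw [h1, ← hK', b_eq]
    refine ⟨g * (l : G)⁻¹, ?_, ?_⟩
    · have hlt := (C.commute_of_mem l.2).eq
      calc g * (l : G)⁻¹ * C.t * (g * (l : G)⁻¹)⁻¹ = g * ((l : G)⁻¹ * (C.t * (l : G))) * g⁻¹ := by group
        _ = g * C.t * g⁻¹ := by rw [← hlt]; group
        _ = _ := hg'
    · calc g * (l : G)⁻¹ * ww K [1] * (g * (l : G)⁻¹)⁻¹ = g * ((l : G)⁻¹ * ww K [1] * (l : G)) * g⁻¹ := by
            group
        _ = g * ((l : G)⁻¹ * ((l : G) * ww K' [1] * (l : G)⁻¹) * (l : G)) * g⁻¹ := by rw [h2]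
        _ = g * ww K' [1] * g⁻¹ := by group
        _ = g * (g⁻¹ * ww K [1] * g) * g⁻¹ := by rw [h3]
        _ = ww K [1] := by group

end Cfsg.Agent.StdSpSix.AllBase
end

-- part: StdSpSix/AllSwapA
section
/-!
# Pattern `ALL`: the action of a swap of `t` and `t λ` on the transvections of `l^⊥`

`Sw C z g`: `t^g = t z`, `z^g = z`.  For `λ = ww K [1,2,3]` and `e` in `l^⊥` the element `g b_e g⁻¹` is a transvection;
`g` permutes the transvections of `l` and those of `l^⊥` outside `l`.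
-/

set_option autoImplicit false
set_option maxHeartbeats 400000

namespace Cfsg.Agent.StdSpSix.AllSwapA

open Cfsg.Agent.StandardComponent.SpTwo
open Cfsg.Agent.SporRec.TwoSp6
open Cfsg.Agent.StdSpSix.Words Cfsg.Agent.StdSpSix.Model Cfsg.Agent.StdSpSix.AllCode Cfsg.Agent.StdSpSix.AllFacts
open Cfsg.Agent.StdSpSix.AllFactsTwo Cfsg.Agent.StdSpSix.AllBase

section Conj

variable {G : Type*} [Group G]

/-- conjugation -/
def cj (g x : G) : G := g * x * g⁻¹

theorem cj_mul (g x y : G) : cj g (x * y) = cj g x * cj g y := by unfold cj; group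
theorem cj_cj (g h x : G) : cj g (cj h x) = cj (g * h) x := by unfold cj; group
theorem cj_one (g : G) : cj g 1 = 1 := by unfold cj; group
theorem one_cj (x : G) : cj 1 x = x := by unfold cj; group
theorem cj_inv_cj (g x : G) : cj g⁻¹ (cj g x) = x := by unfold cj; group
theorem cj_cj_inv (g x : G) : cj g (cj g⁻¹ x) = x := by unfold cj; group
theorem cj_inj {g x y : G} (h : cj g x = cj g y) : x = y := by rw [← cj_inv_cj g x, h, cj_inv_cj]

theorem cj_eq_iff {g x : G} : cj g x = x ↔ Commute g x := by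
  unfold cj
  rw [mul_inv_eq_iff_eq_mul]
  exact Iff.rfl

theorem cj_commute {x y : G} (h : Commute x y) (g : G) : Commute (cj g x) (cj g y) := conj_comm h g

theorem cj_commute_iff {g x y : G} : Commute (cj g x) (cj g y) ↔ Commute x y := by
  refine ⟨fun h => ?_, fun h => cj_commute h g⟩
  have := cj_commute h g⁻¹
  rwa [cj_inv_cj, cj_inv_cj] at this

theorem cj_sq {x : G} (h : x * x = 1) (g : G) : cj g x * cj g x = 1 := conj_sq h g

theorem cj_ne_one {x : G} (h : x ≠ 1) (g : G) : cj g x ≠ 1 := fun h' => h (cj_inj (g := g) (by rw [h', cj_one]))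

end Conj

variable {G V : Type*} [Group G] [AddCommGroup V] [Module (ZMod 2) V] {C : Ctx G V}

/-- `t^g = t z` and `z^g = z` -/
structure Sw (C : Ctx G V) (z g : G) : Prop where
  t : cj g C.t = C.t * z
  z : cj g z = z

variable {z g : G}

theorem Sw.inv (hz2 : z * z = 1) (h : Sw C z g) : Sw C z g⁻¹ := by
  have h1 : cj g⁻¹ z = z := by
    conv_lhs => rw [← h.z]
    exact cj_inv_cj g z
  refine ⟨?_, h1⟩
  have h2 : cj g⁻¹ (C.t * z) = C.t := by rw [← h.t, cj_inv_cj]
  rw [cj_mul, h1] at h2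
  calc cj g⁻¹ C.t = cj g⁻¹ C.t * z * z := by rw [mul_assoc, hz2, mul_one]
    _ = C.t * z := by rw [h2]

theorem Sw.mul_left (h : Sw C z g) {l : G} (hl : Commute l C.t) (hlz : Commute l z) : Sw C z (l * g) := by
  refine ⟨?_, ?_⟩
  · rw [← cj_cj, h.t, cj_mul, cj_eq_iff.2 hl, cj_eq_iff.2 hlz]
  · rw [← cj_cj, h.z, cj_eq_iff.2 hlz]

theorem Sw.mul_right (h : Sw C z g) {l : G} (hl : Commute l C.t) (hlz : Commute l z) : Sw C z (g * l) := by
  refine ⟨?_, ?_⟩
  · rw [← cj_cj, cj_eq_iff.2 hl, h.t]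
  · rw [← cj_cj, cj_eq_iff.2 hlz, h.z]

theorem Sw.comm (h : Sw C z g) {s : G} (hc : Commute s z) : Commute (cj g s) z := by
  have := cj_commute hc g
  rwa [h.z] at this

theorem Sw.mem (H : All C) (h : Sw C z g) {s : G} (hs : s ∈ C.L) (hs2 : s * s = 1) (hc : Commute s z) :
    cj g s ∈ C.L := by
  refine up H h.t ?_ (cj_sq hs2 g) (h.comm hc)
  have := cj_inv_cj g s
  unfold cj at this
  rw [inv_inv] at this
  unfold cj
  rw [this]; exact hs

/-- the double centraliser of `⟨z, b⟩` (as far as seen by involutions) is `⟨z, b⟩` -/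
def DC (C : Ctx G V) (z b : G) : Prop :=
  ∀ x ∈ C.L, (∀ s ∈ C.L, s * s = 1 → Commute s z → Commute s b → Commute x s) → x = 1 ∨ x = b ∨ x = z ∨ x = b * z

theorem DC.move (H : All C) (hz2 : z * z = 1) (h : Sw C z g) {b : G} (hd : DC C z b) {x : G}
    (hx : x ∈ C.L) (hx2 : x * x = 1) (hxz : Commute x z)
    (hc : ∀ s ∈ C.L, s * s = 1 → Commute s z → Commute s (cj g b) → Commute x s) :
    x = 1 ∨ x = cj g b ∨ x = z ∨ x = cj g b * z := by
  have hi := h.inv hz2
  have key : ∀ y, cj g⁻¹ x = y → x = cj g y := fun y hy => by rw [← hy, cj_cj_inv]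
  rcases hd _ (hi.mem H hx hx2 hxz) (by
    intro s hs hs2 hsz hsb
    rw [← cj_commute_iff (g := g), cj_cj_inv]
    exact hc _ (h.mem H hs hs2 hsz) (cj_sq hs2 g) (h.comm hsz) (cj_commute hsb g)) with h1 | h1 | h1 | h1
  · left; rw [key _ h1, cj_one]
  · right; left; exact key _ h1
  · right; right; left; rw [key _ h1, h.z]
  · right; right; right; rw [key _ h1, cj_mul, h.z]

variable (K : Coord C.S)

theorem DC_four : DC C (ww K [1, 2, 3]) (ww K [4]) := by
  intro x hx h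
  have hk : ∀ k, k < 64 → eqB [k, k] [] = true → eqB ([k] ++ [1, 2, 3]) ([1, 2, 3] ++ [k]) = true →
      eqB ([k] ++ [4]) ([4] ++ [k]) = true → cd K (⟨x, hx⟩ : C.L) k = k := by
    intro k hk h1 h2 h3
    exact fix_of_commute K hk (h _ (ww_mem K [k]) (ww_sq K h1) (ww_commute K h2) (ww_commute K h3))
  have hc : ∀ ks, eqB (ks ++ ks) [] = true → eqB (ks ++ [1, 2, 3]) ([1, 2, 3] ++ ks) = true →
      eqB (ks ++ [4]) ([4] ++ ks) = true → Commute (⟨x, hx⟩ : C.L) (w K ks) := by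
    intro ks h1 h2 h3
    exact Subtype.ext (h _ (ww_mem K ks) (ww_sq K h1) (ww_commute K h2) (ww_commute K h3))
  obtain ⟨ks, hks, e⟩ := Ftriple K (hk 1 (by norm_num) (by decide +kernel) (by decide +kernel) (by decide +kernel))
    (hk 2 (by norm_num) (by decide +kernel) (by decide +kernel) (by decide +kernel))
    (hk 4 (by norm_num) (by decide +kernel) (by decide +kernel) (by decide +kernel))
    (hc [1, 16, 17] (by decide +kernel) (by decide +kernel) (by decide +kernel))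
    (hc [2, 8, 10] (by decide +kernel) (by decide +kernel) (by decide +kernel))
  have e' : x = ww K ks := congrArg Subtype.val e
  simp only [F4, List.mem_cons, List.not_mem_nil, or_false] at hks
  rcases hks with rfl | rfl | rfl | rfl
  · left; rw [e', ww_nil]
  · right; left; exact e'
  · right; right; left; exact e'
  · right; right; right; rw [e', ww_mul]; rfl

theorem DC_one : DC C (ww K [1, 2, 3]) (ww K [1]) := by
  intro x hx h
  have hk : ∀ k, k < 64 → eqB [k, k] [] = true → eqB ([k] ++ [1, 2, 3]) ([1, 2, 3] ++ [k]) = true →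
      eqB ([k] ++ [1]) ([1] ++ [k]) = true → cd K (⟨x, hx⟩ : C.L) k = k := by
    intro k hk h1 h2 h3
    exact fix_of_commute K hk (h _ (ww_mem K [k]) (ww_sq K h1) (ww_commute K h2) (ww_commute K h3))
  have hc : ∀ ks, eqB (ks ++ ks) [] = true → eqB (ks ++ [1, 2, 3]) ([1, 2, 3] ++ ks) = true →
      eqB (ks ++ [1]) ([1] ++ ks) = true → Commute (⟨x, hx⟩ : C.L) (w K ks) := by
    intro ks h1 h2 h3
    exact Subtype.ext (h _ (ww_mem K ks) (ww_sq K h1) (ww_commute K h2) (ww_commute K h3))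
  rcases ZlamOne K (hk 1 (by norm_num) (by decide +kernel) (by decide +kernel) (by decide +kernel))
    (hk 2 (by norm_num) (by decide +kernel) (by decide +kernel) (by decide +kernel))
    (hk 4 (by norm_num) (by decide +kernel) (by decide +kernel) (by decide +kernel))
    (hk 32 (by norm_num) (by decide +kernel) (by decide +kernel) (by decide +kernel))
    (hc [1, 16, 17] (by decide +kernel) (by decide +kernel) (by decide +kernel)) with e | e | e | e
  · left; exact congrArg Subtype.val e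
  · right; left; exact congrArg Subtype.val e
  · right; right; left; exact congrArg Subtype.val e
  · right; right; right
    rw [ww_mul]
    have h1 : ww K ([1] ++ [1, 2, 3]) = ww K [2, 3] := ww_eq K (by decide +kernel)
    rw [h1]
    exact congrArg Subtype.val e

/-! ### the image of a transvection -/

theorem lam_sq : ww K [1, 2, 3] * ww K [1, 2, 3] = 1 := ww_sq K (by decide +kernel)

theorem b_ne_one {r : V} (hr : r ≠ 0) : C.b r ≠ 1 := fun h => hr (C.b_inj (by rw [h, C.b_zero]))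

theorem Rv_b_eq {x : C.L} {r s : V} (h : Rv C.S x r) (hx : (x : G) = C.b s) : s = r := by
  have : x = C.S.τ s := Subtype.ext hx
  subst this
  exact (Rv_tau s).unique h

theorem b_ne_lam {r : V} (hr : r ≠ 0) : C.b r ≠ ww K [1, 2, 3] :=
  fun h => hr (Rv_b_eq (x := w K [1, 2, 3]) (Rv_lam K) h.symm)

theorem image_b (H : All C) (h : Sw C (ww K [1, 2, 3]) g) {e : V} (he : e ≠ 0) (hd : DC C (ww K [1, 2, 3]) (C.b e))
    (hc : Commute (C.b e) (ww K [1, 2, 3])) :
    ∃ r, r ≠ 0 ∧ Commute (C.b r) (ww K [1, 2, 3]) ∧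
      (cj g (C.b e) = C.b r ∨ cj g (C.b e) = C.b r * ww K [1, 2, 3]) := by
  have hl2 := lam_sq K
  have hsL := h.mem H (C.b_mem e) (C.b_sq e) hc
  have hs2 := cj_sq (C.b_sq e) g
  have hsc := h.comm hc
  set s := cj g (C.b e) with hs
  have hs1 : s ≠ 1 := cj_ne_one (b_ne_one he) g
  have back : ∀ x : G, x = s * ww K [1, 2, 3] → s = x * ww K [1, 2, 3] := by
    rintro x rfl
    rw [mul_assoc, hl2, mul_one]
  have cs : Commute (w K [1, 2, 3]) (⟨s, hsL⟩ : C.L) := coe_commute.1 hsc.symm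
  rcases classify K (x := (⟨s, hsL⟩ : C.L)) (Subtype.ext hs2) (fun h => hs1 (congrArg Subtype.val h)) with
    ⟨l, hl⟩ | ⟨r, hr, hrv⟩
  · exfalso
    obtain ⟨K', hK'⟩ := exists_frame_conj K l⁻¹
    have h1 := w_move K hK' [1, 2, 3]
    have hsw : (⟨s, hsL⟩ : C.L) = w K' [1, 2, 3] := by
      rw [← h1, ← hl]; group
    have hne : w K' [1, 2, 3] ≠ w K [1, 2, 3] := by
      intro h2
      have h3 : s = ww K [1, 2, 3] := by
        have : s = ww K' [1, 2, 3] := congrArg Subtype.val hsw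
        rw [this]
        exact congrArg Subtype.val h2
      apply b_ne_lam K he
      apply cj_inj (g := g)
      rw [h.z, ← h3]
    obtain ⟨a, ha, hf⟩ := meet K (K' := K') (by rw [← hsw]; exact cs.symm) hne
    rw [← hsw] at hf
    have hrs : Rv C.S (⟨s, hsL⟩ : C.L) 0 := by rw [hsw]; exact Rv_lam K'
    have ca : Commute (C.S.τ a) (w K [1, 2, 3]) := C.S.τ_commute_of_fix (hf _ cs (Commute.refl _))
    rcases hd.move H hl2 h (C.b_mem a) (C.b_sq a) (coe_commute.2 ca) (by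
      intro x hx hx2 hxz hxs
      have h2 : C.S.ρ (⟨x, hx⟩ : C.L) a = a := hf _ (coe_commute.1 hxs) (coe_commute.1 hxz)
      exact coe_commute.2 (C.S.τ_commute_of_fix h2)) with h2 | h2 | h2 | h2
    · exact b_ne_one ha h2
    · exact ha (Rv_b_eq hrs h2.symm)
    · exact b_ne_lam K ha h2
    · have h3 := back _ h2
      have h4 : (⟨s, hsL⟩ : C.L) = w K [1, 2, 3] * C.S.τ a := by
        exact Subtype.ext (h3.trans (coe_commute.2 ca).eq)
      have h5 : Rv C.S (w K [1, 2, 3] * C.S.τ a) (0 + a) := (Rv_lam K).mul_tau (C.S.fix_of_τ_commute ca)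
      rw [← h4] at h5
      have := h5.unique hrs
      rw [zero_add] at this
      exact ha this
  · have cr : Commute (C.S.τ r) (w K [1, 2, 3]) := C.S.τ_commute_of_fix (hrv.fix cs)
    refine ⟨r, hr, coe_commute.2 cr, ?_⟩
    rcases hd.move H hl2 h (C.b_mem r) (C.b_sq r) (coe_commute.2 cr) (by
      intro x hx hx2 hxz hxs
      have h2 : C.S.ρ (⟨x, hx⟩ : C.L) r = r := hrv.fix (coe_commute.1 hxs)
      exact coe_commute.2 (C.S.τ_commute_of_fix h2)) with h2 | h2 | h2 | h2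
    · exact (b_ne_one hr h2).elim
    · exact Or.inl h2.symm
    · exact (b_ne_lam K hr h2).elim
    · exact Or.inr (back _ h2)

end Cfsg.Agent.StdSpSix.AllSwapA
end

-- part: StdSpSix/AllSwapB
section
/-!
# Pattern `ALL`: the swap of `t` and `t λ` permutes the transvections of `l` and of `l^⊥`
-/

set_option autoImplicit false
set_option maxHeartbeats 400000

namespace Cfsg.Agent.StdSpSix.AllSwapB

open Cfsg.Agent.StandardComponent.SpTwo
open Cfsg.Agent.SporRec.TwoSp6
open Cfsg.Agent.StdSpSix.Words Cfsg.Agent.StdSpSix.Model Cfsg.Agent.StdSpSix.AllCode Cfsg.Agent.StdSpSix.AllFacts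
open Cfsg.Agent.StdSpSix.AllFactsTwo Cfsg.Agent.StdSpSix.AllBase Cfsg.Agent.StdSpSix.AllSwapA

variable {G V : Type*} [Group G] [AddCommGroup V] [Module (ZMod 2) V] {C : Ctx G V} {g : G} (K : Coord C.S)

theorem conj_code (x : C.L) (a : ℕ) : cj (x : G) (ww K [a]) = ww K [cd K x a] := by
  unfold cj
  rw [← b_eq, ← b_eq, C.b_conj, cd_spec]

theorem cj_ww {ks : List ℕ} (hks : ∀ k ∈ ks, k < 64) {a : ℕ} (ha : a < 64) :
    cj (ww K ks) (ww K [a]) = ww K [wc ks a] := by
  have := conj_code K (w K ks) a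
  rw [cd_word K hks ha] at this
  exact this

theorem ww_single {K' : Coord C.S} {a b : ℕ} (h : vec K' a = vec K b) : ww K' [a] = ww K [b] := by
  rw [← b_eq, ← b_eq, h]

theorem single_inj {a b : ℕ} (ha : a < 64) (hb : b < 64) (h : ww K [a] = ww K [b]) : a = b := by
  rw [← b_eq, ← b_eq] at h
  exact vec_inj K ha hb (C.b_inj h)

theorem single_commute {a b : ℕ} : Commute (ww K [a]) (ww K [b]) ↔ Sp.fN a b = false := by
  rw [← b_eq, ← b_eq, C.b_commute_iff]
  exact ⟨fun h => fN_of_zero K h, fun h => B_vec_zero K h⟩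

theorem single_commute_lam {a : ℕ} (ha : a < 64) :
    Commute (ww K [a]) (ww K [1, 2, 3]) ↔ (Sp.fN a 1 = false ∧ Sp.fN a 2 = false) := by
  constructor
  · intro h
    have h1 : Commute (w K [1, 2, 3]) (C.S.τ (vec K a)) := by
      rw [← b_eq] at h
      exact coe_commute.1 h.symm
    rw [fix_iff K ha, cd_word K (by decide) ha] at h1
    have t : ∀ a < 64, wc [1, 2, 3] a = a → Sp.fN a 1 = false ∧ Sp.fN a 2 = false := by decide +kernel
    exact t a ha h1
  · intro h
    have t : ∀ a < 64, (Sp.fN a 1 = false ∧ Sp.fN a 2 = false) → Sp.fN a 1 = false ∧ Sp.fN a 2 = false ∧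
      Sp.fN a 3 = false := by decide +kernel
    obtain ⟨h1, h2, h3⟩ := t a ha h
    have e : ww K [1, 2, 3] = ww K [1] * (ww K [2] * ww K [3]) := by rw [ww_mul, ww_mul]; rfl
    rw [e]
    exact ((single_commute K).2 h1).mul_right (((single_commute K).2 h2).mul_right ((single_commute K).2 h3))

theorem lam_ne_one : ww K [1, 2, 3] ≠ 1 := by
  rw [← ww_nil K]
  exact ww_ne K (by decide) (by decide) ⟨8, by norm_num, by decide +kernel⟩

/-- what commutes with `t` acts on `L` as an element of `L` -/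
theorem exists_L {m : G} (h : Commute m C.t) :
    ∃ x : C.L, (∀ s ∈ C.L, cj m s = cj (x : G) s) ∧ (m = x ∨ m = C.t * x) := by
  rcases (C.cent m).1 h with hm | hm
  · exact ⟨⟨m, hm⟩, fun s _ => rfl, Or.inl rfl⟩
  · have e : m = C.t * (C.t * m) := by rw [← mul_assoc, C.tt, one_mul]
    refine ⟨⟨C.t * m, hm⟩, fun s hs => ?_, Or.inr e⟩
    have h1 : cj (C.t * m) s ∈ C.L := mul_mem (mul_mem hm hs) (inv_mem hm)
    conv_lhs => rw [e]
    rw [← cj_cj, cj_eq_iff]
    exact (C.commute_of_mem h1).symm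

theorem exists_b {m : G} (h : Commute m C.t) (r : V) : ∃ p, cj m (C.b r) = C.b p := by
  obtain ⟨x, hx, _⟩ := exists_L h
  exact ⟨C.S.ρ x r, by rw [hx _ (C.b_mem r)]; exact C.b_conj x r⟩

/-- `b_e` is not sent to `b_r λ` if `b_r`, `b_e` are conjugate in `C_L(λ)` -/
theorem kill (H : All C) (h : Sw C (ww K [1, 2, 3]) g) {r : V} (hr : r ≠ 0) (hc : Commute (C.b r) (ww K [1, 2, 3]))
    (hd : DC C (ww K [1, 2, 3]) (C.b r)) {l : G} (hlL : l ∈ C.L) :
    cj g (cj l (C.b r)) ≠ C.b r * ww K [1, 2, 3] := by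
  intro he
  obtain ⟨K1, hK1⟩ := exists_frame_one K hr
  obtain ⟨g1, h1t, h1b⟩ := exists_swap_b K1 H
  rw [← b_eq, hK1] at h1t h1b
  have h1 : Sw C (C.b r) g1 := ⟨h1t, h1b⟩
  have h1i := h1.inv (C.b_sq r)
  have hlt : Commute l C.t := C.commute_of_mem hlL
  have kt : cj (g * l) C.t = C.t * ww K [1, 2, 3] := by rw [← cj_cj, cj_eq_iff.2 hlt, h.t]
  have kb : cj (g * l) (C.b r) = C.b r * ww K [1, 2, 3] := by rw [← cj_cj]; exact he
  have ktb : cj (g * l) (C.t * C.b r) = C.t * C.b r := by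
    rw [cj_mul, kt, kb]
    calc C.t * ww K [1, 2, 3] * (C.b r * ww K [1, 2, 3]) = C.t * (ww K [1, 2, 3] * C.b r) * ww K [1, 2, 3] := by group
      _ = C.t * C.b r * (ww K [1, 2, 3] * ww K [1, 2, 3]) := by rw [← hc.eq]; group
      _ = C.t * C.b r := by rw [lam_sq, mul_one]
  have mt : Commute (g1⁻¹ * (g * l) * g1) C.t := by
    rw [← cj_eq_iff, ← cj_cj, ← cj_cj, h1.t, ktb, ← h1.t, cj_inv_cj]
  have mb : cj (g1⁻¹ * (g * l) * g1) (C.b r) = C.b r * cj g1⁻¹ (ww K [1, 2, 3]) := by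
    rw [← cj_cj, ← cj_cj, h1.z, kb, cj_mul, h1i.z]
  obtain ⟨p, hp⟩ := exists_b mt r
  have hp0 : p ≠ 0 := by
    rintro rfl
    rw [C.b_zero] at hp
    exact cj_ne_one (b_ne_one hr) _ hp
  have hl' : cj g1⁻¹ (ww K [1, 2, 3]) = C.b r * C.b p := by
    rw [← hp, mb, ← mul_assoc, C.b_sq, one_mul]
  have hpr : p ≠ r := by
    rintro rfl
    rw [C.b_sq] at hl'
    exact cj_ne_one (lam_ne_one K) _ hl'
  have hB : C.S.B r p = 0 := by
    rw [← C.b_commute_iff]
    have h2 := cj_commute hc g1⁻¹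
    rw [h1i.z, hl'] at h2
    have h3 : Commute (C.b r) (C.b r * (C.b r * C.b p)) := (Commute.refl _).mul_right h2
    rwa [← mul_assoc, C.b_sq, one_mul] at h3
  obtain ⟨K2, hr2, hp2⟩ := exists_frame_two K hr hp0 hpr hB
  have hbr : C.b r = ww K2 [1] := by rw [← hr2, b_eq]
  have hlam' : cj g1⁻¹ (ww K [1, 2, 3]) = ww K2 [1, 2] := by
    rw [hl', ww_cons, hr2, ← b_eq, hp2]
  have c13 : Commute (ww K2 [3]) (C.b r) := by rw [hbr]; exact (single_commute K2).2 (by decide)
  have hz'c : Commute (cj g1 (ww K2 [3])) (ww K [1, 2, 3]) := by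
    rw [← cj_commute_iff (g := g1⁻¹), cj_inv_cj, hlam']
    exact ww_commute K2 (by decide +kernel)
  rcases hd _ (h1.mem H (ww_mem K2 [3]) (ww_sq K2 (by decide +kernel)) c13) (by
    intro s hs hs2 hsz hsb
    have m1 := h1i.mem H hs hs2 hsb
    have c1 := cj_commute hsz g1⁻¹
    rw [hlam'] at c1
    have c2 : Commute (⟨_, m1⟩ : C.L) (w K2 [1, 2]) := coe_commute.1 c1
    have hR : Rv C.S (w K2 [1, 2]) (vec K2 3) := Rv_word K2 (by decide) (by decide +kernel)
    have c3 : Commute (C.S.τ (vec K2 3)) (⟨_, m1⟩ : C.L) := C.S.τ_commute_of_fix (hR.fix c2)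
    have c4 : Commute (C.b (vec K2 3)) (cj g1⁻¹ s) := coe_commute.2 c3
    rw [b_eq] at c4
    have c5 := cj_commute c4 g1
    rwa [cj_cj_inv] at c5) with e | e | e | e
  · rw [← cj_one g1] at e
    have e' := cj_inj e
    rw [← ww_nil K2] at e'
    exact ww_ne K2 (by decide) (by decide) ⟨8, by norm_num, by decide +kernel⟩ e'
  · have e' : ww K2 [3] = ww K2 [1] := by
      rw [← hbr, ← h1i.z, ← e, cj_inv_cj]
    exact ww_ne K2 (by decide) (by decide) ⟨8, by norm_num, by decide +kernel⟩ e'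
  · have e' : ww K2 [3] = ww K2 [1, 2] := by
      rw [← hlam', ← e, cj_inv_cj]
    exact ww_ne K2 (by decide) (by decide) ⟨8, by norm_num, by decide +kernel⟩ e'
  · have e' : ww K2 [3] = ww K2 [1, 1, 2] := by
      have e1 : ww K2 [1, 1, 2] = ww K2 [1] * ww K2 [1, 2] := by rw [ww_mul]; rfl
      rw [e1, ← hlam', ← hbr]
      calc ww K2 [3] = cj g1⁻¹ (cj g1 (ww K2 [3])) := (cj_inv_cj _ _).symm
        _ = cj g1⁻¹ (C.b r * ww K [1, 2, 3]) := by rw [e]
        _ = _ := by rw [cj_mul, h1i.z]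
    exact ww_ne K2 (by decide) (by decide) ⟨8, by norm_num, by decide +kernel⟩ e'

/-! ### frames with the same `λ` -/

theorem ww_line {K' : Coord C.S} {p q : ℕ} (h1 : vec K' 1 = vec K p) (h2 : vec K' 2 = vec K q) :
    ww K' [1, 2, 3] = ww K [p, q, p ^^^ q] := by
  have h3 : vec K' 3 = vec K (p ^^^ q) := by
    have e : (3 : ℕ) = 1 ^^^ 2 := by decide
    rw [vec_xor, ← h1, ← h2, e, vec_xor K' 1 2]
  simp only [ww_cons, ww_nil]
  rw [h1, h2, h3]

theorem vec_ne {a b : ℕ} (ha : a < 64) (hb : b < 64) (h : a ≠ b) : vec K a ≠ vec K b := fun h' => h (vec_inj K ha hb h')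

theorem vec_ne_zero {a : ℕ} (ha : a < 64) (h : a ≠ 0) : vec K a ≠ 0 := by
  rw [← vec_zero K]
  exact vec_ne K ha (by norm_num) h

theorem reframe4 {e : ℕ} (he : e < 64) (h1 : Sp.fN e 1 = false) (h2 : Sp.fN e 2 = false) (h4 : 4 ≤ e) :
    ∃ K' : Coord C.S, vec K' 1 = vec K 1 ∧ vec K' 2 = vec K 2 ∧ vec K' 4 = vec K e := by
  apply exists_frame_three K (vec_ne_zero K (by norm_num) (by norm_num)) (vec_ne_zero K (by norm_num) (by norm_num))
    (vec_ne K (by norm_num) (by norm_num) (by norm_num)) (vec_ne_zero K he (by omega))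
    (vec_ne K he (by norm_num) (by omega)) (vec_ne K he (by norm_num) (by omega))
  · rw [← vec_xor]
    exact vec_ne K he (by decide) (by have : (1 ^^^ 2 : ℕ) = 3 := by decide
                                      omega)
  · exact B_vec_zero K (by decide)
  · rw [C.S.symm]; exact B_vec_zero K h1
  · rw [C.S.symm]; exact B_vec_zero K h2

theorem reline {e : ℕ} (he0 : e ≠ 0) (he : e < 4) :
    ∃ K' : Coord C.S, vec K' 1 = vec K e ∧ ww K' [1, 2, 3] = ww K [1, 2, 3] := by
  have key : ∀ e e' : ℕ, e < 4 → e' < 4 → e ≠ 0 → e' ≠ 0 → e' ≠ e → Sp.fN e e' = false →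
      eqB [e, e', e ^^^ e'] [1, 2, 3] = true →
      ∃ K' : Coord C.S, vec K' 1 = vec K e ∧ ww K' [1, 2, 3] = ww K [1, 2, 3] := by
    intro e e' he he' h0 h0' hne hf hB
    obtain ⟨K', h1, h2⟩ := exists_frame_two K (vec_ne_zero K (show e < 64 by omega) h0)
      (vec_ne_zero K (show e' < 64 by omega) h0') (vec_ne K (by omega) (by omega) hne) (B_vec_zero K hf)
    exact ⟨K', h1, by rw [ww_line K h1 h2, ww_eq K hB]⟩
  interval_cases e
  · exact absurd rfl he0
  · exact key 1 2 (by norm_num) (by norm_num) (by norm_num) (by norm_num) (by norm_num) (by decide) (by decide +kernel)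
  · exact key 2 1 (by norm_num) (by norm_num) (by norm_num) (by norm_num) (by norm_num) (by decide) (by decide +kernel)
  · exact key 3 1 (by norm_num) (by norm_num) (by norm_num) (by norm_num) (by norm_num) (by decide) (by decide +kernel)

theorem DC_gen {e : ℕ} (he : e < 64) (h1 : Sp.fN e 1 = false) (h2 : Sp.fN e 2 = false) (h4 : 4 ≤ e) :
    DC C (ww K [1, 2, 3]) (ww K [e]) := by
  obtain ⟨K', e1, e2, e4⟩ := reframe4 K he h1 h2 h4
  have := DC_four K'
  rwa [ww_line K e1 e2, ww_single K e4] at this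

theorem b_ne_b_mul_lam {p q : V} (hc : Commute (C.b q) (ww K [1, 2, 3])) : C.b p ≠ C.b q * ww K [1, 2, 3] := by
  intro h
  have h1 : Commute (C.S.τ q) (w K [1, 2, 3]) := coe_commute.1 hc
  have h5 : Rv C.S (w K [1, 2, 3] * C.S.τ q) (0 + q) := (Rv_lam K).mul_tau (C.S.fix_of_τ_commute h1)
  have h6 := Rv_b_eq (s := p) h5 (by rw [h]; exact hc.eq.symm)
  rw [zero_add] at h6
  subst h6
  apply lam_ne_one K
  have := congrArg (fun x => (C.b p)⁻¹ * x) h
  simp only [inv_mul_cancel, inv_mul_cancel_left] at this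
  exact this.symm

/-- the transvections of `l^⊥` outside `l` -/
theorem img_four (H : All C) (h : Sw C (ww K [1, 2, 3]) g) :
    ∃ c < 64, Sp.fN c 1 = false ∧ Sp.fN c 2 = false ∧ 4 ≤ c ∧ cj g (ww K [4]) = ww K [c] := by
  obtain ⟨r, hr, hrc, hrs⟩ := image_b K H h (vec_ne_zero K (a := 4) (by norm_num) (by norm_num))
    (by rw [b_eq]; exact DC_four K) (by rw [b_eq]; exact (single_commute_lam K (by norm_num)).2 (by decide))
  obtain ⟨r', hr', hrc', hrs'⟩ := image_b K H h (vec_ne_zero K (a := 32) (by norm_num) (by norm_num))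
    (by rw [b_eq]; exact DC_gen K (by norm_num) (by decide) (by decide) (by norm_num))
    (by rw [b_eq]; exact (single_commute_lam K (by norm_num)).2 (by decide))
  obtain ⟨c, hc, rfl⟩ := exists_vec K r
  obtain ⟨c', hc', rfl⟩ := exists_vec K r'
  rw [b_eq] at hrc hrc'
  rw [b_eq, b_eq] at hrs hrs'
  have p := (single_commute_lam K hc).1 hrc
  have p' := (single_commute_lam K hc').1 hrc'
  have c4 : 4 ≤ c := by
    by_contra hlt
    have hcc : Commute (ww K [c]) (ww K [c']) := by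
      rw [single_commute]
      have t : ∀ c < 4, ∀ c' < 64, (Sp.fN c' 1 = false ∧ Sp.fN c' 2 = false) → Sp.fN c c' = false := by
        decide +kernel
      exact t c (by omega) c' hc' p'
    have hcl : Commute (ww K [c]) (ww K [c'] * ww K [1, 2, 3]) := hcc.mul_right hrc
    have : Commute (cj g (ww K [4])) (cj g (ww K [32])) := by
      rcases hrs with e | e <;> rcases hrs' with e' | e' <;> rw [e, e']
      · exact hcc
      · exact hcl
      · exact hcc.mul_left hrc'.symm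
      · exact hcl.mul_left (hrc'.symm.mul_right (Commute.refl _))
    rw [cj_commute_iff, single_commute] at this
    revert this
    decide
  refine ⟨c, hc, p.1, p.2, c4, ?_⟩
  rcases hrs with e | e
  · exact e
  · exfalso
    obtain ⟨K', e1, e2, e4⟩ := reframe4 K hc p.1 p.2 c4
    obtain ⟨l, hl⟩ := exists_move K' K
    have := kill K H h hr (by rw [b_eq]; exact hrc) (by rw [b_eq]; exact DC_gen K hc p.1 p.2 c4) l.2
    apply this
    have e3 : cj (l : G) (C.b (vec K c)) = ww K [4] := by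
      rw [← e4, b_eq]
      exact ww_move K' hl [4]
    rw [e3, e, b_eq]

theorem img_gen (H : All C) (h : Sw C (ww K [1, 2, 3]) g) {e : ℕ} (he : e < 64) (h1 : Sp.fN e 1 = false)
    (h2 : Sp.fN e 2 = false) (h4 : 4 ≤ e) :
    ∃ c < 64, Sp.fN c 1 = false ∧ Sp.fN c 2 = false ∧ 4 ≤ c ∧ cj g (ww K [e]) = ww K [c] := by
  obtain ⟨K', e1, e2, e4⟩ := reframe4 K he h1 h2 h4
  have hlam : ww K' [1, 2, 3] = ww K [1, 2, 3] := ww_line K e1 e2
  obtain ⟨c, hc, p1, p2, c4, hcg⟩ := img_four K' H (by rw [hlam]; exact h)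
  obtain ⟨d, hd, hde⟩ := exists_vec K (vec K' c)
  have q1 : Sp.fN d 1 = false := by
    apply fN_of_zero K
    rw [← hde, ← e1]; exact B_vec_zero K' p1
  have q2 : Sp.fN d 2 = false := by
    apply fN_of_zero K
    rw [← hde, ← e2]; exact B_vec_zero K' p2
  refine ⟨d, hd, q1, q2, ?_, ?_⟩
  · by_contra hlt
    have e3 : vec K' 3 = vec K 3 := by
      have e : (3 : ℕ) = 1 ^^^ 2 := by decide
      rw [e, vec_xor, vec_xor, e1, e2]
    have e0 : vec K' 0 = vec K 0 := by rw [vec_zero, vec_zero]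
    have hd4 : d < 4 := by omega
    have : vec K' d = vec K d := by
      interval_cases d
      · exact e0
      · exact e1
      · exact e2
      · exact e3
    have := vec_inj K' hc hd (hde.trans this.symm)
    omega
  · rw [← ww_single K e4, hcg, ww_single K hde]

/-- the transvections of `l` -/
theorem img_line (H : All C) (h : Sw C (ww K [1, 2, 3]) g) {e : ℕ} (he : e < 4) (he0 : e ≠ 0) :
    ∃ c < 4, c ≠ 0 ∧ cj g (ww K [e]) = ww K [c] := by
  obtain ⟨K', e1, hlam⟩ := reline K he0 he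
  have hi := h.inv (lam_sq K)
  have hec : Commute (ww K [e]) (ww K [1, 2, 3]) := by
    rw [← ww_single K e1, ← hlam]
    exact (single_commute_lam K' (by norm_num)).2 (by decide)
  obtain ⟨r, hr, hrc, hrs⟩ := image_b K H h (vec_ne_zero K (a := e) (by omega) he0)
    (by rw [b_eq, ← ww_single K e1, ← hlam]; exact DC_one K') (by rw [b_eq]; exact hec)
  obtain ⟨c, hc, rfl⟩ := exists_vec K r
  rw [b_eq] at hrc
  rw [b_eq, b_eq] at hrs
  have p := (single_commute_lam K hc).1 hrc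
  have c4 : c < 4 := by
    by_contra hge
    obtain ⟨d, hd, q1, q2, d4, hdg⟩ := img_gen K H hi hc p.1 p.2 (by omega)
    rcases hrs with e' | e'
    · have : ww K [e] = ww K [d] := by rw [← hdg, ← e', cj_inv_cj]
      have := single_inj K (by omega) hd this
      omega
    · have h2 : ww K [e] = ww K [d] * ww K [1, 2, 3] := by
        rw [← hdg]
        calc ww K [e] = cj g⁻¹ (cj g (ww K [e])) := (cj_inv_cj _ _).symm
          _ = cj g⁻¹ (ww K [c] * ww K [1, 2, 3]) := by rw [e']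
          _ = _ := by rw [cj_mul, hi.z]
      rw [← b_eq, ← b_eq] at h2
      exact b_ne_b_mul_lam K (by rw [b_eq]; exact (single_commute_lam K hd).2 ⟨q1, q2⟩) h2
  have c0 : c ≠ 0 := by rintro rfl; exact hr (vec_zero K)
  refine ⟨c, c4, c0, ?_⟩
  rcases hrs with e' | e'
  · exact e'
  · exfalso
    obtain ⟨K2, f1, hlam2⟩ := reline K c0 c4
    obtain ⟨l, hl⟩ := exists_move K2 K'
    have := kill K H h hr (by rw [b_eq]; exact hrc) (by rw [b_eq, ← ww_single K f1, ← hlam2]; exact DC_one K2) l.2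
    apply this
    have e3 : cj (l : G) (C.b (vec K c)) = ww K [e] := by
      rw [← f1, b_eq, ← ww_single K e1]
      exact ww_move K2 hl [1]
    rw [e3, e', b_eq]

end Cfsg.Agent.StdSpSix.AllSwapB
end

-- part: StdSpSix/AllSwapC
section
/-!
# Pattern `ALL`: the involution `h_λ`

`IsH K ks h`: `h² = 1`, `t^h = t λ`, `h` commutes with the transvections of `l^⊥`, `y₁^h = y₁ z`, `y₂^h = y₂ z` where
`z = ww K ks`; `ks = []` or `ks = [1, 2, 3]`, the same for all frames.
-/

set_option autoImplicit false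
set_option maxHeartbeats 400000

namespace Cfsg.Agent.StdSpSix.AllSwapC

open Cfsg.Agent.StandardComponent.SpTwo
open Cfsg.Agent.SporRec.TwoSp6
open Cfsg.Agent.StdSpSix.Words Cfsg.Agent.StdSpSix.Model Cfsg.Agent.StdSpSix.AllCode Cfsg.Agent.StdSpSix.AllFacts
open Cfsg.Agent.StdSpSix.AllFactsTwo Cfsg.Agent.StdSpSix.AllBase Cfsg.Agent.StdSpSix.AllSwapA
open Cfsg.Agent.StdSpSix.AllSwapB

/-! ### closure under transvections -/

/-- `k` is the image of an element of `S` under the transvection at an element of `S` -/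
def stepB (S : List ℕ) (k : ℕ) : Bool := S.any fun a => S.any fun b => tc a b == k

theorem step_closure {Q : ℕ → Prop} (hQ : ∀ a < 64, ∀ b < 64, Q a → Q b → Q (tc a b)) {S T : List ℕ}
    (hS : ∀ a ∈ S, a < 64 ∧ Q a) (hT : (T.all fun k => stepB S k) = true) : ∀ k ∈ T, k < 64 ∧ Q k := by
  intro k hk
  rw [List.all_eq_true] at hT
  have h1 := hT k hk
  unfold stepB at h1
  rw [List.any_eq_true] at h1
  obtain ⟨a, ha, h2⟩ := h1
  rw [List.any_eq_true] at h2
  obtain ⟨b, hb, h3⟩ := h2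
  have h4 : tc a b = k := eq_of_beq h3
  rw [← h4]
  refine ⟨?_, hQ a (hS a ha).1 b (hS b hb).1 (hS a ha).2 (hS b hb).2⟩
  unfold tc
  split_ifs
  · exact xor_lt (hS b hb).1 (hS a ha).1
  · exact (hS b hb).1

variable {G V : Type*} [Group G] [AddCommGroup V] [Module (ZMod 2) V] {C : Ctx G V} {g : G} (K : Coord C.S)

theorem cj_comp (g h x : G) : cj (cj g h) (cj g x) = cj g (cj h x) := by unfold cj; group

theorem cj_single {a b : ℕ} (ha : a < 64) (hb : b < 64) : cj (ww K [a]) (ww K [b]) = ww K [tc a b] :=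
  cj_ww K (ks := [a]) (by simpa using ha) hb

theorem cd_of_cj {x : C.L} {a b : ℕ} (hb : b < 64) (h : cj (x : G) (ww K [a]) = ww K [b]) : cd K x a = b :=
  single_inj K (cd_lt K x a) hb ((conj_code K x a).symm.trans h)

/-- the transvections fixed by `g` are closed under conjugation -/
theorem fix_closure (g : G) : ∀ a < 64, ∀ b < 64, cj g (ww K [a]) = ww K [a] → cj g (ww K [b]) = ww K [b] →
    cj g (ww K [tc a b]) = ww K [tc a b] := by
  intro a ha b hb h1 h2
  rw [← cj_single K ha hb, ← cj_comp, h1, h2]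

theorem fix_zero (g : G) : cj g (ww K [0]) = ww K [0] := by
  rw [ww_one K (ks := [0]) (by decide +kernel), cj_one]

/-- first normalisation -/
theorem exists_fix_three (H : All C) : ∃ g, Sw C (ww K [1, 2, 3]) g ∧ cj g (ww K [1]) = ww K [1] ∧
    cj g (ww K [2]) = ww K [2] ∧ cj g (ww K [4]) = ww K [4] := by
  obtain ⟨g, hgt, hgz⟩ := exists_swap_lam K H
  have h : Sw C (ww K [1, 2, 3]) g := ⟨hgt, hgz⟩
  obtain ⟨c1, l1, n1, e1⟩ := img_line K H h (e := 1) (by norm_num) (by norm_num)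
  obtain ⟨c2, l2, n2, e2⟩ := img_line K H h (e := 2) (by norm_num) (by norm_num)
  obtain ⟨c4, l4, p1, p2, n4, e4⟩ := img_four K H h
  have hne : c2 ≠ c1 := by
    rintro rfl
    have := single_inj K (by norm_num) (by norm_num) (cj_inj (e1.trans e2.symm))
    omega
  have t1 : ∀ c < 4, ∀ d < 4, Sp.fN c d = false := by decide +kernel
  have t2 : ∀ c < 4, ∀ d < 64, Sp.fN d 1 = false → Sp.fN d 2 = false → Sp.fN c d = false := by decide +kernel
  have t3 : ∀ c < 4, ∀ d < 4, c ≠ 0 → d ≠ 0 → d ≠ c → eqB [c, d, c ^^^ d] [1, 2, 3] = true := by decide +kernel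
  have t4 : ∀ c < 4, ∀ d < 4, c ^^^ d < 4 := by decide +kernel
  obtain ⟨K', f1, f2, f4⟩ := exists_frame_three K (vec_ne_zero K (show c1 < 64 by omega) n1)
    (vec_ne_zero K (show c2 < 64 by omega) n2) (vec_ne K (by omega) (by omega) hne)
    (vec_ne_zero K l4 (by omega)) (vec_ne K l4 (by omega) (by omega)) (vec_ne K l4 (by omega) (by omega))
    (by have := t4 c1 l1 c2 l2
        rw [← vec_xor]; exact vec_ne K l4 (by omega) (by omega))
    (B_vec_zero K (t1 c1 l1 c2 l2)) (B_vec_zero K (t2 c1 l1 c4 l4 p1 p2)) (B_vec_zero K (t2 c2 l2 c4 l4 p1 p2))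
  obtain ⟨l, hl⟩ := exists_move K' K
  have hlam : ww K' [1, 2, 3] = ww K [1, 2, 3] := by
    rw [ww_line K f1 f2, ww_eq K (t3 c1 l1 c2 l2 n1 n2 hne)]
  have hll : Commute (l : G) (ww K [1, 2, 3]) := by
    rw [← cj_eq_iff]
    have h3 : cj (l : G) (ww K' [1, 2, 3]) = ww K [1, 2, 3] := ww_move K' hl [1, 2, 3]
    rwa [hlam] at h3
  have key : ∀ a c, vec K' a = vec K c → cj g (ww K [a]) = ww K [c] → cj ((l : G) * g) (ww K [a]) = ww K [a] := by
    intro a c h1 h2
    rw [← cj_cj, h2, ← ww_single K h1]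
    exact ww_move K' hl [a]
  exact ⟨(l : G) * g, h.mul_left (C.commute_of_mem l.2) hll, key 1 c1 f1 e1, key 2 c2 f2 e2, key 4 c4 f4 e4⟩

/-- second normalisation -/
theorem exists_fix_four (H : All C) : ∃ g, Sw C (ww K [1, 2, 3]) g ∧ cj g (ww K [1]) = ww K [1] ∧
    cj g (ww K [2]) = ww K [2] ∧ cj g (ww K [4]) = ww K [4] ∧ cj g (ww K [32]) = ww K [32] := by
  obtain ⟨g, h, h1, h2, h4⟩ := exists_fix_three K H
  obtain ⟨a, ha, p1, p2, a4, e⟩ := img_gen K H h (e := 32) (by norm_num) (by decide) (by decide) (by norm_num)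
  have hq : Sp.fN a 4 = true := by
    by_contra hcon
    rw [Bool.not_eq_true, ← single_commute K, ← e, ← h4, cj_commute_iff, single_commute] at hcon
    revert hcon
    decide
  obtain ⟨ks, hks, hw⟩ := dS2 a ha (by unfold qB; simp [hq, p1, p2])
  have hp := dS2' ks hks
  have hlt := pB_lt hp
  have hfix := wc_fix hp (by intro l hl; simp only [List.mem_cons, List.not_mem_nil, or_false] at hl; omega)
  have key : ∀ c ∈ [1, 2, 4], cj (ww K ks) (ww K [c]) = ww K [c] := by
    intro c hc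
    rw [cj_ww K hlt (by simp only [List.mem_cons, List.not_mem_nil, or_false] at hc; omega), hfix c hc]
  have tl : ∀ ks ∈ S2, eqB (ks ++ [1, 2, 3]) ([1, 2, 3] ++ ks) = true := by decide +kernel
  refine ⟨ww K ks * g, h.mul_left (ww_t K ks) (ww_commute K (tl ks hks)), ?_, ?_, ?_, ?_⟩
  · rw [← cj_cj, h1]; exact key 1 (by decide)
  · rw [← cj_cj, h2]; exact key 2 (by decide)
  · rw [← cj_cj, h4]; exact key 4 (by decide)
  · rw [← cj_cj, e, cj_ww K hlt ha, hw]

theorem cd_line {x : C.L} {a b : ℕ} (h1 : cd K x 1 = a) (h2 : cd K x 2 = b) : cd K x 3 = a ^^^ b := by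
  have := cd_xor K x 1 2
  rw [h1, h2] at this
  exact this

/-- all transvections of `l^⊥` are fixed -/
theorem exists_fix (H : All C) : ∃ g, Sw C (ww K [1, 2, 3]) g ∧
    ∀ k < 64, Sp.fN k 1 = false → Sp.fN k 2 = false → cj g (ww K [k]) = ww K [k] := by
  obtain ⟨g, h, h1, h2, h4, h32⟩ := exists_fix_four K H
  refine ⟨g, h, ?_⟩
  have h3 : cj g (ww K [3]) = ww K [3] := by
    obtain ⟨c, hc, c0, e⟩ := img_line K H h (e := 3) (by norm_num) (by norm_num)
    rw [e]
    interval_cases c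
    · exact absurd rfl c0
    · exact absurd (single_inj K (by norm_num) (by norm_num) (cj_inj (h1.trans e.symm))) (by norm_num)
    · exact absurd (single_inj K (by norm_num) (by norm_num) (cj_inj (h2.trans e.symm))) (by norm_num)
    · rfl
  have m1 : cj g (ww K [1, 16, 17]) ∈ C.L :=
    h.mem H (ww_mem K _) (ww_sq K (by decide +kernel)) (ww_commute K (by decide +kernel))
  have m2 : cj g (ww K [2, 8, 10]) ∈ C.L :=
    h.mem H (ww_mem K _) (ww_sq K (by decide +kernel)) (ww_commute K (by decide +kernel))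
  have key : ∀ (ks : List ℕ) (hm : cj g (ww K ks) ∈ C.L) (a b a' b' : ℕ), (∀ k ∈ ks, k < 64) → a < 64 → b' < 64 →
      wc ks a = b → cj g (ww K [a]) = ww K [a'] → cj g (ww K [b]) = ww K [b'] → cd K (⟨_, hm⟩ : C.L) a' = b' := by
    intro ks hm a b a' b' hks ha hb' hw e1 e2
    apply cd_of_cj K hb'
    change cj (cj g (ww K ks)) _ = _
    rw [← e1, cj_comp, cj_ww K hks ha, hw, e2]
  -- the first involution
  have x1 := key [1, 16, 17] m1 1 1 1 1 (by decide) (by norm_num) (by norm_num) (by decide) h1 h1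
  have x2 := key [1, 16, 17] m1 2 3 2 3 (by decide) (by norm_num) (by norm_num) (by decide) h2 h3
  have x4 := key [1, 16, 17] m1 4 4 4 4 (by decide) (by norm_num) (by norm_num) (by decide) h4 h4
  have x3 := cd_line K x1 x2
  have y1 := key [2, 8, 10] m2 1 3 1 3 (by decide) (by norm_num) (by norm_num) (by decide) h1 h3
  have y2 := key [2, 8, 10] m2 2 2 2 2 (by decide) (by norm_num) (by norm_num) (by decide) h2 h2
  have y4 := key [2, 8, 10] m2 4 4 4 4 (by decide) (by norm_num) (by norm_num) (by decide) h4 h4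
  have y3 := cd_line K y1 y2
  have f4 : ∀ a < 64, Sp.fN a 1 = false → Sp.fN a 2 = false → 4 ≤ a → Sp.fN a 4 = false → a < 8 := by decide +kernel
  have near : ∀ e, 4 < e → e < 8 → ∃ c, 4 < c ∧ c < 8 ∧ cj g (ww K [e]) = ww K [c] := by
    intro e he he8
    have t : ∀ e < 8, Sp.fN e 1 = false ∧ Sp.fN e 2 = false ∧ Sp.fN e 4 = false := by decide +kernel
    obtain ⟨t1, t2, t4⟩ := t e he8
    obtain ⟨c, hc, p1, p2, c4, ec⟩ := img_gen K H h (e := e) (by omega) t1 t2 (by omega)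
    have hc4 : Sp.fN c 4 = false := by
      rw [← single_commute K, ← ec, ← h4, cj_commute_iff, single_commute]
      exact t4
    refine ⟨c, ?_, f4 c hc p1 p2 c4 hc4, ec⟩
    by_contra hcon
    have : c = 4 := by omega
    subst this
    have := single_inj K (by norm_num) (by omega) (cj_inj (h4.trans ec.symm))
    omega
  have h5 : cj g (ww K [5]) = ww K [5] := by
    obtain ⟨c, c4, c8, ec⟩ := near 5 (by norm_num) (by norm_num)
    have z := key [1, 16, 17] m1 5 5 c c (by decide) (by norm_num) (by omega) (by decide) ec ec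
    rw [ec]
    interval_cases c
    · rfl
    · exfalso
      have := cd_xor K (⟨_, m1⟩ : C.L) 4 2
      rw [x4, x2, show (4 ^^^ 2 : ℕ) = 6 from rfl, z] at this
      exact absurd this (by decide)
    · exfalso
      have := cd_xor K (⟨_, m1⟩ : C.L) 4 3
      rw [x4, x3, show (4 ^^^ 3 : ℕ) = 7 from rfl, z] at this
      exact absurd this (by decide)
  have h6 : cj g (ww K [6]) = ww K [6] := by
    obtain ⟨c, c4, c8, ec⟩ := near 6 (by norm_num) (by norm_num)
    have z := key [2, 8, 10] m2 6 6 c c (by decide) (by norm_num) (by omega) (by decide) ec ec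
    rw [ec]
    interval_cases c
    · exfalso
      have := cd_xor K (⟨_, m2⟩ : C.L) 4 1
      rw [y4, y1, show (4 ^^^ 1 : ℕ) = 5 from rfl, z] at this
      exact absurd this (by decide)
    · rfl
    · exfalso
      have := cd_xor K (⟨_, m2⟩ : C.L) 4 3
      rw [y4, y3, show (4 ^^^ 3 : ℕ) = 7 from rfl, z] at this
      exact absurd this (by decide)
  have h7 : cj g (ww K [7]) = ww K [7] := by
    obtain ⟨c, c4, c8, ec⟩ := near 7 (by norm_num) (by norm_num)
    rw [ec]
    interval_cases c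
    · exact absurd (single_inj K (by norm_num) (by norm_num) (cj_inj (h5.trans ec.symm))) (by norm_num)
    · exact absurd (single_inj K (by norm_num) (by norm_num) (cj_inj (h6.trans ec.symm))) (by norm_num)
    · rfl
  have hQ : ∀ a < 64, ∀ b < 64, cj g (ww K [a]) = ww K [a] → cj g (ww K [b]) = ww K [b] →
      cj g (ww K [tc a b]) = ww K [tc a b] := fix_closure K g
  have s0 : ∀ a ∈ [0, 1, 2, 3, 4, 5, 6, 7, 32], a < 64 ∧ cj g (ww K [a]) = ww K [a] := by
    intro a ha
    simp only [List.mem_cons, List.not_mem_nil, or_false] at ha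
    rcases ha with rfl | rfl | rfl | rfl | rfl | rfl | rfl | rfl | rfl
    · exact ⟨by norm_num, fix_zero K g⟩
    · exact ⟨by norm_num, h1⟩
    · exact ⟨by norm_num, h2⟩
    · exact ⟨by norm_num, h3⟩
    · exact ⟨by norm_num, h4⟩
    · exact ⟨by norm_num, h5⟩
    · exact ⟨by norm_num, h6⟩
    · exact ⟨by norm_num, h7⟩
    · exact ⟨by norm_num, h32⟩
  have s1 := step_closure hQ (T := [0, 1, 2, 3, 4, 5, 6, 7, 32, 36, 37, 38, 39]) s0 (by decide +kernel)
  have s2 := step_closure hQ (T := [0, 1, 2, 3, 4, 5, 6, 7, 32, 33, 34, 35, 36, 37, 38, 39]) s1 (by decide +kernel)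
  intro k hk k1 k2
  have t : ∀ k < 64, Sp.fN k 1 = false → Sp.fN k 2 = false →
      k ∈ [0, 1, 2, 3, 4, 5, 6, 7, 32, 33, 34, 35, 36, 37, 38, 39] := by decide +kernel
  exact (s2 k (t k hk k1 k2)).2

end Cfsg.Agent.StdSpSix.AllSwapC
end

-- part: StdSpSix/AllSwapD
section
/-!
# Pattern `ALL`: the involution `h_λ`

`IsH K ks h`: `h² = 1`, `t^h = t λ`, `h` commutes with the transvections of `l^⊥`, `y₁^h = y₁ z`, `y₂^h = y₂ z` where
`z = ww K ks`; `ks = []` or `ks = [1, 2, 3]`, the same for all frames.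
-/

set_option autoImplicit false
set_option maxHeartbeats 400000

namespace Cfsg.Agent.StdSpSix.AllSwapD

open Cfsg.Agent.StandardComponent.SpTwo
open Cfsg.Agent.SporRec.TwoSp6
open Cfsg.Agent.StdSpSix.Words Cfsg.Agent.StdSpSix.Model Cfsg.Agent.StdSpSix.AllCode Cfsg.Agent.StdSpSix.AllFacts
open Cfsg.Agent.StdSpSix.AllFactsTwo Cfsg.Agent.StdSpSix.AllBase Cfsg.Agent.StdSpSix.AllSwapA
open Cfsg.Agent.StdSpSix.AllSwapB Cfsg.Agent.StdSpSix.AllSwapC

variable {G V : Type*} [Group G] [AddCommGroup V] [Module (ZMod 2) V] {C : Ctx G V} {g : G} (K : Coord C.S)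

/-- the involution `h_λ` -/
structure IsH (K : Coord C.S) (ks : List ℕ) (h : G) : Prop where
  sq : h * h = 1
  t : cj h C.t = C.t * ww K [1, 2, 3]
  fix : ∀ k < 64, Sp.fN k 1 = false → Sp.fN k 2 = false → cj h (ww K [k]) = ww K [k]
  y1 : cj h (ww K [1, 16, 17]) = ww K [1, 16, 17] * ww K ks
  y2 : cj h (ww K [2, 8, 10]) = ww K [2, 8, 10] * ww K ks

theorem L8_sq : ∀ ks ∈ L8, eqB (ks ++ ks) [] = true := by decide +kernel

/-- the image of an involution of `C_L(λ)` under a swap fixing the transvections of `l^⊥` -/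
theorem image_y (H : All C) (h : Sw C (ww K [1, 2, 3]) g)
    (hf : ∀ k < 64, Sp.fN k 1 = false → Sp.fN k 2 = false → cj g (ww K [k]) = ww K [k]) {ys : List ℕ}
    (hys : ∀ k ∈ ys, k < 64) (hy2 : eqB (ys ++ ys) [] = true) (hyl : eqB (ys ++ [1, 2, 3]) ([1, 2, 3] ++ ys) = true)
    (hyp : ∀ k < 64, Sp.fN k 1 = false → Sp.fN k 2 = false → Sp.fN (wc ys k) 1 = false ∧ Sp.fN (wc ys k) 2 = false) :
    ∃ ks ∈ L8, cj g (ww K ys) = ww K ys * ww K ks ∧ cB ks ys = true := by
  have ysq := ww_sq K hy2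
  have m := h.mem H (ww_mem K ys) ysq (ww_commute K hyl)
  set x := cj g (ww K ys) with hx
  have hx2 : x * x = 1 := cj_sq ysq g
  -- `z = y x` commutes with the transvections of `l^⊥`
  have hz : ∀ k < 64, Sp.fN k 1 = false → Sp.fN k 2 = false → Commute (ww K ys * x) (ww K [k]) := by
    intro k hk h1 h2
    rw [← cj_eq_iff, ← cj_cj]
    have e1 : cj x (ww K [k]) = ww K [wc ys k] := by
      conv_lhs => rw [← hf k hk h1 h2]
      rw [hx, cj_comp, cj_ww K hys hk]
      exact hf _ (wc_lt hys hk) (hyp k hk h1 h2).1 (hyp k hk h1 h2).2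
    have e2 : cj (ww K ys) (ww K [k]) = ww K [wc ys k] := cj_ww K hys hk
    rw [e1, ← e2, cj_cj, ysq, one_cj]
  have hzL : ww K ys * x ∈ C.L := mul_mem (ww_mem K ys) m
  have cz : ∀ k < 64, Sp.fN k 1 = false → Sp.fN k 2 = false → cd K (⟨_, hzL⟩ : C.L) k = k := by
    intro k hk h1 h2
    exact fix_of_commute K hk (hz k hk h1 h2)
  obtain ⟨ks, hks, e⟩ := fixA K (cz 1 (by norm_num) (by decide) (by decide)) (cz 2 (by norm_num) (by decide) (by decide))
    (cz 4 (by norm_num) (by decide) (by decide)) (cz 32 (by norm_num) (by decide) (by decide))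
  have e' : ww K ys * x = ww K ks := congrArg Subtype.val e
  have e'' : x = ww K ys * ww K ks := by rw [← e', ← mul_assoc, ysq, one_mul]
  refine ⟨ks, hks, e'', ?_⟩
  have ksq := ww_sq K (L8_sq ks hks)
  apply cB_of_commute K (L8_lt ks hks) hys
  apply coe_commute.1
  change ww K ks * ww K ys = ww K ys * ww K ks
  rw [e''] at hx2
  calc ww K ks * ww K ys = ww K ys * (ww K ys * ww K ks * (ww K ys * ww K ks)) * ww K ks := by
        calc ww K ks * ww K ys = ww K ks * ww K ys * (ww K ks * ww K ks) := by rw [ksq, mul_one]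
          _ = (ww K ys * ww K ys) * ww K ks * ww K ys * (ww K ks * ww K ks) := by rw [ysq, one_mul]
          _ = _ := by group
    _ = ww K ys * ww K ks := by rw [hx2, mul_one]

theorem two_of_cB1 : ∀ ks ∈ L8, cB ks [1, 16, 17] = true → ks = [] ∨ ks = [1] ∨ ks = [1, 2, 3] ∨ ks = [2, 3] := by
  decide +kernel

theorem two_of_cB2 : ∀ ks ∈ L8, cB ks [2, 8, 10] = true → ks = [] ∨ ks = [2] ∨ ks = [1, 2, 3] ∨ ks = [1, 3] := by
  decide +kernel

/-- the third normalisation -/
theorem exists_norm (H : All C) : ∃ g, Sw C (ww K [1, 2, 3]) g ∧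
    (∀ k < 64, Sp.fN k 1 = false → Sp.fN k 2 = false → cj g (ww K [k]) = ww K [k]) ∧
    ∃ ks, (ks = [] ∨ ks = [1, 2, 3]) ∧ cj g (ww K [1, 16, 17]) = ww K [1, 16, 17] * ww K ks ∧
      cj g (ww K [2, 8, 10]) = ww K [2, 8, 10] * ww K ks := by
  obtain ⟨g, h, hf⟩ := exists_fix K H
  have hl : ∀ p < 4, Commute (ww K [p]) (ww K [1, 2, 3]) := by
    intro p hp
    have t : ∀ p < 4, Sp.fN p 1 = false ∧ Sp.fN p 2 = false := by decide +kernel
    exact (single_commute_lam K (by omega)).2 (t p hp)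
  have hlk : ∀ p < 4, ∀ k < 64, Sp.fN k 1 = false → Sp.fN k 2 = false → cj (ww K [p]) (ww K [k]) = ww K [k] := by
    intro p hp k hk h1 h2
    have t : ∀ p < 4, ∀ k < 64, Sp.fN k 1 = false → Sp.fN k 2 = false → Sp.fN p k = false := by decide +kernel
    rw [cj_eq_iff, single_commute]
    exact t p hp k hk h1 h2
  -- correct by an element of `l`
  have adj : ∀ p < 4, ∀ g', Sw C (ww K [1, 2, 3]) g' →
      (∀ k < 64, Sp.fN k 1 = false → Sp.fN k 2 = false → cj g' (ww K [k]) = ww K [k]) →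
      Sw C (ww K [1, 2, 3]) (ww K [p] * g') ∧
      (∀ k < 64, Sp.fN k 1 = false → Sp.fN k 2 = false → cj (ww K [p] * g') (ww K [k]) = ww K [k]) := by
    intro p hp g' h' hf'
    refine ⟨h'.mul_left (ww_t K _) (hl p hp), fun k hk h1 h2 => ?_⟩
    rw [← cj_cj, hf' k hk h1 h2, hlk p hp k hk h1 h2]
  have cjw : ∀ p < 4, ∀ ks ls : List ℕ, eqB ([p] ++ (ks ++ [p])) ls = true → cj (ww K [p]) (ww K ks) = ww K ls := by
    intro p hp ks ls h1
    have e : (ww K [p])⁻¹ = ww K [p] := inv_of_sq (by rw [← b_eq]; exact C.b_sq _)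
    unfold cj
    rw [e, mul_assoc, ww_mul, ww_mul, ww_eq K h1]
  -- first `y₁`
  have s1 : ∃ g, Sw C (ww K [1, 2, 3]) g ∧
      (∀ k < 64, Sp.fN k 1 = false → Sp.fN k 2 = false → cj g (ww K [k]) = ww K [k]) ∧
      ∃ ks, (ks = [] ∨ ks = [1, 2, 3]) ∧ cj g (ww K [1, 16, 17]) = ww K [1, 16, 17] * ww K ks := by
    obtain ⟨ks, hks, e, hc⟩ := image_y K H h hf (ys := [1, 16, 17]) (by decide) (by decide +kernel) (by decide +kernel)
      (by decide +kernel)
    obtain ⟨h', hf'⟩ := adj 2 (by norm_num) g h hf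
    rcases two_of_cB1 ks hks hc with rfl | rfl | rfl | rfl
    · exact ⟨g, h, hf, [], Or.inl rfl, e⟩
    · refine ⟨_, h', hf', [1, 2, 3], Or.inr rfl, ?_⟩
      rw [← cj_cj, e, ww_mul, ww_mul]
      exact cjw 2 (by norm_num) _ _ (by decide +kernel)
    · exact ⟨g, h, hf, [1, 2, 3], Or.inr rfl, e⟩
    · refine ⟨_, h', hf', [], Or.inl rfl, ?_⟩
      rw [← cj_cj, e, ww_mul, ww_mul]
      exact cjw 2 (by norm_num) _ _ (by decide +kernel)
  obtain ⟨g, h, hf, k1, hk1, e1⟩ := s1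
  have s2 : ∃ g, Sw C (ww K [1, 2, 3]) g ∧
      (∀ k < 64, Sp.fN k 1 = false → Sp.fN k 2 = false → cj g (ww K [k]) = ww K [k]) ∧
      ∃ k2, (k2 = [] ∨ k2 = [1, 2, 3]) ∧ cj g (ww K [1, 16, 17]) = ww K [1, 16, 17] * ww K k1 ∧
      cj g (ww K [2, 8, 10]) = ww K [2, 8, 10] * ww K k2 := by
    obtain ⟨ks, hks, e, hc⟩ := image_y K H h hf (ys := [2, 8, 10]) (by decide) (by decide +kernel) (by decide +kernel)
      (by decide +kernel)
    obtain ⟨h', hf'⟩ := adj 1 (by norm_num) g h hf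
    have e1' : cj (ww K [1] * g) (ww K [1, 16, 17]) = ww K [1, 16, 17] * ww K k1 := by
      rw [← cj_cj, e1, ww_mul]
      rcases hk1 with rfl | rfl
      · exact cjw 1 (by norm_num) _ _ (by decide +kernel)
      · exact cjw 1 (by norm_num) _ _ (by decide +kernel)
    rcases two_of_cB2 ks hks hc with rfl | rfl | rfl | rfl
    · exact ⟨g, h, hf, [], Or.inl rfl, e1, e⟩
    · refine ⟨_, h', hf', [1, 2, 3], Or.inr rfl, e1', ?_⟩
      rw [← cj_cj, e, ww_mul, ww_mul]
      exact cjw 1 (by norm_num) _ _ (by decide +kernel)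
    · exact ⟨g, h, hf, [1, 2, 3], Or.inr rfl, e1, e⟩
    · refine ⟨_, h', hf', [], Or.inl rfl, e1', ?_⟩
      rw [← cj_cj, e, ww_mul, ww_mul]
      exact cjw 1 (by norm_num) _ _ (by decide +kernel)
  obtain ⟨g, h, hf, k2, hk2, e1, e2⟩ := s2
  refine ⟨g, h, hf, k1, hk1, e1, ?_⟩
  -- the two signs agree
  have cub : ∀ a b : List ℕ, (ww K a * ww K b) * ((ww K a * ww K b) * (ww K a * ww K b)) =
      ww K (a ++ b ++ (a ++ b ++ (a ++ b))) := by
    intro a b
    rw [ww_mul, ww_mul, ww_mul]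
  have e3 : (ww K [1, 16, 17] * ww K [2, 8, 10]) * ((ww K [1, 16, 17] * ww K [2, 8, 10]) *
      (ww K [1, 16, 17] * ww K [2, 8, 10])) = 1 := by
    rw [cub]; exact ww_one K (by decide +kernel)
  have e4 := congrArg (cj g) e3
  have e5 : cj g (ww K [1, 16, 17] * ww K [2, 8, 10]) = ww K ([1, 16, 17] ++ k1) * ww K ([2, 8, 10] ++ k2) := by
    rw [cj_mul, e1, e2, ww_mul, ww_mul]
  have cub2 : ∀ a : G, cj g (a * (a * a)) = cj g a * (cj g a * cj g a) := fun a => by rw [cj_mul, cj_mul]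
  rw [cj_one, cub2, e5, cub] at e4
  rcases hk1 with rfl | rfl <;> rcases hk2 with rfl | rfl
  · exact e2
  · exfalso
    rw [← ww_nil K] at e4
    exact ww_ne K (by decide) (by decide) ⟨8, by norm_num, by decide +kernel⟩ e4
  · exfalso
    rw [← ww_nil K] at e4
    exact ww_ne K (by decide) (by decide) ⟨8, by norm_num, by decide +kernel⟩ e4
  · exact e2

theorem cj_t {s : G} (hs : s ∈ C.L) : cj C.t s = s := cj_eq_iff.2 (C.commute_of_mem hs).symm

theorem exists_isH (H : All C) : ∃ ks, (ks = [] ∨ ks = [1, 2, 3]) ∧ ∃ h, IsH K ks h := by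
  obtain ⟨g, h, hf, ks, hks, e1, e2⟩ := exists_norm K H
  refine ⟨ks, hks, ?_⟩
  have hkf : cj g (ww K ks) = ww K ks ∧ ww K ks * ww K ks = 1 := by
    rcases hks with rfl | rfl
    · rw [ww_nil, cj_one, one_mul]; exact ⟨rfl, rfl⟩
    · exact ⟨h.z, lam_sq K⟩
  have htt : cj (g * g) C.t = C.t := by
    rw [← cj_cj, h.t, cj_mul, h.t, h.z, mul_assoc, lam_sq, mul_one]
  obtain ⟨x, hx, hgx⟩ := exists_L (cj_eq_iff.1 htt)
  have hfx : ∀ k < 64, Sp.fN k 1 = false → Sp.fN k 2 = false → cd K x k = k := by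
    intro k hk h1 h2
    apply fix_of_commute K hk
    rw [← cj_eq_iff, ← hx _ (ww_mem K _), ← cj_cj, hf k hk h1 h2, hf k hk h1 h2]
  have hyy : ∀ ys : List ℕ, cj g (ww K ys) = ww K ys * ww K ks → Commute x (w K ys) := by
    intro ys e
    apply coe_commute.1
    change Commute (x : G) (ww K ys)
    rw [← cj_eq_iff, ← hx _ (ww_mem K _), ← cj_cj, e, cj_mul, e, hkf.1, mul_assoc, hkf.2, mul_one]
  have hx2 := Zlam K (hfx 1 (by norm_num) (by decide) (by decide)) (hfx 2 (by norm_num) (by decide) (by decide))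
    (hfx 4 (by norm_num) (by decide) (by decide)) (hfx 32 (by norm_num) (by decide) (by decide))
    (hyy _ e1) (hyy _ e2)
  have hgg : cj g (g * g) = g * g := by unfold cj; group
  have ht : C.t * ww K [1, 2, 3] ≠ C.t := by
    intro h1
    exact lam_ne_one K (mul_left_cancel (h1.trans (mul_one _).symm))
  have hcase : g * g = 1 ∨ g * g = ww K [1, 2, 3] := by
    rcases hgx with e | e <;> rcases hx2 with e' | e'
    · left; rw [e, e']; rfl
    · right; rw [e, e']; rfl
    · exfalso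
      have e3 : g * g = C.t := by rw [e, e']; exact mul_one _
      rw [e3, h.t] at hgg
      exact ht hgg
    · exfalso
      have e3 : g * g = C.t * ww K [1, 2, 3] := by rw [e, e']; rfl
      rw [e3, cj_mul, h.t, h.z, mul_assoc, lam_sq, mul_one] at hgg
      exact ht hgg.symm
  rcases hcase with e | e
  · exact ⟨g, e, h.t, hf, e1, e2⟩
  · refine ⟨g * C.t, ?_, ?_, ?_, ?_, ?_⟩
    · have h1 : g * C.t = C.t * ww K [1, 2, 3] * g := by
        have := h.t
        unfold cj at this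
        rw [← this]; group
      calc g * C.t * (g * C.t) = g * C.t * (C.t * ww K [1, 2, 3] * g) := by rw [h1]
        _ = g * (C.t * C.t) * (ww K [1, 2, 3] * g) := by group
        _ = g * (ww K [1, 2, 3] * g) := by rw [C.tt, mul_one]
        _ = g * (g * ww K [1, 2, 3]) := by
          have h2 := (cj_eq_iff.1 h.z).eq
          rw [h2]
        _ = g * g * ww K [1, 2, 3] := by group
        _ = 1 := by rw [e, lam_sq]
    · rw [← cj_cj, cj_eq_iff.2 (Commute.refl C.t), h.t]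
    · intro k hk h1 h2
      rw [← cj_cj, cj_t (ww_mem K _), hf k hk h1 h2]
    · rw [← cj_cj, cj_t (ww_mem K _), e1]
    · rw [← cj_cj, cj_t (ww_mem K _), e2]

theorem IsH.move {ks : List ℕ} {h : G} (hh : IsH K ks h) {K' : Coord C.S} {l : C.L}
    (hl : ∀ c, C.S.ρ l (vec K c) = vec K' c) : IsH K' ks (cj (l : G) h) := by
  have m : ∀ ls, cj (l : G) (ww K ls) = ww K' ls := fun ls => ww_move K hl ls
  have ht : cj (l : G) C.t = C.t := cj_eq_iff.2 (C.commute_of_mem l.2)
  refine ⟨cj_sq hh.sq _, ?_, ?_, ?_, ?_⟩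
  · conv_lhs => rw [← ht]
    rw [cj_comp, hh.t, cj_mul, ht, m]
  · intro k hk h1 h2
    rw [← m, cj_comp, hh.fix k hk h1 h2]
  · rw [← m, ← m, cj_comp, hh.y1, cj_mul]
  · rw [← m, ← m, cj_comp, hh.y2, cj_mul]

/-- the sign does not depend on the frame -/
theorem exists_all (H : All C) (K : Coord C.S) :
    (∀ K' : Coord C.S, ∃ h, IsH K' [] h) ∨ (∀ K' : Coord C.S, ∃ h, IsH K' [1, 2, 3] h) := by
  obtain ⟨ks, hks, h, hh⟩ := exists_isH K H
  have key : ∀ K' : Coord C.S, ∃ h, IsH K' ks h := by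
    intro K'
    obtain ⟨l, hl⟩ := exists_move K K'
    exact ⟨_, hh.move K hl⟩
  rcases hks with rfl | rfl
  · exact Or.inl key
  · exact Or.inr key

/-- with trivial sign, `h_λ` commutes with `C_L(λ)` -/
theorem IsH.comm {h : G} (hh : IsH K [] h) {x : C.L} (hx : Commute x (w K [1, 2, 3])) : Commute (x : G) h := by
  let P : Subgroup C.L := (Subgroup.centralizer {h}).comap C.L.subtype
  have hP : ∀ x : C.L, x ∈ P ↔ Commute (x : G) h := by
    intro x
    change (x : G) ∈ Subgroup.centralizer {h} ↔ _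
    rw [Subgroup.mem_centralizer_singleton_iff]
    exact Iff.rfl
  have hc : ∀ ks : List ℕ, cj h (ww K ks) = ww K ks → w K ks ∈ P := by
    intro ks e
    rw [hP]
    exact (cj_eq_iff.1 e).symm
  rw [← hP]
  apply genLam K (P := P) _ _ _ hx
  · intro k hk h1 h2
    rw [hP]
    have := (cj_eq_iff.1 (hh.fix k hk h1 h2)).symm
    rw [← b_eq] at this
    exact this
  · exact hc _ (by rw [hh.y1, ww_nil, mul_one])
  · exact hc _ (by rw [hh.y2, ww_nil, mul_one])

end Cfsg.Agent.StdSpSix.AllSwapD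
end

-- part: StdSpSix/AllNf
section
/-!
# Pattern `ALL`: normal forms of the swaps of `t` and `t b_u`, `u = vec K 1`

`Nf K X d y`: `t^y = t b_u`, `b_u^y = b_u`, `b_k^y = b_u^X b_k` for `k ∈ {2, 3, 16, 17, 4, 5, 32, 33}`,
`b_6^y = b_u^X b_{6 + d}`, `b_7^y = b_u^X b_{7 + d}`.
-/

set_option autoImplicit false
set_option maxHeartbeats 400000

namespace Cfsg.Agent.StdSpSix.AllNf

open Cfsg.Agent.StandardComponent.SpTwo
open Cfsg.Agent.SporRec.TwoSp6
open Cfsg.Agent.StdSpSix.Words Cfsg.Agent.StdSpSix.Model Cfsg.Agent.StdSpSix.AllCode Cfsg.Agent.StdSpSix.AllFacts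
open Cfsg.Agent.StdSpSix.AllFactsTwo Cfsg.Agent.StdSpSix.AllBase Cfsg.Agent.StdSpSix.AllSwapA
open Cfsg.Agent.StdSpSix.AllSwapB Cfsg.Agent.StdSpSix.AllSwapC Cfsg.Agent.StdSpSix.AllSwapD

variable {G V : Type*} [Group G] [AddCommGroup V] [Module (ZMod 2) V] {C : Ctx G V} {g : G}

/-- the word `b_u^X b_k` -/
def nfw (X : Bool) (k : ℕ) : List ℕ := if X then [1, k] else [k]

/-- normal form of a swap of `t` and `t b_u` -/
structure Nf (K : Coord C.S) (X d : Bool) (y : G) : Prop where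
  t : cj y C.t = C.t * ww K [1]
  b : cj y (ww K [1]) = ww K [1]
  v : ∀ k ∈ [2, 3, 16, 17, 4, 5, 32, 33], cj y (ww K [k]) = ww K (nfw X k)
  six : cj y (ww K [6]) = ww K (nfw X (if d then 7 else 6))
  seven : cj y (ww K [7]) = ww K (nfw X (if d then 6 else 7))

end Cfsg.Agent.StdSpSix.AllNf
end

-- part: StdSpSix/AllXDef
section
/-!
# Pattern `ALL`, `ε = 1`: the involutions `x_m = h_m b_m` and a swap `y` of `t` and `t b_u`

`XD K y x a`: `x_m² = 1`, `t^{x_m} = t λ_m`, `x_m` acts on `U` as `z ↦ z b^{(z, m)}`, `y` centralises `U`, `t^y = t b`,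
`x_m^y = b^{a m} x_m`, with `a 2 = a 16 = a 18 = a 4 ≠ a 6`.
-/

set_option autoImplicit false
set_option maxHeartbeats 400000

namespace Cfsg.Agent.StdSpSix.AllXDef

open Cfsg.Agent.StandardComponent.SpTwo
open Cfsg.Agent.SporRec.TwoSp6
open Cfsg.Agent.StdSpSix.Words Cfsg.Agent.StdSpSix.Model Cfsg.Agent.StdSpSix.AllCode Cfsg.Agent.StdSpSix.AllFacts
open Cfsg.Agent.StdSpSix.AllFactsTwo Cfsg.Agent.StdSpSix.AllBase Cfsg.Agent.StdSpSix.AllSwapA

variable {G V : Type*} [Group G] [AddCommGroup V] [Module (ZMod 2) V] {C : Ctx G V}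

/-- the seven points used -/
def ML : List ℕ := [2, 16, 18, 4, 6, 20, 22]

/-- the data on the 2-group generated by `U`, `t`, the `x_m` and `y` -/
structure XD (K : Coord C.S) (y : G) (x : ℕ → G) (a : ℕ → Bool) : Prop where
  yt : cj y C.t = C.t * ww K [1]
  yU : ∀ ks ∈ UL, cj y (ww K ks) = ww K ks
  sq : ∀ m ∈ ML, x m * x m = 1
  xt : ∀ m ∈ ML, cj (x m) C.t = C.t * ww K [1, m, m ^^^ 1]
  xb : ∀ m ∈ ML, cj (x m) (ww K [1]) = ww K [1]
  xU : ∀ m ∈ ML, ∀ n ∈ [2, 4, 16, 32], cj (x m) (ww K [1, n, n ^^^ 1]) =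
    ww K ([1, n, n ^^^ 1] ++ (if Sp.fN n m then [1] else []))
  yx : ∀ m ∈ ML, cj y (x m) = ww K (if a m then [1] else []) * x m
  a16 : a 16 = a 2
  a18 : a 18 = a 2
  a4 : a 4 = a 2
  a6 : a 6 = !a 2

end Cfsg.Agent.StdSpSix.AllXDef
end

private theorem dce_b30c8eb56f1c : _root_.True := by
  try have : _root_.True := by simp only [_root_.Cfsg.Agent.StdSpSix.AllFacts.F4.eq_1]
  try have : _root_.True := by simp only [_root_.Cfsg.Agent.StdSpSix.AllFacts.Y6.eq_1]
  exact _root_.True.intro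
end

-- part: StdSpSix/AllXFin
section
set_option linter.all false
open scoped Cfsg.Agent.FastGrp

-- part: StdSpSix/AllNfEx
section
/-!
# Pattern `ALL`: existence of a normal form of a swap of `t` and `t b_u`
-/

set_option autoImplicit false
set_option maxHeartbeats 400000

namespace Cfsg.Agent.StdSpSix.AllNfEx

open Cfsg.Agent.StandardComponent.SpTwo
open Cfsg.Agent.SporRec.TwoSp6
open Cfsg.Agent.StdSpSix.Words Cfsg.Agent.StdSpSix.Model Cfsg.Agent.StdSpSix.AllCode Cfsg.Agent.StdSpSix.AllFacts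
open Cfsg.Agent.StdSpSix.AllFactsTwo Cfsg.Agent.StdSpSix.AllBase Cfsg.Agent.StdSpSix.AllSwapA
open Cfsg.Agent.StdSpSix.AllSwapB Cfsg.Agent.StdSpSix.AllSwapC Cfsg.Agent.StdSpSix.AllSwapD
open Cfsg.Agent.StdSpSix.AllNf

variable {G V : Type*} [Group G] [AddCommGroup V] [Module (ZMod 2) V] {C : Ctx G V} {y : G} (K : Coord C.S)

/-- the double centraliser of `⟨b_1, b_2⟩` -/
theorem D8 {x : G} (hx : x ∈ C.L) (h : ∀ s ∈ C.L, s * s = 1 → Commute s (ww K [1]) → Commute s (ww K [2]) →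
    Commute x s) : ∃ ks ∈ L8, x = ww K ks := by
  have hk : ∀ k, k < 64 → eqB [k, k] [] = true → Sp.fN k 1 = false → Sp.fN k 2 = false →
      cd K (⟨x, hx⟩ : C.L) k = k := by
    intro k hk h1 h2 h3
    exact fix_of_commute K hk (h _ (ww_mem K [k]) (ww_sq K h1) ((single_commute K).2 h2) ((single_commute K).2 h3))
  obtain ⟨ks, hks, e⟩ := fixA K (hk 1 (by norm_num) (by decide +kernel) (by decide) (by decide))
    (hk 2 (by norm_num) (by decide +kernel) (by decide) (by decide))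
    (hk 4 (by norm_num) (by decide +kernel) (by decide) (by decide))
    (hk 32 (by norm_num) (by decide +kernel) (by decide) (by decide))
  exact ⟨ks, hks, congrArg Subtype.val e⟩

theorem DC_any {u : V} (hu : u ≠ 0) (hc : Commute (C.b u) (ww K [1, 2, 3])) : DC C (ww K [1, 2, 3]) (C.b u) := by
  obtain ⟨e, he, rfl⟩ := exists_vec K u
  rw [b_eq] at hc ⊢
  obtain ⟨h1, h2⟩ := (single_commute_lam K he).1 hc
  by_cases h4 : 4 ≤ e
  · exact DC_gen K he h1 h2 h4
  · have e0 : e ≠ 0 := by rintro rfl; exact hu (vec_zero K)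
    obtain ⟨K', e1, e2⟩ := reline K e0 (by omega)
    rw [← ww_single K e1, ← e2]
    exact DC_one K'

theorem commute_three {w : G} (hw : w ∈ C.L) (h1 : Commute w (ww K [1])) (h2 : Commute w (ww K [2])) :
    Commute w (ww K [3]) := by
  have e1 := fix_of_commute K (x := (⟨w, hw⟩ : C.L)) (k := 1) (by norm_num) h1
  have e2 := fix_of_commute K (x := (⟨w, hw⟩ : C.L)) (k := 2) (by norm_num) h2
  have e3 : cd K (⟨w, hw⟩ : C.L) 3 = 3 := cd_line K e1 e2
  rw [← fix_iff K (by norm_num)] at e3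
  have := coe_commute.2 e3
  change Commute w (C.b (vec K 3)) at this
  rwa [b_eq] at this

/-- candidates for the second generator -/
def cands (a b : List ℕ) : List (List ℕ) := [a, [1] ++ a, b, [1] ++ b, a ++ b, [1] ++ (a ++ b)]

theorem cands_spec : ∀ a ∈ L8, ∀ b ∈ L8, eqB a [] = false → eqB a [1] = false → eqB b [] = false →
    eqB b [1] = false → eqB (a ++ b) [] = false → eqB (a ++ b) [1] = false →
    ((cands a b).any fun c => eqB [2] c) = true := by decide +kernel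

theorem Rv_two {r u : V} (h : C.S.B r u = 0) : Rv C.S (C.S.τ r * C.S.τ u) (r + u) := by
  apply (Rv_tau r).mul_tau
  rw [C.S.hτ, C.S.symm, h, zero_smul, add_zero]

/-- `b_1 b_c` is not a transvection -/
theorem two_ne {c : ℕ} (hc : c < 64) (h1 : Sp.fN c 1 = false) (h0 : c ≠ 0) (hne : c ≠ 1) (r : V) :
    ww K [1, c] ≠ C.b r := by
  intro h
  have hB : C.S.B (vec K 1) (vec K c) = 0 := by rw [C.S.symm]; exact B_vec_zero K h1
  have h2 : ww K [1, c] = ((C.S.τ (vec K 1) * C.S.τ (vec K c) : C.L) : G) := by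
    rw [ww_cons, ← b_eq]; rfl
  have h3 := Rv_b_eq (Rv_two hB) (h2.symm.trans h)
  obtain ⟨K', f1, f2⟩ := exists_frame_two K (vec_ne_zero K (a := 1) (by norm_num) (by norm_num)) (vec_ne_zero K hc h0)
    (vec_ne K hc (by norm_num) hne) hB
  apply lam_ne_one K'
  rw [ww_line K f1 f2]
  have e : ww K [1, c, 1 ^^^ c] = ww K [1, c] * ww K [1 ^^^ c] := by rw [ww_mul]; rfl
  rw [e, h, h3, ← vec_xor, b_eq, ← b_eq]
  exact C.b_sq _

/-- the image of a transvection of `u^⊥` -/
theorem img_u (H : All C) (h : Sw C (ww K [1]) y) {k : ℕ} (hk : k < 64) (h1 : Sp.fN k 1 = false) (h0 : k ≠ 0)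
    (hne : k ≠ 1) :
    ∃ X c, c < 64 ∧ Sp.fN c 1 = false ∧ c ≠ 0 ∧ c ≠ 1 ∧ cj y (ww K [k]) = ww K (nfw X c) := by
  have hu : vec K 1 ≠ 0 := vec_ne_zero K (by norm_num) (by norm_num)
  obtain ⟨K', f1, f2⟩ := exists_frame_two K hu (vec_ne_zero K hk h0)
    (vec_ne K hk (by norm_num) hne) (by rw [C.S.symm]; exact B_vec_zero K h1)
  have z1 : ww K' [1] = ww K [1] := ww_single K f1
  have z2 : ww K' [2] = ww K [k] := ww_single K f2
  have zb : ww K [1] = C.b (vec K 1) := (b_eq K 1).symm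
  have zsq : ww K [1] * ww K [1] = 1 := by rw [zb]; exact C.b_sq _
  have hi := h.inv zsq
  have c21 : Commute (ww K' [2]) (ww K [1]) := by rw [← z1]; exact (single_commute K').2 (by decide)
  have c31 : Commute (ww K' [3]) (ww K [1]) := by rw [← z1]; exact (single_commute K').2 (by decide)
  have hsL := h.mem H (ww_mem K' [2]) (ww_sq K' (by decide +kernel)) c21
  have hs2 := cj_sq (ww_sq K' (ks := [2]) (by decide +kernel)) y
  have hsz := h.comm c21
  rw [← z2]
  set s := cj y (ww K' [2]) with hs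
  -- transport of the double centraliser
  have tr : ∀ x ∈ C.L, x * x = 1 → Commute x (ww K [1]) →
      (∀ w ∈ C.L, w * w = 1 → Commute w (ww K [1]) → Commute w s → Commute x w) →
      ∃ ks ∈ L8, x = cj y (ww K' ks) := by
    intro x hx hx2 hxz hxc
    obtain ⟨ks, hks, e⟩ := D8 K' (hi.mem H hx hx2 hxz) (by
      intro w hw hw2 hwz hw2'
      rw [z1] at hwz
      rw [← cj_commute_iff (g := y), cj_cj_inv]
      exact hxc _ (h.mem H hw hw2 hwz) (cj_sq hw2 y) (h.comm hwz) (cj_commute hw2' y))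
    exact ⟨ks, hks, by rw [← e, cj_cj_inv]⟩
  -- the third involution
  have h3L := h.mem H (ww_mem K' [3]) (ww_sq K' (by decide +kernel)) c31
  have h3c : ∀ w ∈ C.L, w * w = 1 → Commute w (ww K [1]) → Commute w s → Commute (cj y (ww K' [3])) w := by
    intro w hw hw2 hwz hws
    rw [← cj_commute_iff (g := y⁻¹), cj_inv_cj]
    have m := hi.mem H hw hw2 hwz
    have a1 : Commute (cj y⁻¹ w) (ww K' [1]) := by rw [z1]; exact hi.comm hwz
    have a2 : Commute (cj y⁻¹ w) (ww K' [2]) := by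
      have := cj_commute hws y⁻¹
      rwa [hs, cj_inv_cj] at this
    exact (commute_three K' m a1 a2).symm
  have kill4 : ¬ (cj y (ww K' [3]) = 1 ∨ cj y (ww K' [3]) = ww K [1] ∨ cj y (ww K' [3]) = s ∨
      cj y (ww K' [3]) = ww K [1] * s) := by
    rintro (e | e | e | e)
    · have : ww K' [3] = ww K' [] := by rw [ww_nil]; exact cj_inj (g := y) (by rw [e, cj_one])
      exact ww_ne K' (by decide) (by decide) ⟨8, by norm_num, by decide +kernel⟩ this
    · have : ww K' [3] = ww K' [1] := cj_inj (g := y) (by rw [e, z1, h.z])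
      exact ww_ne K' (by decide) (by decide) ⟨8, by norm_num, by decide +kernel⟩ this
    · have : ww K' [3] = ww K' [2] := cj_inj (g := y) e
      exact ww_ne K' (by decide) (by decide) ⟨8, by norm_num, by decide +kernel⟩ this
    · have e12 : ww K' [1, 2] = ww K' [1] * ww K' [2] := by rw [ww_mul]; rfl
      have : ww K' [3] = ww K' [1, 2] := cj_inj (g := y) (by rw [e, e12, cj_mul, z1, h.z])
      exact ww_ne K' (by decide) (by decide) ⟨8, by norm_num, by decide +kernel⟩ this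
  have s1 : s ≠ 1 := by
    intro e
    have : ww K' [2] = ww K' [] := by rw [ww_nil]; exact cj_inj (g := y) (by rw [← hs, e, cj_one])
    exact ww_ne K' (by decide) (by decide) ⟨16, by norm_num, by decide +kernel⟩ this
  have sz : s ≠ ww K [1] := by
    intro e
    have : ww K' [2] = ww K' [1] := cj_inj (g := y) (by rw [← hs, e, z1, h.z])
    exact ww_ne K' (by decide) (by decide) ⟨16, by norm_num, by decide +kernel⟩ this
  -- no `a2`
  have noa2 : ∀ K2 : Coord C.S, ¬ (s = ww K2 [1, 2, 3] ∨ s * ww K [1] = ww K2 [1, 2, 3]) := by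
    intro K2 hK2
    have hzs : Commute (ww K [1]) s := hsz.symm
    have hcz : Commute (C.b (vec K 1)) (ww K2 [1, 2, 3]) := by
      rw [← zb]
      rcases hK2 with e | e <;> rw [← e]
      · exact hzs
      · exact hzs.mul_right (Commute.refl _)
    have hd := DC_any K2 hu hcz
    rw [← zb] at hd
    rcases hd _ h3L (by
      intro w hw hw2 hwl hwz
      apply h3c w hw hw2 hwz
      rcases hK2 with e | e
      · rw [e]; exact hwl
      · have e' : s = ww K2 [1, 2, 3] * ww K [1] := by rw [← e, mul_assoc, zsq, mul_one]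
        rw [e']; exact hwl.mul_right hwz) with e | e | e | e
    · exact kill4 (Or.inl e)
    · exact kill4 (Or.inr (Or.inl e))
    · rcases hK2 with e' | e'
      · exact kill4 (Or.inr (Or.inr (Or.inl (e.trans e'.symm))))
      · exact kill4 (Or.inr (Or.inr (Or.inr (e.trans (e'.symm.trans hzs.eq.symm)))))
    · rcases hK2 with e' | e'
      · rw [← e'] at e; exact kill4 (Or.inr (Or.inr (Or.inr e)))
      · rw [← e', hsz.eq, ← mul_assoc, zsq, one_mul] at e
        exact kill4 (Or.inr (Or.inr (Or.inl e)))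
  have a2word : ∀ x : C.L, (∃ l, l * x * l⁻¹ = w K [1, 2, 3]) → ∃ K2 : Coord C.S, (x : G) = ww K2 [1, 2, 3] := by
    rintro x ⟨l, hl⟩
    obtain ⟨K2, hK2⟩ := exists_frame_conj K l⁻¹
    have h1 := w_move K hK2 [1, 2, 3]
    refine ⟨K2, ?_⟩
    have : x = w K2 [1, 2, 3] := by rw [← h1, ← hl]; group
    exact congrArg Subtype.val this
  rcases classify K (x := (⟨s, hsL⟩ : C.L)) (Subtype.ext hs2) (fun e => s1 (congrArg Subtype.val e)) with
    hl | ⟨r, hr, hrv⟩
  · obtain ⟨K2, e⟩ := a2word _ hl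
    exact (noa2 K2 (Or.inl e)).elim
  · have cz : Commute (C.S.τ (vec K 1)) (⟨s, hsL⟩ : C.L) := by
      apply coe_commute.1
      change Commute (C.b (vec K 1)) s
      rw [← zb]; exact hsz.symm
    have hfu : C.S.ρ (⟨s, hsL⟩ : C.L) (vec K 1) = vec K 1 := C.S.fix_of_τ_commute cz
    have hru : r ≠ vec K 1 := by
      rintro rfl
      have hR := hrv.mul_tau hfu
      rw [show vec K 1 + vec K 1 = 0 from by rw [← vec_xor]; exact vec_zero K] at hR
      have hv : (((⟨s, hsL⟩ : C.L) * C.S.τ (vec K 1) : C.L) : G) = s * ww K [1] := by rw [zb]; rfl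
      rcases classify K (x := (⟨s, hsL⟩ : C.L) * C.S.τ (vec K 1)) (by
          apply Subtype.ext
          change s * C.b (vec K 1) * (s * C.b (vec K 1)) = 1
          rw [← zb]
          calc s * ww K [1] * (s * ww K [1]) = s * (ww K [1] * s) * ww K [1] := by group
            _ = (s * s) * (ww K [1] * ww K [1]) := by rw [← hsz.eq]; group
            _ = 1 := by rw [hs2, zsq, one_mul]) (by
          intro e
          apply sz
          have e2 : s * ww K [1] = 1 := by rw [← hv, e]; rfl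
          calc s = s * ww K [1] * ww K [1] := by rw [mul_assoc, zsq, mul_one]
            _ = ww K [1] := by rw [e2, one_mul]) with hl | ⟨r', hr', hrv'⟩
      · obtain ⟨K2, e⟩ := a2word _ hl
        rw [hv] at e
        exact noa2 K2 (Or.inr e)
      · exact hr' (hrv'.unique hR)
    have hBru : C.S.B r (vec K 1) = 0 := by
      rw [← C.b_commute_iff]
      have h2 : C.S.ρ (C.S.τ (vec K 1)) r = r := hrv.fix cz
      exact (coe_commute.2 (C.S.τ_commute_of_fix h2))
    have hBru' : C.S.B (vec K 1) r = 0 := by rw [C.S.symm]; exact hBru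
    -- the two transvections
    have t1 := tr (C.b r) (C.b_mem r) (C.b_sq r) (by rw [zb, C.b_commute_iff]; exact hBru) (by
      intro w hw hw2 hwz hws
      exact coe_commute.2 (C.S.τ_commute_of_fix (hrv.fix (g := (⟨w, hw⟩ : C.L)) (coe_commute.1 hws))))
    have t2 := tr (C.b (r + vec K 1)) (C.b_mem _) (C.b_sq _) (by
        rw [zb, C.b_commute_iff, map_add, LinearMap.add_apply, hBru, zero_add]; exact C.S.alt _) (by
      intro w hw hw2 hwz hws
      have e1 : C.S.ρ (⟨w, hw⟩ : C.L) r = r := hrv.fix (coe_commute.1 hws)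
      have e2 : C.S.ρ (⟨w, hw⟩ : C.L) (vec K 1) = vec K 1 := by
        apply C.S.fix_of_τ_commute
        apply coe_commute.1
        change Commute (C.b (vec K 1)) w
        rw [← zb]; exact hwz.symm
      have e3 : C.S.ρ (⟨w, hw⟩ : C.L) (r + vec K 1) = r + vec K 1 := by rw [map_add, e1, e2]
      exact coe_commute.2 (C.S.τ_commute_of_fix e3))
    obtain ⟨a, ha, ea⟩ := t1
    obtain ⟨b, hb, eb⟩ := t2
    have hru0 : r + vec K 1 ≠ 0 := by
      intro e
      exact hru (eq_of_add _ _ e)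
    have hneu : r + vec K 1 ≠ vec K 1 := by
      intro e
      exact hr (by simpa using e)
    -- `b_r b_{r+u} ≠ b_u`
    obtain ⟨c, hc, rfl⟩ := exists_vec K r
    have hcf : Sp.fN c 1 = false := fN_of_zero K hBru
    have hc0 : c ≠ 0 := by rintro rfl; exact hr (vec_zero K)
    have hc1 : c ≠ 1 := by rintro rfl; exact hru rfl
    have hbb : C.b (vec K c) * C.b (vec K c + vec K 1) ≠ ww K [1] := by
      intro e
      apply two_ne K hc hcf hc0 hc1 (vec K c + vec K 1)
      have hcc : Commute (C.b (vec K c)) (ww K [1]) := by rw [zb, C.b_commute_iff]; exact hBru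
      calc ww K [1, c] = ww K [1] * C.b (vec K c) := by rw [ww_cons, b_eq, b_eq]
        _ = C.b (vec K c) * ww K [1] := hcc.eq.symm
        _ = C.b (vec K c) * (C.b (vec K c) * C.b (vec K c + vec K 1)) := by rw [e]
        _ = C.b (vec K c + vec K 1) := by rw [← mul_assoc, C.b_sq, one_mul]
    have hbb1 : C.b (vec K c) * C.b (vec K c + vec K 1) ≠ 1 := by
      intro e
      apply hneu
      have e1 : C.b (vec K c) = C.b (vec K c + vec K 1) := by
        calc C.b (vec K c) = C.b (vec K c) * (C.b (vec K c + vec K 1) * C.b (vec K c + vec K 1)) := by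
              rw [C.b_sq, mul_one]
          _ = C.b (vec K c + vec K 1) := by rw [← mul_assoc, e, one_mul]
      have e2 := C.b_inj e1
      have : vec K 1 = 0 := by
        have := e2.symm
        simpa using this
      exact absurd this hu
    have eq1 : ∀ ks : List ℕ, eqB ks [] = true → cj y (ww K' ks) = 1 := by
      intro ks e; rw [ww_one K' e, cj_one]
    have eq2 : ∀ ks : List ℕ, eqB ks [1] = true → cj y (ww K' ks) = ww K [1] := by
      intro ks e; rw [ww_eq K' e, z1, h.z]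
    have fls : ∀ b : Bool, (b = true → False) → b = false := by intro b; cases b <;> simp
    have eab : C.b (vec K c) * C.b (vec K c + vec K 1) = cj y (ww K' (a ++ b)) := by
      rw [ea, eb, ← cj_mul, ww_mul]
    have hcand := cands_spec a ha b hb
      (fls _ fun e => b_ne_one hr (ea.trans (eq1 a e)))
      (fls _ fun e => hru (C.b_inj ((ea.trans (eq2 a e)).trans zb)))
      (fls _ fun e => b_ne_one hru0 (eb.trans (eq1 b e)))
      (fls _ fun e => hneu (C.b_inj ((eb.trans (eq2 b e)).trans zb)))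
      (fls _ fun e => hbb1 (eab.trans (eq1 _ e)))
      (fls _ fun e => hbb (eab.trans (eq2 _ e)))
    rw [List.any_eq_true] at hcand
    obtain ⟨ks, hks, hB⟩ := hcand
    have hsk : s = cj y (ww K' ks) := by rw [hs, ww_eq K' hB]
    have e1 : ∀ ls : List ℕ, cj y (ww K' ([1] ++ ls)) = ww K [1] * cj y (ww K' ls) := by
      intro ls; rw [← ww_mul, cj_mul, z1, h.z]
    -- comparison of the canonical vectors
    have cmp : ∀ (x : C.L) (r' : V), (x : G) = s → Rv C.S x r' → vec K c = r' := by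
      intro x r' hx hR
      have : x = (⟨s, hsL⟩ : C.L) := Subtype.ext hx
      subst this
      exact hrv.unique hR
    have uu : vec K 1 + vec K 1 = 0 := by rw [← vec_xor]; exact vec_zero K
    have hB1 : C.S.B (vec K c) (vec K c + vec K 1) = 0 := by rw [map_add, C.S.alt, hBru, zero_add]
    simp only [cands, List.mem_cons, List.not_mem_nil, or_false] at hks
    rcases hks with rfl | rfl | rfl | rfl | rfl | rfl
    · refine ⟨false, c, hc, hcf, hc0, hc1, ?_⟩
      rw [hsk, ← ea, b_eq]; rfl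
    · exfalso
      have hx : ((C.S.τ (vec K 1) * C.S.τ (vec K c) : C.L) : G) = s := by
        rw [hsk, e1, ← ea, zb]; rfl
      have := cmp _ _ hx (Rv_two hBru')
      exact hu (by simpa using this)
    · exfalso
      have hx : ((C.S.τ (vec K c + vec K 1) : C.L) : G) = s := by
        rw [hsk, ← eb]; rfl
      have := cmp _ _ hx (Rv_tau _)
      exact hu (by simpa using this)
    · refine ⟨true, c ^^^ 1, xor_lt hc (by norm_num), ?_, ?_, ?_, ?_⟩
      · apply fN_of_zero K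
        rw [vec_xor, map_add, LinearMap.add_apply, hBru, C.S.alt, zero_add]
      · intro e
        have : c = 1 := by simpa using Nat.xor_eq_zero_iff.1 e
        exact hc1 this
      · intro e
        apply hc0
        have : c ^^^ 1 ^^^ 1 = 1 ^^^ 1 := by rw [e]
        rwa [Nat.xor_assoc, Nat.xor_self, Nat.xor_zero] at this
      · rw [hsk, e1, ← eb]
        have e12 : ww K [1, c ^^^ 1] = ww K [1] * ww K [c ^^^ 1] := by rw [ww_mul]; rfl
        change _ = ww K [1, c ^^^ 1]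
        rw [e12, ← b_eq K (c ^^^ 1), vec_xor]
    · exfalso
      have hx : ((C.S.τ (vec K c) * C.S.τ (vec K c + vec K 1) : C.L) : G) = s := by
        rw [hsk, ← eab]; rfl
      have h4 := cmp _ _ hx (Rv_two hB1)
      have h5 : vec K c + (vec K c + vec K 1) = vec K 1 := by
        rw [← add_assoc, ← vec_xor, Nat.xor_self, vec_zero, zero_add]
      exact hru (h4.trans h5)
    · exfalso
      have hx : ((C.S.τ (vec K c) * C.S.τ (vec K c + vec K 1) * C.S.τ (vec K 1) : C.L) : G) = s := by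
        rw [hsk, e1, ← eab]
        have hcc : Commute (ww K [1]) (C.b (vec K c) * C.b (vec K c + vec K 1)) := by
          rw [zb]
          apply Commute.mul_right
          · rw [C.b_commute_iff]; exact hBru'
          · rw [C.b_commute_iff, map_add, hBru', C.S.alt, zero_add]
        rw [hcc.eq, zb]; rfl
      have h6 : C.S.ρ (C.S.τ (vec K c) * C.S.τ (vec K c + vec K 1)) (vec K 1) = vec K 1 := by
        apply C.S.fix_of_τ_commute
        apply Commute.mul_right
        · exact C.S.τ_commute hBru'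
        · exact C.S.τ_commute (by rw [map_add, hBru', C.S.alt, zero_add])
      have h4 := cmp _ _ hx ((Rv_two hB1).mul_tau h6)
      have h5 : vec K c + (vec K c + vec K 1) + vec K 1 = 0 := by
        rw [← add_assoc, ← vec_xor, Nat.xor_self, vec_zero, zero_add, uu]
      exact hr (h4.trans h5)

end Cfsg.Agent.StdSpSix.AllNfEx
end

-- part: StdSpSix/AllNfFin
section
/-!
# Pattern `ALL`: existence of a normal form of a swap of `t` and `t b_u`, second part
-/

set_option autoImplicit false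
set_option maxHeartbeats 400000

namespace Cfsg.Agent.StdSpSix.AllNfFin

open Cfsg.Agent.StandardComponent.SpTwo
open Cfsg.Agent.SporRec.TwoSp6
open Cfsg.Agent.StdSpSix.Words Cfsg.Agent.StdSpSix.Model Cfsg.Agent.StdSpSix.AllCode Cfsg.Agent.StdSpSix.AllFacts
open Cfsg.Agent.StdSpSix.AllFactsTwo Cfsg.Agent.StdSpSix.AllBase Cfsg.Agent.StdSpSix.AllSwapA
open Cfsg.Agent.StdSpSix.AllSwapB Cfsg.Agent.StdSpSix.AllSwapC Cfsg.Agent.StdSpSix.AllSwapD
open Cfsg.Agent.StdSpSix.AllNf Cfsg.Agent.StdSpSix.AllNfEx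

variable {G V : Type*} [Group G] [AddCommGroup V] [Module (ZMod 2) V] {C : Ctx G V} {y : G} (K : Coord C.S)

theorem braid0 : (allB fun k => allB fun l => impB (Sp.fN k l) (wc [k, l] k == l)) = true := by
  rewrite [Fast.wc_fast, Fast.fN_fast]
  decide +kernel

theorem braid {k l : ℕ} (hk : k < 64) (hl : l < 64) (h : Sp.fN k l = true) : wc [k, l] k = l :=
  eq_of_beq (impB_spec (allB_spec (allB_spec braid0 hk) hl) h)

theorem type_aux {k l c c' : ℕ} (hk : k < 64) (hl : l < 64) (h : Sp.fN k l = true) (hc : c < 64) (hc' : c' < 64)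
    (h1 : Sp.fN c' 1 = false) (h0 : c' ≠ 0) (hne : c' ≠ 1) (e : cj y (ww K [k]) = ww K [c])
    (e' : cj y (ww K [l]) = ww K [1, c']) : False := by
  have hkl : ∀ k' ∈ [k, l], k' < 64 := by
    intro k' hk'
    simp only [List.mem_cons, List.not_mem_nil, or_false] at hk'
    rcases hk' with rfl | rfl
    · exact hk
    · exact hl
  have h2 : cj (ww K [k, l]) (ww K [k]) = ww K [l] := by rw [cj_ww K hkl hk, braid hk hl h]
  have hx : cj y (ww K [k, l]) = ww K [c, 1, c'] := by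
    have e1 : ww K [k, l] = ww K [k] * ww K [l] := by rw [ww_mul]; rfl
    rw [e1, cj_mul, e, e', ww_mul]; rfl
  have h3 : cj (ww K [c, 1, c']) (ww K [c]) = ww K [1, c'] := by
    rw [← hx, ← e, cj_comp, h2, e']
  rw [cj_ww K (by
    intro k' hk'
    simp only [List.mem_cons, List.not_mem_nil, or_false] at hk'
    rcases hk' with rfl | rfl | rfl
    · exact hc
    · norm_num
    · exact hc') hc, ← b_eq] at h3
  exact two_ne K hc' h1 h0 hne _ h3.symm

/-- the sign of two non-orthogonal transvections is the same -/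
theorem same_type {k l c c' : ℕ} {X X' : Bool} (hk : k < 64) (hl : l < 64) (h : Sp.fN k l = true) (hc : c < 64)
    (hc' : c' < 64) (p : Sp.fN c 1 = false ∧ c ≠ 0 ∧ c ≠ 1) (p' : Sp.fN c' 1 = false ∧ c' ≠ 0 ∧ c' ≠ 1)
    (e : cj y (ww K [k]) = ww K (nfw X c)) (e' : cj y (ww K [l]) = ww K (nfw X' c')) : X = X' := by
  cases X <;> cases X'
  · rfl
  · exact (type_aux K hk hl h hc hc' p'.1 p'.2.1 p'.2.2 e e').elim
  · have h' : Sp.fN l k = true := by rw [fN_symm l hl k hk]; exact h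
    exact (type_aux K hl hk h' hc' hc p.1 p.2.1 p.2.2 e' e).elim
  · rfl

theorem comm_cancel {z a b : G} (hz : z * z = 1) (hzb : Commute z b) : Commute (z * a) b ↔ Commute a b := by
  constructor
  · intro h
    have h1 := hzb.mul_left h
    rwa [← mul_assoc, hz, one_mul] at h1
  · intro h
    exact hzb.mul_left h

theorem nfw_true (c : ℕ) : ww K (nfw true c) = ww K [1] * ww K [c] := by
  change ww K [1, c] = _
  rw [ww_mul]; rfl

theorem nfw_false (c : ℕ) : ww K (nfw false c) = ww K [c] := rfl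

theorem z_sq : ww K [1] * ww K [1] = 1 := by rw [← b_eq]; exact C.b_sq _

theorem nf_commute {X X' : Bool} {c c' : ℕ} (hc : c < 64) (hc' : c' < 64) (h : Sp.fN c 1 = false)
    (h' : Sp.fN c' 1 = false) :
    Commute (ww K (nfw X c)) (ww K (nfw X' c')) ↔ Sp.fN c c' = false := by
  have zc : Commute (ww K [1]) (ww K [c]) := by
    rw [single_commute, fN_symm 1 (by norm_num) c hc]; exact h
  have zc' : Commute (ww K [1]) (ww K [c']) := by
    rw [single_commute, fN_symm 1 (by norm_num) c' hc']; exact h'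
  have sym : ∀ a b : G, Commute a b ↔ Commute b a := fun a b => ⟨fun h => h.symm, fun h => h.symm⟩
  cases X <;> cases X'
  · rw [nfw_false, nfw_false, single_commute]
  · rw [nfw_false, nfw_true, sym, comm_cancel (z_sq K) zc, sym, single_commute]
  · rw [nfw_false, nfw_true, comm_cancel (z_sq K) zc', single_commute]
  · rw [nfw_true, nfw_true, comm_cancel (z_sq K) ((Commute.refl _).mul_right zc'), sym,
      comm_cancel (z_sq K) zc, sym, single_commute]

theorem cj_nf {p : List ℕ} (hp : pB [1] p = true) {X : Bool} {c : ℕ} (hc : c < 64) :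
    cj (ww K p) (ww K (nfw X c)) = ww K (nfw X (wc p c)) := by
  have h1 : cj (ww K p) (ww K [1]) = ww K [1] := by
    rw [cj_ww K (pB_lt hp) (by norm_num), wc_fix hp (by simp) 1 (by simp)]
  cases X
  · rw [nfw_false, nfw_false, cj_ww K (pB_lt hp) hc]
  · rw [nfw_true, nfw_true, cj_mul, h1, cj_ww K (pB_lt hp) hc]

theorem Sw.word (h : Sw C (ww K [1]) y) {p : List ℕ} (hp : pB [1] p = true) : Sw C (ww K [1]) (ww K p * y) := by
  apply h.mul_left (ww_t K p)
  rw [← cj_eq_iff, cj_ww K (pB_lt hp) (by norm_num), wc_fix hp (by simp) 1 (by simp)]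

/-- the orthogonality relations are preserved -/
theorem fN_img {k l c c' : ℕ} {X X' : Bool} (hc : c < 64) (hc' : c' < 64) (p : Sp.fN c 1 = false)
    (p' : Sp.fN c' 1 = false) (e : cj y (ww K [k]) = ww K (nfw X c)) (e' : cj y (ww K [l]) = ww K (nfw X' c')) :
    Sp.fN c c' = Sp.fN k l := by
  have h1 : Commute (ww K (nfw X c)) (ww K (nfw X' c')) ↔ Commute (ww K [k]) (ww K [l]) := by
    rw [← e, ← e', cj_commute_iff]
  rw [nf_commute K hc hc' p p', single_commute] at h1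
  cases h2 : Sp.fN c c' <;> cases h3 : Sp.fN k l <;> simp [h2, h3] at h1 ⊢

theorem T_one : ∀ T ∈ [T1, T2, T3, T4], ∀ ks ∈ T, pB [1] ks = true := by decide +kernel

theorem exists_base (H : All C) : ∃ y, Sw C (ww K [1]) y ∧ (∃ X, cj y (ww K [2]) = ww K (nfw X 2)) ∧
    (∃ X, cj y (ww K [16]) = ww K (nfw X 16)) ∧ (∃ X, cj y (ww K [4]) = ww K (nfw X 4)) ∧
    (∃ X, cj y (ww K [32]) = ww K (nfw X 32)) := by
  obtain ⟨y, hyt, hyb⟩ := exists_swap_b K H
  have h : Sw C (ww K [1]) y := ⟨hyt, hyb⟩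
  -- a step
  have step : ∀ (y : G), Sw C (ww K [1]) y → ∀ (p : List ℕ), pB [1] p = true → ∀ (k c : ℕ) (X : Bool), c < 64 →
      cj y (ww K [k]) = ww K (nfw X c) → cj (ww K p * y) (ww K [k]) = ww K (nfw X (wc p c)) := by
    intro y _ p hp k c X hc e
    rw [← cj_cj, e, cj_nf K hp hc]
  -- 2
  obtain ⟨X2, a, ha, a1, a0, an, ea⟩ := img_u K H h (k := 2) (by norm_num) (by decide) (by norm_num) (by norm_num)
  obtain ⟨p1, m1, w1⟩ := dT1 a ha a1 a0 an
  have q1 := T_one T1 (by simp) p1 m1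
  have e2 := step y h p1 q1 2 a X2 ha ea
  rw [w1] at e2
  have h1 := Sw.word K h q1
  clear ea
  generalize ww K p1 * y = y1 at e2 h1
  -- 16
  obtain ⟨X16, b, hb, b1, b0, bn, eb⟩ := img_u K H h1 (k := 16) (by norm_num) (by decide) (by norm_num) (by norm_num)
  have fb := fN_img K hb (show (2 : ℕ) < 64 by norm_num) b1 (by decide) eb e2
  obtain ⟨p2, m2, w2⟩ := dT2 b hb b1 (by rw [fb]; decide)
  have q2 := T_one T2 (by simp) p2 m2
  have f2 := wc_fix (dT2' p2 m2) (by intro l hl; simp only [List.mem_cons, List.not_mem_nil, or_false] at hl; omega)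
  have e2' := step y1 h1 p2 q2 2 2 X2 (by norm_num) e2
  rw [f2 2 (by decide)] at e2'
  have e16 := step y1 h1 p2 q2 16 b X16 hb eb
  rw [w2] at e16
  have h2 := Sw.word K h1 q2
  clear eb e2 h1
  generalize ww K p2 * y1 = y2 at e2' e16 h2
  -- 4
  obtain ⟨X4, c, hc, c1, c0, cn, ec⟩ := img_u K H h2 (k := 4) (by norm_num) (by decide) (by norm_num) (by norm_num)
  have fc2 := fN_img K hc (show (2 : ℕ) < 64 by norm_num) c1 (by decide) ec e2'
  have fc16 := fN_img K hc (show (16 : ℕ) < 64 by norm_num) c1 (by decide) ec e16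
  obtain ⟨p3, m3, w3⟩ := dT3 c hc (by
    unfold qB
    rw [show Sp.fN 4 2 = false from by decide] at fc2
    rw [show Sp.fN 4 16 = false from by decide] at fc16
    simp [c1, fc2, fc16]) c0 cn
  have q3 := T_one T3 (by simp) p3 m3
  have f3 := wc_fix (dT3' p3 m3) (by intro l hl; simp only [List.mem_cons, List.not_mem_nil, or_false] at hl; omega)
  have e2'' := step y2 h2 p3 q3 2 2 X2 (by norm_num) e2'
  rw [f3 2 (by decide)] at e2''
  have e16' := step y2 h2 p3 q3 16 16 X16 (by norm_num) e16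
  rw [f3 16 (by decide)] at e16'
  have e4 := step y2 h2 p3 q3 4 c X4 hc ec
  rw [w3] at e4
  have h3 := Sw.word K h2 q3
  clear ec e2' e16 h2
  generalize ww K p3 * y2 = y3 at e2'' e16' e4 h3
  -- 32
  obtain ⟨X32, d, hd, d1, d0, dn, ed⟩ := img_u K H h3 (k := 32) (by norm_num) (by decide) (by norm_num) (by norm_num)
  have fd2 := fN_img K hd (show (2 : ℕ) < 64 by norm_num) d1 (by decide) ed e2''
  have fd16 := fN_img K hd (show (16 : ℕ) < 64 by norm_num) d1 (by decide) ed e16'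
  have fd4 := fN_img K hd (show (4 : ℕ) < 64 by norm_num) d1 (by decide) ed e4
  obtain ⟨p4, m4, w4⟩ := dT4 d hd (by
    unfold qB
    rw [show Sp.fN 32 2 = false from by decide] at fd2
    rw [show Sp.fN 32 16 = false from by decide] at fd16
    rw [show Sp.fN 32 4 = true from by decide] at fd4
    simp [d1, fd2, fd16, fd4])
  have q4 := T_one T4 (by simp) p4 m4
  have f4 := wc_fix (dT4' p4 m4) (by intro l hl; simp only [List.mem_cons, List.not_mem_nil, or_false] at hl; omega)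
  refine ⟨ww K p4 * y3, Sw.word K h3 q4, ⟨X2, ?_⟩, ⟨X16, ?_⟩, ⟨X4, ?_⟩, ⟨X32, ?_⟩⟩
  · have := step y3 h3 p4 q4 2 2 X2 (by norm_num) e2''
    rwa [f4 2 (by decide)] at this
  · have := step y3 h3 p4 q4 16 16 X16 (by norm_num) e16'
    rwa [f4 16 (by decide)] at this
  · have := step y3 h3 p4 q4 4 4 X4 (by norm_num) e4
    rwa [f4 4 (by decide)] at this
  · have := step y3 h3 p4 q4 32 d X32 hd ed
    rwa [w4] at this

theorem near0 : (allB fun k => allB fun c => impB (!Sp.fN k 1 && !Sp.fN c 1 && (Sp.fN c 2 == Sp.fN k 2) &&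
    (Sp.fN c 16 == Sp.fN k 16) && (Sp.fN c 4 == Sp.fN k 4) && (Sp.fN c 32 == Sp.fN k 32))
    ((c == k) || (c == k ^^^ 1))) = true := by decide +kernel

theorem near {k c : ℕ} (hk : k < 64) (hc : c < 64) (h1 : Sp.fN k 1 = false) (h1' : Sp.fN c 1 = false)
    (h2 : Sp.fN c 2 = Sp.fN k 2) (h16 : Sp.fN c 16 = Sp.fN k 16) (h4 : Sp.fN c 4 = Sp.fN k 4)
    (h32 : Sp.fN c 32 = Sp.fN k 32) : c = k ∨ c = k ^^^ 1 := by
  have := impB_spec (allB_spec (allB_spec near0 hk) hc) (by
    rw [h1, h1', h2, h16, h4, h32]; simp)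
  simpa using this

theorem exists_nf (H : All C) : ∃ X d y, Nf K X d y := by
  obtain ⟨y, h, ⟨X2, e2⟩, ⟨X16, e16⟩, ⟨X4, e4⟩, ⟨X32, e32⟩⟩ := exists_base K H
  have gen : ∀ k < 64, Sp.fN k 1 = false → k ≠ 0 → k ≠ 1 → ∃ X c, (c = k ∨ c = k ^^^ 1) ∧ c < 64 ∧
      (Sp.fN c 1 = false ∧ c ≠ 0 ∧ c ≠ 1) ∧ cj y (ww K [k]) = ww K (nfw X c) := by
    intro k hk h1 h0 hn
    obtain ⟨X, c, hc, c1, c0, cn, e⟩ := img_u K H h hk h1 h0 hn
    refine ⟨X, c, near hk hc h1 c1 ?_ ?_ ?_ ?_, hc, ⟨c1, c0, cn⟩, e⟩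
    · exact fN_img K hc (by norm_num) c1 (by decide) e e2
    · exact fN_img K hc (by norm_num) c1 (by decide) e e16
    · exact fN_img K hc (by norm_num) c1 (by decide) e e4
    · exact fN_img K hc (by norm_num) c1 (by decide) e e32
  have inj : ∀ {a b : ℕ} {ls : List ℕ}, a < 64 → b < 64 → cj y (ww K [a]) = ww K ls → cj y (ww K [b]) = ww K ls →
      a = b := fun ha hb e e' => single_inj K ha hb (cj_inj (e.trans e'.symm))
  have p : ∀ k ∈ [2, 3, 16, 17, 4, 5, 32, 33, 6, 7], k < 64 ∧ Sp.fN k 1 = false ∧ k ≠ 0 ∧ k ≠ 1 := by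
    decide +kernel
  have st : ∀ {k l : ℕ} {X X' : Bool} {c c' : ℕ}, k ∈ [2, 3, 16, 17, 4, 5, 32, 33, 6, 7] →
      l ∈ [2, 3, 16, 17, 4, 5, 32, 33, 6, 7] → Sp.fN k l = true → c < 64 → c' < 64 →
      (Sp.fN c 1 = false ∧ c ≠ 0 ∧ c ≠ 1) → (Sp.fN c' 1 = false ∧ c' ≠ 0 ∧ c' ≠ 1) →
      cj y (ww K [k]) = ww K (nfw X c) → cj y (ww K [l]) = ww K (nfw X' c') → X = X' := by
    intro k l X X' c c' hk hl hf hc hc' pc pc' e e'
    exact same_type K (p k hk).1 (p l hl).1 hf hc hc' pc pc' e e'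
  have x2 : X2 = X16 := st (by decide) (by decide) (by decide) (by norm_num) (by norm_num) (by decide) (by decide) e2 e16
  subst x2
  obtain ⟨X3, c3, n3, l3, p3, e3⟩ := gen 3 (by norm_num) (by decide) (by norm_num) (by norm_num)
  have x3 : X3 = X2 := st (by decide) (by decide) (by decide) l3 (by norm_num) p3 (by decide) e3 e16
  subst x3
  obtain ⟨X17, c17, n17, l17, p17, e17⟩ := gen 17 (by norm_num) (by decide) (by norm_num) (by norm_num)
  have x17 : X17 = X3 := st (by decide) (by decide) (by decide) l17 (by norm_num) p17 (by decide) e17 e2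
  subst x17
  obtain ⟨X6, c6, n6, l6, p6, e6⟩ := gen 6 (by norm_num) (by decide) (by norm_num) (by norm_num)
  have x6 : X6 = X17 := st (by decide) (by decide) (by decide) l6 (by norm_num) p6 (by decide) e6 e16
  subst x6
  obtain ⟨X7, c7, n7, l7, p7, e7⟩ := gen 7 (by norm_num) (by decide) (by norm_num) (by norm_num)
  have x7 : X7 = X6 := st (by decide) (by decide) (by decide) l7 (by norm_num) p7 (by decide) e7 e16
  subst x7
  have x32 : X32 = X7 := st (by decide) (by decide) (by decide) (by norm_num) l6 (by decide) p6 e32 e6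
  subst x32
  have x4 : X4 = X32 := st (by decide) (by decide) (by decide) (by norm_num) (by norm_num) (by decide) (by decide) e4 e32
  subst x4
  obtain ⟨X5, c5, n5, l5, p5, e5⟩ := gen 5 (by norm_num) (by decide) (by norm_num) (by norm_num)
  have x5 : X5 = X4 := st (by decide) (by decide) (by decide) l5 (by norm_num) p5 (by decide) e5 e32
  subst x5
  obtain ⟨X33, c33, n33, l33, p33, e33⟩ := gen 33 (by norm_num) (by decide) (by norm_num) (by norm_num)
  have x33 : X33 = X5 := st (by decide) (by decide) (by decide) l33 (by norm_num) p33 (by decide) e33 e4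
  subst x33
  -- the codes
  have d3 : c3 = 3 := by
    rcases n3 with h | h
    · exact h
    · exfalso
      have h' : c3 = 2 := h
      subst h'
      exact absurd (inj (by norm_num) (by norm_num) e3 e2) (by norm_num)
  have d17 : c17 = 17 := by
    rcases n17 with h | h
    · exact h
    · exfalso
      have h' : c17 = 16 := h
      subst h'
      exact absurd (inj (by norm_num) (by norm_num) e17 e16) (by norm_num)
  have d5 : c5 = 5 := by
    rcases n5 with h | h
    · exact h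
    · exfalso
      have h' : c5 = 4 := h
      subst h'
      exact absurd (inj (by norm_num) (by norm_num) e5 e4) (by norm_num)
  have d33 : c33 = 33 := by
    rcases n33 with h | h
    · exact h
    · exfalso
      have h' : c33 = 32 := h
      subst h'
      exact absurd (inj (by norm_num) (by norm_num) e33 e32) (by norm_num)
  subst d3 d17 d5 d33
  have hv : ∀ k ∈ [2, 3, 16, 17, 4, 5, 32, 33], cj y (ww K [k]) = ww K (nfw X33 k) := by
    intro k hk
    simp only [List.mem_cons, List.not_mem_nil, or_false] at hk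
    rcases hk with rfl | rfl | rfl | rfl | rfl | rfl | rfl | rfl
    · exact e2
    · exact e3
    · exact e16
    · exact e17
    · exact e4
    · exact e5
    · exact e32
    · exact e33
  have n6' : c6 = 6 ∨ c6 = 7 := n6
  have n7' : c7 = 7 ∨ c7 = 6 := n7
  rcases n6' with rfl | rfl
  · rcases n7' with rfl | rfl
    · exact ⟨X33, false, y, h.t, h.z, hv, e6, e7⟩
    · exact absurd (inj (by norm_num) (by norm_num) e6 e7) (by norm_num)
  · rcases n7' with rfl | rfl
    · exact absurd (inj (by norm_num) (by norm_num) e6 e7) (by norm_num)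
    · exact ⟨X33, true, y, h.t, h.z, hv, e6, e7⟩

end Cfsg.Agent.StdSpSix.AllNfFin
end

-- part: StdSpSix/AllXEx
section
/-!
# Pattern `ALL`, `ε = 1`: construction of the involutions `x_m`
-/

set_option autoImplicit false
set_option maxHeartbeats 400000

namespace Cfsg.Agent.StdSpSix.AllXEx

open Cfsg.Agent.StandardComponent.SpTwo
open Cfsg.Agent.SporRec.TwoSp6
open Cfsg.Agent.StdSpSix.Words Cfsg.Agent.StdSpSix.Model Cfsg.Agent.StdSpSix.AllCode Cfsg.Agent.StdSpSix.AllFacts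
open Cfsg.Agent.StdSpSix.AllFactsTwo Cfsg.Agent.StdSpSix.AllBase Cfsg.Agent.StdSpSix.AllSwapA
open Cfsg.Agent.StdSpSix.AllSwapB Cfsg.Agent.StdSpSix.AllSwapC Cfsg.Agent.StdSpSix.AllSwapD
open Cfsg.Agent.StdSpSix.AllNf Cfsg.Agent.StdSpSix.AllNfEx Cfsg.Agent.StdSpSix.AllNfFin Cfsg.Agent.StdSpSix.AllXDef

variable {G V : Type*} [Group G] [AddCommGroup V] [Module (ZMod 2) V] {C : Ctx G V} {y : G} (K : Coord C.S)

/-- `λ_n` -/
noncomputable def lam (n : ℕ) : G := ww K [1, n, n ^^^ 1]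

/-- `b^e` -/
noncomputable def bb (e : Bool) : G := ww K (if e then [1] else [])

theorem bb_false : bb K false = 1 := ww_nil K
theorem bb_true : bb K true = ww K [1] := rfl

theorem bb_mul (d e : Bool) : bb K d * bb K e = bb K (Bool.xor d e) := by
  cases d <;> cases e <;> simp [bb_false, bb_true, z_sq]

/-! ### `y` centralises `U` -/

/-- words for the elements of `U` in the five generators -/
def UW : List (List ℕ) := ([[], [1]] : List (List ℕ)).flatMap fun a => ([[], [1, 2, 3]] : List (List ℕ)).flatMap fun b =>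
  ([[], [1, 4, 5]] : List (List ℕ)).flatMap fun c => ([[], [1, 16, 17]] : List (List ℕ)).flatMap fun d =>
  ([[], [1, 32, 33]] : List (List ℕ)).map fun e => a ++ (b ++ (c ++ (d ++ e)))

theorem UW_spec : ∀ ks ∈ UL, (UW.any fun ls => eqB ks ls) = true := by decide +kernel

theorem yU_of_gen (h1 : cj y (ww K [1]) = ww K [1]) (h2 : cj y (ww K [1, 2, 3]) = ww K [1, 2, 3])
    (h4 : cj y (ww K [1, 4, 5]) = ww K [1, 4, 5]) (h16 : cj y (ww K [1, 16, 17]) = ww K [1, 16, 17])
    (h32 : cj y (ww K [1, 32, 33]) = ww K [1, 32, 33]) : ∀ ks ∈ UL, cj y (ww K ks) = ww K ks := by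
  intro ks hks
  have hs := UW_spec ks hks
  rw [List.any_eq_true] at hs
  obtain ⟨ls, hls, he⟩ := hs
  rw [ww_eq K he]
  have h0 : cj y (ww K []) = ww K [] := by rw [ww_nil, cj_one]
  have ap : ∀ a b : List ℕ, cj y (ww K a) = ww K a → cj y (ww K b) = ww K b → cj y (ww K (a ++ b)) = ww K (a ++ b) := by
    intro a b ha hb
    rw [← ww_mul, cj_mul, ha, hb]
  unfold UW at hls
  simp only [List.mem_flatMap, List.mem_map] at hls
  obtain ⟨a, ha, b, hb, c, hc, d, hd, e, he', rfl⟩ := hls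
  have two : ∀ g a : List ℕ, cj y (ww K g) = ww K g → a ∈ [[], g] → cj y (ww K a) = ww K a := by
    intro g a hg ha
    simp only [List.mem_cons, List.not_mem_nil, or_false] at ha
    rcases ha with rfl | rfl
    · exact h0
    · exact hg
  exact ap _ _ (two _ _ h1 ha) (ap _ _ (two _ _ h2 hb) (ap _ _ (two _ _ h4 hc) (ap _ _ (two _ _ h16 hd)
    (two _ _ h32 he'))))

/-- `b_n` to `b b_n`, `b_{n+1}` to `b b_{n+1}`, so `λ_n` is fixed -/
theorem lam_fixed {n : ℕ} (hn : n < 64) (p : Sp.fN n 1 = false) (hb : cj y (ww K [1]) = ww K [1])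
    (h1 : cj y (ww K [n]) = ww K (nfw true n)) (h2 : cj y (ww K [n ^^^ 1]) = ww K (nfw true (n ^^^ 1))) :
    cj y (lam K n) = lam K n := by
  have e : lam K n = ww K [1] * (ww K [n] * ww K [n ^^^ 1]) := by
    unfold lam; rw [ww_mul, ww_mul]; rfl
  have zc : Commute (ww K [1]) (ww K [n]) := by
    rw [single_commute, fN_symm 1 (by norm_num) n hn]; exact p
  rw [e, cj_mul, cj_mul, hb, h1, h2, nfw_true, nfw_true]
  congr 1
  calc ww K [1] * ww K [n] * (ww K [1] * ww K [n ^^^ 1]) = ww K [1] * (ww K [n] * ww K [1]) * ww K [n ^^^ 1] := by group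
    _ = (ww K [1] * ww K [1]) * (ww K [n] * ww K [n ^^^ 1]) := by rw [← zc.eq]; group
    _ = _ := by rw [z_sq, one_mul]

/-! ### one involution -/

/-- an involution over `λ_m` -/
structure XM (K : Coord C.S) (y : G) (m : ℕ) (x : G) (a : Bool) : Prop where
  sq : x * x = 1
  t : cj x C.t = C.t * lam K m
  b : cj x (ww K [1]) = ww K [1]
  U : ∀ n < 64, Sp.fN n 1 = false → cj x (lam K n) = lam K n * bb K (Sp.fN n m)
  y : cj y x = bb K a * x

theorem bb_comm {x : G} (h : cj x (ww K [1]) = ww K [1]) (e : Bool) : Commute (bb K e) x := by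
  cases e
  · rw [bb_false]; exact Commute.one_left x
  · rw [bb_true]; exact (cj_eq_iff.1 h).symm

theorem cj_bb {x : G} (h : cj x (ww K [1]) = ww K [1]) (e : Bool) : cj x (bb K e) = bb K e :=
  cj_eq_iff.2 (bb_comm K h e).symm

theorem b_fix {v : ℕ} (p : Sp.fN v 1 = false) : cj (ww K [v]) (ww K [1]) = ww K [1] := by
  rw [cj_eq_iff, single_commute]; exact p

theorem xor_one0 : (allB fun v => allB fun n => impB (!Sp.fN v 1) (tc v (n ^^^ 1) == tc v n ^^^ 1)) = true := by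
  rewrite [Fast.tc_fast, Fast.fN_fast]
  decide +kernel

theorem tc_xor_one {v n : ℕ} (hv : v < 64) (hn : n < 64) (p : Sp.fN v 1 = false) : tc v (n ^^^ 1) = tc v n ^^^ 1 :=
  eq_of_beq (impB_spec (allB_spec (allB_spec xor_one0 hv) hn) (by rw [p]; rfl))

theorem lam_eq (n : ℕ) : lam K n = ww K [1] * (ww K [n] * ww K [n ^^^ 1]) := by
  unfold lam; rw [ww_mul, ww_mul]; rfl

theorem cj_lam {v n : ℕ} (hv : v < 64) (hn : n < 64) (p : Sp.fN v 1 = false) :
    cj (ww K [v]) (lam K n) = lam K (tc v n) := by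
  rw [lam_eq, lam_eq, cj_mul, cj_mul, b_fix K p, cj_single K hv hn, cj_single K hv (xor_lt hn (by norm_num)),
    tc_xor_one hv hn p]

theorem tc_facts0 : (allB fun v => allB fun n => impB (!Sp.fN v 1 && !Sp.fN n 1)
    (decide (tc v n < 64) && !Sp.fN (tc v n) 1 && (tc v (tc v n) == n))) = true := by
  rewrite [Fast.tc_fast, Fast.fN_fast]
  decide +kernel

theorem tc_facts {v n : ℕ} (hv : v < 64) (hn : n < 64) (p : Sp.fN v 1 = false) (q : Sp.fN n 1 = false) :
    tc v n < 64 ∧ Sp.fN (tc v n) 1 = false ∧ tc v (tc v n) = n := by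
  have h1 := impB_spec (allB_spec (allB_spec tc_facts0 hv) hn) (by rw [p, q]; rfl)
  simp only [Bool.and_eq_true, decide_eq_true_eq, Bool.not_eq_true', beq_iff_eq] at h1
  exact ⟨h1.1.1, h1.1.2, h1.2⟩

include K in
/-- the isometry property -/
theorem tc_fN (v n m : ℕ) (hv : v < 64) (hn : n < 64) (hm : m < 64) : Sp.fN (tc v n) m = Sp.fN n (tc v m) := by
  have h1 := cd_fN K (C.S.τ (vec K v)) n (tc v m)
  rw [cd_tau K hv hn, cd_tau K hv (by unfold tc; split_ifs; exact xor_lt hm hv; exact hm)] at h1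
  have h2 : tc v (tc v m) = m := by
    have h3 := cd_mul K (C.S.τ (vec K v)) (C.S.τ (vec K v)) m
    have h4 : C.S.τ (vec K v) * C.S.τ (vec K v) = 1 := C.S.τ_sq _
    rw [h4, cd_one K hm, cd_tau K hv hm, cd_tau K hv (by unfold tc; split_ifs; exact xor_lt hm hv; exact hm)] at h3
    exact h3.symm
  rwa [h2] at h1

/-- the step from `m` to `m + v` -/
theorem XM.step {m : ℕ} {x : G} {a : Bool} (h : XM K y m x a) (hm : m < 64) (pm : Sp.fN m 1 = false) {v : ℕ}
    (hv : v < 64) (pv : Sp.fN v 1 = false) (hvm : Sp.fN v m = true) {m' : ℕ} (hm' : tc v m = m') {g : Bool}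
    (hy : cj y (ww K [v]) = ww K (nfw true (if g then v ^^^ 1 else v))) :
    XM K y m' (cj (ww K [v]) x) (Bool.xor a g) := by
  subst hm'
  have ct : cj (ww K [v]) C.t = C.t := cj_eq_iff.2 (ww_t K [v])
  have cb := b_fix K pv
  refine ⟨cj_sq h.sq _, ?_, ?_, ?_, ?_⟩
  · conv_lhs => rw [← ct]
    rw [cj_comp, h.t, cj_mul, ct, cj_lam K hv hm pv]
  · conv_lhs => rw [← cb]
    rw [cj_comp, h.b, cb]
  · intro n hn pn
    obtain ⟨t1, t2, t3⟩ := tc_facts hv hn pv pn
    have e1 : lam K n = cj (ww K [v]) (lam K (tc v n)) := by rw [cj_lam K hv t1 pv, t3]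
    rw [e1, cj_comp, h.U _ t1 t2, cj_mul, cj_bb K cb, tc_fN K v n m hv hn hm]
  · have e1 : cj y (cj (ww K [v]) x) = cj (cj y (ww K [v])) (cj y x) := (cj_comp _ _ _).symm
    have cvb : Commute (ww K [v]) (ww K [1]) := cj_eq_iff.1 cb
    have xb := cj_eq_iff.1 h.b
    have hbx : cj (ww K [1]) x = x := cj_eq_iff.2 xb.symm
    rw [e1, h.y, hy, cj_mul]
    have key : ∀ w : G, Commute w (ww K [1]) → cj (ww K [1] * w) (bb K a) = bb K a := by
      intro w hw
      apply cj_bb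
      rw [← cj_cj, cj_eq_iff.2 hw, cj_eq_iff.2 (Commute.refl _)]
    cases g
    · simp only [Bool.false_eq_true, if_false]
      have c3 : Commute (ww K [1]) (cj (ww K [v]) x) := by
        have := cj_commute xb.symm (ww K [v])
        rwa [cb] at this
      rw [nfw_true, key _ cvb, ← cj_cj, Bool.xor_false, cj_eq_iff.2 c3]
    · simp only [if_true]
      -- `b_{v+1} = b_v (λ_v b)`
      have cv1 : Commute (ww K [v ^^^ 1]) (ww K [1]) := by
        rw [single_commute]
        have := tc_facts (v := 1) (n := v) (by norm_num) hv (by decide) pv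
        have t : ∀ v < 64, Sp.fN v 1 = false → Sp.fN (v ^^^ 1) 1 = false := by decide +kernel
        exact t v hv pv
      have esp : ww K [v ^^^ 1] = ww K [v] * (lam K v * ww K [1]) := by
        have t : ∀ v < 64, Sp.fN v 1 = false → eqB [v ^^^ 1] [v, 1, v, v ^^^ 1, 1] = true := by decide +kernel
        rw [ww_eq K (t v hv pv)]
        unfold lam
        rw [ww_mul, ww_mul]; rfl
      have hlx : cj (lam K v) x = ww K [1] * x := by
        have h2 := h.U v hv pv
        rw [hvm, bb_true] at h2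
        -- `x λ x = λ b`
        have hx : x⁻¹ = x := inv_of_sq h.sq
        have hl2 : lam K v * lam K v = 1 := by
          have t : ∀ v < 64, Sp.fN v 1 = false → eqB [1, v, v ^^^ 1, 1, v, v ^^^ 1] [] = true := by decide +kernel
          unfold lam
          rw [ww_mul]; exact ww_one K (t v hv pv)
        have hli : (lam K v)⁻¹ = lam K v := inv_of_sq hl2
        have hlb : Commute (lam K v) (ww K [1]) := by
          unfold lam
          have t : ∀ v < 64, Sp.fN v 1 = false → eqB ([1, v, v ^^^ 1] ++ [1]) ([1] ++ [1, v, v ^^^ 1]) = true := by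
            decide +kernel
          exact ww_commute K (t v hv pv)
        unfold cj at h2 ⊢
        rw [hx] at h2
        rw [hli]
        calc lam K v * x * lam K v = (lam K v * ww K [1]) * ww K [1] * x * lam K v := by
              rw [mul_assoc (lam K v) (ww K [1]) (ww K [1]), z_sq, mul_one]
          _ = x * lam K v * x * ww K [1] * x * lam K v := by rw [h2]
          _ = x * lam K v * (x * ww K [1]) * x * lam K v := by group
          _ = x * lam K v * (ww K [1] * x) * x * lam K v := by rw [xb.eq]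
          _ = x * lam K v * ww K [1] * (x * x) * lam K v := by group
          _ = x * (lam K v * ww K [1]) * lam K v := by rw [h.sq]; group
          _ = x * (ww K [1] * lam K v) * lam K v := by rw [hlb.eq]
          _ = x * ww K [1] * (lam K v * lam K v) := by group
          _ = ww K [1] * x := by rw [hl2, mul_one, xb.eq]
      rw [nfw_true, key _ cv1, ← cj_cj]
      have e2 : cj (ww K [v ^^^ 1]) x = ww K [1] * cj (ww K [v]) x := by
        rw [esp, ← cj_cj, ← cj_cj, hbx, hlx, cj_mul, cb]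
      have c3 : Commute (ww K [1]) (cj (ww K [v]) x) := by
        have := cj_commute xb.symm (ww K [v])
        rwa [cb] at this
      have e3 : bb K a * ww K [1] = bb K (Bool.xor a true) := by rw [← bb_true, bb_mul]
      rw [e2, cj_mul, cj_eq_iff.2 (Commute.refl (ww K [1])), cj_eq_iff.2 c3, ← mul_assoc, e3]

end Cfsg.Agent.StdSpSix.AllXEx
end

-- part: StdSpSix/AllXFin
section
/-!
# Pattern `ALL`, `ε = 1`: the data `XD`
-/

set_option autoImplicit false
set_option maxHeartbeats 400000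

namespace Cfsg.Agent.StdSpSix.AllXFin

open Cfsg.Agent.StandardComponent.SpTwo
open Cfsg.Agent.SporRec.TwoSp6
open Cfsg.Agent.StdSpSix.Words Cfsg.Agent.StdSpSix.Model Cfsg.Agent.StdSpSix.AllCode Cfsg.Agent.StdSpSix.AllFacts
open Cfsg.Agent.StdSpSix.AllFactsTwo Cfsg.Agent.StdSpSix.AllBase Cfsg.Agent.StdSpSix.AllSwapA
open Cfsg.Agent.StdSpSix.AllSwapB Cfsg.Agent.StdSpSix.AllSwapC Cfsg.Agent.StdSpSix.AllSwapD
open Cfsg.Agent.StdSpSix.AllNf Cfsg.Agent.StdSpSix.AllNfEx Cfsg.Agent.StdSpSix.AllNfFin Cfsg.Agent.StdSpSix.AllXDef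
open Cfsg.Agent.StdSpSix.AllXEx

variable {G V : Type*} [Group G] [AddCommGroup V] [Module (ZMod 2) V] {C : Ctx G V} {y h : G} (K : Coord C.S)

theorem nf_tc (hb : cj y (ww K [1]) = ww K [1]) {k l k' l' : ℕ} (hk : k < 64) (hl : l < 64) (hk' : k' < 64)
    (hl' : l' < 64) (pk : Sp.fN k' 1 = false) (pl : Sp.fN l' 1 = false) (e : cj y (ww K [k]) = ww K (nfw true k'))
    (e' : cj y (ww K [l]) = ww K (nfw true l')) : cj y (ww K [tc k l]) = ww K (nfw true (tc k' l')) := by
  have zl : ∀ {c : ℕ}, Sp.fN c 1 = false → cj (ww K [1]) (ww K [c]) = ww K [c] := by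
    intro c hc
    rw [cj_eq_iff]
    exact ((single_commute K).2 hc).symm
  have zz : cj (ww K [1]) (ww K [1]) = ww K [1] := cj_eq_iff.2 (Commute.refl _)
  obtain ⟨t1, t2, _⟩ := tc_facts hk' hl' pk pl
  rw [← cj_single K hk hl, ← cj_comp, e, e', nfw_true, nfw_true, nfw_true, ← cj_cj, cj_mul, b_fix K pk,
    cj_single K hk' hl', cj_mul, zz, zl t2]

/-- the values of `y` used -/
theorem Nf.table (hy : Nf K true true y) :
    cj y (ww K [20]) = ww K (nfw true 21) ∧ cj y (ww K [22]) = ww K (nfw true 23) ∧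
    cj y (ww K [48]) = ww K (nfw true 49) ∧ cj y (ww K [54]) = ww K (nfw true 55) := by
  have e6 : cj y (ww K [6]) = ww K (nfw true 7) := hy.six
  have e2 := hy.v 2 (by decide)
  have e16 := hy.v 16 (by decide)
  have e32 := hy.v 32 (by decide)
  have e4 := hy.v 4 (by decide)
  have e22 : cj y (ww K [22]) = ww K (nfw true 23) :=
    nf_tc K hy.b (k := 16) (l := 6) (k' := 16) (l' := 7) (by norm_num) (by norm_num) (by norm_num) (by norm_num)
      (by decide) (by decide) e16 e6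
  have e20 : cj y (ww K [20]) = ww K (nfw true 21) :=
    nf_tc K hy.b (k := 2) (l := 22) (k' := 2) (l' := 23) (by norm_num) (by norm_num) (by norm_num) (by norm_num)
      (by decide) (by decide) e2 e22
  have e52 : cj y (ww K [52]) = ww K (nfw true 53) :=
    nf_tc K hy.b (k := 32) (l := 20) (k' := 32) (l' := 21) (by norm_num) (by norm_num) (by norm_num) (by norm_num)
      (by decide) (by decide) e32 e20
  have e48 : cj y (ww K [48]) = ww K (nfw true 49) :=
    nf_tc K hy.b (k := 4) (l := 52) (k' := 4) (l' := 53) (by norm_num) (by norm_num) (by norm_num) (by norm_num)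
      (by decide) (by decide) e4 e52
  have e54 : cj y (ww K [54]) = ww K (nfw true 55) :=
    nf_tc K hy.b (k := 32) (l := 22) (k' := 32) (l' := 23) (by norm_num) (by norm_num) (by norm_num) (by norm_num)
      (by decide) (by decide) e32 e22
  exact ⟨e20, e22, e48, e54⟩

theorem Nf.lam (hy : Nf K true true y) : ∀ n ∈ [2, 4, 16, 32], cj y (lam K n) = lam K n := by
  intro n hn
  simp only [List.mem_cons, List.not_mem_nil, or_false] at hn
  rcases hn with rfl | rfl | rfl | rfl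
  · exact lam_fixed K (by norm_num) (by decide) hy.b (hy.v 2 (by decide)) (hy.v 3 (by decide))
  · exact lam_fixed K (by norm_num) (by decide) hy.b (hy.v 4 (by decide)) (hy.v 5 (by decide))
  · exact lam_fixed K (by norm_num) (by decide) hy.b (hy.v 16 (by decide)) (hy.v 17 (by decide))
  · exact lam_fixed K (by norm_num) (by decide) hy.b (hy.v 32 (by decide)) (hy.v 33 (by decide))

theorem Nf.yU (hy : Nf K true true y) : ∀ ks ∈ UL, cj y (ww K ks) = ww K ks :=
  yU_of_gen K hy.b (Nf.lam K hy 2 (by decide)) (Nf.lam K hy 4 (by decide)) (Nf.lam K hy 16 (by decide))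
    (Nf.lam K hy 32 (by decide))

theorem Nf.mul_t {X d : Bool} (hy : Nf K X d y) : Nf K X d (y * C.t) := by
  have e : ∀ ks, cj (y * C.t) (ww K ks) = cj y (ww K ks) := by
    intro ks; rw [← cj_cj, cj_t (ww_mem K _)]
  refine ⟨?_, ?_, ?_, ?_, ?_⟩
  · rw [← cj_cj, cj_eq_iff.2 (Commute.refl C.t), hy.t]
  · rw [e, hy.b]
  · intro k hk; rw [e, hy.v k hk]
  · rw [e, hy.six]
  · rw [e, hy.seven]

/-- the commutator of `y` and `h` -/
theorem exists_comm (hh : IsH K [1, 2, 3] h) (hy : Nf K true true y) :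
    ∃ y i, Nf K true true y ∧ cj y h = bb K i * h := by
  have b2 : ww K [1] * ww K [1] = 1 := z_sq K
  have l2 := lam_sq K
  have hb : cj h (ww K [1]) = ww K [1] := hh.fix 1 (by norm_num) (by decide) (by decide)
  have hl : cj h (ww K [1, 2, 3]) = ww K [1, 2, 3] := by
    have e : ww K [1, 2, 3] = ww K [1] * (ww K [2] * ww K [3]) := by rw [ww_mul, ww_mul]; rfl
    rw [e, cj_mul, cj_mul, hb, hh.fix 2 (by norm_num) (by decide) (by decide),
      hh.fix 3 (by norm_num) (by decide) (by decide)]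
  have yl : cj y (ww K [1, 2, 3]) = ww K [1, 2, 3] := Nf.lam K hy 2 (by decide)
  have y16 : cj y (ww K [1, 16, 17]) = ww K [1, 16, 17] := Nf.lam K hy 16 (by decide)
  have cbl : Commute (ww K [1]) (ww K [1, 2, 3]) := ww_commute K (by decide +kernel)
  have P : ∀ s, cj (cj y h) (cj y s) = cj y (cj h s) := fun s => cj_comp y h s
  have Hb : cj (cj y h) (ww K [1]) = ww K [1] := by
    have := P (ww K [1])
    rwa [hy.b, hb, hy.b] at this
  have Hl : cj (cj y h) (ww K [1, 2, 3]) = ww K [1, 2, 3] := by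
    have := P (ww K [1, 2, 3])
    rwa [yl, hl, yl] at this
  have Ht : cj (cj y h) C.t = C.t * ww K [1, 2, 3] := by
    have := P C.t
    rw [hy.t, hh.t, cj_mul, cj_mul, Hb, hy.t, yl] at this
    calc cj (cj y h) C.t = cj (cj y h) C.t * ww K [1] * ww K [1] := by rw [mul_assoc, b2, mul_one]
      _ = C.t * ww K [1] * ww K [1, 2, 3] * ww K [1] := by rw [this]
      _ = C.t * (ww K [1] * ww K [1, 2, 3]) * ww K [1] := by group
      _ = C.t * ww K [1, 2, 3] * (ww K [1] * ww K [1]) := by rw [cbl.eq]; group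
      _ = C.t * ww K [1, 2, 3] := by rw [b2, mul_one]
  have H16 : cj (cj y h) (ww K [1, 16, 17]) = ww K [1, 16, 17] * ww K [1, 2, 3] := by
    have := P (ww K [1, 16, 17])
    rwa [y16, hh.y1, cj_mul, y16, yl] at this
  have Hk : ∀ k ∈ [2, 4, 32], cj (cj y h) (ww K [k]) = ww K [k] := by
    intro k hk
    have p : k < 64 ∧ Sp.fN k 1 = false ∧ Sp.fN k 2 = false ∧ k ∈ [2, 3, 16, 17, 4, 5, 32, 33] := by
      simp only [List.mem_cons, List.not_mem_nil, or_false] at hk
      rcases hk with rfl | rfl | rfl <;> decide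
    have e := hy.v k p.2.2.2
    rw [nfw_true] at e
    have e' : ww K [k] = ww K [1] * cj y (ww K [k]) := by rw [e, ← mul_assoc, b2, one_mul]
    conv_lhs => rw [e']
    rw [cj_mul, Hb, P, hh.fix k p.1 p.2.1 p.2.2.1, ← e']
  -- the product
  have hc : ∀ s, cj (cj y h * h) s = cj (cj y h) (cj h s) := fun s => (cj_cj _ _ _).symm
  have ct : Commute (cj y h * h) C.t := by
    rw [← cj_eq_iff, hc, hh.t, cj_mul, Ht, Hl, mul_assoc, l2, mul_one]
  obtain ⟨x, hx, hx'⟩ := exists_L ct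
  have fx : ∀ k, k < 64 → Sp.fN k 1 = false → Sp.fN k 2 = false → cj (cj y h) (ww K [k]) = ww K [k] →
      cd K x k = k := by
    intro k hk p1 p2 e
    apply fix_of_commute K hk
    rw [← cj_eq_iff, ← hx _ (ww_mem K _), hc, hh.fix k hk p1 p2, e]
  have hx4 := ZlamOne K (fx 1 (by norm_num) (by decide) (by decide) Hb)
    (fx 2 (by norm_num) (by decide) (by decide) (Hk 2 (by decide)))
    (fx 4 (by norm_num) (by decide) (by decide) (Hk 4 (by decide)))
    (fx 32 (by norm_num) (by decide) (by decide) (Hk 32 (by decide))) (by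
      apply coe_commute.1
      change Commute (x : G) (ww K [1, 16, 17])
      rw [← cj_eq_iff, ← hx _ (ww_mem K _), hc, hh.y1, cj_mul, H16, Hl, mul_assoc, l2, mul_one])
  -- `x = b^i λ^j`
  have hxij : ∃ i j : Bool, (x : G) = bb K i * (if j then ww K [1, 2, 3] else 1) := by
    rcases hx4 with e | e | e | e
    · exact ⟨false, false, by rw [e, bb_false]; simp⟩
    · exact ⟨true, false, by rw [e, bb_true]; simp; rfl⟩
    · exact ⟨false, true, by rw [e, bb_false]; simp; rfl⟩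
    · refine ⟨true, true, ?_⟩
      have e1 : ww K [1] * ww K [1, 2, 3] = ww K [2, 3] := by
        rw [ww_mul]; exact ww_eq K (by decide +kernel)
      rw [e, bb_true]
      simp only [if_true]
      rw [e1]; rfl
  obtain ⟨i, j, hij⟩ := hxij
  have hxh : cj h (x : G) = x := by
    rw [hij, cj_mul, cj_bb K hb]
    congr 1
    cases j
    · simp [cj_one]
    · simpa using hl
  have xx : (x : G) * x = 1 := by
    have cbi : Commute (bb K i) (ww K [1, 2, 3]) := by
      cases i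
      · rw [bb_false]; exact Commute.one_left _
      · exact cbl
    rw [hij]
    cases j
    · simp only [Bool.false_eq_true, if_false, mul_one]
      rw [bb_mul, Bool.xor_self, bb_false]
    · simp only [if_true]
      calc bb K i * ww K [1, 2, 3] * (bb K i * ww K [1, 2, 3]) = bb K i * (ww K [1, 2, 3] * bb K i) * ww K [1, 2, 3] := by
            group
        _ = (bb K i * bb K i) * (ww K [1, 2, 3] * ww K [1, 2, 3]) := by rw [← cbi.eq]; group
        _ = 1 := by rw [l2, bb_mul, Bool.xor_self, bb_false, one_mul]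
  have hinv : h⁻¹ = h := inv_of_sq hh.sq
  have hth : h * C.t * h = C.t * ww K [1, 2, 3] := by
    have := hh.t
    unfold cj at this
    rwa [hinv] at this
  have hxh' : h * (x : G) * h = x := by
    have := hxh
    unfold cj at this
    rwa [hinv] at this
  have Hsq : cj y h * cj y h = 1 := cj_sq hh.sq y
  have hHx : cj y h = x * h := by
    rcases hx' with e | e
    · calc cj y h = cj y h * h * h := by rw [mul_assoc, hh.sq, mul_one]
        _ = x * h := by rw [e]
    · exfalso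
      have e1 : cj y h = C.t * x * h := by
        calc cj y h = cj y h * h * h := by rw [mul_assoc, hh.sq, mul_one]
          _ = _ := by rw [e]
      rw [e1] at Hsq
      apply lam_ne_one K
      have cxt : Commute (x : G) C.t := C.commute_of_mem x.2
      calc ww K [1, 2, 3] = C.t * C.t * ww K [1, 2, 3] * ((x : G) * x) := by rw [C.tt, xx, one_mul, mul_one]
        _ = C.t * (h * C.t * h) * ((x : G) * x) := by rw [hth]; group
        _ = C.t * (h * C.t * h) * (h * (x : G) * h) * x := by rw [hxh']; group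
        _ = C.t * (h * C.t) * (h * h) * (x : G) * h * x := by group
        _ = C.t * (h * (C.t * x) * h) * x := by rw [hh.sq]; group
        _ = C.t * (h * (x * C.t) * h) * x := by rw [cxt.eq]
        _ = C.t * (h * x * (h * h) * C.t * h) * x := by rw [hh.sq]; group
        _ = C.t * ((h * x * h) * (h * C.t * h)) * x := by group
        _ = C.t * (x * (h * C.t * h)) * x := by rw [hxh']
        _ = (C.t * x * h) * (C.t * h * x) := by group
        _ = (C.t * x * h) * (C.t * (h * x * (h * h))) := by rw [hh.sq, mul_one]; group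
        _ = (C.t * x * h) * (C.t * ((h * x * h) * h)) := by group
        _ = (C.t * x * h) * (C.t * x * h) := by rw [hxh']; group
        _ = 1 := Hsq
  cases j
  · refine ⟨y, i, hy, ?_⟩
    rw [hHx, hij]
    simp
  · refine ⟨y * C.t, i, Nf.mul_t K hy, ?_⟩
    have e1 : cj C.t h = ww K [1, 2, 3] * h := by
      unfold cj
      rw [C.t_inv]
      calc C.t * h * C.t = C.t * (h * C.t * h) * h := by
            calc C.t * h * C.t = C.t * (h * C.t) * (h * h) := by rw [hh.sq, mul_one]; group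
              _ = _ := by group
        _ = C.t * C.t * ww K [1, 2, 3] * h := by rw [hth]; group
        _ = _ := by rw [C.tt, one_mul]
    have cbi : Commute (bb K i) (ww K [1, 2, 3]) := by
      cases i
      · rw [bb_false]; exact Commute.one_left _
      · exact cbl
    rw [← cj_cj, e1, cj_mul, yl, hHx, hij]
    simp only [if_true]
    calc ww K [1, 2, 3] * (bb K i * ww K [1, 2, 3] * h) = (ww K [1, 2, 3] * bb K i) * ww K [1, 2, 3] * h := by group
      _ = bb K i * (ww K [1, 2, 3] * ww K [1, 2, 3]) * h := by rw [← cbi.eq]; group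
      _ = bb K i * h := by rw [l2, mul_one]

theorem U16 : ∀ n < 64, Sp.fN n 1 = false → Sp.fN n 2 = true → (n ^^^ 16 < 64 ∧ Sp.fN (n ^^^ 16) 1 = false ∧
    Sp.fN (n ^^^ 16) 2 = false) ∧ ∃ e ∈ ([[], [1]] : List (List ℕ)),
    eqB [1, n, n ^^^ 1] ([1, 16, 17] ++ ([1, n ^^^ 16, n ^^^ 16 ^^^ 1] ++ e)) = true ∧
    eqB ([1, 16, 17, 1] ++ ([1, n ^^^ 16, n ^^^ 16 ^^^ 1] ++ e)) ([1, n, n ^^^ 1] ++ [1]) = true := by decide +kernel

/-- the first involution `x_2 = h b_2` -/
theorem exists_two (hh : IsH K [1, 2, 3] h) (hy : Nf K true true y) {i : Bool} (hi : cj y h = bb K i * h) :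
    XM K y 2 (h * ww K [2]) (Bool.xor i true) := by
  have hb : cj h (ww K [1]) = ww K [1] := hh.fix 1 (by norm_num) (by decide) (by decide)
  have h2 : cj h (ww K [2]) = ww K [2] := hh.fix 2 (by norm_num) (by decide) (by decide)
  have c2 := cj_eq_iff.1 h2
  have b22 : ww K [2] * ww K [2] = 1 := by rw [← b_eq]; exact C.b_sq _
  have hl : cj h (ww K [1, 2, 3]) = ww K [1, 2, 3] := by
    have e : ww K [1, 2, 3] = ww K [1] * (ww K [2] * ww K [3]) := by rw [ww_mul, ww_mul]; rfl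
    rw [e, cj_mul, cj_mul, hb, h2, hh.fix 3 (by norm_num) (by decide) (by decide)]
  have fixk : ∀ k < 64, Sp.fN k 1 = false → Sp.fN k 2 = false → cj (h * ww K [2]) (ww K [k]) = ww K [k] := by
    intro k hk p1 p2
    have e : cj (ww K [2]) (ww K [k]) = ww K [k] := by
      rw [cj_eq_iff]; exact ((single_commute K).2 p2).symm
    rw [← cj_cj, e, hh.fix k hk p1 p2]
  have fixlam : ∀ n < 64, Sp.fN n 1 = false → Sp.fN n 2 = false → cj (h * ww K [2]) (lam K n) = lam K n := by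
    intro n hn p1 p2
    have t : ∀ n < 64, Sp.fN n 1 = false → Sp.fN n 2 = false → Sp.fN (n ^^^ 1) 1 = false ∧ Sp.fN (n ^^^ 1) 2 = false := by
      decide +kernel
    obtain ⟨q1, q2⟩ := t n hn p1 p2
    rw [lam_eq, cj_mul, cj_mul, fixk 1 (by norm_num) (by decide) (by decide), fixk n hn p1 p2,
      fixk _ (xor_lt hn (by norm_num)) q1 q2]
  have e16 : cj (h * ww K [2]) (ww K [1, 16, 17]) = ww K [1, 16, 17, 1] := by
    have e1 : cj (ww K [2]) (ww K [1, 16, 17]) = ww K [1, 18, 19] :=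
      cj_lam K (v := 2) (n := 16) (by norm_num) (by norm_num) (by decide)
    have e2 : ww K [1, 18, 19] = ww K [1, 16, 17] * (ww K [2] * ww K [3]) := by
      rw [ww_mul, ww_mul]; exact ww_eq K (by decide +kernel)
    rw [← cj_cj, e1, e2, cj_mul, cj_mul, h2, hh.fix 3 (by norm_num) (by decide) (by decide), hh.y1, ww_mul, ww_mul,
      ww_mul]
    exact ww_eq K (by decide +kernel)
  refine ⟨?_, ?_, ?_, ?_, ?_⟩
  · calc h * ww K [2] * (h * ww K [2]) = h * (ww K [2] * h) * ww K [2] := by group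
      _ = (h * h) * (ww K [2] * ww K [2]) := by rw [← c2.eq]; group
      _ = 1 := by rw [hh.sq, b22, one_mul]
  · rw [← cj_cj, cj_eq_iff.2 (ww_t K [2]), hh.t]; rfl
  · exact fixk 1 (by norm_num) (by decide) (by decide)
  · intro n hn p1
    cases hf : Sp.fN n 2
    · rw [bb_false, mul_one]; exact fixlam n hn p1 hf
    · obtain ⟨⟨q0, q1, q2⟩, e, he, w1, w2⟩ := U16 n hn p1 hf
      have fe : cj (h * ww K [2]) (ww K e) = ww K e := by
        simp only [List.mem_cons, List.not_mem_nil, or_false] at he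
        rcases he with rfl | rfl
        · rw [ww_nil, cj_one]
        · exact fixk 1 (by norm_num) (by decide) (by decide)
      have f2 : cj (h * ww K [2]) (ww K [1, n ^^^ 16, n ^^^ 16 ^^^ 1]) = ww K [1, n ^^^ 16, n ^^^ 16 ^^^ 1] :=
        fixlam _ q0 q1 q2
      change cj (h * ww K [2]) (ww K [1, n, n ^^^ 1]) = ww K [1, n, n ^^^ 1] * ww K [1]
      rw [ww_eq K w1, ← ww_mul, ← ww_mul, cj_mul, cj_mul, e16, f2, fe, ww_mul, ww_mul, ww_eq K w2, ← ww_mul]
      congr 1
      rw [ww_mul]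
      exact ww_eq K w1
  · rw [cj_mul, hi, hy.v 2 (by decide), nfw_true]
    have c1 := cj_eq_iff.1 hb
    calc bb K i * h * (ww K [1] * ww K [2]) = bb K i * (h * ww K [1]) * ww K [2] := by group
      _ = (bb K i * ww K [1]) * (h * ww K [2]) := by rw [c1.eq]; group
      _ = _ := by rw [← bb_true, bb_mul]

/-- the seven involutions -/
theorem exists_xd (hh : IsH K [1, 2, 3] h) (hy : Nf K true true y) : ∃ y x a, XD K y x a := by
  obtain ⟨y, i, hy, hi⟩ := exists_comm K hh hy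
  have x2 := exists_two K hh hy hi
  generalize h * ww K [2] = g2 at x2
  generalize Bool.xor i true = a at x2
  obtain ⟨e20, e22, e48, e54⟩ := Nf.table K hy
  have x18 := x2.step K (by norm_num) (by decide) (v := 16) (by norm_num) (by decide) (by decide) (m' := 18) (by decide)
    (g := false) (hy.v 16 (by decide))
  rw [Bool.xor_false] at x18
  have x16 := x18.step K (by norm_num) (by decide) (v := 2) (by norm_num) (by decide) (by decide) (m' := 16) (by decide)
    (g := false) (hy.v 2 (by decide))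
  rw [Bool.xor_false] at x16
  have x50 := x2.step K (by norm_num) (by decide) (v := 48) (by norm_num) (by decide) (by decide) (m' := 50) (by decide)
    (g := true) e48
  have x4 := x50.step K (by norm_num) (by decide) (v := 54) (by norm_num) (by decide) (by decide) (m' := 4) (by decide)
    (g := true) e54
  rw [Bool.xor_assoc, Bool.xor_self, Bool.xor_false] at x4
  have x6 := x18.step K (by norm_num) (by decide) (v := 20) (by norm_num) (by decide) (by decide) (m' := 6) (by decide)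
    (g := true) e20
  rw [Bool.xor_true] at x6
  have x20 := x2.step K (by norm_num) (by decide) (v := 22) (by norm_num) (by decide) (by decide) (m' := 20) (by decide)
    (g := true) e22
  have x22 := x20.step K (by norm_num) (by decide) (v := 2) (by norm_num) (by decide) (by decide) (m' := 22) (by decide)
    (g := false) (hy.v 2 (by decide))
  rw [Bool.xor_false] at x22
  rw [Bool.xor_true] at x20 x22
  clear x50
  generalize cj (ww K [16]) g2 = g18 at x18 x16 x6
  generalize cj (ww K [2]) g18 = g16 at x16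
  generalize cj (ww K [54]) (cj (ww K [48]) g2) = g4 at x4
  generalize cj (ww K [20]) g18 = g6 at x6
  generalize cj (ww K [22]) g2 = g20 at x20 x22
  generalize cj (ww K [2]) g20 = g22 at x22
  let f : ℕ → G × Bool := fun m => if m = 2 then (g2, a) else if m = 16 then (g16, a) else if m = 18 then (g18, a) else
    if m = 4 then (g4, a) else if m = 6 then (g6, !a) else if m = 20 then (g20, !a) else (g22, !a)
  have hf : ∀ m ∈ ML, m < 64 ∧ XM K y m (f m).1 (f m).2 := by
    intro m hm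
    simp only [ML, List.mem_cons, List.not_mem_nil, or_false] at hm
    rcases hm with rfl | rfl | rfl | rfl | rfl | rfl | rfl
    · exact ⟨by norm_num, x2⟩
    · exact ⟨by norm_num, x16⟩
    · exact ⟨by norm_num, x18⟩
    · exact ⟨by norm_num, x4⟩
    · exact ⟨by norm_num, x6⟩
    · exact ⟨by norm_num, x20⟩
    · exact ⟨by norm_num, x22⟩
  refine ⟨y, fun m => (f m).1, fun m => (f m).2, ?_⟩
  refine ⟨hy.t, Nf.yU K hy, fun m hm => (hf m hm).2.sq, fun m hm => (hf m hm).2.t, fun m hm => (hf m hm).2.b, ?_,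
    fun m hm => (hf m hm).2.y, rfl, rfl, rfl, rfl⟩
  intro m hm n hn
  have p : n < 64 ∧ Sp.fN n 1 = false := by
    simp only [List.mem_cons, List.not_mem_nil, or_false] at hn
    rcases hn with rfl | rfl | rfl | rfl <;> decide
  have := (hf m hm).2.U n p.1 p.2
  rw [← ww_mul]
  exact this

end Cfsg.Agent.StdSpSix.AllXFin
end

private theorem dce_89aa312a3fd3 : _root_.True := by
  try have : _root_.True := by simp only [_root_.Cfsg.Agent.StdSpSix.AllXDef.ML.eq_1]
  try have : _root_.True := by simp only [_root_.Cfsg.Agent.StdSpSix.AllNfEx.cands.eq_1]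
  exact _root_.True.intro
end

-- part: StdSpSix/Main6_mg
section
prune_inst 0xc0302014002200000000000200001c2296000000000800000100000004800c0140000020b00022000000000420300000010000000040000004000000011c00800000100410000000000000000000000000000000000000000000000000000000000000000
set_option linter.all false
open scoped Cfsg.Agent.FastGrp

-- part: StdSpSix/ELevelEnd
section
/-!
# The three patterns

`main`: either there is a homomorphism to `{±1}` nontrivial on `t`, or `D ∩ L = ∅` and the classes `x` of involutions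
of `L` with `t x ∈ D` are `{b1}`, `{a2}` or all four.
-/

set_option autoImplicit false

namespace Cfsg.Agent.StdSpSix.ELevelEnd

open Subgroup
open Cfsg.Agent.StandardComponent.SpTwo
open Cfsg.Agent.SporRec.TwoSp6
open Cfsg.Agent.StdSpSix.EMask Cfsg.Agent.StdSpSix.EA Cfsg.Agent.StdSpSix.EType Cfsg.Agent.StdSpSix.ELevel
open Cfsg.Agent.StdSpSix.Words Cfsg.Agent.StdSpSix.Facts

section ctx
variable {G V : Type*} [Group G] [AddCommGroup V] [Module (ZMod 2) V] (C : Ctx G V) (K : Model.Coord C.S)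

/-- the type `b3` lies in `D` -/
def T5 : Prop := ((w K [1, 2, 4] : C.L) : G) ∈ C.D

open Classical in
/-- The indicator. -/
noncomputable def MM : ℕ := DM (decide (T C K [1])) (decide (T C K [1, 2, 3])) (decide (T C K [1, 2]))
  (decide (T C K [1, 2, 4])) (decide (T5 C K))

theorem exists_conj_w {m : ℕ} (hm : m < 64) : ∃ g : C.L, g * K.e (a m) * g⁻¹ = w K (wd (ty m)) := by
  obtain ⟨g, hg⟩ := exists_conj_word hm
  refine ⟨K.e g, ?_⟩
  unfold w
  rw [← hg, map_mul, map_mul, map_inv]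

theorem ga_mem_D {m : ℕ} (hm : m < 64) : ga C K m ∈ C.D ↔ ((w K (wd (ty m)) : C.L) : G) ∈ C.D := by
  obtain ⟨g, hg⟩ := exists_conj_w C K hm
  rw [← hg]
  exact (C.D_conj_iff (g : G)).symm

theorem t_ga_mem_D {m : ℕ} (hm : m < 64) : C.t * ga C K m ∈ C.D ↔ T C K (wd (ty m)) :=
  T_iff C K (exists_conj_w C K hm)

theorem not_mem_of_sqGen {ks : List ℕ} (h : SqGen (W ks)) : ((w K ks : C.L) : G) ∉ C.D := by
  intro h1
  exact not_sqGen C h1 ((h.map K.e.toMonoidHom).map C.L.subtype)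

theorem ind_MM : ELevel.Ind C K (MM C K) := by
  classical
  intro e he
  unfold MM
  by_cases he6 : e < 64
  · rw [el_lo C K he6, ga_mem_D C K he6, DM_lo _ _ _ _ _ e he6, Bool.and_eq_true, beq_iff_eq, decide_eq_true_eq]
    have hty := ty_le e he6
    constructor
    · intro h
      have h4 : ty e = 4 := by
        interval_cases hk : ty e
        · exfalso
          have h0 : ((w K (wd 0) : C.L) : G) = 1 := by
            have : w K (wd 0) = 1 := map_one K.e
            rw [this]; rfl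
          exact C.D_ne_one h h0
        · exact (not_mem_of_sqGen C K sqGen_b1 h).elim
        · exact (not_mem_of_sqGen C K sqGen_a2 h).elim
        · exact (not_mem_of_sqGen C K sqGen_c2 h).elim
        · rfl
      rw [h4] at h
      exact ⟨h, h4⟩
    · rintro ⟨h, h4⟩
      rw [h4]
      exact h
  · obtain ⟨m, rfl⟩ := Nat.exists_eq_add_of_le' (not_lt.1 he6)
    have hm : m < 64 := by omega
    rw [el_hi C K hm, t_ga_mem_D C K hm, DM_hi _ _ _ _ _ m hm]
    have hty := ty_le m hm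
    interval_cases ty m
    · constructor
      · intro _; rfl
      · intro _
        have : w K (wd 0) = 1 := map_one K.e
        change C.t * ((w K (wd 0) : C.L) : G) ∈ C.D
        rw [this]
        change C.t * 1 ∈ C.D
        rw [mul_one]
        exact C.t_mem_D
    · exact (decide_eq_true_iff (p := T C K [1])).symm
    · exact (decide_eq_true_iff (p := T C K [1, 2, 3])).symm
    · exact (decide_eq_true_iff (p := T C K [1, 2])).symm
    · exact (decide_eq_true_iff (p := T C K [1, 2, 4])).symm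

/-! ### the pattern `{a2, b3}` -/

/-- the codes `t * (element of the given type)` -/
def tS (k : ℕ) : Finset (Fin 128) := Finset.univ.filter fun e => 64 ≤ e.val ∧ ty (e.val - 64) = k

def tD : Finset (Fin 128) := Finset.univ.filter fun e => (DM false true false true false).testBit e.val = true

theorem mem_tS {k : ℕ} {e : Fin 128} : e ∈ tS k ↔ 64 ≤ e.val ∧ ty (e.val - 64) = k := by
  unfold tS
  rw [Finset.mem_filter]
  exact ⟨fun h => h.2, fun h => ⟨Finset.mem_univ _, h⟩⟩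

theorem mem_tD {e : Fin 128} : e ∈ tD ↔ (DM false true false true false).testBit e.val = true := by
  unfold tD
  rw [Finset.mem_filter]
  exact ⟨fun h => h.2, fun h => ⟨Finset.mem_univ _, h⟩⟩

theorem false_of_a2b3 [Finite G] (hM : ELevel.Ind C K (DM false true false true false)) : False := by
  refine EGraph.Data.false (H := HH C K) (Δ := tD) (A := tS 2) (B := tS 4) (t := 64)
    ⟨by decide +kernel, by decide +kernel, by decide +kernel, by decide +kernel, by decide +kernel, by decide +kernel,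
      ?_, ?_, ?_, ?_, ?_⟩
  · intro π hπ x hx
    rw [mem_tD] at hx ⊢
    rw [pres_of_mem C K hM hπ, hx]
  · intro x hx
    rw [mem_tD] at hx
    exact trans_of_ind C K hM hx
  · intro π hπ ht x hx
    have hpx : π x ∈ tD := by
      rw [mem_tD, pres_of_mem C K hM hπ, ← mem_tD]
      have h1 : ∀ x ∈ tS 2, x ∈ tD := by decide +kernel
      exact h1 x hx
    have hcases : ∀ x ∈ tD, x = 64 ∨ x ∈ tS 2 ∨ x ∈ tS 4 := by decide +kernel
    have hx64 : x ≠ 64 := by
      rintro rfl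
      revert hx
      decide +kernel
    rcases hcases _ hpx with h1 | h1 | h1
    · exact (hx64 (π.injective (h1.trans ht.symm))).elim
    · exact h1
    · exfalso
      obtain ⟨n, hn⟩ := hπ
      obtain ⟨m, hm⟩ : ∃ m, m = x.val - 64 := ⟨_, rfl⟩
      obtain ⟨m', hm'⟩ : ∃ m', m' = (π x).val - 64 := ⟨_, rfl⟩
      rw [mem_tS] at hx h1
      rw [← hm] at hx
      rw [← hm'] at h1
      have hm64 : m < 64 := by have := x.2; omega
      have hm64' : m' < 64 := by have := (π x).2; omega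
      have e1 : x.val = m + 64 := by omega
      have e2 : (π x).val = m' + 64 := by omega
      have h2 := hn x
      rw [e1, e2, el_hi C K hm64, el_hi C K hm64'] at h2
      have h3 := hn 64
      rw [ht] at h3
      have e3 : el C K ((64 : Fin 128) : ℕ) = C.t := el_t C K
      rw [e3] at h3
      have h4 : n * ga C K m * n⁻¹ = ga C K m' := by
        have h5 : n * (C.t * ga C K m) * n⁻¹ = n * C.t * n⁻¹ * (n * ga C K m * n⁻¹) := by group
        rw [h5, h3] at h2
        exact mul_left_cancel h2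
      have hnt : Commute n C.t := by
        change n * C.t = C.t * n
        rw [← mul_inv_eq_iff_eq_mul]
        exact h3
      -- conjugation by an element of `L`
      have h6 : ∃ l : C.L, (l : G) * ga C K m * (l : G)⁻¹ = ga C K m' := by
        rcases (C.cent n).1 hnt with h7 | h7
        · exact ⟨⟨n, h7⟩, h4⟩
        · refine ⟨⟨C.t * n, h7⟩, ?_⟩
          change C.t * n * ga C K m * (C.t * n)⁻¹ = ga C K m'
          calc C.t * n * ga C K m * (C.t * n)⁻¹ = C.t * (n * ga C K m * n⁻¹) * C.t⁻¹ := by group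
            _ = C.t * ga C K m' * C.t⁻¹ := by rw [h4]
            _ = ga C K m' * C.t * C.t⁻¹ := by rw [ga_t]
            _ = ga C K m' := by group
      obtain ⟨l, hl⟩ := h6
      obtain ⟨g, rfl⟩ := K.e.surjective l
      have h8 : g * a m * g⁻¹ = a m' := by
        apply K.e.injective
        rw [map_mul, map_mul, map_inv]
        exact Subtype.ext hl
      have h9 : EType.Alt (a m') := by
        rw [← h8]
        exact ((alt_a hm64).2 (Or.inr hx.2)).conj g
      have h10 := (alt_a hm64').1 h9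
      rw [h1.2] at h10
      omega
  · refine ⟨71, 89, fun x hx y hy hxy => ?_⟩
    rw [mem_tS] at hx hy
    have hx' := x.2
    have hy' := y.2
    obtain ⟨T, hT, hg, h1, h2⟩ := tab2_spec (x := x.val - 64) (y := y.val - 64) (by omega) (by omega) hx.2 hy.2 (by
      intro h
      apply hxy
      apply Fin.ext
      omega)
    obtain ⟨π, hπ, h3, h4⟩ := exists_perm_lin C K hT hg
    refine ⟨π, hπ, h3, ?_, ?_⟩
    · apply Fin.ext
      have := h4 7 (by norm_num)
      rw [h1] at this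
      have e1 : (π 71).val = x.val - 64 + 64 := this
      omega
    · apply Fin.ext
      have := h4 25 (by norm_num)
      rw [h2] at this
      have e1 : (π 89).val = y.val - 64 + 64 := this
      omega
  · refine ⟨75, fun x hx => ?_⟩
    rw [mem_tS] at hx
    have hx' := x.2
    obtain ⟨h1, h2, h5⟩ := tab_spec (x.val - 64) (by omega)
    obtain ⟨π, hπ, h3, h4⟩ := exists_perm_lin C K h1 h2
    refine ⟨π, hπ, h3, ?_⟩
    apply Fin.ext
    have := h4 11 (by norm_num)
    have e0 : rep (ty (x.val - 64)) = 11 := by rw [hx.2]; rfl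
    rw [e0] at h5
    rw [h5] at this
    have e1 : (π 75).val = x.val - 64 + 64 := this
    omega

/-! ### the patterns -/

theorem patterns [Finite G] : ∀ x1 x2 x3 x4 x5 : Bool, (x1 ^^ (x2 ^^ x3)) = true → ELevel.Ind C K (DM x1 x2 x3 x4 x5) →
    x5 = false ∧ ((x1 = true ∧ x3 = false ∧ x2 = false ∧ x4 = false) ∨
      (x1 = false ∧ x3 = false ∧ x2 = true ∧ x4 = false) ∨ (x1 = true ∧ x3 = true ∧ x2 = true ∧ x4 = true)) := by
  intro x1 x2 x3 x4 x5 hodd hM
  cases x5
  · refine ⟨rfl, ?_⟩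
    cases x1 <;> cases x2 <;> cases x3 <;> cases x4
    · exact absurd hodd (by decide)
    · exact absurd hodd (by decide)
    · exact absurd (inv2_const C K hM (d := 67) (by norm_num) (by decide +kernel)).symm kill2a
    · exact absurd (inv2_const C K hM (d := 67) (by norm_num) (by decide +kernel)).symm kill2b
    · exact Or.inr (Or.inl ⟨rfl, rfl, rfl, rfl⟩)
    · exact (false_of_a2b3 C K hM).elim
    · exact absurd hodd (by decide)
    · exact absurd hodd (by decide)
    · exact Or.inl ⟨rfl, rfl, rfl, rfl⟩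
    · exact absurd (inv2_const C K hM (d := 65) (by norm_num) (by decide +kernel)).symm kill2c
    · exact absurd hodd (by decide)
    · exact absurd hodd (by decide)
    · exact absurd hodd (by decide)
    · exact absurd hodd (by decide)
    · exact absurd (inv3_const C K hM (d := 65) (by norm_num) (by decide +kernel)).symm kill3
    · exact Or.inr (Or.inr ⟨rfl, rfl, rfl, rfl⟩)
  · exfalso
    refine kill1 x1 x2 x3 x4 hodd (inv1_const C K hM (d := 11) (by norm_num) ?_).symm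
    rw [DM_lo _ _ _ _ _ 11 (by norm_num)]
    decide +kernel

/-- **The E-level.** -/
theorem main [Finite G] : (∃ m : G →* ℤˣ, m C.t = -1) ∨ ((∀ x ∈ C.L, x ∉ C.D) ∧
    ((T C K [1] ∧ ¬ T C K [1, 2] ∧ ¬ T C K [1, 2, 3] ∧ ¬ T C K [1, 2, 4]) ∨
      (¬ T C K [1] ∧ ¬ T C K [1, 2] ∧ T C K [1, 2, 3] ∧ ¬ T C K [1, 2, 4]) ∨
      (T C K [1] ∧ T C K [1, 2] ∧ T C K [1, 2, 3] ∧ T C K [1, 2, 4]))) := by
  classical
  rcases parity C K with h | h
  · exact Or.inl h
  right
  have hodd : (decide (T C K [1]) ^^ (decide (T C K [1, 2, 3]) ^^ decide (T C K [1, 2]))) = true := by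
    revert h
    by_cases h1 : T C K [1] <;> by_cases h2 : T C K [1, 2] <;> by_cases h3 : T C K [1, 2, 3] <;>
      simp only [h1, h2, h3, if_true, if_false, decide_true, decide_false] <;> decide
  obtain ⟨h5, h⟩ := patterns C K _ _ _ _ _ hodd (ind_MM C K)
  simp only [decide_eq_true_eq, decide_eq_false_iff_not] at h h5
  refine ⟨?_, h⟩
  intro x hx hxD
  have h1 : (⟨x, hx⟩ : C.L) * ⟨x, hx⟩ = 1 := Subtype.ext (C.D_sq hxD)
  have h2 : (⟨x, hx⟩ : C.L) ≠ 1 := fun h => C.D_ne_one hxD (congrArg Subtype.val h)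
  have key : ∀ {ks : List ℕ} {g : C.L}, g * ⟨x, hx⟩ * g⁻¹ = w K ks → ((w K ks : C.L) : G) ∈ C.D := by
    intro ks g hg
    rw [← hg]
    exact C.D_conj hxD (g : G)
  rcases exists_conj K h1 h2 with ⟨_, g, hg⟩ | ⟨_, g, hg⟩ | ⟨_, g, hg⟩ | ⟨_, g, hg⟩
  · exact not_mem_of_sqGen C K sqGen_b1 (key hg)
  · exact not_mem_of_sqGen C K sqGen_c2 (key hg)
  · exact not_mem_of_sqGen C K sqGen_a2 (key hg)
  · exact h5 (key hg)

end ctx

end Cfsg.Agent.StdSpSix.ELevelEnd
end

-- part: StdSpSix/PatOneRel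
section
/-!
# Pattern `{b₁}`, part 3: the commuting graph on `D = t^G` has components of diameter 2

`s C u = t b_u` are the neighbours of `t` in the commuting graph.
-/

set_option autoImplicit false

namespace Cfsg.Agent.StdSpSix.PatOneRel

open Cfsg.Agent.StandardComponent.SpTwo
open Cfsg.Agent.StdSpSix.PatOneForm

variable {G V : Type*} [Group G] [AddCommGroup V] [Module (ZMod 2) V]

/-- Pattern `{b₁}`: the elements of `D` commuting with `t` are `t` and the `t b_u`, `u ≠ 0`. -/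
structure Pat (C : Ctx G V) : Prop where
  out : ∀ x ∈ C.D, Commute x C.t → x = C.t ∨ ∃ u, u ≠ 0 ∧ x = C.t * C.b u
  mem : ∀ u, u ≠ 0 → C.t * C.b u ∈ C.D

/-- the elements `t b_u` -/
def s (C : Ctx G V) (u : V) : G := C.t * C.b u

/-- distance at most two in the commuting graph on `D` -/
def Rel (D : Set G) (x y : G) : Prop := ∃ z ∈ D, Commute x z ∧ Commute z y

variable {C : Ctx G V}

theorem s_zero : s C 0 = C.t := by rw [s, C.b_zero, mul_one]

theorem s_inj {u v : V} (h : s C u = s C v) : u = v := C.b_inj (mul_left_cancel h)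

theorem b_comm_t (u : V) : Commute (C.b u) C.t := C.commute_of_mem (C.b_mem u)

theorem s_comm_t (u : V) : Commute (s C u) C.t := (Commute.refl C.t).mul_left (b_comm_t u)

theorem b_inv (u : V) : (C.b u)⁻¹ = C.b u := inv_eq_of_mul_eq_one_right (C.b_sq u)

theorem D_inv {x : G} (hx : x ∈ C.D) : x⁻¹ = x := inv_eq_of_mul_eq_one_right (C.D_sq hx)

theorem t_mul_s (u : V) : C.t * s C u = C.b u := by
  rw [s, ← mul_assoc, C.tt, one_mul]

theorem s_commute_iff {u v : V} : Commute (s C u) (s C v) ↔ C.S.B u v = 0 := by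
  rw [← C.b_commute_iff]
  constructor
  · intro h
    have h1 : Commute (C.t * s C u) (s C v) := (s_comm_t v).symm.mul_left h
    have h2 : Commute (C.t * s C u) (C.t * s C v) := by
      refine Commute.mul_right ?_ h1
      exact (Commute.refl _).mul_left (s_comm_t u)
    rwa [t_mul_s, t_mul_s] at h2
  · intro h
    have h1 : Commute (C.t * C.b u) (C.b v) := (b_comm_t v).symm.mul_left h
    exact (s_comm_t u).mul_right h1

/-- conjugation of `s x` by a transvection -/
theorem b_s (w x : V) : C.b w * s C x * (C.b w)⁻¹ = s C (x + C.S.B x w • w) := by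
  have h1 : C.b w * C.b x * (C.b w)⁻¹ = C.b (x + C.S.B x w • w) := by
    have := C.b_conj (C.S.τ w) x
    rw [C.S.hτ] at this
    exact this
  have h2 : C.b w * C.t = C.t * C.b w := b_comm_t w
  rw [s, s, ← h1]
  calc C.b w * (C.t * C.b x) * (C.b w)⁻¹ = (C.b w * C.t) * C.b x * (C.b w)⁻¹ := by group
    _ = C.t * (C.b w * C.b x * (C.b w)⁻¹) := by rw [h2]; group

/-- conjugation of `s x` by `s w` -/
theorem s_s (w x : V) : s C w * s C x * (s C w)⁻¹ = s C (x + C.S.B x w • w) := by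
  rw [← b_s]
  have h : C.t * s C x = s C x * C.t := (s_comm_t x).symm
  have h1 : s C w = C.b w * C.t := (b_comm_t w).symm
  calc s C w * s C x * (s C w)⁻¹ = C.b w * (C.t * s C x) * C.t⁻¹ * (C.b w)⁻¹ := by
        rw [h1]; group
    _ = C.b w * s C x * (C.b w)⁻¹ := by rw [h]; group

theorem z_one {a : ZMod 2} (h : a ≠ 0) : a = 1 := (z2 a).resolve_left h

namespace Pat

variable (P : Pat C)

include P

theorem s_mem (u : V) : s C u ∈ C.D := by
  by_cases h : u = 0
  · subst h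
    rw [s_zero]
    exact C.t_mem_D
  · exact P.mem u h

theorem exists_s {x : G} (hx : x ∈ C.D) (h : Commute x C.t) : ∃ u, x = s C u := by
  rcases P.out x hx h with rfl | ⟨u, -, rfl⟩
  · exact ⟨0, s_zero.symm⟩
  · exact ⟨u, rfl⟩

theorem conj (g : G) : Pat (C.conj g) := by
  constructor
  · intro x hx hc
    rw [C.conj_D] at hx
    have h1 : g⁻¹ * x * g ∈ C.D := by
      have := C.D_conj hx g⁻¹
      rwa [inv_inv] at this
    have h2 : Commute (g⁻¹ * x * g) C.t := by
      have h3 : x * (g * C.t * g⁻¹) = g * C.t * g⁻¹ * x := hc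
      change g⁻¹ * x * g * C.t = C.t * (g⁻¹ * x * g)
      calc g⁻¹ * x * g * C.t = g⁻¹ * (x * (g * C.t * g⁻¹)) * g := by group
        _ = C.t * (g⁻¹ * x * g) := by rw [h3]; group
    rcases P.out _ h1 h2 with h | ⟨u, hu, h⟩
    · left
      rw [C.conj_t, ← h]; group
    · right
      refine ⟨u, hu, ?_⟩
      rw [C.conj_t, C.conj_b]
      calc x = g * (g⁻¹ * x * g) * g⁻¹ := by group
        _ = _ := by rw [h]; group
  · intro u hu
    rw [C.conj_D, C.conj_t, C.conj_b]
    have := C.D_conj (P.mem u hu) g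
    have e : g * C.t * g⁻¹ * (g * C.b u * g⁻¹) = g * (C.t * C.b u) * g⁻¹ := by group
    rw [e]
    exact this

/-- a context with pattern at every element of `D` -/
theorem exists_ctx {x : G} (hx : x ∈ C.D) : ∃ C' : Ctx G V, Pat C' ∧ C'.t = x ∧ C'.D = C.D := by
  obtain ⟨g, hg⟩ := C.exists_ctx hx
  exact ⟨C.conj g, P.conj g, hg, C.conj_D g⟩

/-- the braid relation -/
theorem braid {x y : G} (hx : x ∈ C.D) (hy : y ∈ C.D) (h : Rel C.D x y) (hc : ¬ Commute x y) :
    x * y * x = y * x * y := by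
  obtain ⟨z, hz, h1, h2⟩ := h
  obtain ⟨C', P', rfl, hD⟩ := P.exists_ctx hz
  obtain ⟨c, rfl⟩ := P'.exists_s (hD ▸ hx) h1
  obtain ⟨d, rfl⟩ := P'.exists_s (hD ▸ hy) h2.symm
  rw [s_commute_iff] at hc
  have h3 := z_one hc
  have e1 := s_s (C := C') c d
  have e2 := s_s (C := C') d c
  rw [D_inv (hD ▸ hx)] at e1
  rw [D_inv (hD ▸ hy)] at e2
  rw [e1, e2, C'.S.symm d c, h3, one_smul, one_smul, add_comm]

/-- on a line `{u, v, u + v}` with `s u` commuting with `r`, exactly one of the other two commutes with `r` -/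
theorem kay {r : G} (hr : r ∈ C.D) (hrt : ¬ Commute r C.t) {u v : V} (hu : u ≠ 0) (hv : v ≠ 0)
    (huv : u ≠ v) (hB : C.S.B u v = 0) (hru : Commute r (s C u)) :
    Commute r (s C v) ↔ ¬ Commute r (s C (u + v)) := by
  obtain ⟨C', P', ht, hD⟩ := P.exists_ctx (P.s_mem u)
  have huv0 : u + v ≠ 0 := fun h => huv (eq_of_add _ _ h)
  obtain ⟨w0, hw0⟩ := P'.exists_s (hD ▸ C.t_mem_D) (by rw [ht]; exact (s_comm_t u).symm)
  obtain ⟨c, hc⟩ := P'.exists_s (hD ▸ hr) (by rw [ht]; exact hru)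
  obtain ⟨a, ha⟩ := P'.exists_s (hD ▸ P.s_mem v) (by
    rw [ht, s_commute_iff, C.S.symm]; exact hB)
  obtain ⟨a', ha'⟩ := P'.exists_s (hD ▸ P.s_mem (u + v)) (by
    rw [ht, s_commute_iff, map_add, LinearMap.add_apply, C.S.alt, C.S.symm v u, hB, add_zero])
  have h0 : a' ≠ 0 := by
    rintro rfl
    rw [s_zero, ht] at ha'
    exact hv (by simpa using s_inj ha')
  have h1 : a' ≠ w0 := by
    rintro rfl
    rw [← hw0, ← s_zero] at ha'
    exact huv0 (s_inj ha')
  have h2 : a' ≠ a := by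
    rintro rfl
    rw [← ha] at ha'
    exact hu (by simpa using s_inj ha')
  have h3 : a' = w0 + a := by
    by_contra h3
    obtain ⟨x, hx1, hx2, hx3⟩ := exists_sep3 C'.S h0 h1 h2 h3
    obtain ⟨y', hy'⟩ := P.exists_s (hD ▸ P'.s_mem x) (by
      rw [hw0, s_commute_iff]; exact hx1)
    have h4 : Commute (s C y') (s C u) := by
      rw [← hy', ← ht]; exact s_comm_t x
    have h5 : Commute (s C y') (s C v) := by
      rw [← hy', ha, s_commute_iff]; exact hx2
    have h6 : Commute (s C y') (s C (u + v)) := by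
      rw [s_commute_iff] at h4 h5 ⊢
      rw [map_add, h4, h5, add_zero]
    rw [← hy', ha', s_commute_iff, hx3] at h6
    exact absurd h6 (by decide)
  rw [ha, ha', hc, s_commute_iff, s_commute_iff, h3, map_add]
  rw [hw0, hc, s_commute_iff] at hrt
  rw [z_one hrt]
  generalize C'.S.B c a = b
  revert b
  decide

end Pat

open scoped Classical in
/-- the indicator function of the neighbours of `t` commuting with `r` -/
noncomputable def fr (C : Ctx G V) (r : G) (u : V) : ZMod 2 := if Commute r (s C u) then 1 else 0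

theorem fr_eq_one {r : G} {u : V} : fr C r u = 1 ↔ Commute r (s C u) := by
  unfold fr
  split_ifs with h
  · simp [h]
  · simp only [h, _root_.zero_ne_one]

theorem fr_eq_zero {r : G} {u : V} : fr C r u = 0 ↔ ¬ Commute r (s C u) := by
  unfold fr
  split_ifs with h
  · simp only [h, _root_.one_ne_zero, _root_.not_true_eq_false]
  · simp [h]

theorem fr_congr {C' : Ctx G V} {r r' : G} {u u' : V} (h : Commute r (s C u) ↔ Commute r' (s C' u')) :
    fr C r u = fr C' r' u' := by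
  rcases z2 (fr C r u) with h1 | h1
  · rw [h1, eq_comm, fr_eq_zero, ← h]
    exact fr_eq_zero.1 h1
  · rw [h1, eq_comm, fr_eq_one, ← h]
    exact fr_eq_one.1 h1

theorem fr_perp (P : Pat C) {r : G} (hr : r ∈ C.D) (hrt : ¬ Commute r C.t) (u v : V)
    (hB : C.S.B u v = 0) : fr C r (u + v) = fr C r u + fr C r v := by
  have h0 : fr C r 0 = 0 := by
    rw [fr_eq_zero, s_zero]; exact hrt
  by_cases hu : u = 0
  · rw [hu, h0, zero_add, zero_add]
  by_cases hv : v = 0
  · rw [hv, h0, add_zero, add_zero]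
  by_cases huv : u = v
  · subst huv
    rw [aa, h0]
    generalize fr C r u = b
    revert b
    decide
  have huv0 : u + v ≠ 0 := fun h => huv (eq_of_add _ _ h)
  rcases z2 (fr C r u) with h1 | h1
  · rcases z2 (fr C r v) with h2 | h2
    · rw [h1, h2, add_zero, fr_eq_zero]
      intro h3
      have h4 := P.kay hr hrt huv0 hu (fun h => hv (by simpa using h))
        (by rw [map_add, LinearMap.add_apply, C.S.alt, C.S.symm v u, hB, add_zero]) h3
      rw [add_comm u v, aab] at h4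
      exact fr_eq_zero.1 h1 (h4.2 (fr_eq_zero.1 h2))
    · have h4 := P.kay hr hrt hv hu (Ne.symm huv) ((C.S.symm v u).trans hB) (fr_eq_one.1 h2)
      rw [h1, h2, zero_add, add_comm u v, fr_eq_one]
      by_contra h5
      exact fr_eq_zero.1 h1 (h4.2 h5)
  · have h4 := P.kay hr hrt hu hv huv hB (fr_eq_one.1 h1)
    rcases z2 (fr C r v) with h2 | h2
    · rw [h1, h2, add_zero, fr_eq_one]
      by_contra h5
      exact fr_eq_zero.1 h2 (h4.2 h5)
    · rw [h1, h2, show (1 : ZMod 2) + 1 = 0 from by decide, fr_eq_zero]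
      exact h4.1 (fr_eq_one.1 h2)

theorem conj_rel {g x y : G} (h : Rel C.D x y) : Rel C.D (g * x * g⁻¹) (g * y * g⁻¹) := by
  obtain ⟨z, hz, h1, h2⟩ := h
  have key : ∀ a b : G, Commute a b → Commute (g * a * g⁻¹) (g * b * g⁻¹) := by
    intro a b h
    have h' : a * b = b * a := h
    change g * a * g⁻¹ * (g * b * g⁻¹) = g * b * g⁻¹ * (g * a * g⁻¹)
    calc g * a * g⁻¹ * (g * b * g⁻¹) = g * (a * b) * g⁻¹ := by group
      _ = _ := by rw [h']; group
  exact ⟨g * z * g⁻¹, C.D_conj hz g, key _ _ h1, key _ _ h2⟩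

theorem conj_commute_iff {g x y : G} : Commute (g * x * g⁻¹) y ↔ Commute x (g⁻¹ * y * g) := by
  constructor
  · intro h
    have h' : g * x * g⁻¹ * y = y * (g * x * g⁻¹) := h
    change x * (g⁻¹ * y * g) = g⁻¹ * y * g * x
    calc x * (g⁻¹ * y * g) = g⁻¹ * (g * x * g⁻¹ * y) * g := by group
      _ = _ := by rw [h']; group
  · intro h
    have h' : x * (g⁻¹ * y * g) = g⁻¹ * y * g * x := h
    change g * x * g⁻¹ * y = y * (g * x * g⁻¹)
    calc g * x * g⁻¹ * y = g * (x * (g⁻¹ * y * g)) * g⁻¹ := by group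
      _ = _ := by rw [h']; group

theorem rel_symm {D : Set G} {x y : G} (h : Rel D x y) : Rel D y x := by
  obtain ⟨z, hz, h1, h2⟩ := h
  exact ⟨z, hz, h2.symm, h1.symm⟩

theorem rel_of_commute {D : Set G} {x y : G} (hx : x ∈ D) (h : Commute x y) : Rel D x y :=
  ⟨x, hx, Commute.refl x, h⟩

section Finite

variable [Fintype G] [Fintype V]

open scoped Classical

/-- the elements at distance two from `t` -/
abbrev Two (C : Ctx G V) : Type _ := {r : G // r ∈ C.D ∧ Rel C.D C.t r ∧ ¬ Commute r C.t}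

/-- conjugation by an element centralising `t` -/
def conjTwo {g : G} (hg : Commute g C.t) (r : Two C) : Two C :=
  ⟨g * r.1 * g⁻¹, C.D_conj r.2.1 g, by
    have := conj_rel (g := g) r.2.2.1
    have e : g * C.t * g⁻¹ = C.t := by rw [hg.eq]; group
    rwa [e] at this, by
    rw [conj_commute_iff]
    have e : g⁻¹ * C.t * g = C.t := by
      rw [mul_assoc, ← hg.eq]; group
    rw [e]
    exact r.2.2.2⟩

theorem card_two_u (P : Pat C) (hV : Fintype.card V = 64) {u : V} (hu : u ≠ 0) :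
    (Finset.univ.filter (fun r : Two C => fr C r.1 u = 1)).card = 32 := by
  obtain ⟨C', P', ht, hD⟩ := P.exists_ctx (P.s_mem u)
  obtain ⟨w0, hw0⟩ := P'.exists_s (hD ▸ C.t_mem_D) (by rw [ht]; exact (s_comm_t u).symm)
  have hw : w0 ≠ 0 := by
    rintro rfl
    rw [s_zero, ht, ← s_zero] at hw0
    exact hu (s_inj hw0).symm
  have hm : ∀ c, s C' c ∈ C.D := by
    intro c
    rw [← hD]
    exact P'.s_mem c
  rw [← card_perp1' C'.S hV hw]
  symm
  refine Finset.card_bij (fun c hc => ⟨s C' c, hm c, ⟨s C u, P.s_mem u, (s_comm_t u).symm, ?_⟩, ?_⟩)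
    ?_ ?_ ?_
  · rw [← ht]
    exact (s_comm_t c).symm
  · rw [hw0, s_commute_iff]
    simp only [Finset.mem_filter, Finset.mem_univ, true_and] at hc
    rw [hc]
    decide
  · intro c hc
    simp only [Finset.mem_filter, Finset.mem_univ, true_and]
    rw [fr_eq_one, ← ht]
    exact s_comm_t c
  · intro c _ d _ h
    exact s_inj (congrArg Subtype.val h)
  · intro r hr
    simp only [Finset.mem_filter, Finset.mem_univ, true_and] at hr
    rw [fr_eq_one, ← ht] at hr
    obtain ⟨c, hc⟩ := P'.exists_s (by rw [hD]; exact r.2.1) hr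
    refine ⟨c, ?_, Subtype.ext hc.symm⟩
    simp only [Finset.mem_filter, Finset.mem_univ, true_and]
    have := r.2.2.2
    rw [hc, hw0, s_commute_iff] at this
    exact z_one this

theorem sum_ones (P : Pat C) (hV : Fintype.card V = 64) :
    ∑ r : Two C, (Finset.univ.filter (fun u => fr C r.1 u = 1)).card = 2016 := by
  have h1 : ∑ r : Two C, (Finset.univ.filter (fun u => fr C r.1 u = 1)).card =
      ∑ u : V, (Finset.univ.filter (fun r : Two C => fr C r.1 u = 1)).card :=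
    Finset.sum_card_bipartiteAbove_eq_sum_card_bipartiteBelow
      (fun (r : Two C) (u : V) => fr C r.1 u = 1)
  rw [h1]
  have h2 : ∀ u ∈ (Finset.univ : Finset V).erase 0,
      (Finset.univ.filter (fun r : Two C => fr C r.1 u = 1)).card = 32 := by
    intro u hu
    exact card_two_u P hV (Finset.ne_of_mem_erase hu)
  have h3 : (Finset.univ.filter (fun r : Two C => fr C r.1 0 = 1)).card = 0 := by
    rw [Finset.card_eq_zero, Finset.filter_eq_empty_iff]
    intro r _
    rw [fr_eq_one, s_zero]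
    exact r.2.2.2
  rw [← Finset.add_sum_erase _ _ (Finset.mem_univ (0 : V)), h3, Finset.sum_congr rfl h2,
    Finset.sum_const, Finset.card_erase_of_mem (Finset.mem_univ _), Finset.card_univ, hV]
  norm_num

theorem count_two (P : Pat C) (hV : Fintype.card V = 64) :
    (Fintype.card (Two C) = 72 ∨ Fintype.card (Two C) = 56) ∧
      ∀ (r : Two C) u v, fr C r.1 (u + v) = fr C r.1 u + fr C r.1 v + C.S.B u v := by
  refine count C.S (fun r : Two C => fr C r.1) hV (fun r => fr_perp P r.2.1 r.2.2.2) ?_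
    (fun r => conjTwo (Commute.refl C.t) r) ?_ ?_ (fun w r => conjTwo (b_comm_t w) r) ?_ (sum_ones P hV)
  · intro r
    obtain ⟨z, hz, h1, h2⟩ := r.2.2.1
    obtain ⟨u, rfl⟩ := P.exists_s hz h1.symm
    exact ⟨u, fr_eq_one.2 h2.symm⟩
  · intro r h
    have h1 : C.t * r.1 * C.t⁻¹ = r.1 := congrArg Subtype.val h
    exact r.2.2.2 (mul_inv_eq_iff_eq_mul.1 h1).symm
  · intro r
    funext u
    apply fr_congr
    change Commute (C.t * r.1 * C.t⁻¹) (s C u) ↔ _
    rw [conj_commute_iff]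
    have e : C.t⁻¹ * s C u * C.t = s C u := by
      rw [mul_assoc, (s_comm_t u).eq]; group
    rw [e]
  · intro w r x
    apply fr_congr
    change Commute (C.b w * r.1 * (C.b w)⁻¹) (s C x) ↔ _
    rw [conj_commute_iff, ← b_s w x, b_inv]

/-- `r` at distance two from `t`: the function is a quadratic form -/
theorem Pat.quad (P : Pat C) (hV : Fintype.card V = 64) {r : G} (hr : r ∈ C.D) (h : Rel C.D C.t r)
    (hrt : ¬ Commute r C.t) (u v : V) : fr C r (u + v) = fr C r u + fr C r v + C.S.B u v :=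
  (count_two P hV).2 ⟨r, hr, h, hrt⟩ u v

/-- diameter two -/
theorem Pat.step (P : Pat C) (hV : Fintype.card V = 64) {x r y : G} (hx : x ∈ C.D) (hr : r ∈ C.D)
    (hy : y ∈ C.D) (h : Rel C.D x r) (hry : Commute r y) : Rel C.D x y := by
  by_cases hc : Commute x r
  · exact ⟨r, hr, hc, hry⟩
  obtain ⟨C', P', rfl, hD⟩ := P.exists_ctx hr
  obtain ⟨w, rfl⟩ := P'.exists_s (hD ▸ hy) hry.symm
  have hrel : Rel C'.D C'.t x := by
    obtain ⟨z, hz, h1, h2⟩ := h
    exact ⟨z, hD ▸ hz, h2.symm, h1.symm⟩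
  obtain ⟨v, hv1, hv2⟩ := exists_one_perp C'.S hV
    (fun u v => P'.quad hV (hD ▸ hx) hrel hc u v) w
  refine ⟨s C' v, hD ▸ P'.s_mem v, fr_eq_one.1 hv2, ?_⟩
  rw [s_commute_iff]
  exact hv1

theorem Pat.trans (P : Pat C) (hV : Fintype.card V = 64) {x y z : G} (hx : x ∈ C.D) (hy : y ∈ C.D)
    (hz : z ∈ C.D) (h1 : Rel C.D x y) (h2 : Rel C.D y z) : Rel C.D x z := by
  obtain ⟨w, hw, a, b⟩ := h2
  exact P.step hV hx hw hz (P.step hV hx hy hw h1 a) b

/-- the component of `t` -/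
noncomputable def Gam (C : Ctx G V) : Finset G := Finset.univ.filter (fun y => y ∈ C.D ∧ Rel C.D C.t y)

omit [Fintype V] in
theorem mem_Gam {y : G} : y ∈ Gam C ↔ y ∈ C.D ∧ Rel C.D C.t y := by
  simp [Gam]

theorem card_Gam (P : Pat C) (hV : Fintype.card V = 64) : (Gam C).card = 136 ∨ (Gam C).card = 120 := by
  have h1 := (count_two P hV).1
  have h2 := Finset.card_filter_add_card_filter_not (s := Gam C) (fun y => Commute y C.t)
  have h3 : ((Gam C).filter (fun y => Commute y C.t)).card = 64 := by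
    rw [← hV, ← Finset.card_univ]
    symm
    refine Finset.card_bij (fun u _ => s C u) ?_ ?_ ?_
    · intro u _
      rw [Finset.mem_filter, mem_Gam]
      exact ⟨⟨P.s_mem u, rel_of_commute C.t_mem_D (s_comm_t u).symm⟩, s_comm_t u⟩
    · intro u _ v _ h
      exact s_inj h
    · intro y hy
      rw [Finset.mem_filter, mem_Gam] at hy
      obtain ⟨u, hu⟩ := P.exists_s hy.1.1 hy.2
      exact ⟨u, Finset.mem_univ _, hu.symm⟩
  have h4 : ((Gam C).filter (fun y => ¬ Commute y C.t)).card = Fintype.card (Two C) := by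
    rw [Fintype.card_subtype]
    congr 1
    ext y
    rw [Finset.mem_filter, mem_Gam, Finset.mem_filter]
    simp only [Finset.mem_univ, true_and]
    (clear * -; tauto)
  omega

end Finite

end Cfsg.Agent.StdSpSix.PatOneRel
end

-- part: StdSpSix/PatOneAlien
section
/-!
# Pattern `{b₁}`, part 4: an element of `D` normalising a component of the commuting graph belongs to it
-/

set_option autoImplicit false

namespace Cfsg.Agent.StdSpSix.PatOneAlien

open Cfsg.Agent.StandardComponent.SpTwo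
open Cfsg.Agent.StdSpSix.PatOneForm
open Cfsg.Agent.StdSpSix.PatOneRel

variable {G V : Type*} [Group G] [AddCommGroup V] [Module (ZMod 2) V]

/-- `y` is not in the component of `x` but normalises it -/
structure Al (D : Set G) (y x : G) : Prop where
  hx : x ∈ D
  hy : y ∈ D
  nrel : ¬ _root_.Cfsg.Agent.StdSpSix.PatOneRel.Rel D x y
  norm : _root_.Cfsg.Agent.StdSpSix.PatOneRel.Rel D x (y * x * y⁻¹)

variable {C : Ctx G V} [Fintype G] [Fintype V]

theorem Al.comm (P : Pat C) (hV : Fintype.card V = 64) {x y : G} (h : Al C.D y x) :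
    Commute x (y * x * y⁻¹) := by
  by_contra hc
  have hyi := D_inv h.hy
  have hxi := D_inv h.hx
  have hyy := C.D_sq h.hy
  have hxx := C.D_sq h.hx
  have hb := P.braid h.hx (C.D_conj h.hx y) h.norm hc
  rw [hyi] at hb
  have hz : y * x * y * (y * x)⁻¹ ∈ C.D := C.D_conj h.hy (y * x)
  have hz' : y * x * y * (y * x)⁻¹ = y * x * y * x * y := by
    rw [mul_inv_rev, hxi, hyi]
    simp only [mul_assoc]
  have hxz : Commute x (y * x * y * (y * x)⁻¹) := by
    rw [hz']
    change x * (y * x * y * x * y) = y * x * y * x * y * x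
    calc x * (y * x * y * x * y) = (x * (y * x * y) * x) * y := by simp only [mul_assoc]
      _ = (y * x * y) * x * (y * x * y) * y := by rw [hb]
      _ = y * x * y * x * y * x * (y * y) := by simp only [mul_assoc]
      _ = y * x * y * x * y * x := by rw [hyy, mul_one]
  have h1 := conj_rel (C := C) (g := x * y) (rel_of_commute h.hx hxz)
  have e1 : x * y * (y * x * y * (y * x)⁻¹) * (x * y)⁻¹ = y := by
    have e : (x * y) * (y * x) = 1 := by
      calc (x * y) * (y * x) = x * (y * y) * x := by simp only [mul_assoc]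
        _ = 1 := by rw [hyy, mul_one, hxx]
    calc x * y * (y * x * y * (y * x)⁻¹) * (x * y)⁻¹
        = ((x * y) * (y * x)) * y * ((x * y) * (y * x))⁻¹ := by group
      _ = y := by rw [e]; simp
  rw [e1] at h1
  have h2 := conj_rel (C := C) (g := x) h.norm
  have e2 : x * x * x⁻¹ = x := by group
  have e3 : x * (y * x * y⁻¹) * x⁻¹ = x * y * x * (x * y)⁻¹ := by group
  rw [e2, e3] at h2
  exact h.nrel (P.trans hV h.hx (C.D_conj h.hx _) h.hy h2 h1)

theorem Al.swap (P : Pat C) (hV : Fintype.card V = 64) {x y : G} (h : Al C.D y x) : Al C.D x y where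
  hx := h.hy
  hy := h.hx
  nrel h' := h.nrel (rel_symm h')
  norm := by
    apply rel_of_commute h.hy
    have h1 : x * (y * x * y⁻¹) = y * x * y⁻¹ * x := h.comm P hV
    rw [D_inv h.hy] at h1
    rw [D_inv h.hx]
    change y * (x * y * x) = x * y * x * y
    calc y * (x * y * x) = y * x * y * x := by simp only [mul_assoc]
      _ = x * (y * x * y) := h1.symm
      _ = _ := by simp only [mul_assoc]

/-- an alien normalises the whole component -/
theorem Al.stab (P : Pat C) (hV : Fintype.card V = 64) {x y x' : G} (h : Al C.D y x) (hx' : x' ∈ C.D)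
    (hr : _root_.Cfsg.Agent.StdSpSix.PatOneRel.Rel C.D x x') : _root_.Cfsg.Agent.StdSpSix.PatOneRel.Rel C.D x (y * x' * y⁻¹) :=
  P.trans hV h.hx (C.D_conj h.hx y) (C.D_conj hx' y) h.norm (conj_rel hr)

theorem Al.move (P : Pat C) (hV : Fintype.card V = 64) {x y x' : G} (h : Al C.D y x) (hx' : x' ∈ C.D)
    (hr : _root_.Cfsg.Agent.StdSpSix.PatOneRel.Rel C.D x x') : Al C.D y x' where
  hx := hx'
  hy := h.hy
  nrel h' := h.nrel (P.trans hV h.hx hx' h.hy hr h')
  norm := P.trans hV hx' h.hx (C.D_conj hx' y) (rel_symm hr) (h.stab P hV hx' hr)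

theorem Al.move' (P : Pat C) (hV : Fintype.card V = 64) {x y y' : G} (h : Al C.D y x) (hy' : y' ∈ C.D)
    (hr : _root_.Cfsg.Agent.StdSpSix.PatOneRel.Rel C.D y y') : Al C.D y' x :=
  ((h.swap P hV).move P hV hy' hr).swap P hV

open scoped Classical in
theorem no_alien_t (P : Pat C) (hV : Fintype.card V = 64) {y : G} (h : Al C.D y C.t) : False := by
  obtain ⟨C', P', ht, hD⟩ := P.exists_ctx h.hy
  set! T : V → Finset G := fun v => (Gam C).filter (fun x => x * y * x⁻¹ = s C' v) with hT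
  have hal : ∀ x ∈ Gam C, Al C.D y x := fun x hx => h.move P hV (mem_Gam.1 hx).1 (mem_Gam.1 hx).2
  have hex : ∀ x ∈ Gam C, ∃ v, x * y * x⁻¹ = s C' v := by
    intro x hx
    apply P'.exists_s (by rw [hD]; exact C.D_conj h.hy x)
    rw [ht]
    exact (((hal x hx).swap P hV).comm P hV).symm
  have h0 : T 0 = ∅ := by
    rw [hT, Finset.filter_eq_empty_iff]
    intro x hx e
    rw [s_zero, ht] at e
    have e' : x * y = y * x := mul_inv_eq_iff_eq_mul.1 e
    exact (hal x hx).nrel (rel_of_commute (hal x hx).hx e')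
  have htot : (Gam C).card = ∑ v, (T v).card := by
    rw [← Finset.card_biUnion]
    · congr 1
      ext x
      simp only [hT, Finset.mem_biUnion, Finset.mem_univ, true_and, Finset.mem_filter]
      constructor
      · intro hx
        obtain ⟨v, hv⟩ := hex x hx
        exact ⟨v, hx, hv⟩
      · rintro ⟨v, hx, -⟩
        exact hx
    · intro v _ v' _ hne
      rw [Function.onFun, Finset.disjoint_left]
      intro x hx hx'
      simp only [hT, Finset.mem_filter] at hx hx'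
      exact hne (s_inj (hx.2.symm.trans hx'.2))
  have hle : ∀ v v' : V, C'.S.B v v' = 1 → (T v).card ≤ (T v').card := by
    intro v v' hB
    set! w : V := v + v' with hw
    have hBw : C'.S.B v w = 1 := by
      rw [hw, map_add, C'.S.alt, hB, zero_add]
    refine Finset.card_le_card_of_injOn (fun x => C'.b w * x * (C'.b w)⁻¹) ?_ ?_
    · intro x hx
      simp only [hT, Finset.coe_filter, Set.mem_ofPred_eq] at hx ⊢
      obtain ⟨hx1, hx2⟩ := hx
      have hy2 : s C' w ∈ C.D := by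
        rw [← hD]; exact P'.s_mem w
      have hal2 : Al C.D (s C' w) C.t := h.move' P hV hy2 (rel_of_commute h.hy (by
        rw [← ht]; exact (s_comm_t w).symm))
      have e1 : C'.b w * x * (C'.b w)⁻¹ = y * (s C' w * x * (s C' w)⁻¹) * y⁻¹ := by
        rw [← t_mul_s, ht]; group
      refine ⟨?_, ?_⟩
      · rw [mem_Gam] at hx1 ⊢
        refine ⟨C.D_conj hx1.1 _, ?_⟩
        rw [e1]
        exact h.stab P hV (C.D_conj hx1.1 _) (hal2.stab P hV hx1.1 hx1.2)
      · have e2 : (C'.b w)⁻¹ * y * C'.b w = y := by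
          rw [mul_assoc, ← ht, ← (b_comm_t w).eq]; group
        calc C'.b w * x * (C'.b w)⁻¹ * y * (C'.b w * x * (C'.b w)⁻¹)⁻¹
            = C'.b w * (x * ((C'.b w)⁻¹ * y * C'.b w) * x⁻¹) * (C'.b w)⁻¹ := by group
          _ = C'.b w * s C' v * (C'.b w)⁻¹ := by rw [e2, hx2]
          _ = s C' v' := by rw [b_s, hBw, one_smul, hw, aac]
    · intro x _ x' _ e
      exact mul_left_cancel (mul_right_cancel e)
  have heq1 : ∀ v v' : V, C'.S.B v v' = 1 → (T v).card = (T v').card := fun v v' hB =>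
    le_antisymm (hle v v' hB) (hle v' v ((C'.S.symm _ _).trans hB))
  have heq : ∀ v v' : V, v ≠ 0 → v' ≠ 0 → (T v).card = (T v').card := by
    intro v v' hv hv'
    obtain ⟨x, h1, h2⟩ := exists_partner C'.S hv hv'
    exact (heq1 x v h1).symm.trans (heq1 x v' h2)
  obtain ⟨v0, hv0⟩ : ∃ v : V, v ≠ 0 := by
    by_contra hn
    push Not at hn
    have : Fintype.card V ≤ 1 := Fintype.card_le_one_iff.2 (fun a b => (hn a).trans (hn b).symm)
    omega
  rw [← Finset.add_sum_erase _ _ (Finset.mem_univ (0 : V)), h0, Finset.card_empty, zero_add,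
    Finset.sum_congr rfl (fun v hv => heq v v0 (Finset.ne_of_mem_erase hv) hv0), Finset.sum_const,
    Finset.card_erase_of_mem (Finset.mem_univ _), Finset.card_univ, hV, smul_eq_mul] at htot
  rcases card_Gam P hV with h1 | h1 <;> omega

theorem no_alien (P : Pat C) (hV : Fintype.card V = 64) {x y : G} (hx : x ∈ C.D) (hy : y ∈ C.D)
    (h : _root_.Cfsg.Agent.StdSpSix.PatOneRel.Rel C.D x (y * x * y⁻¹)) : _root_.Cfsg.Agent.StdSpSix.PatOneRel.Rel C.D x y := by
  by_contra hn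
  obtain ⟨C', P', rfl, hD⟩ := P.exists_ctx hx
  rw [← hD] at hn h hy
  exact no_alien_t P' hV ⟨C'.t_mem_D, hy, hn, h⟩

end Cfsg.Agent.StdSpSix.PatOneAlien
end

-- part: StdSpSix/PatOneClique
section
/-!
# Pattern `{b₁}`, part 2: counting cliques

`cl r k A` is the set of the `k`-element subsets of `A` on which the (reflexive) relation `r` holds.
In the symplectic space with 64 elements there are 4095 sets of three pairwise perpendicular nonzero vectors
and 8820 sets of four pairwise perpendicular vectors.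
-/

set_option autoImplicit false

namespace Cfsg.Agent.StdSpSix.PatOneClique

open Cfsg.Agent.StandardComponent.SpTwo
open Cfsg.Agent.StdSpSix.PatOneForm

section General

variable {α β : Type*}

open scoped Classical in
/-- the `k`-element subsets of `A` on which `r` holds -/
noncomputable def cl (r : α → α → Prop) (k : ℕ) (A : Finset α) : Finset (Finset α) :=
  (A.powersetCard k).filter (fun S => ∀ x ∈ S, ∀ y ∈ S, r x y)

open scoped Classical in
/-- the neighbours of `v` in `A` -/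
noncomputable def nb (r : α → α → Prop) (A : Finset α) (v : α) : Finset α :=
  A.filter (fun x => r x v ∧ x ≠ v)

theorem mem_cl {r : α → α → Prop} {k : ℕ} {A S : Finset α} :
    S ∈ cl r k A ↔ (S ⊆ A ∧ S.card = k) ∧ ∀ x ∈ S, ∀ y ∈ S, r x y := by
  classical
  simp only [cl, Finset.mem_powersetCard, _root_.Finset.mem_filter]

theorem mem_nb {r : α → α → Prop} {A : Finset α} {v x : α} :
    x ∈ nb r A v ↔ x ∈ A ∧ r x v ∧ x ≠ v := by
  classical
  simp [nb]

theorem card_cl_zero (r : α → α → Prop) (A : Finset α) : (cl r 0 A).card = 1 := by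
  classical
  rw [Finset.card_eq_one]
  refine ⟨∅, ?_⟩
  ext S
  rw [mem_cl, Finset.mem_singleton]
  constructor
  · rintro ⟨⟨-, h⟩, -⟩
    exact Finset.card_eq_zero.1 h
  · rintro rfl
    simp

theorem card_cl_succ {r : α → α → Prop} (hsym : ∀ x y, r x y → r y x) (hrefl : ∀ x, r x x)
    (k : ℕ) (A : Finset α) :
    (k + 1) * (cl r (k + 1) A).card = ∑ v ∈ A, (cl r k (nb r A v)).card := by
  classical
  have h1 : ∑ S ∈ cl r (k + 1) A, (A.filter (fun v => v ∈ S)).card =
      ∑ v ∈ A, ((cl r (k + 1) A).filter (fun S => v ∈ S)).card :=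
    Finset.sum_card_bipartiteAbove_eq_sum_card_bipartiteBelow (fun (S : Finset α) (v : α) => v ∈ S)
  have h2 : ∑ S ∈ cl r (k + 1) A, (A.filter (fun v => v ∈ S)).card = (k + 1) * (cl r (k + 1) A).card := by
    rw [mul_comm, ← smul_eq_mul, ← Finset.sum_const]
    apply Finset.sum_congr rfl
    intro S hS
    rw [mem_cl] at hS
    rw [← hS.1.2]
    congr 1
    ext v
    simp only [Finset.mem_filter]
    exact ⟨fun h => h.2, fun h => ⟨hS.1.1 h, h⟩⟩
  rw [← h2, h1]
  apply Finset.sum_congr rfl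
  intro v hv
  refine Finset.card_bij' (fun S _ => S.erase v) (fun S _ => insert v S) ?_ ?_ ?_ ?_
  · intro S hS
    rw [Finset.mem_filter, mem_cl] at hS
    obtain ⟨⟨⟨hSA, hSk⟩, hSr⟩, hvS⟩ := hS
    rw [mem_cl]
    refine ⟨⟨?_, ?_⟩, ?_⟩
    · intro x hx
      rw [Finset.mem_erase] at hx
      rw [mem_nb]
      exact ⟨hSA hx.2, hSr x hx.2 v hvS, hx.1⟩
    · rw [Finset.card_erase_of_mem hvS, hSk]
      rfl
    · intro x hx y hy
      rw [Finset.mem_erase] at hx hy
      exact hSr x hx.2 y hy.2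
  · intro S hS
    rw [mem_cl] at hS
    obtain ⟨⟨hSA, hSk⟩, hSr⟩ := hS
    have hvS : v ∉ S := fun h => (mem_nb.1 (hSA h)).2.2 rfl
    rw [Finset.mem_filter, mem_cl]
    refine ⟨⟨⟨?_, ?_⟩, ?_⟩, Finset.mem_insert_self _ _⟩
    · intro x hx
      rw [Finset.mem_insert] at hx
      rcases hx with rfl | hx
      · exact hv
      · exact (mem_nb.1 (hSA hx)).1
    · rw [Finset.card_insert_of_notMem hvS, hSk]
    · intro x hx y hy
      rw [Finset.mem_insert] at hx hy
      rcases hx with rfl | hx <;> rcases hy with rfl | hy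
      · exact hrefl _
      · exact hsym _ _ (mem_nb.1 (hSA hy)).2.1
      · exact (mem_nb.1 (hSA hx)).2.1
      · exact hSr x hx y hy
  · intro S hS
    rw [Finset.mem_filter] at hS
    exact Finset.insert_erase hS.2
  · intro S hS
    rw [mem_cl] at hS
    have hvS : v ∉ S := fun h => (mem_nb.1 (hS.1.1 h)).2.2 rfl
    exact Finset.erase_insert hvS

theorem card_cl_one {r : α → α → Prop} (hsym : ∀ x y, r x y → r y x) (hrefl : ∀ x, r x x)
    (A : Finset α) : (cl r 1 A).card = A.card := by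
  have := card_cl_succ hsym hrefl 0 A
  rw [zero_add, one_mul] at this
  rw [this, Finset.card_eq_sum_ones]
  apply Finset.sum_congr rfl
  intro v _
  exact card_cl_zero r _

theorem card_cl_map {r : α → α → Prop} {r' : β → β → Prop} (f : α ↪ β)
    (h : ∀ x y, r' (f x) (f y) ↔ r x y) (k : ℕ) (A : Finset α) :
    (cl r' k (A.map f)).card = (cl r k A).card := by
  classical
  symm
  apply Finset.card_bij (fun S _ => S.map f)
  · intro S hS
    rw [mem_cl] at hS ⊢
    refine ⟨⟨Finset.map_subset_map.2 hS.1.1, by rw [Finset.card_map, hS.1.2]⟩, ?_⟩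
    intro x hx y hy
    rw [Finset.mem_map] at hx hy
    obtain ⟨x, hx, rfl⟩ := hx
    obtain ⟨y, hy, rfl⟩ := hy
    rw [h]
    exact hS.2 x hx y hy
  · intro S _ T _ e
    exact Finset.map_injective f e
  · intro T hT
    rw [mem_cl] at hT
    obtain ⟨⟨hTA, hTk⟩, hTr⟩ := hT
    obtain ⟨S, hS, rfl⟩ := Finset.subset_map_iff.1 hTA
    refine ⟨S, ?_, rfl⟩
    rw [mem_cl]
    refine ⟨⟨hS, by rw [← hTk, Finset.card_map]⟩, ?_⟩
    intro x hx y hy
    rw [← h]
    exact hTr _ (Finset.mem_map_of_mem f hx) _ (Finset.mem_map_of_mem f hy)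

end General

variable {X V : Type*} [Group X] [AddCommGroup V] [Module (ZMod 2) V] (D : SpData X V)

/-- perpendicularity -/
def pr (u v : V) : Prop := D.B u v = 0

theorem pr_symm : ∀ x y, pr D x y → pr D y x := fun x y h => (D.symm y x).trans h

theorem pr_refl : ∀ x, pr D x x := fun x => D.alt x

variable [Fintype V]

theorem mem_nb1 {u x : V} : x ∈ nb (pr D) Finset.univ u ↔ D.B x u = 0 ∧ x ≠ u := by
  rw [mem_nb]
  simp only [pr, _root_.Finset.mem_univ, _root_.ne_eq, _root_.true_and]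

theorem card_nb1 (hV : Fintype.card V = 64) {u : V} (hu : u ≠ 0) :
    (nb (pr D) Finset.univ u).card = 31 := by
  classical
  have h1 := card_perp1 D hV hu
  have h2 : nb (pr D) Finset.univ u = (Finset.univ.filter (fun x => D.B x u = 0)).erase u := by
    ext x
    rw [mem_nb1, Finset.mem_erase, Finset.mem_filter]
    simp only [and_comm, _root_.ne_eq, _root_.Finset.mem_univ, _root_.true_and]
  rw [h2, Finset.card_erase_of_mem (by simp only [D.alt, _root_.Finset.mem_filter, _root_.Finset.mem_univ, _root_.and_self]), h1]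

theorem card_nb1_zero (hV : Fintype.card V = 64) : (nb (pr D) Finset.univ (0 : V)).card = 63 := by
  classical
  have h2 : nb (pr D) Finset.univ (0 : V) = Finset.univ.erase 0 := by
    ext x
    rw [mem_nb1, Finset.mem_erase]
    simp only [_root_.map_zero, _root_.ne_eq, _root_.true_and, _root_.Finset.mem_univ, _root_.and_true]
  rw [h2, Finset.card_erase_of_mem (by simp), Finset.card_univ, hV]

theorem mem_nb2 {u v x : V} : x ∈ nb (pr D) (nb (pr D) Finset.univ u) v ↔
    (D.B x u = 0 ∧ x ≠ u) ∧ D.B x v = 0 ∧ x ≠ v := by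
  rw [mem_nb, mem_nb1]
  simp only [pr, _root_.ne_eq]

theorem card_nb2 {u v : V} {n : ℕ} (huv : D.B u v = 0) (hne : u ≠ v)
    (h : (Finset.univ.filter (fun x => D.B x u = 0 ∧ D.B x v = 0)).card = n) :
    (nb (pr D) (nb (pr D) Finset.univ u) v).card + 2 = n := by
  classical
  have h2 : nb (pr D) (nb (pr D) Finset.univ u) v =
      (Finset.univ.filter (fun x => D.B x u = 0 ∧ D.B x v = 0)) \ {u, v} := by
    ext x
    rw [mem_nb2, Finset.mem_sdiff, Finset.mem_filter]
    simp only [Finset.mem_univ, true_and, Finset.mem_insert, Finset.mem_singleton]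
    itauto
  have h3 : ({u, v} : Finset V) ⊆ Finset.univ.filter (fun x => D.B x u = 0 ∧ D.B x v = 0) := by
    intro x hx
    simp only [Finset.mem_insert, Finset.mem_singleton] at hx
    simp only [Finset.mem_filter, Finset.mem_univ, true_and]
    rcases hx with rfl | rfl
    · exact ⟨D.alt _, huv⟩
    · exact ⟨(D.symm _ _).trans huv, D.alt _⟩
  rw [h2, ← h, ← Finset.card_sdiff_add_card_eq_card h3, Finset.card_pair hne]

theorem mem_nb3 {u v w x : V} : x ∈ nb (pr D) (nb (pr D) (nb (pr D) Finset.univ u) v) w ↔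
    ((D.B x u = 0 ∧ x ≠ u) ∧ D.B x v = 0 ∧ x ≠ v) ∧ D.B x w = 0 ∧ x ≠ w := by
  rw [mem_nb, mem_nb2]
  simp only [pr, _root_.ne_eq]

theorem card_nb3 {u v w : V} {n : ℕ} (huv : D.B u v = 0) (huw : D.B u w = 0) (hvw : D.B v w = 0)
    (h1 : u ≠ v) (h2 : u ≠ w) (h3 : v ≠ w)
    (h : (Finset.univ.filter (fun x => (D.B x u = 0 ∧ D.B x v = 0) ∧ D.B x w = 0)).card = n) :
    (nb (pr D) (nb (pr D) (nb (pr D) Finset.univ u) v) w).card + 3 = n := by
  classical
  have e2 : nb (pr D) (nb (pr D) (nb (pr D) Finset.univ u) v) w =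
      (Finset.univ.filter (fun x => (D.B x u = 0 ∧ D.B x v = 0) ∧ D.B x w = 0)) \ {u, v, w} := by
    ext x
    rw [mem_nb3, Finset.mem_sdiff, Finset.mem_filter]
    simp only [Finset.mem_univ, true_and, Finset.mem_insert, Finset.mem_singleton]
    itauto
  have e3 : ({u, v, w} : Finset V) ⊆
      Finset.univ.filter (fun x => (D.B x u = 0 ∧ D.B x v = 0) ∧ D.B x w = 0) := by
    intro x hx
    simp only [Finset.mem_insert, Finset.mem_singleton] at hx
    simp only [Finset.mem_filter, Finset.mem_univ, true_and]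
    rcases hx with rfl | rfl | rfl
    · exact ⟨⟨D.alt _, huv⟩, huw⟩
    · exact ⟨⟨(D.symm _ _).trans huv, D.alt _⟩, hvw⟩
    · exact ⟨⟨(D.symm _ _).trans huw, (D.symm _ _).trans hvw⟩, D.alt _⟩
  have e4 : ({u, v, w} : Finset V).card = 3 := Finset.card_eq_three.2 ⟨u, v, w, h1, h2, h3, rfl⟩
  rw [e2, ← h, ← Finset.card_sdiff_add_card_eq_card e3, e4]

/-- number of pairs in `u^⊥ \ {0, u}` -/
theorem card_cl2_zero (hV : Fintype.card V = 64) {u : V} (hu : u ≠ 0) :
    (cl (pr D) 2 (nb (pr D) (nb (pr D) Finset.univ (0 : V)) u)).card = 195 := by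
  have h := card_cl_succ (pr_symm D) (pr_refl D) 1 (nb (pr D) (nb (pr D) Finset.univ (0 : V)) u)
  rw [show (1 + 1 : ℕ) = 2 from rfl] at h
  have h1 : ∀ w ∈ nb (pr D) (nb (pr D) Finset.univ (0 : V)) u,
      (cl (pr D) 1 (nb (pr D) (nb (pr D) (nb (pr D) Finset.univ (0 : V)) u) w)).card = 13 := by
    intro w hw
    rw [mem_nb2] at hw
    rw [card_cl_one (pr_symm D) (pr_refl D)]
    have h16 := card_perp2 D hV hu hw.1.2 (Ne.symm hw.2.2)
    have := card_nb3 D (u := 0) (v := u) (w := w) (n := 16) (by simp) (by simp)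
      ((D.symm _ _).trans hw.2.1) (Ne.symm hu) (Ne.symm hw.1.2) (Ne.symm hw.2.2)
      (by simpa only [_root_.map_zero, _root_.true_and] using h16)
    omega
  rw [Finset.sum_congr rfl h1, Finset.sum_const, smul_eq_mul] at h
  have h2 := card_nb2 D (u := 0) (v := u) (n := 32) (by simp) (Ne.symm hu)
    (by simpa only [_root_.map_zero, _root_.true_and] using card_perp1 D hV hu)
  (clear * - h h2; solve | lia | omega)

/-- number of pairs in `⟨u, v⟩^⊥ \ {u, v}` -/
theorem card_cl2 (hV : Fintype.card V = 64) {u v : V} (hu : u ≠ 0) (hv : v ≠ 0) (huv : D.B u v = 0)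
    (hne : u ≠ v) : (cl (pr D) 2 (nb (pr D) (nb (pr D) Finset.univ u) v)).card = 43 := by
  classical
  have h := card_cl_succ (pr_symm D) (pr_refl D) 1 (nb (pr D) (nb (pr D) Finset.univ u) v)
  rw [show (1 + 1 : ℕ) = 2 from rfl] at h
  have huv0 : u + v ≠ 0 := fun h => hne (eq_of_add _ _ h)
  have h1 : ∀ w ∈ nb (pr D) (nb (pr D) Finset.univ u) v,
      (cl (pr D) 1 (nb (pr D) (nb (pr D) (nb (pr D) Finset.univ u) v) w)).card =
        5 + (if w = 0 then 8 else 0) + (if w = u + v then 8 else 0) := by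
    intro w hw
    rw [mem_nb2] at hw
    obtain ⟨⟨a1, a2⟩, a3, a4⟩ := hw
    rw [card_cl_one (pr_symm D) (pr_refl D)]
    have h16 := card_perp2 D hV hu hv hne
    by_cases hw0 : w = 0
    · subst hw0
      have := card_nb3 D (u := u) (v := v) (w := 0) (n := 16) huv (by simp) (by simp) hne hu hv
        (by simpa only [_root_.map_zero, _root_.and_true] using h16)
      rw [if_pos rfl, if_neg (Ne.symm huv0)]
      omega
    · by_cases hwuv : w = u + v
      · subst hwuv
        have e : (Finset.univ.filter (fun x => (D.B x u = 0 ∧ D.B x v = 0) ∧ D.B x (u + v) = 0)) =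
            Finset.univ.filter (fun x => D.B x u = 0 ∧ D.B x v = 0) := by
          apply Finset.filter_congr
          intro x _
          rw [map_add]
          constructor
          · exact fun h => h.1
          · intro h
            exact ⟨h, by rw [h.1, h.2, add_zero]⟩
        have := card_nb3 D (u := u) (v := v) (w := u + v) (n := 16) huv ((D.symm _ _).trans a1)
          ((D.symm _ _).trans a3) hne (Ne.symm a2) (Ne.symm a4) (by rw [e]; exact h16)
        rw [if_neg hw0, if_pos rfl]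
        omega
      · have h8 := card_perp3 D hV hu hv hne hw0 a2 a4 hwuv
        have := card_nb3 D (u := u) (v := v) (w := w) (n := 8) huv ((D.symm _ _).trans a1)
          ((D.symm _ _).trans a3) hne (Ne.symm a2) (Ne.symm a4) h8
        rw [if_neg hw0, if_neg hwuv]
        omega
  have hm0 : (0 : V) ∈ nb (pr D) (nb (pr D) Finset.univ u) v := by
    rw [mem_nb2]
    simp [Ne.symm hu, Ne.symm hv]
  have hm1 : u + v ∈ nb (pr D) (nb (pr D) Finset.univ u) v := by
    rw [mem_nb2]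
    refine ⟨⟨?_, ?_⟩, ?_, ?_⟩
    · rw [map_add, LinearMap.add_apply, D.alt, D.symm v u, huv, add_zero]
    · intro h; exact hv (by simpa using h)
    · rw [map_add, LinearMap.add_apply, D.alt, huv, add_zero]
    · intro h; exact hu (by simpa using h)
  rw [Finset.sum_congr rfl h1, Finset.sum_add_distrib, Finset.sum_add_distrib, Finset.sum_const,
    smul_eq_mul, Finset.sum_ite_eq', Finset.sum_ite_eq', if_pos hm0, if_pos hm1] at h
  have h2 := card_nb2 D (u := u) (v := v) (n := 16) huv hne (card_perp2 D hV hu hv hne)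
  omega

/-- number of triples of nonzero pairwise perpendicular vectors -/
theorem card_cl3_zero (hV : Fintype.card V = 64) :
    (cl (pr D) 3 (nb (pr D) Finset.univ (0 : V))).card = 4095 := by
  have h := card_cl_succ (pr_symm D) (pr_refl D) 2 (nb (pr D) Finset.univ (0 : V))
  rw [show (2 + 1 : ℕ) = 3 from rfl] at h
  have h1 : ∀ u ∈ nb (pr D) Finset.univ (0 : V),
      (cl (pr D) 2 (nb (pr D) (nb (pr D) Finset.univ (0 : V)) u)).card = 195 := by
    intro u hu
    rw [mem_nb1] at hu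
    exact card_cl2_zero D hV hu.2
  rw [Finset.sum_congr rfl h1, Finset.sum_const, smul_eq_mul, card_nb1_zero D hV] at h
  omega

theorem card_cl3 (hV : Fintype.card V = 64) {u : V} (hu : u ≠ 0) :
    (cl (pr D) 3 (nb (pr D) Finset.univ u)).card = 495 := by
  classical
  have h := card_cl_succ (pr_symm D) (pr_refl D) 2 (nb (pr D) Finset.univ u)
  rw [show (2 + 1 : ℕ) = 3 from rfl] at h
  have h1 : ∀ v ∈ nb (pr D) Finset.univ u,
      (cl (pr D) 2 (nb (pr D) (nb (pr D) Finset.univ u) v)).card =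
        43 + (if v = 0 then 152 else 0) := by
    intro v hv
    rw [mem_nb1] at hv
    by_cases hv0 : v = 0
    · subst hv0
      have e : nb (pr D) (nb (pr D) Finset.univ u) 0 = nb (pr D) (nb (pr D) Finset.univ (0 : V)) u := by
        ext x
        rw [mem_nb2, mem_nb2]
        (clear * -; tauto)
      rw [e, card_cl2_zero D hV hu, if_pos rfl]
    · rw [card_cl2 D hV hu hv0 ((D.symm _ _).trans hv.1) (Ne.symm hv.2), if_neg hv0]
  have hm0 : (0 : V) ∈ nb (pr D) Finset.univ u := by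
    rw [mem_nb1]
    simp [Ne.symm hu]
  rw [Finset.sum_congr rfl h1, Finset.sum_add_distrib, Finset.sum_const,
    smul_eq_mul, Finset.sum_ite_eq', if_pos hm0, card_nb1 D hV hu] at h
  omega

/-- number of sets of four pairwise perpendicular vectors -/
theorem card_cl4 (hV : Fintype.card V = 64) : (cl (pr D) 4 (Finset.univ : Finset V)).card = 8820 := by
  classical
  have h := card_cl_succ (pr_symm D) (pr_refl D) 3 (Finset.univ : Finset V)
  rw [show (3 + 1 : ℕ) = 4 from rfl] at h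
  have h1 : ∀ v ∈ (Finset.univ : Finset V),
      (cl (pr D) 3 (nb (pr D) Finset.univ v)).card = 495 + (if v = 0 then 3600 else 0) := by
    intro v _
    by_cases hv0 : v = 0
    · subst hv0
      rw [card_cl3_zero D hV, if_pos rfl]
    · rw [card_cl3 D hV hv0, if_neg hv0]
  rw [Finset.sum_congr rfl h1, Finset.sum_add_distrib, Finset.sum_const,
    smul_eq_mul, Finset.sum_ite_eq', if_pos (Finset.mem_univ _), Finset.card_univ, hV] at h
  omega

end Cfsg.Agent.StdSpSix.PatOneClique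
end

-- part: StdSpSix/PatOneSign
section
/-!
# Pattern `{b₁}`, part 5: `t` acts as an odd permutation on the 4-cliques of the commuting graph on `D`
-/

set_option autoImplicit false

namespace Cfsg.Agent.StdSpSix.PatOneSign

open Cfsg.Agent.StandardComponent.SpTwo
open Cfsg.Agent.StdSpSix.PatOneForm
open Cfsg.Agent.StdSpSix.PatOneClique
open Cfsg.Agent.StdSpSix.PatOneRel
open Cfsg.Agent.StdSpSix.PatOneAlien

/-- an involution with exactly one fixed point acts on a set of odd order -/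
theorem odd_card_of_invol {α : Type*} (K : Finset α) (g : α → α) (hg : ∀ a ∈ K, g a ∈ K)
    (hgg : ∀ a ∈ K, g (g a) = a) (a0 : α) (h0 : a0 ∈ K) (hg0 : g a0 = a0)
    (huniq : ∀ a ∈ K, g a = a → a = a0) : K.card % 2 = 1 := by
  classical
  have h1 : ∑ _x ∈ K.erase a0, (1 : ZMod 2) = 0 := by
    refine Finset.sum_involution (fun a _ => g a) ?_ ?_ ?_ ?_
    · intro a _; decide
    · intro a ha _ e
      rw [Finset.mem_erase] at ha
      exact ha.1 (huniq a ha.2 e)
    · intro a ha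
      rw [Finset.mem_erase] at ha ⊢
      refine ⟨?_, hg a ha.2⟩
      intro e
      apply ha.1
      rw [← hgg a ha.2, e, hg0]
    · intro a ha
      exact hgg a (Finset.mem_of_mem_erase ha)
  rw [Finset.sum_const, nsmul_eq_mul, mul_one, ZMod.natCast_eq_zero_iff,
    Finset.card_erase_of_mem h0] at h1
  have h2 : 0 < K.card := Finset.card_pos.2 ⟨a0, h0⟩
  omega

variable {G V : Type*} [Group G] [AddCommGroup V] [Module (ZMod 2) V]

/-- the conjugate of a finite set -/
def cmap (g : G) (S : Finset G) : Finset G := S.map (MulAut.conj g).toEquiv.toEmbedding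

theorem mem_cmap {g x : G} {S : Finset G} : x ∈ cmap g S ↔ g⁻¹ * x * g ∈ S := by
  unfold cmap
  rw [Finset.mem_map]
  constructor
  · rintro ⟨y, hy, rfl⟩
    have : g⁻¹ * ((MulAut.conj g).toEquiv.toEmbedding y) * g = y := by
      change g⁻¹ * (g * y * g⁻¹) * g = y
      group
    rw [this]
    exact hy
  · intro h
    refine ⟨_, h, ?_⟩
    change g * (g⁻¹ * x * g) * g⁻¹ = x
    group

theorem cmap_one (S : Finset G) : cmap 1 S = S := by
  ext x
  rw [mem_cmap]
  simp

theorem cmap_mul (g h : G) (S : Finset G) : cmap (g * h) S = cmap g (cmap h S) := by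
  ext x
  rw [mem_cmap, mem_cmap, mem_cmap]
  have : (g * h)⁻¹ * x * (g * h) = h⁻¹ * (g⁻¹ * x * g) * h := by group
  rw [this]

theorem conj_mem_cmap {g x : G} {S : Finset G} : g * x * g⁻¹ ∈ cmap g S ↔ x ∈ S := by
  rw [mem_cmap]
  have : g⁻¹ * (g * x * g⁻¹) * g = x := by group
  rw [this]

section

variable (C : Ctx G V) [Fintype G]

open scoped Classical in
/-- `D` as a finite set -/
noncomputable def Dn : Finset G := Finset.univ.filter (fun x => x ∈ C.D)

theorem mem_Dn {x : G} : x ∈ Dn C ↔ x ∈ C.D := by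
  simp [Dn]

theorem cmap_cl {S : Finset G} {k : ℕ} (g : G) (hS : S ∈ cl Commute k (Dn C)) :
    cmap g S ∈ cl Commute k (Dn C) := by
  rw [mem_cl] at hS ⊢
  obtain ⟨⟨h1, h2⟩, h3⟩ := hS
  refine ⟨⟨?_, ?_⟩, ?_⟩
  · intro x hx
    rw [mem_cmap] at hx
    have h4 := C.D_conj ((mem_Dn C).1 (h1 hx)) g
    have e : g * (g⁻¹ * x * g) * g⁻¹ = x := by group
    rw [e] at h4
    exact (mem_Dn C).2 h4
  · rw [cmap, Finset.card_map, h2]
  · intro x hx y hy
    rw [mem_cmap] at hx hy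
    have h4 : g⁻¹ * x * g * (g⁻¹ * y * g) = g⁻¹ * y * g * (g⁻¹ * x * g) := h3 _ hx _ hy
    change x * y = y * x
    calc x * y = g * (g⁻¹ * x * g * (g⁻¹ * y * g)) * g⁻¹ := by group
      _ = y * x := by rw [h4]; group

/-- the 4-cliques -/
abbrev Om : Type _ := {S : Finset G // S ∈ cl Commute 4 (Dn C)}

/-- the action on 4-cliques -/
def act : G →* Equiv.Perm (Om C) where
  toFun g :=
    { toFun := fun S => ⟨cmap g S.1, cmap_cl C g S.2⟩
      invFun := fun S => ⟨cmap g⁻¹ S.1, cmap_cl C g⁻¹ S.2⟩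
      left_inv := fun S => Subtype.ext (by
        change cmap g⁻¹ (cmap g S.1) = S.1
        rw [← cmap_mul, inv_mul_cancel, cmap_one])
      right_inv := fun S => Subtype.ext (by
        change cmap g (cmap g⁻¹ S.1) = S.1
        rw [← cmap_mul, mul_inv_cancel, cmap_one]) }
  map_one' := by
    ext1 S
    exact Subtype.ext (cmap_one _)
  map_mul' g h := by
    ext1 S
    exact Subtype.ext (cmap_mul _ _ _)

end

variable {C : Ctx G V} [Fintype G] [Fintype V]

omit [Fintype G] in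
theorem commute_symm' : ∀ x y : G, Commute x y → Commute y x := fun _ _ h => h.symm

omit [Fintype G] in
theorem commute_refl' : ∀ x : G, Commute x x := fun x => Commute.refl x

/-- the embedding `u ↦ s u` -/
def sEmb (C : Ctx G V) : V ↪ G := ⟨s C, fun _ _ h => s_inj h⟩

omit [Fintype G] [Fintype V] in
theorem sEmb_rel (C : Ctx G V) (x y : V) : Commute (sEmb C x) (sEmb C y) ↔ pr C.S x y := s_commute_iff

theorem card_Om (P : Pat C) (hV : Fintype.card V = 64) :
    4 * (cl Commute 4 (Dn C)).card = (Dn C).card * 4095 := by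
  have h := card_cl_succ (commute_symm' (G := G)) commute_refl' 3 (Dn C)
  rw [show (3 + 1 : ℕ) = 4 from rfl] at h
  rw [h, ← smul_eq_mul, ← Finset.sum_const]
  apply Finset.sum_congr rfl
  intro x hx
  obtain ⟨C', P', rfl, hD⟩ := P.exists_ctx ((mem_Dn C).1 hx)
  have e : nb Commute (Dn C) C'.t = (nb (pr C'.S) Finset.univ (0 : V)).map (sEmb C') := by
    ext y
    rw [mem_nb, Finset.mem_map, mem_Dn, ← hD]
    constructor
    · rintro ⟨h1, h2, h3⟩
      obtain ⟨u, rfl⟩ := P'.exists_s h1 h2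
      refine ⟨u, ?_, rfl⟩
      rw [mem_nb1]
      refine ⟨map_zero _, ?_⟩
      rintro rfl
      exact h3 s_zero
    · rintro ⟨u, hu, rfl⟩
      rw [mem_nb1] at hu
      refine ⟨P'.s_mem u, s_comm_t u, ?_⟩
      intro h3
      rw [← s_zero (C := C')] at h3
      exact hu.2 (s_inj h3)
  rw [e, card_cl_map (sEmb C') (sEmb_rel C'), card_cl3_zero C'.S hV]

section Comp

open scoped Classical

/-- the component of `x` -/
noncomputable def comp (C : Ctx G V) (x : G) : Finset G := (Dn C).filter (fun y => _root_.Cfsg.Agent.StdSpSix.PatOneRel.Rel C.D x y)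

omit [Fintype V] in
theorem mem_comp {x y : G} : y ∈ comp C x ↔ y ∈ C.D ∧ _root_.Cfsg.Agent.StdSpSix.PatOneRel.Rel C.D x y := by
  rw [comp, Finset.mem_filter, mem_Dn]

theorem comp_eq_iff (P : Pat C) (hV : Fintype.card V = 64) {x y : G} (hx : x ∈ C.D) (hy : y ∈ C.D) :
    comp C x = comp C y ↔ _root_.Cfsg.Agent.StdSpSix.PatOneRel.Rel C.D x y := by
  constructor
  · intro h
    have h1 : y ∈ comp C y := mem_comp.2 ⟨hy, rel_of_commute hy (Commute.refl y)⟩
    rw [← h] at h1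
    exact (mem_comp.1 h1).2
  · intro h
    ext z
    rw [mem_comp, mem_comp]
    constructor
    · rintro ⟨hz, h1⟩
      exact ⟨hz, P.trans hV hy hx hz (rel_symm h) h1⟩
    · rintro ⟨hz, h1⟩
      exact ⟨hz, P.trans hV hx hy hz h h1⟩

theorem card_comp (P : Pat C) (hV : Fintype.card V = 64) {x : G} (hx : x ∈ C.D) :
    (comp C x).card = 136 ∨ (comp C x).card = 120 := by
  obtain ⟨C', P', rfl, hD⟩ := P.exists_ctx hx
  have e : comp C C'.t = Gam C' := by
    ext y
    rw [mem_comp, mem_Gam, hD]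
  rw [e]
  exact card_Gam P' hV

omit [Fintype V] in
theorem cmap_comp (g x : G) : cmap g (comp C x) = comp C (g * x * g⁻¹) := by
  ext y
  rw [mem_cmap, mem_comp, mem_comp]
  constructor
  · rintro ⟨h1, h2⟩
    have e : g * (g⁻¹ * y * g) * g⁻¹ = y := by group
    have h3 := C.D_conj h1 g
    have h4 := conj_rel (g := g) h2
    rw [e] at h3 h4
    exact ⟨h3, h4⟩
  · rintro ⟨h1, h2⟩
    have h3 := C.D_conj h1 g⁻¹
    have h4 := conj_rel (g := g⁻¹) h2
    have e1 : g⁻¹ * (g * x * g⁻¹) * g⁻¹⁻¹ = x := by group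
    have e2 : g⁻¹ * y * g⁻¹⁻¹ = g⁻¹ * y * g := by group
    rw [e1, e2] at h4
    rw [e2] at h3
    exact ⟨h3, h4⟩

/-- `|D|` is 8 times an odd number -/
theorem card_Dn (P : Pat C) (hV : Fintype.card V = 64) : (Dn C).card % 16 = 8 := by
  set K := (Dn C).image (comp C) with hK
  have hodd : K.card % 2 = 1 := by
    refine odd_card_of_invol K (cmap C.t) ?_ ?_ (comp C C.t) ?_ ?_ ?_
    · intro A hA
      rw [hK, Finset.mem_image] at hA ⊢
      obtain ⟨x, hx, rfl⟩ := hA
      exact ⟨C.t * x * C.t⁻¹, (mem_Dn C).2 (C.D_conj ((mem_Dn C).1 hx) _), (cmap_comp _ _).symm⟩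
    · intro A _
      rw [← cmap_mul, C.tt, cmap_one]
    · exact Finset.mem_image_of_mem _ ((mem_Dn C).2 C.t_mem_D)
    · rw [cmap_comp]
      congr 1
      group
    · intro A hA h
      rw [hK, Finset.mem_image] at hA
      obtain ⟨x, hx, rfl⟩ := hA
      rw [mem_Dn] at hx
      rw [cmap_comp, eq_comm, comp_eq_iff P hV hx (C.D_conj hx _)] at h
      rw [comp_eq_iff P hV hx C.t_mem_D]
      exact no_alien P hV hx C.t_mem_D h
  have h1 := Finset.card_eq_sum_card_image (comp C) (Dn C)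
  have h2 : ∀ A ∈ K, ((Dn C).filter (fun a => comp C a = A)).card =
      8 + 16 * (((Dn C).filter (fun a => comp C a = A)).card / 16) := by
    intro A hA
    rw [hK, Finset.mem_image] at hA
    obtain ⟨x, hx, rfl⟩ := hA
    rw [mem_Dn] at hx
    have e : (Dn C).filter (fun a => comp C a = comp C x) = comp C x := by
      ext y
      rw [Finset.mem_filter, mem_Dn, mem_comp]
      constructor
      · rintro ⟨h3, h4⟩
        exact ⟨h3, (comp_eq_iff P hV hx h3).1 h4.symm⟩
      · rintro ⟨h3, h4⟩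
        exact ⟨h3, ((comp_eq_iff P hV hx h3).2 h4).symm⟩
    rw [e]
    rcases card_comp P hV hx with h | h <;> rw [h]
  rw [Finset.sum_congr rfl h2, Finset.sum_add_distrib, Finset.sum_const, ← Finset.mul_sum,
    smul_eq_mul] at h1
  omega

/-- the 4-cliques fixed by `t` -/
theorem fix_iff (P : Pat C) (hV : Fintype.card V = 64) {S : Finset G} (hS : S ∈ cl Commute 4 (Dn C)) :
    cmap C.t S = S ↔ S ⊆ Finset.univ.map (sEmb C) := by
  obtain ⟨⟨h1, -⟩, h3⟩ := mem_cl.1 hS
  constructor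
  · intro h x hx
    have hxD := (mem_Dn C).1 (h1 hx)
    have hx' : C.t * x * C.t⁻¹ ∈ S := by
      have := (conj_mem_cmap (g := C.t)).2 hx
      rwa [h] at this
    have hc := h3 x hx _ hx'
    have hrel := no_alien P hV hxD C.t_mem_D (rel_of_commute hxD hc)
    have hxt : Commute x C.t := by
      by_contra hn
      apply hn
      have hb := P.braid hxD C.t_mem_D hrel hn
      rw [C.t_inv, ← hb] at hc
      have hxx := C.D_sq hxD
      have hc' : x * (x * C.t * x) = x * C.t * x * x := hc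
      change x * C.t = C.t * x
      calc x * C.t = x * C.t * (x * x) := by rw [hxx, mul_one]
        _ = x * (x * C.t * x) := by rw [hc']; simp only [mul_assoc]
        _ = (x * x) * (C.t * x) := by simp only [mul_assoc]
        _ = C.t * x := by rw [hxx, one_mul]
    obtain ⟨u, rfl⟩ := P.exists_s hxD hxt
    exact Finset.mem_map.2 ⟨u, Finset.mem_univ _, rfl⟩
  · intro h
    have key : ∀ u : V, C.t⁻¹ * s C u * C.t = s C u := by
      intro u
      rw [mul_assoc, (s_comm_t u).eq]; group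
    ext x
    rw [mem_cmap]
    constructor
    · intro hx
      obtain ⟨u, -, hu⟩ := Finset.mem_map.1 (h hx)
      have hu' : s C u = C.t⁻¹ * x * C.t := hu
      have e : x = s C u := by
        rw [← key u, hu']
        have hk : C.t⁻¹ * (C.t⁻¹ * x * C.t) * C.t = C.t⁻¹ * C.t⁻¹ * x * (C.t * C.t) := by group
        have hk2 : C.t⁻¹ * C.t⁻¹ = 1 := by rw [C.t_inv, C.tt]
        rw [hk, hk2, C.tt, one_mul, mul_one]
      rw [e, hu']
      exact hx
    · intro hx
      obtain ⟨u, -, rfl⟩ := Finset.mem_map.1 (h hx)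
      have : C.t⁻¹ * sEmb C u * C.t = sEmb C u := key u
      rw [this]
      exact hx

theorem card_fix (P : Pat C) (hV : Fintype.card V = 64) :
    Fintype.card (Function.fixedPoints (act C C.t)) = 8820 := by
  rw [← card_cl4 C.S hV, ← card_cl_map (sEmb C) (sEmb_rel C) 4 Finset.univ, ← Fintype.card_coe]
  have hle : Finset.univ.map (sEmb C) ⊆ Dn C := by
    intro x hx
    obtain ⟨u, -, rfl⟩ := Finset.mem_map.1 hx
    exact (mem_Dn C).2 (P.s_mem u)
  have hm : ∀ S ∈ cl Commute 4 (Finset.univ.map (sEmb C)), S ∈ cl Commute 4 (Dn C) := by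
    intro S hS
    have h := mem_cl.1 hS
    exact mem_cl.2 ⟨⟨h.1.1.trans hle, h.1.2⟩, h.2⟩
  refine Fintype.card_congr
    { toFun := fun S => ⟨S.1.1, ?_⟩
      invFun := fun S => ⟨⟨S.1, hm S.1 S.2⟩,
        Subtype.ext ((fix_iff P hV (hm S.1 S.2)).2 (mem_cl.1 S.2).1.1)⟩
      left_inv := fun S => rfl
      right_inv := fun S => rfl }
  have h := mem_cl.1 S.1.2
  exact mem_cl.2 ⟨⟨(fix_iff P hV S.1.2).1 (congrArg Subtype.val S.2), h.1.2⟩, h.2⟩

theorem sign_act (P : Pat C) (hV : Fintype.card V = 64) : Equiv.Perm.sign (act C C.t) = -1 := by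
  have h2 : act C C.t ^ 2 = 1 := by
    rw [← map_pow, pow_two, C.tt, map_one]
  rw [Equiv.Perm.sign_of_pow_two_eq_one h2]
  have h3 := card_fix P hV
  have h4 := card_Om P hV
  have h5 := card_Dn P hV
  have h6 : Fintype.card (Om C) = (cl Commute 4 (Dn C)).card := Fintype.card_coe _
  have h9 : 8820 ≤ (cl Commute 4 (Dn C)).card := by
    rw [← h6, ← h3]
    exact Fintype.card_subtype_le _
  have h7 : ∀ N d : ℕ, 4 * N = d * 4095 → d % 16 = 8 → 8820 ≤ N → (N - 8820) / 2 % 2 = 1 := by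
    intro N d a b c
    obtain ⟨k, rfl⟩ : ∃ k, d = 16 * k + 8 := ⟨d / 16, by (clear * - b; omega)⟩
    have e : N = 16380 * k + 8190 := by omega
    (clear * - c a; omega)
  apply Odd.neg_one_pow
  rw [Nat.odd_iff]
  have h10 := h7 _ _ h4 h5 h9
  rw [← h6] at h10
  convert h10

end Comp

omit [Fintype G] [Fintype V] in
/-- **Pattern `{b₁}`** (shadows `O₈^±(2)`). -/
theorem pattern_b1 [Finite G] (C : Ctx G V)
    (hpat : ∀ x ∈ C.D, Commute x C.t → x = C.t ∨ ∃ u, u ≠ 0 ∧ x = C.t * C.b u)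
    (hmem : ∀ u, u ≠ 0 → C.t * C.b u ∈ C.D) : ∃ m : G →* ℤˣ, m C.t = -1 := by
  classical
  let _ := Fintype.ofFinite G
  have hfin : Finite V := Nat.finite_of_card_ne_zero (by rw [C.cardV]; decide)
  let _ := Fintype.ofFinite V
  have hV : Fintype.card V = 64 := by
    rw [← Nat.card_eq_fintype_card]; exact C.cardV
  exact ⟨Equiv.Perm.sign.comp (act C), sign_act ⟨hpat, hmem⟩ hV⟩

end Cfsg.Agent.StdSpSix.PatOneSign
end

-- part: StdSpSix/PatTwoFin
section
/-!
Pattern `{a2}`: the conjugates of `t` in `H` with sign `-1` are the `16` elements of `D ∩ E1`.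
-/

set_option autoImplicit false

namespace Cfsg.Agent.StdSpSix.PatTwo

open V

namespace Std

open Six

variable {G : Type*} [Group G] (S : Std G)

theorem Ov.tY {h : G} {w v : V} (H : S.Ov h w) (hv : InU v) :
    h * (S.t * S.Z e1 v) = S.t * S.Z e1 (v + w) * h := by
  calc h * (S.t * S.Z e1 v) = (h * S.t) * S.Z e1 v := by group
    _ = S.t * S.Z e1 w * (h * S.Z e1 v) := by rw [H.ht]; group
    _ = S.t * (S.Z e1 w * S.Z e1 v * pw (form v w) S.b) * h := by rw [H.hY v hv]; group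
    _ = S.t * S.Z e1 (v + w) * h := by
        have : S.Z e1 w * S.Z e1 v * pw (form v w) S.b = S.Z e1 (v + w) := by
          rw [S.Y_mul' H.hw hv, mul_assoc, ← pw_xor S.b_sq, form_comm v w, Bool.xor_self, pw_false,
            mul_one, add_comm]
        rw [this]

/-- The action of an element of `H` on `D ∩ E1`. -/
theorem act_tY {h k : G} {w v : V} (H : S.Ov h w) (hk : S.Pk k) (hv : InU v) :
    h * k * (S.t * S.Z e1 v) = S.t * S.Z e1 (prj (S.act k v) + w) * (h * k) := by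
  have h1 := (S.comm k hk.mem).eq
  calc h * k * (S.t * S.Z e1 v) = h * (k * S.t) * S.Z e1 v := by group
    _ = h * S.t * (k * S.Z e1 v) := by rw [h1]; group
    _ = h * (S.t * S.Z e1 (prj (S.act k v))) * k := by rw [hk.Y S hv]; group
    _ = _ := by rw [H.tY S (inU_prj _ (hk.perp S hv.perp))]; group

private noncomputable def _root_.Cfsg.Agent.KOb2a6269.k3 : type_of% @Bool.decEq := @(fun x0 x1 => @Bool.rec.{1} @(fun x2 => @Decidable (@Eq.{1} _ @x2 @x1)) (@Bool.rec.{1} @(fun x2 => @Decidable (@Eq.{1} _ @Bool.false @x2)) (@Decidable.isTrue _ (@rfl.{1} _ _)) (@Decidable.isFalse _ @(fun x2 => @Bool.noConfusion.{0} _ _ _ @x2)) @x1) (@Bool.rec.{1} @(fun x2 => @Decidable (@Eq.{1} _ @Bool.true @x2)) (@Decidable.isFalse _ @(fun x2 => @Bool.noConfusion.{0} _ _ _ @x2)) (@Decidable.isTrue _ (@rfl.{1} _ _)) @x1) @x0)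
private theorem _root_.Cfsg.Agent.KOb2a6269.e3 : @Bool.decEq = @_root_.Cfsg.Agent.KOb2a6269.k3 := by delta _root_.Cfsg.Agent.KOb2a6269.k3; rfl'
private noncomputable def _root_.Cfsg.Agent.KOb2a6269.k4 : type_of% @instDecidableEqBool := @Cfsg.Agent.KOb2a6269.k3
private theorem _root_.Cfsg.Agent.KOb2a6269.e4 : @instDecidableEqBool = @_root_.Cfsg.Agent.KOb2a6269.k4 := by delta _root_.Cfsg.Agent.KOb2a6269.k4; rewrite [← Cfsg.Agent.KOb2a6269.e3]; rfl'
private noncomputable def _root_.Cfsg.Agent.KOb2a6269.k8 : type_of% @Decidable.decide := @(fun x0 x1 => @Decidable.rec.{1} _ @(fun x2 => @Bool) @(fun x2 => @Bool.false) @(fun x2 => @Bool.true) @x1)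
private theorem _root_.Cfsg.Agent.KOb2a6269.e8 : @Decidable.decide = @_root_.Cfsg.Agent.KOb2a6269.k8 := by delta _root_.Cfsg.Agent.KOb2a6269.k8; rfl'
private noncomputable def _root_.Cfsg.Agent.KOb2a6269.k9l (n : Nat) (P : ∀ k, k < n → Prop) (H : ∀ k h, Decidable (P k h)) (m : Nat) : m ≤ n → Bool := @Nat.rec (fun m => m ≤ n → Bool) (fun _ => true) (fun k ih h => @Decidable.rec (P k h) (fun _ => Bool) (fun _ => false) (fun _ => ih (Nat.le_of_succ_le h)) (H k h)) m
private theorem _root_.Cfsg.Agent.KOb2a6269.k9ls (n : Nat) (P : ∀ k, k < n → Prop) (H : ∀ k h, Decidable (P k h)) (m : Nat) : ∀ h : m ≤ n, _root_.Cfsg.Agent.KOb2a6269.k9l n P H m h = true ↔ ∀ k (g : k < m), P k (Nat.lt_of_lt_of_le g h) := by induction m with | zero => exact fun _ => ⟨fun _ _ g => absurd g (Nat.not_lt_zero _), fun _ => rfl⟩ | succ m ih => intro h; show @Decidable.rec (P m h) (fun _ => Bool) (fun _ => false) (fun _ => _root_.Cfsg.Agent.KOb2a6269.k9l n P H m (Nat.le_of_succ_le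 h)) (H m h) = true ↔ _; cases H m h with | isFalse q => exact ⟨fun g => absurd g Bool.false_ne_true, fun g => absurd (g m (Nat.lt_succ_self m)) q⟩ | isTrue q => exact ⟨fun g k hk => (Nat.lt_succ_iff_lt_or_eq.1 hk).elim ((ih _).1 g k) fun e => by subst e; exact q, fun g => (ih _).2 fun k hk => g k (Nat.lt_succ_of_lt hk)⟩
private noncomputable def _root_.Cfsg.Agent.KOb2a6269.k9 (n : Nat) (P : ∀ k, k < n → Prop) (H : ∀ k h, Decidable (P k h)) : Decidable (∀ k h, P k h) := @Bool.rec (fun b => _root_.Cfsg.Agent.KOb2a6269.k9l n P H n (Nat.le_refl n) = b → Decidable (∀ k h, P k h)) (fun g => isFalse fun q => Bool.false_ne_true (g.symm.trans ((_root_.Cfsg.Agent.KOb2a6269.k9ls n P H n _).2 fun k h => q k h))) (fun g => isTrue fun k h => (_root_.Cfsg.Agent.KOb2a6269.k9ls n P H n _).1 g k h) (_root_.Cfsg.Agent.KOb2a6269.k9l n P H n (Nat.le_refl n)) rfl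
private theorem _root_.Cfsg.Agent.KOb2a6269.e9 : @Nat.decidableBallLT = @_root_.Cfsg.Agent.KOb2a6269.k9 := funext fun _ => funext fun _ => funext fun _ => Subsingleton.elim _ _
private noncomputable def _root_.Cfsg.Agent.KOb2a6269.k10 : type_of% @Nat.decidableForallFin := @(fun x0 x1 x2 => @Decidable.rec.{1} _ @(fun x3 => @Decidable ((x4 : @Fin @x0) → @x1 @x4)) @(fun x3 => @Decidable.isFalse _ (@decidable_of_decidable_of_iff._proof_1 _ _ (@Nat.decidableForallFin._proof_1 _ @x1) @x3)) @(fun x3 => @Decidable.isTrue _ (@Iff.mp _ _ (@Nat.decidableForallFin._proof_1 _ @x1) @x3)) (@Cfsg.Agent.KOb2a6269.k9 @x0 @(fun x3 x4 => @x1 (@Fin.mk _ @x3 @x4)) @(fun x3 x4 => @x2 (@Fin.mk _ @x3 @x4))))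
private theorem _root_.Cfsg.Agent.KOb2a6269.e10 : @Nat.decidableForallFin = @_root_.Cfsg.Agent.KOb2a6269.k10 := by delta _root_.Cfsg.Agent.KOb2a6269.k10; rewrite [← Cfsg.Agent.KOb2a6269.e9]; rfl'
private noncomputable def _root_.Cfsg.Agent.KOb2a6269.k16 : type_of% @Nat.decEq := @(fun x0 x1 => @Bool.rec.{1} @(fun x2 => (@Eq.{1} _ (@Nat.beq @x0 @x1) @x2) → @Decidable (@Eq.{1} _ @x0 @x1)) @(fun x2 => @Decidable.isFalse _ (@Nat.ne_of_beq_eq_false _ _ @x2)) @(fun x2 => @Decidable.isTrue _ (@Nat.eq_of_beq_eq_true _ _ @x2)) (@Nat.beq @x0 @x1) (@Eq.refl.{1} _ (@Nat.beq @x0 @x1)))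
private theorem _root_.Cfsg.Agent.KOb2a6269.e16 : @Nat.decEq = @_root_.Cfsg.Agent.KOb2a6269.k16 := by delta _root_.Cfsg.Agent.KOb2a6269.k16; rfl'
private noncomputable def _root_.Cfsg.Agent.KOb2a6269.k17 : type_of% @instDecidableEqFin := @(fun x0 x1 x2 => @Decidable.rec.{1} _ @(fun x3 => @Decidable (@Eq.{1} _ @x1 @x2)) @(fun x3 => @Decidable.isFalse _ (@instDecidableEqFin._proof_1 @x0 @x1 @x2 @x3)) @(fun x3 => @Decidable.isTrue _ (@Fin.eq_of_val_eq _ _ _ @x3)) (@Cfsg.Agent.KOb2a6269.k16 (@Fin.val _ @x1) (@Fin.val _ @x2)))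
private theorem _root_.Cfsg.Agent.KOb2a6269.e17 : @instDecidableEqFin = @_root_.Cfsg.Agent.KOb2a6269.k17 := by delta _root_.Cfsg.Agent.KOb2a6269.k17; rewrite [← Cfsg.Agent.KOb2a6269.e16]; rfl'
private noncomputable def _root_.Cfsg.Agent.KOb2a6269.k18 : type_of% @instDecidableOr := @(fun x0 x1 x2 x3 => @Decidable.rec.{1} _ @(fun x4 => @Decidable (@Or @x0 @x1)) @(fun x4 => @Decidable.rec.{1} _ @(fun x5 => @Decidable (@Or @x0 @x1)) @(fun x5 => @Decidable.isFalse _ (@instDecidableOr._proof_1 _ _ @x4 @x5)) @(fun x5 => @Decidable.isTrue _ (@Or.inr _ _ @x5)) @x3) @(fun x4 => @Decidable.isTrue _ (@Or.inl _ _ @x4)) @x2)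
private theorem _root_.Cfsg.Agent.KOb2a6269.e18 : @instDecidableOr = @_root_.Cfsg.Agent.KOb2a6269.k18 := by delta _root_.Cfsg.Agent.KOb2a6269.k18; rfl'
private noncomputable def _root_.Cfsg.Agent.KOb2a6269.k30 : type_of% @forall_prop_decidable := @(fun x0 x1 x2 x3 => @Decidable.rec.{1} _ @(fun x4 => @Decidable ((x5 : @x0) → @x1 @x5)) @(fun x4 => @Decidable.isTrue _ (@forall_prop_decidable._proof_2 _ @x1 @x4)) @(fun x4 => @Decidable.rec.{1} _ @(fun x5 => @Decidable ((x6 : @x0) → @x1 @x6)) @(fun x5 => @Decidable.isFalse _ (@decidable_of_decidable_of_iff._proof_1 _ _ (@forall_prop_decidable._proof_1 _ @x1 @x4) @x5)) @(fun x5 => @Decidable.isTrue _ (@Iff.mp _ _ (@forall_prop_decidable._proof_1 _ @x1 @x4) @x5)) (@x3 @x4)) @x2)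
private theorem _root_.Cfsg.Agent.KOb2a6269.e30 : @forall_prop_decidable = @_root_.Cfsg.Agent.KOb2a6269.k30 := by delta _root_.Cfsg.Agent.KOb2a6269.k30; rfl'
private noncomputable def _root_.Cfsg.Agent.KOb2a6269.k31 : (by first | exact type_of% @Cfsg.Agent.StdSpSix.PatTwo.V.mk | exact Unit : Sort _) := by first | (refine @Subtype.val _ (fun g => @Cfsg.Agent.StdSpSix.PatTwo.V.mk = @g) (@Subtype.mk _ _ (@(fun x0 x1 => @Fin.mk _ @x0 @x1)) ?_); rfl') | exact @Cfsg.Agent.StdSpSix.PatTwo.V.mk | exact ()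
private theorem _root_.Cfsg.Agent.KOb2a6269.e31 : (by first | exact @Cfsg.Agent.StdSpSix.PatTwo.V.mk = @_root_.Cfsg.Agent.KOb2a6269.k31 | exact True : Prop) := by first | (delta _root_.Cfsg.Agent.KOb2a6269.k31; exact @Subtype.property _ (fun g => @Cfsg.Agent.StdSpSix.PatTwo.V.mk = @g) _) | rfl | trivial
private noncomputable def _root_.Cfsg.Agent.KOb2a6269.k32 : (by first | exact type_of% @Cfsg.Agent.StdSpSix.PatTwo.V.decAll | exact Unit : Sort _) := by first | (refine @Subtype.val _ (fun g => @Cfsg.Agent.StdSpSix.PatTwo.V.decAll = @g) (@Subtype.mk _ _ (@(fun x0 x1 => @Cfsg.Agent.KOb2a6269.k10 _ @x0 @x1)) ?_); rewrite [← Cfsg.Agent.KOb2a6269.e10]; rfl') | exact @Cfsg.Agent.StdSpSix.PatTwo.V.decAll | exact ()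
private theorem _root_.Cfsg.Agent.KOb2a6269.e32 : (by first | exact @Cfsg.Agent.StdSpSix.PatTwo.V.decAll = @_root_.Cfsg.Agent.KOb2a6269.k32 | exact True : Prop) := by first | (delta _root_.Cfsg.Agent.KOb2a6269.k32; exact @Subtype.property _ (fun g => @Cfsg.Agent.StdSpSix.PatTwo.V.decAll = @g) _) | rfl | trivial
private noncomputable def _root_.Cfsg.Agent.KOb2a6269.k34 : (by first | exact type_of% @Cfsg.Agent.StdSpSix.PatTwo.V.instDecidableEq | exact Unit : Sort _) := by first | (refine @Subtype.val _ (fun g => @Cfsg.Agent.StdSpSix.PatTwo.V.instDecidableEq = @g) (@Subtype.mk _ _ (@Cfsg.Agent.KOb2a6269.k17 (nat_lit 64)) ?_); rewrite [← Cfsg.Agent.KOb2a6269.e17]; rfl') | exact @Cfsg.Agent.StdSpSix.PatTwo.V.instDecidableEq | exact ()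
private theorem _root_.Cfsg.Agent.KOb2a6269.e34 : (by first | exact @Cfsg.Agent.StdSpSix.PatTwo.V.instDecidableEq = @_root_.Cfsg.Agent.KOb2a6269.k34 | exact True : Prop) := by first | (delta _root_.Cfsg.Agent.KOb2a6269.k34; exact @Subtype.property _ (fun g => @Cfsg.Agent.StdSpSix.PatTwo.V.instDecidableEq = @g) _) | rfl | trivial

theorem dec_e1line : ∀ a c : V, Line a c → zf a c e1 = e1 → prj (zf a c e2) = e2 →
    (a = e1 ∨ c = e1 ∨ a + c = e1) ∨ qf (zf a c f2) = true := by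
  (first | (refine of_decide_eq_true ?_; delta Cfsg.Agent.StdSpSix.PatTwo.V.e1 Cfsg.Agent.StdSpSix.PatTwo.V.e2 Cfsg.Agent.StdSpSix.PatTwo.V.f2; rewrite [Cfsg.Agent.KOb2a6269.e8, Cfsg.Agent.KOb2a6269.e32, Cfsg.Agent.KOb2a6269.e30, Cfsg.Agent.KOb2a6269.e34, Cfsg.Agent.KOb2a6269.e31, Cfsg.Agent.KOb2a6269.e18, Cfsg.Agent.KOb2a6269.e4]; decide +kernel) | decide +kernel)

/-- A short root involution in `Ku` is of the form `Z e1 u` or has character `-1`. -/
theorem IsA2_Ku {z : G} (hz : S.IsA2 z) (hk : S.Ku z) :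
    (∃ u, InU u ∧ z = S.Z e1 u) ∨ S.chi z = true := by
  obtain ⟨a, c, h, rfl⟩ := hz
  have h1 := hk.p.h
  have h2 := hk.h
  rw [S.act_Z h.1] at h1 h2
  rcases dec_e1line a c h h1 h2 with h3 | h3
  · left
    have : ∃ v, form e1 v = false ∧ S.Z a c = S.Z e1 v := by
      rcases h3 with rfl | rfl | h3
      · exact ⟨c, h.1, rfl⟩
      · exact ⟨a, by rw [form_comm]; exact h.1, S.Z_comm' h.1⟩
      · have h4 : form e1 a = false := by rw [← h3, form_add_left, form_self, form_comm c a, h.1]; rfl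
        refine ⟨a, h4, ?_⟩
        rw [← S.Z_line h (p := e1) (q := a) (by rw [mem_pts, h3]; simp) (by rw [mem_pts]; simp) ?_]
        rintro h5
        rw [← h5] at h3
        apply h.2.2.1
        have : e1 + (e1 + c) = e1 + e1 := by rw [h3]
        rwa [aab, aa] at this
    obtain ⟨v, hv, h4⟩ := this
    exact ⟨prj v, inU_prj _ hv, by rw [S.Y_prj hv, h4]⟩
  · right
    unfold chi
    rw [S.act_Z h.1]
    exact h3

/-- The vectors of the complement. -/
def uv (i : Fin 16) : V := sm (i.val.testBit 0) e2 + sm (i.val.testBit 1) e3 +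
  sm (i.val.testBit 2) f2 + sm (i.val.testBit 3) f3

theorem dec_uv : ∀ x : V, InU x → ∃ i : Fin 16, x = uv i := by decide +kernel
theorem inU_uv : ∀ i : Fin 16, InU (uv i) := by decide +kernel

theorem dec_sel' : ∀ i j : Fin 16, form (uv j) (uv i) = false → uv i ≠ 0 → uv j ≠ 0 → uv j ≠ uv i →
    ∀ c2 c3 : Bool, ∃ k : Fin 16, form (uv k) (uv i) = c2 ∧ form (uv k) (uv j) = c3 := by
  decide +kernel

theorem dec_sel {p w : V} (hp : InU p) (hw : InU w) (h : form w p = false) (hp0 : p ≠ 0)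
    (hw0 : w ≠ 0) (hwp : w ≠ p) (c2 c3 : Bool) : ∃ v : V, InU v ∧ form v p = c2 ∧ form v w = c3 := by
  obtain ⟨i, rfl⟩ := dec_uv p hp
  obtain ⟨j, rfl⟩ := dec_uv w hw
  obtain ⟨k, hk⟩ := dec_sel' i j h hp0 hw0 hwp c2 c3
  exact ⟨uv k, inU_uv k, hk⟩

private noncomputable def _root_.Cfsg.Agent.KOb2a6269.oEq.{ku} (α : Sort ku) (a b : Nat) (f t : α) : α := @Decidable.rec (a = b) (fun _ => α) (fun _ => f) (fun _ => t) (Nat.decEq a b)
private noncomputable def _root_.Cfsg.Agent.KOb2a6269.k5.{ku} (α : Sort ku) (a b : Nat) (f t : α) : α := @Bool.rec (fun _ => α) f t (Nat.beq a b)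
private theorem _root_.Cfsg.Agent.KOb2a6269.e5.{ku} : @_root_.Cfsg.Agent.KOb2a6269.oEq.{ku} = @_root_.Cfsg.Agent.KOb2a6269.k5.{ku} := funext fun α => funext fun a => funext fun b => funext fun f => funext fun t => by delta _root_.Cfsg.Agent.KOb2a6269.oEq _root_.Cfsg.Agent.KOb2a6269.k5; cases h : Nat.beq a b <;> cases Nat.decEq a b <;> rename_i g <;> first | rfl | exact absurd g (Nat.ne_of_beq_eq_false h) | exact absurd (Nat.eq_of_beq_eq_true h) g
private noncomputable def _root_.Cfsg.Agent.KOb2a6269.k33 : (by first | exact type_of% @Cfsg.Agent.StdSpSix.PatTwo.V.swp | exact Unit : Sort _) := by first | (refine @Subtype.val _ (fun g => @Cfsg.Agent.StdSpSix.PatTwo.V.swp = @g) (@Subtype.mk _ _ (@(fun x0 => @Nat.lor (@Nat.shiftRight @x0 (nat_lit 3)) (@Nat.shiftLeft (@Nat.land @x0 (nat_lit 7)) (nat_lit 3)))) ?_); rfl') | exact @Cfsg.Agent.StdSpSix.PatTwo.V.swp | exact ()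
private theorem _root_.Cfsg.Agent.KOb2a6269.e33 : (by first | exact @Cfsg.Agent.StdSpSix.PatTwo.V.swp = @_root_.Cfsg.Agent.KOb2a6269.k33 | exact True : Prop) := by first | (delta _root_.Cfsg.Agent.KOb2a6269.k33; exact @Subtype.property _ (fun g => @Cfsg.Agent.StdSpSix.PatTwo.V.swp = @g) _) | rfl | trivial
private noncomputable def _root_.Cfsg.Agent.KOb2a6269.k37 : type_of% @instDecidableForall := @(fun x0 x1 x2 x3 => @Decidable.rec.{1} _ @(fun x4 => @Decidable (@x0 → @x1)) @(fun x4 => @Decidable.isTrue _ @(fun x5 => @absurd.{0} _ _ @x5 @x4)) @(fun x4 => @Decidable.rec.{1} _ @(fun x5 => @Decidable (@x0 → @x1)) @(fun x5 => @Decidable.isFalse _ (@instDecidableForall._proof_1 _ _ @x4 @x5)) @(fun x5 => @Decidable.isTrue _ @(fun x6 => @x5)) @x3) @x2)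
private theorem _root_.Cfsg.Agent.KOb2a6269.e37 : @instDecidableForall = @_root_.Cfsg.Agent.KOb2a6269.k37 := by delta _root_.Cfsg.Agent.KOb2a6269.k37; rfl'
private noncomputable def _root_.Cfsg.Agent.KOb2a6269.k38 : (by first | exact type_of% @Cfsg.Agent.StdSpSix.PatTwo.V.form | exact Unit : Sort _) := by first | (refine @Subtype.val _ (fun g => @Cfsg.Agent.StdSpSix.PatTwo.V.form = @g) (@Subtype.mk _ _ (@(fun x0 x1 => @Bool.rec.{1} @(fun x2 => @Bool) @Bool.true @Bool.false (@Cfsg.Agent.KOb2a6269.k5.{1} @Bool (@Nat.land (nat_lit 1) (@Nat.shiftRight (nat_lit 7608434000728254870) (@Nat.land (@Fin.val _ @x0) (@Cfsg.Agent.KOb2a6269.k33 (@Fin.val _ @x1))))) (nat_lit 0) @Bool.false @Bool.true))) ?_); rewrite [← Cfsg.Agent.KOb2a6269.e33, ← Cfsg.Agent.KOb2a6269.e5.{1}]; (try delta Cfsg.Agent.StdSpSix.PatTwo.V.form Cfsg.Agent.StdSpSix.PatTwo.V.par Cfsg.Agent.StdSpSix.PatTwo.V.num); (try generalize @Cfsg.Agent.StdSpSix.PatTwo.V.swp = g0); rfl') | exact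 @Cfsg.Agent.StdSpSix.PatTwo.V.form | exact ()
private theorem _root_.Cfsg.Agent.KOb2a6269.e38 : (by first | exact @Cfsg.Agent.StdSpSix.PatTwo.V.form = @_root_.Cfsg.Agent.KOb2a6269.k38 | exact True : Prop) := by first | (delta _root_.Cfsg.Agent.KOb2a6269.k38; exact @Subtype.property _ (fun g => @Cfsg.Agent.StdSpSix.PatTwo.V.form = @g) _) | rfl | trivial
private noncomputable def _root_.Cfsg.Agent.KOb2a6269.k39 : type_of% @instDecidableNot := @(fun x0 x1 => @Decidable.rec.{1} _ @(fun x2 => @Decidable (¬ @x0)) @(fun x2 => @Decidable.isTrue _ @x2) @(fun x2 => @Decidable.isFalse _ (@absurd.{0} _ _ @x2)) @x1)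
private theorem _root_.Cfsg.Agent.KOb2a6269.e39 : @instDecidableNot = @_root_.Cfsg.Agent.KOb2a6269.k39 := by delta _root_.Cfsg.Agent.KOb2a6269.k39; rfl'
private noncomputable def _root_.Cfsg.Agent.KOb2a6269.k43 : type_of% @Bool.instDecidableExistsOfDecidablePred := @(fun x0 x1 => @Decidable.rec.{1} _ @(fun x2 => @Decidable (@Exists.{1} _ @(fun x3 => @x0 @x3))) @(fun x2 => @Decidable.rec.{1} _ @(fun x3 => @Decidable (@Exists.{1} _ @(fun x4 => @x0 @x4))) @(fun x3 => @Decidable.isFalse _ (@Bool.instDecidableExistsOfDecidablePred._proof_3 @x0 @x2 @x3)) @(fun x3 => @Decidable.isTrue _ (@Bool.instDecidableExistsOfDecidablePred._proof_2 @x0 @x3)) (@x1 @Bool.false)) @(fun x2 => @Decidable.isTrue _ (@Bool.instDecidableExistsOfDecidablePred._proof_1 @x0 @x2)) (@x1 @Bool.true))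
private theorem _root_.Cfsg.Agent.KOb2a6269.e43 : @Bool.instDecidableExistsOfDecidablePred = @_root_.Cfsg.Agent.KOb2a6269.k43 := by delta _root_.Cfsg.Agent.KOb2a6269.k43; rfl'

theorem dec_span' : ∀ i j k : Fin 16, form (uv j) (uv i) = false → uv i ≠ 0 → uv j ≠ 0 →
    uv j ≠ uv i → form (uv k) (uv i) = false → form (uv k) (uv j) = false →
    ∃ a c : Bool, uv k = sm a (uv j) + sm c (uv i) := by
  (first | (refine of_decide_eq_true ?_; rewrite [Cfsg.Agent.KOb2a6269.e8, Cfsg.Agent.KOb2a6269.e10, Cfsg.Agent.KOb2a6269.e37, Cfsg.Agent.KOb2a6269.e4, Cfsg.Agent.KOb2a6269.e38, Cfsg.Agent.KOb2a6269.e39, Cfsg.Agent.KOb2a6269.e34, Cfsg.Agent.KOb2a6269.e30, Cfsg.Agent.KOb2a6269.e43]; decide +kernel) | decide +kernel)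

theorem dec_span {p w v : V} (hp : InU p) (hw : InU w) (hv : InU v) (h : form w p = false)
    (hp0 : p ≠ 0) (hw0 : w ≠ 0) (hwp : w ≠ p) (h1 : form v p = false) (h2 : form v w = false) :
    ∃ a c : Bool, v = sm a w + sm c p := by
  obtain ⟨i, rfl⟩ := dec_uv p hp
  obtain ⟨j, rfl⟩ := dec_uv w hw
  obtain ⟨k, rfl⟩ := dec_uv v hv
  exact dec_span' i j k h hp0 hw0 hwp h1 h2

theorem T_ne_zw (c1 c2 c3 : Bool) : S.T e1 ≠ S.zw c1 c2 c3 := by
  intro h
  rcases S.zw_line c1 c2 c3 with h1 | ⟨i, j, hl, h1⟩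
  · rw [h1] at h
    have := S.T_wv_ne 1 (by decide)
    rw [show wv 1 = e1 by decide] at this
    exact this h
  · rw [h1] at h
    have h2 : S.IsA2 (S.T e1) := ⟨_, _, hl, h⟩
    have h3 := h2.form S.toSix f1
    rw [S.act_T] at h3
    exact absurd h3 (by decide)

theorem form_sm_right (x y : V) (c : Bool) : form x (sm c y) = (c && form x y) := by
  cases c
  · rw [sm_false, form_zero_right]; rfl
  · rw [sm_true]; rfl

/-- No conjugate of `t` acts on `D ∩ E1` as a transvection without fixed points. -/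
theorem no_transvection {g x : G} {p w : V} (hx : x = g⁻¹ * S.t * g) (hxb : Commute x S.b)
    (hp : InU p) (hw : InU w) (hwp : form w p = false) (hp0 : p ≠ 0) (hw0 : w ≠ 0) (hne : w ≠ p)
    (hact : ∀ v, InU v → x * (S.t * S.Z e1 v) = S.t * S.Z e1 (v + sm (form v p) p + w) * x) :
    False := by
  have hxx : x * x = 1 := by
    rw [hx]
    calc g⁻¹ * S.t * g * (g⁻¹ * S.t * g) = g⁻¹ * (S.t * S.t) * g := by group
      _ = 1 := by rw [S.tt]; group
  have hxt : x * S.t = S.t * S.Z e1 w * x := by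
    have := hact 0 inU_zero
    rw [S.Z_zero, mul_one, form_zero_left, sm_false, add_zero, zero_add] at this
    exact this
  have hvU : ∀ v, InU v → InU (v + sm (form v p) p) := fun v hv => hv.add (inU_sm hp _)
  have hform : ∀ v, form w (v + sm (form v p) p) = form v w := by
    intro v
    rw [form_add_right, form_comm w v]
    cases form v p
    · rw [sm_false, form_zero_right, Bool.xor_false]
    · rw [sm_true, hwp, Bool.xor_false]
  -- the action on `E1`
  have hxe : ∀ c v d, InU v → x * S.em c v d =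
      S.em c (v + sm (form v p) p + sm c w) (d ^^ (!c && form v w)) * x := by
    intro c v d hv
    have h1 : x * pw c S.t = pw c S.t * S.Z e1 (sm c w) * x := by
      cases c
      · rw [pw_false, sm_false, S.Z_zero]; group
      · exact hxt
    have h2 : x * S.Z e1 v = S.Z e1 (v + sm (form v p) p) * pw (form v w) S.b * x := by
      have h3 : S.Z e1 w * S.Z e1 (v + sm (form v p) p + w) =
          S.Z e1 (v + sm (form v p) p) * pw (form v w) S.b := by
        rw [S.Y_mul' hw ((hvU v hv).add hw), form_add_right, form_self, hform, Bool.xor_false,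
          add_comm w, aba]
      calc x * S.Z e1 v = x * (S.t * S.t) * S.Z e1 v := by rw [S.tt, mul_one]
        _ = (x * S.t) * (S.t * S.Z e1 v) := by group
        _ = S.t * S.Z e1 w * (x * (S.t * S.Z e1 v)) := by rw [hxt]; group
        _ = S.t * (S.Z e1 w * S.t) * S.Z e1 (v + sm (form v p) p + w) * x := by rw [hact v hv]; group
        _ = (S.t * S.t) * (S.Z e1 w * S.Z e1 (v + sm (form v p) p + w)) * x := by
            rw [(S.comm _ (S.Z_mem e1 w)).eq]; group
        _ = _ := by rw [S.tt, one_mul, h3]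
    have h4 : S.Z e1 (sm c w) * (S.Z e1 (v + sm (form v p) p) * pw (form v w) S.b * pw d S.b) =
        S.Z e1 (v + sm (form v p) p + sm c w) * pw (d ^^ (!c && form v w)) S.b := by
      have e3' : S.Z e1 (sm c w) * (S.Z e1 (v + sm (form v p) p) * pw (form v w) S.b * pw d S.b) =
          S.em false (sm c w) false * (S.em false (v + sm (form v p) p) (form v w) * S.em false 0 d) := by
        unfold Std.em
        rw [S.Z_zero]
        simp only [pw_false]
        group
      have e4' : S.Z e1 (v + sm (form v p) p + sm c w) * pw (d ^^ (!c && form v w)) S.b =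
          S.em false (v + sm (form v p) p + sm c w) (d ^^ (!c && form v w)) := by
        unfold Std.em
        rw [pw_false, one_mul]
      rw [e3', e4', S.em_mul (hvU v hv) inU_zero, S.em_mul (inU_sm hw c) ((hvU v hv).add inU_zero),
        add_zero, form_zero_right, add_comm (sm c w)]
      congr 1
      cases c
      · rw [sm_false, form_zero_left]
        cases d <;> cases form v w <;> rfl
      · rw [sm_true, hform]
        cases d <;> cases form v w <;> rfl
    unfold Std.em at h4 ⊢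
    calc x * (pw c S.t * (S.Z e1 v * pw d S.b)) = (x * pw c S.t) * S.Z e1 v * pw d S.b := by group
      _ = pw c S.t * S.Z e1 (sm c w) * (x * S.Z e1 v) * pw d S.b := by rw [h1]; group
      _ = pw c S.t * S.Z e1 (sm c w) * S.Z e1 (v + sm (form v p) p) * pw (form v w) S.b *
            (x * pw d S.b) := by rw [h2]; group
      _ = pw c S.t * (S.Z e1 (sm c w) * (S.Z e1 (v + sm (form v p) p) * pw (form v w) S.b *
            pw d S.b)) * x := by rw [S.b_comm_pw _ hxb]; group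
      _ = _ := by rw [h4]
  -- the conjugates of `x` under `E1`
  have hex : ∀ c v d, InU v → S.em c v d * x * (S.em c v d)⁻¹ =
      S.em false (sm (form v p) p + sm c w) (form v w ^^ form v p) * x := by
    intro c v d hv
    have h1 := hxe c v d hv
    have hU : InU (v + sm (form v p) p + sm c w) := (hvU v hv).add (inU_sm hw c)
    rw [S.E1_inv (S.em_mem hv c d), mul_assoc, h1, ← mul_assoc, S.em_mul hv hU, Bool.xor_self]
    have e1' : v + (v + sm (form v p) p + sm c w) = sm (form v p) p + sm c w := by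
      rw [add_assoc, aab]
    have e2' : (d ^^ (d ^^ (!c && form v w)) ^^ form v (v + sm (form v p) p + sm c w)) =
        (form v w ^^ form v p) := by
      rw [form_add_right, form_add_right, form_self, form_sm_right, form_sm_right]
      cases c <;> cases d <;> cases form v w <;> cases form v p <;> rfl
    rw [e1', e2']
  have hyy : ∀ c1 c2 c3 : Bool, S.em false (sm c2 p + sm c1 w) c3 =
      pw c1 (S.Z e1 w) * (pw c2 (S.Z e1 p) * pw c3 S.b) := by
    intro c1 c2 c3
    have i1 := inU_sm hw c1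
    have i2 := inU_sm hp c2
    have h1 : ∀ c u, pw c (S.Z e1 u) = S.em false (sm c u) false := by
      intro c u
      rw [S.em_Y]
      cases c
      · rw [pw_false, sm_false, S.Z_zero]
      · rfl
    rw [h1, h1, ← S.em_b', S.em_mul i2 inU_zero, S.em_mul i1 (i2.add inU_zero), add_zero,
      form_zero_right, form_sm_right, form_comm (sm c1 w), form_sm_right, form_comm p w, hwp,
      add_comm (sm c2 p)]
    congr 1
    cases c1 <;> cases c2 <;> cases c3 <;> rfl
  -- every element `y` of the commutator group is a short root involution for `x`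
  have hA : ∀ c1 c2 c3 : Bool, (c1 = true ∨ c2 = true ∨ c3 = true) →
      S.IsA2 (g * (pw c1 (S.Z e1 w) * (pw c2 (S.Z e1 p) * pw c3 S.b)) * g⁻¹) := by
    intro c1 c2 c3 hc
    obtain ⟨v, hv, hv1, hv2⟩ := dec_sel hp hw hwp hp0 hw0 hne c2 (c3 ^^ c2)
    have h1 := hex c1 v false hv
    rw [hv1, hv2] at h1
    have hc3 : (c3 ^^ c2 ^^ c2) = c3 := by cases c3 <;> cases c2 <;> rfl
    rw [hc3, hyy] at h1
    have hyE := hyy c1 c2 c3
    set y := pw c1 (S.Z e1 w) * (pw c2 (S.Z e1 p) * pw c3 S.b) with hy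
    set e := S.em c1 v false with he
    have hiU : InU (sm c2 p + sm c1 w) := (inU_sm hp c2).add (inU_sm hw c1)
    have hyy2 : y * y = 1 := by
      rw [← hyE]; exact S.em_sq hiU _ _
    have hy1 : y ≠ 1 := by
      rw [← hyE, ← S.em_zero]
      intro h0
      obtain ⟨-, h2, h3⟩ := S.em_inj hiU inU_zero h0
      rcases hc with h | h | h
      · rw [h, sm_true] at h2
        cases c2
        · rw [sm_false, zero_add] at h2; exact hw0 h2
        · rw [sm_true] at h2; exact hne (eq_of_add h2).symm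
      · rw [h, sm_true] at h2
        cases c1
        · rw [sm_false, add_zero] at h2; exact hp0 h2
        · rw [sm_true] at h2; exact hne (eq_of_add h2).symm
      · rw [h] at h3; cases h3
    have hyx : y * x = x * y := by
      have h2 : (y * x) * (y * x) = 1 := by
        rw [← h1]
        calc e * x * e⁻¹ * (e * x * e⁻¹) = e * (x * x) * e⁻¹ := by group
          _ = 1 := by rw [hxx]; group
      have h3 : y * x = (y * x)⁻¹ := eq_inv_of_mul_eq_one_left h2
      rw [h3, mul_inv_rev, inv_eq_of_mul_eq_one_right hxx, inv_eq_of_mul_eq_one_right hyy2]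
    have h4 : (g * e * g⁻¹) * S.t * (g * e * g⁻¹)⁻¹ = (g * y * g⁻¹) * S.t := by
      calc (g * e * g⁻¹) * S.t * (g * e * g⁻¹)⁻¹ = g * (e * (g⁻¹ * S.t * g) * e⁻¹) * g⁻¹ := by group
        _ = g * (y * (g⁻¹ * S.t * g)) * g⁻¹ := by rw [← hx, h1]
        _ = _ := by group
    have h5 : Commute (g * y * g⁻¹) S.t := by
      unfold Commute SemiconjBy
      calc g * y * g⁻¹ * S.t = g * (y * (g⁻¹ * S.t * g)) * g⁻¹ := by group
        _ = g * ((g⁻¹ * S.t * g) * y) * g⁻¹ := by rw [← hx, hyx]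
        _ = S.t * (g * y * g⁻¹) := by group
    rcases S.D2 (g * e * g⁻¹) (by rw [h4]; exact h5.mul_left (Commute.refl _)) with h6 | ⟨z, hz, h6⟩
    · exfalso
      rw [h4] at h6
      have h7 : g * y * g⁻¹ = 1 := mul_right_cancel (h6.trans (one_mul _).symm)
      apply hy1
      calc y = g⁻¹ * (g * y * g⁻¹) * g := by group
        _ = 1 := by rw [h7]; group
    · rw [h4, h5.eq] at h6
      rw [mul_left_cancel h6]
      exact hz
  have a1 := hA true false false (by simp)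
  have a2 := hA false true false (by simp)
  have a3 := hA false false true (by simp)
  have a4 := hA true true false (by simp)
  have a5 := hA true false true (by simp)
  have a6 := hA false true true (by simp)
  have a7 := hA true true true (by simp)
  simp only [pw_true, pw_false, mul_one, one_mul] at a1 a2 a3 a4 a5 a6 a7
  have s4 : g * (S.Z e1 w * S.Z e1 p) * g⁻¹ = (g * S.Z e1 w * g⁻¹) * (g * S.Z e1 p * g⁻¹) := by group
  have s5 : g * (S.Z e1 w * S.b) * g⁻¹ = (g * S.Z e1 w * g⁻¹) * (g * S.b * g⁻¹) := by group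
  have s6 : g * (S.Z e1 p * S.b) * g⁻¹ = (g * S.Z e1 p * g⁻¹) * (g * S.b * g⁻¹) := by group
  have s7 : g * (S.Z e1 w * (S.Z e1 p * S.b)) * g⁻¹ =
      (g * S.Z e1 w * g⁻¹) * ((g * S.Z e1 p * g⁻¹) * (g * S.b * g⁻¹)) := by group
  rw [s4] at a4
  rw [s5] at a5
  rw [s6] at a6
  rw [s7] at a7
  obtain ⟨k, hk, k1, k2, k3⟩ := S.triple a1 a2 a3 a4 a5 a6 a7
  -- `g0 t g0⁻¹ = x` and `g0` maps the standard pure subgroup to the commutator group
  set! g0 := g⁻¹ * k with hg0
  have q1 : g0 * S.Z e1 e2 * g0⁻¹ = S.Z e1 w := by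
    calc g0 * S.Z e1 e2 * g0⁻¹ = g⁻¹ * (k * S.Z e1 e2 * k⁻¹) * g := by rw [hg0]; group
      _ = _ := by rw [k1]; group
  have q2 : g0 * S.Z e1 e3 * g0⁻¹ = S.Z e1 p := by
    calc g0 * S.Z e1 e3 * g0⁻¹ = g⁻¹ * (k * S.Z e1 e3 * k⁻¹) * g := by rw [hg0]; group
      _ = _ := by rw [k2]; group
  have q3 : g0 * S.Z e2 e3 * g0⁻¹ = S.b := by
    calc g0 * S.Z e2 e3 * g0⁻¹ = g⁻¹ * (k * S.Z e2 e3 * k⁻¹) * g := by rw [hg0]; group
      _ = _ := by rw [k3]; group
  have qt : g0 * S.t * g0⁻¹ = x := by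
    have h1 : k * S.t * k⁻¹ = S.t := by rw [(S.comm k hk).eq, mul_inv_cancel_right]
    calc g0 * S.t * g0⁻¹ = g⁻¹ * (k * S.t * k⁻¹) * g := by rw [hg0]; group
      _ = x := by rw [h1, hx]
  have qzw : ∀ c1 c2 c3 : Bool, g0 * S.zw c1 c2 c3 * g0⁻¹ =
      pw c1 (S.Z e1 w) * (pw c2 (S.Z e1 p) * pw c3 S.b) := by
    intro c1 c2 c3
    have hpw : ∀ (c : Bool) (y z : G), g0 * y * g0⁻¹ = z → g0 * pw c y * g0⁻¹ = pw c z := by
      intro c y z h
      cases c
      · rw [pw_false, pw_false]; group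
      · exact h
    unfold zw
    calc g0 * (pw c1 (S.Z e1 e2) * (pw c2 (S.Z e1 e3) * pw c3 (S.Z e2 e3))) * g0⁻¹ =
        (g0 * pw c1 (S.Z e1 e2) * g0⁻¹) * ((g0 * pw c2 (S.Z e1 e3) * g0⁻¹) *
          (g0 * pw c3 (S.Z e2 e3) * g0⁻¹)) := by group
      _ = _ := by rw [hpw _ _ _ q1, hpw _ _ _ q2, hpw _ _ _ q3]
  -- the transvection
  have hτ : ∀ e, e ∈ S.E1 → Commute (g0 * S.T e1 * g0⁻¹) e := by
    rintro e ⟨c, v, d, hv, he⟩
    have hcomm : ∀ y z, y ∈ S.E1 → g0 * z * g0⁻¹ = y → Commute (g0⁻¹ * e * g0) z := by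
      intro y z hy hz
      have h1 := (S.E1_comm (show e ∈ S.E1 by rw [he]; exact S.em_mem hv c d) hy).eq
      rw [← hz] at h1
      unfold Commute SemiconjBy
      calc g0⁻¹ * e * g0 * z = g0⁻¹ * (e * (g0 * z * g0⁻¹)) * g0 := by group
        _ = z * (g0⁻¹ * e * g0) := by rw [h1]; group
    have hXW : S.XW (S.zw c (form v p) (form v w ^^ form v p)) (g0⁻¹ * e * g0) := by
      refine ⟨⟨hcomm _ _ (S.Y_mem_E1 hw) q1, hcomm _ _ (S.Y_mem_E1 hp) q2,
        hcomm _ _ S.b_mem_E1 q3⟩, ?_⟩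
      have h1 := hex c v d hv
      rw [hyy, ← qzw, ← he] at h1
      have h2 := (S.comm _ (show S.zw c (form v p) (form v w ^^ form v p) ∈ S.L from
        S.L.mul_mem (pw_mem (S.Z_mem _ _) _) (S.L.mul_mem (pw_mem (S.Z_mem _ _) _)
          (pw_mem (S.Z_mem _ _) _)))).eq
      calc g0⁻¹ * e * g0 * S.t * (g0⁻¹ * e * g0)⁻¹ = g0⁻¹ * (e * (g0 * S.t * g0⁻¹) * e⁻¹) * g0 := by
            group
        _ = g0⁻¹ * (g0 * S.zw c (form v p) (form v w ^^ form v p) * g0⁻¹ *
              (g0 * S.t * g0⁻¹)) * g0 := by rw [qt, h1]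
        _ = S.zw c (form v p) (form v w ^^ form v p) * S.t := by group
        _ = _ := h2
    have h3 := (hXW.comm_all S 1).eq
    rw [show wv 1 = e1 by decide] at h3
    unfold Commute SemiconjBy
    calc g0 * S.T e1 * g0⁻¹ * e = g0 * (S.T e1 * (g0⁻¹ * e * g0)) * g0⁻¹ := by group
      _ = e * (g0 * S.T e1 * g0⁻¹) := by rw [← h3]; group
  have hOv : S.Ov (g0 * S.T e1 * g0⁻¹) 0 := by
    refine ⟨inU_zero, hτ _ S.b_mem_E1, fun u hu => ?_, ?_⟩
    · rw [form_zero_right, pw_false, mul_one]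
      exact (hτ _ (S.Y_mem_E1 hu)).eq
    · rw [S.Z_zero, mul_one]
      exact (hτ _ S.t_mem_E1).eq
  obtain ⟨c, v, d, hv, hcv⟩ := hOv.ker
  have hτx : Commute (g0 * S.T e1 * g0⁻¹) x := by
    have h1 := (S.comm _ (S.T_mem e1)).eq
    unfold Commute SemiconjBy
    rw [← qt]
    calc g0 * S.T e1 * g0⁻¹ * (g0 * S.t * g0⁻¹) = g0 * (S.T e1 * S.t) * g0⁻¹ := by group
      _ = g0 * S.t * g0⁻¹ * (g0 * S.T e1 * g0⁻¹) := by rw [h1]; group
  have h1 := hex c v d hv
  rw [← hcv, hτx.eq, mul_inv_cancel_right] at h1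
  have h2 : S.em false (sm (form v p) p + sm c w) (form v w ^^ form v p) = S.em false 0 false := by
    rw [S.em_zero]
    exact mul_right_cancel (h1.symm.trans (one_mul x).symm)
  obtain ⟨-, h3, h4⟩ := S.em_inj ((inU_sm hp _).add (inU_sm hw c)) inU_zero h2
  have h5 : form v p = false ∧ c = false := by
    cases h6 : form v p <;> cases c <;> rw [h6] at h3
    · exact ⟨rfl, rfl⟩
    · rw [sm_false, sm_true, zero_add] at h3; exact absurd h3 hw0
    · rw [sm_false, sm_true, add_zero] at h3; exact absurd h3 hp0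
    · rw [sm_true, sm_true] at h3; exact absurd (eq_of_add h3).symm hne
  obtain ⟨h5, rfl⟩ := h5
  rw [h5, Bool.xor_false] at h4
  obtain ⟨a, c2, hac⟩ := dec_span hp hw hv hwp hp0 hw0 hne h5 h4
  have h6 : g0 * S.T e1 * g0⁻¹ = g0 * S.zw a c2 d * g0⁻¹ := by
    rw [qzw, hcv, hac, add_comm, hyy]
  exact S.T_ne_zw a c2 d (mul_left_cancel (mul_right_cancel h6))

end Std

end Cfsg.Agent.StdSpSix.PatTwo
end

-- part: StdSpSix/PatTwoCls
section
/-!
Pattern `{a2}`: the class of `t` in `H`.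
-/

set_option autoImplicit false

namespace Cfsg.Agent.StdSpSix.PatTwo

open V

namespace Std

open Six

variable {G : Type*} [Group G] (S : Std G)

theorem lam_one_of {g : G} (hg : g ∈ S.HH) (h : S.Lam g false) (hl : S.lam ⟨g, hg⟩ = -1) : False := by
  rw [S.lam_eq hg h] at hl
  exact absurd hl (by decide)

/-- Case of a fixed point. -/
theorem cls_fix {g : G} (hx : g⁻¹ * S.t * g ∈ S.HH) (hl : S.lam ⟨_, hx⟩ = -1) {v : V} (hv : InU v)
    (hfix : g⁻¹ * S.t * g * (S.t * S.Z e1 v) = S.t * S.Z e1 v * (g⁻¹ * S.t * g)) :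
    ∃ k ∈ S.HH, g⁻¹ * S.t * g = k * S.t * k⁻¹ := by
  obtain ⟨r, hr⟩ := S.exists_Ov hv
  have hrH := S.mem_HH_of_Ov hr
  have h1 : r⁻¹ * (S.t * S.Z e1 v) * r = S.t := by
    calc r⁻¹ * (S.t * S.Z e1 v) * r = r⁻¹ * (S.t * S.Z e1 v * r) := by group
      _ = S.t := by rw [← hr.ht]; group
  set x := g⁻¹ * S.t * g with hxd
  have hc : Commute (r⁻¹ * x * r) S.t := by
    unfold Commute SemiconjBy
    conv_lhs => rw [← h1]
    conv_rhs => rw [← h1]
    calc r⁻¹ * x * r * (r⁻¹ * (S.t * S.Z e1 v) * r) = r⁻¹ * (x * (S.t * S.Z e1 v)) * r := by group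
      _ = r⁻¹ * (S.t * S.Z e1 v * x) * r := by rw [hfix]
      _ = _ := by group
  have h2 : r⁻¹ * x * r = (r⁻¹ * g⁻¹) * S.t * (r⁻¹ * g⁻¹)⁻¹ := by rw [hxd]; group
  rcases S.D2 (r⁻¹ * g⁻¹) (by rw [← h2]; exact hc) with h3 | ⟨z, hz, h3⟩
  · refine ⟨r, hrH, ?_⟩
    rw [← h2] at h3
    rw [← h3]; group
  · rw [← h2] at h3
    have hx' : r⁻¹ * x * r ∈ S.HH := S.HH.mul_mem (S.HH.mul_mem (S.HH.inv_mem hrH) hx) hrH
    have hzH : z ∈ S.HH := by
      have : z = S.t * (r⁻¹ * x * r) := by rw [h3, ← mul_assoc, S.tt, one_mul]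
      rw [this]
      exact S.HH.mul_mem S.t_mem_HH hx'
    have hzK : S.Ku z := by
      obtain ⟨h, w, k, hh, hk, he⟩ := hzH
      have : h ∈ S.L := by
        have : h = z * k⁻¹ := by rw [he]; group
        rw [this]
        exact S.L.mul_mem hz.mem (S.L.inv_mem hk.p.mem)
      obtain ⟨-, u, d, hu, hem⟩ := hh.of_mem S this
      rw [he, hem]
      exact (S.Ku_em hu d).mul S hk
    rcases S.IsA2_Ku hz hzK with ⟨u, hu, hzu⟩ | hchi
    · obtain ⟨r', hr'⟩ := S.exists_Ov hu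
      refine ⟨r * r', S.HH.mul_mem hrH (S.mem_HH_of_Ov hr'), ?_⟩
      have h4 : r' * S.t * r'⁻¹ = S.t * S.Z e1 u := by rw [hr'.ht]; group
      calc x = r * (r⁻¹ * x * r) * r⁻¹ := by group
        _ = r * (r' * S.t * r'⁻¹) * r⁻¹ := by rw [h3, h4, hzu]
        _ = _ := by group
    · exfalso
      have h4 := S.Lam_mul S.Lam_t (S.Lam_Ku hzK)
      rw [← h3, hchi, Bool.xor_self] at h4
      refine S.lam_one_of hx' h4 ?_
      have h5 : (⟨r⁻¹ * x * r, hx'⟩ : S.HH) = ⟨r, hrH⟩⁻¹ * ⟨x, hx⟩ * ⟨r, hrH⟩ := Subtype.ext rfl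
      rw [h5, map_mul, map_mul, map_inv, hl, mul_assoc, mul_comm (-1 : ℤˣ), ← mul_assoc,
        inv_mul_cancel, one_mul]

/-- Main lemma on the class of `t` in `H`. -/
theorem cls {g : G} (hx : g⁻¹ * S.t * g ∈ S.HH) (hl : S.lam ⟨_, hx⟩ = -1) :
    ∃ k ∈ S.HH, g⁻¹ * S.t * g = k * S.t * k⁻¹ := by
  obtain ⟨h, w, k, hh, hk, he⟩ := id hx
  by_cases hF : ∃ v, InU v ∧ prj (S.act k v) + w = v
  · obtain ⟨v, hv, hv2⟩ := hF
    refine S.cls_fix hx hl hv ?_
    have := S.act_tY hh hk.p hv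
    rw [hv2, ← he] at this
    exact this
  push Not at hF
  have hxx : h * k * (h * k) = 1 := by
    rw [← he]
    calc g⁻¹ * S.t * g * (g⁻¹ * S.t * g) = g⁻¹ * (S.t * S.t) * g := by group
      _ = 1 := by rw [S.tt]; group
  have kU : ∀ v, InU v → InU (prj (S.act k v)) := fun v hv => inU_prj _ (hk.p.perp S hv.perp)
  have kadd : ∀ u v, prj (S.act k (u + v)) = prj (S.act k u) + prj (S.act k v) := by
    intro u v; rw [S.act_add k hk.p.mem, prj_add]
  have kform : ∀ u v, InU u → InU v → form (prj (S.act k u)) (prj (S.act k v)) = form u v := by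
    intro u v hu hv
    rw [form_prj_left (kU v hv).perp, form_comm, form_prj_left (hk.p.perp S hu.perp),
      S.act_form k hk.p.mem, form_comm]
  -- the square
  have hσ : ∀ v, InU v → prj (S.act k (prj (S.act k v) + w)) + w = v := by
    intro v hv
    have h1 := S.act_tY hh hk.p hv
    have hi : InU (prj (S.act k v) + w) := (kU v hv).add hh.hw
    have h2 := S.act_tY hh hk.p hi
    have h3 : S.t * S.Z e1 v = S.t * S.Z e1 (prj (S.act k (prj (S.act k v) + w)) + w) := by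
      calc S.t * S.Z e1 v = h * k * (h * k) * (S.t * S.Z e1 v) := by rw [hxx, one_mul]
        _ = h * k * (h * k * (S.t * S.Z e1 v)) := by group
        _ = (h * k * (S.t * S.Z e1 (prj (S.act k v) + w))) * (h * k) := by rw [h1]; group
        _ = S.t * S.Z e1 (prj (S.act k (prj (S.act k v) + w)) + w) * (h * k * (h * k)) := by
            rw [h2]; group
        _ = _ := by rw [hxx, mul_one]
    exact (S.Y_inj hv ((kU _ hi).add hh.hw) (mul_left_cancel h3)).symm
  have k0 : prj (S.act k 0) = 0 := by rw [S.act_zero hk.p.mem]; decide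
  have kw : prj (S.act k w) = w := by
    have := hσ 0 inU_zero
    rw [k0, zero_add] at this
    exact eq_of_add this
  have kk : ∀ v, InU v → prj (S.act k (prj (S.act k v))) = v := by
    intro v hv
    have := hσ v hv
    rwa [kadd, kw, aba] at this
  have hw0 : w ≠ 0 := by
    intro h0
    exact hF 0 inU_zero (by rw [k0, h0]; rfl)
  set! n : V → V := fun v => prj (S.act k v) + v with hn
  have nU : ∀ v, InU v → InU (n v) := fun v hv => (kU v hv).add hv
  have nadd : ∀ u v, n (u + v) = n u + n v := by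
    intro u v
    simp only [hn]
    rw [kadd]; abel
  have nw : n w = 0 := by simp only [hn]; rw [kw, aa]
  have nn : ∀ v, InU v → n (n v) = 0 := by
    intro v hv
    simp only [hn]
    rw [kadd, kk v hv, ← add_assoc, aba, add_comm v, aa]
  have nself : ∀ u v, InU u → InU v → form (n u) v = form u (n v) := by
    intro u v hu hv
    simp only [hn]
    rw [form_add_left, form_add_right]
    congr 1
    rw [← kform _ _ (kU u hu) hv, kk u hu]
  have nne : ∀ v, InU v → n v ≠ w := by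
    intro v hv h1
    apply hF v hv
    simp only [hn] at h1
    rw [← h1, aab]
  have nsm : ∀ c v, n (sm c v) = sm c (n v) := by
    intro c v
    cases c
    · rw [sm_false, sm_false]; simp only [hn]; rw [k0, add_zero]
    · rfl
  have hx2 : ∀ v, InU v → h * k * (S.t * S.Z e1 v) = S.t * S.Z e1 (v + n v + w) * (h * k) := by
    intro v hv
    have : v + n v = prj (S.act k v) := by
      simp only [hn]; rw [add_comm (prj _), aab]
    rw [this]
    exact S.act_tY hh hk.p hv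
  by_cases hB1 : ∀ v, InU v → n v = 0
  · -- trivial action: an element of `K1`
    exfalso
    have hA : S.IsA1 k := by
      have key : ∀ v, InU v → S.act k v = v ∨ S.act k v = v + e1 := by
        intro v hv
        have h1 := eq_of_add (hB1 v hv)
        unfold prj at h1
        cases hc : form (S.act k v) f1
        · left
          rw [hc, sm_false, add_zero] at h1
          exact h1
        · right
          rw [hc, sm_true] at h1
          calc S.act k v = S.act k v + e1 + e1 := (aba _ _).symm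
            _ = v + e1 := by rw [h1]
      exact ⟨hk.p.mem, hk.p.h, key e2 (by decide), key e3 (by decide), key f2 (by decide),
        key f3 (by decide)⟩
    obtain ⟨u, hu, d, hkd⟩ := hA.form
    have hke : k = S.em false u d := by
      rw [hkd]; unfold Std.em; rw [pw_false, one_mul]
    have ho := hh.mul S (Ov.em S hu false d)
    rw [← hke, add_zero] at ho
    have hK : S.InK (h * k) w := ⟨ho, ⟨false, by rw [hxx, pw_false]⟩, fun h => absurd h hw0⟩
    have hLam : S.Lam (g⁻¹ * S.t * g) false := by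
      refine ⟨h * k, w, 1, false, ?_, Ku.one S, by rw [mul_one, he], ?_⟩
      · rw [pw_false, one_mul]; exact hK
      · rw [S.chi_one]; rfl
    exact S.lam_one_of hx hLam hl
  · push Not at hB1
    obtain ⟨v0, hv0, hp0⟩ := hB1
    set p := n v0 with hp
    have hpU : InU p := nU v0 hv0
    have hwp : form w p = false := by
      rw [hp, ← nself w v0 hh.hw hv0, nw, form_zero_left]
    by_cases hB2 : ∀ v, InU v → n v = 0 ∨ n v = p
    · exfalso
      have hsm : ∀ v, InU v → ∃ c, n v = sm c p := by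
        intro v hv
        rcases hB2 v hv with h1 | h1
        · exact ⟨false, h1⟩
        · exact ⟨true, h1⟩
      have hform : ∀ v, InU v → n v = sm (form v p) p := by
        intro v hv
        obtain ⟨c, hc⟩ := hsm v hv
        have h1 := nself v0 v hv0 hv
        rw [← hp, hc, form_sm_right] at h1
        have h2 : form v0 p = true := by
          by_contra h3
          rw [Bool.not_eq_true] at h3
          obtain ⟨u, hu, hu2⟩ := dec_third' p hpU hp0
          obtain ⟨c', hc'⟩ := hsm u hu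
          have h4 := nself v0 u hv0 hu
          rw [← hp, hc', form_sm_right, h3, Bool.and_false, hu2] at h4
          cases h4
        rw [h2, Bool.and_true] at h1
        rw [hc, form_comm v p, h1]
      refine S.no_transvection (g := g) (x := h * k) (p := p) (w := w) he.symm
        (hh.hb.mul_left hk.p.b_comm) hpU hh.hw hwp hp0 hw0 (fun h1 => nne v0 hv0 h1.symm) ?_
      intro v hv
      rw [← hform v hv]
      exact hx2 v hv
    · push Not at hB2
      obtain ⟨v1, hv1, hq0, hqp⟩ := hB2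
      exfalso
      have hpq : form (n v1) p = false := by
        rw [hp, ← nself _ v0 (nU v1 hv1) hv0, nn v1 hv1, form_zero_left]
      have hwq : form w (n v1) = false := by
        rw [← nself w v1 hh.hw hv1, nw, form_zero_left]
      obtain ⟨a, c, hac⟩ := dec_span hpU (nU v1 hv1) hh.hw hpq hp0 hq0 hqp hwp hwq
      refine nne (sm a v1 + sm c v0) ((inU_sm hv1 a).add (inU_sm hv0 c)) ?_
      rw [nadd, nsm, nsm, ← hp, ← hac]

end Std

end Cfsg.Agent.StdSpSix.PatTwo
end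

-- part: StdSpSix/PatTwoIdx
section
/-!
Pattern `{a2}`: `|C_G(t) : C_H(t)|` is odd, and the main theorem for `Std G`.
-/

set_option autoImplicit false

namespace Cfsg.Agent.StdSpSix.PatTwo

open Subgroup

/-- Orbit-stabiliser, for conjugation. -/
theorem relIndex_centralizer_eq {G : Type*} [Group G] (A : Subgroup G) (x : G) {ι : Type*}
    [Fintype ι] (f : ι → G) (hf : Function.Injective f)
    (h1 : ∀ a ∈ A, ∃ i, f i = a * x * a⁻¹) (h2 : ∀ i, ∃ a ∈ A, f i = a * x * a⁻¹) :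
    (centralizer ({x} : Set G)).relIndex A = Fintype.card ι := by
  rw [relIndex, index, ← Nat.card_eq_fintype_card]
  choose φ hφ using fun a : A => h1 a a.2
  have key : ∀ a c : A, φ a = φ c ↔ a⁻¹ * c ∈ (centralizer ({x} : Set G)).subgroupOf A := by
    intro a c
    rw [mem_subgroupOf, mem_centralizer_singleton_iff, ← hf.eq_iff, hφ, hφ]
    push_cast
    constructor
    · intro h
      calc (a : G)⁻¹ * c * x = (a : G)⁻¹ * (c * x * (c : G)⁻¹) * c := by group
        _ = (a : G)⁻¹ * (a * x * (a : G)⁻¹) * c := by rw [h]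
        _ = _ := by group
    · intro h
      calc (a : G) * x * (a : G)⁻¹ = a * (x * ((a : G)⁻¹ * c)) * (c : G)⁻¹ := by group
        _ = a * ((a : G)⁻¹ * c * x) * (c : G)⁻¹ := by rw [h]
        _ = _ := by group
  refine Nat.card_congr (Equiv.ofBijective (Quotient.lift φ fun a c h =>
    (key a c).2 (QuotientGroup.leftRel_apply.1 h)) ⟨?_, ?_⟩)
  · intro p q
    induction p using Quotient.inductionOn
    induction q using Quotient.inductionOn
    rename_i a c
    intro h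
    exact Quotient.sound (QuotientGroup.leftRel_apply.2 ((key a c).1 h))
  · intro i
    obtain ⟨a, ha, h⟩ := h2 i
    refine ⟨Quotient.mk _ ⟨a, ha⟩, hf ?_⟩
    change f (φ ⟨a, ha⟩) = f i
    rw [hφ, h]

open V

namespace Std

open Six

variable {G : Type*} [Group G] (S : Std G)

theorem pw_conj_L {a x : G} (ha : Commute a S.t) (hx : x ∈ S.L) :
    ∃ l ∈ S.L, (∀ y ∈ S.L, a * y * a⁻¹ = l * y * l⁻¹) ∧ ∃ c, a = pw c S.t * l := by
  obtain ⟨c, l, hl, rfl⟩ := S.cent' ha
  refine ⟨l, hl, fun y hy => ?_, c, rfl⟩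
  have h := S.t_comm (S.L.mul_mem (S.L.mul_mem hl hy) (S.L.inv_mem hl)) c
  calc pw c S.t * l * y * (pw c S.t * l)⁻¹ = pw c S.t * (l * y * l⁻¹) * (pw c S.t)⁻¹ := by group
    _ = (l * y * l⁻¹) * pw c S.t * (pw c S.t)⁻¹ := by rw [h]
    _ = _ := by group

theorem card_nz : Fintype.card {v : V // v ≠ 0} = 63 := by decide +kernel

instance : DecidablePred InU := fun u => inferInstanceAs (Decidable (_ ∧ _))

theorem card_U : Fintype.card {v : V // InU v ∧ v ≠ 0} = 15 := by decide +kernel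

theorem odd_index : Odd (S.HH.relIndex (centralizer ({S.t} : Set G))) := by
  set C1 := centralizer ({S.t} : Set G) with hC1
  set C2 := centralizer ({S.b} : Set G) ⊓ C1 with hC2
  set C3 := centralizer ({S.Z e1 e2} : Set G) ⊓ C2 with hC3
  have i1 : C2.relIndex C1 = 63 := by
    rw [hC2, inf_relIndex_right, relIndex_centralizer_eq C1 S.b
      (fun v : {v : V // v ≠ 0} => S.T v.1) (fun v w h => Subtype.ext (S.T_injective h)), card_nz]
    · intro a ha
      obtain ⟨l, hl, h1, -⟩ := S.pw_conj_L (mem_centralizer_singleton_iff.1 ha) S.b_mem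
      refine ⟨⟨S.act l e1, fun h => ?_⟩, ?_⟩
      · exact absurd (S.act_eq_zero hl h) (by decide)
      · change S.T (S.act l e1) = a * S.T e1 * a⁻¹
        rw [← S.conj_T hl]
        exact (h1 _ S.b_mem).symm
    · rintro ⟨v, hv⟩
      obtain ⟨l, hl, h1⟩ := S.witt1 hv
      refine ⟨l, mem_centralizer_singleton_iff.2 (S.comm l hl).eq, ?_⟩
      change S.T v = l * S.T e1 * l⁻¹
      rw [S.conj_T hl, h1]
  have i2 : C3.relIndex C2 = 15 := by
    rw [hC3, inf_relIndex_right, relIndex_centralizer_eq C2 (S.Z e1 e2)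
      (fun v : {v : V // InU v ∧ v ≠ 0} => S.Z e1 v.1)
      (fun v w h => Subtype.ext (S.Y_inj v.2.1 w.2.1 h)), card_U]
    · rintro a ⟨ha1, ha2⟩
      obtain ⟨l, hl, h1, c, hc⟩ := S.pw_conj_L (mem_centralizer_singleton_iff.1 ha2) S.b_mem
      have hlb : l * S.b = S.b * l := by
        have h2 := h1 S.b S.b_mem
        have h3 : a * S.b * a⁻¹ = S.b := by
          rw [mem_centralizer_singleton_iff.1 ha1]; group
        rw [h3] at h2
        calc l * S.b = l * S.b * l⁻¹ * l := by group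
          _ = S.b * l := by rw [← h2]
      have he := S.act_of_T_comm hl hlb
      have hp : S.Pk l := ⟨hl, he⟩
      have hZ : S.Z e1 (prj (S.act l e2)) = l * S.Z e1 e2 * l⁻¹ := by
        rw [hp.Y S (by decide)]; group
      refine ⟨⟨prj (S.act l e2), inU_prj _ (hp.perp S (by decide)), fun h => ?_⟩, ?_⟩
      · rw [h, S.Z_zero] at hZ
        have h4 : S.Z e1 e2 = S.Z e1 0 := by
          rw [S.Z_zero]
          calc S.Z e1 e2 = l⁻¹ * (l * S.Z e1 e2 * l⁻¹) * l := by group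
            _ = 1 := by rw [← hZ]; group
        exact absurd (S.Y_inj (by decide) inU_zero h4) (by decide)
      · change S.Z e1 (prj (S.act l e2)) = _
        rw [hZ]
        exact (h1 _ (S.Z_mem _ _)).symm
    · rintro ⟨v, hv, hv0⟩
      obtain ⟨k, hk, h1⟩ := S.exists_to_e2 hv hv0
      refine ⟨k, ⟨mem_centralizer_singleton_iff.2 hk.b_comm.eq,
        mem_centralizer_singleton_iff.2 (S.comm k hk.mem).eq⟩, ?_⟩
      change S.Z e1 v = k * S.Z e1 e2 * k⁻¹
      rw [hk.Y S (by decide), h1, prj_of_inU hv]; group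
  have hle : C3 ≤ S.HH := by
    rintro a ⟨ha0, ha1, ha2⟩
    obtain ⟨c, l, hl, rfl⟩ := S.cent' (mem_centralizer_singleton_iff.1 ha2)
    have hred : ∀ y ∈ S.L, pw c S.t * l * y = y * (pw c S.t * l) → l * y = y * l := by
      intro y hy h
      have h5 : pw c S.t * (l * y) = pw c S.t * (y * l) := by
        calc pw c S.t * (l * y) = pw c S.t * l * y := by group
          _ = y * pw c S.t * l := by rw [h]; group
          _ = pw c S.t * (y * l) := by rw [S.t_comm hy c]; group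
      exact mul_left_cancel h5
    have hb := hred _ S.b_mem (mem_centralizer_singleton_iff.1 ha1)
    have hz := hred _ (S.Z_mem e1 e2) (mem_centralizer_singleton_iff.1 ha0)
    have he := S.act_of_T_comm hl hb
    refine S.HH.mul_mem (pw_mem S.t_mem_HH c) (S.mem_HH_of_Ku ⟨⟨hl, he⟩, ?_⟩)
    rcases S.act_of_Y_comm hl he (show form e1 e2 = false by decide) hz with h | h <;> rw [h] <;> decide
  have h12 : C3.relIndex C1 = 945 := by
    have := relIndex_mul_relIndex C3 C2 C1 inf_le_right inf_le_right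
    rw [i1, i2] at this
    rw [← this]
  have hd := relIndex_dvd_of_le_left C1 hle
  rw [h12] at hd
  exact Odd.of_dvd_nat (by decide) hd

/-- Main theorem for pattern `{a2}`. -/
theorem main [Finite G] : ∃ m : G →* ℤˣ, m S.t = -1 :=
  TR.exists_hom_of_class S.lam S.tt S.t_mem_HH S.lam_t (fun _ h hl => S.cls h hl) S.odd_index

end Std

end Cfsg.Agent.StdSpSix.PatTwo
end

-- part: StdSpSix/PatTwoMain
section
/-!
Pattern `{a2}`: the theorem for a context.
-/

set_option autoImplicit false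

namespace Cfsg.Agent.StdSpSix.PatTwo

open Cfsg.Agent.StandardComponent.SpTwo
open Cfsg.Agent.SporRec.TwoSp6

private noncomputable def _root_.Cfsg.Agent.KOb2a6269.k44 : (by first | exact type_of% @Cfsg.Agent.StdSpSix.Fast.f0 | exact Unit : Sort _) := by first | (refine @Subtype.val _ (fun g => @Cfsg.Agent.StdSpSix.Fast.f0 = @g) (@Subtype.mk _ _ (@(fun x0 x1 => @Nat.beq (@Nat.land (@Nat.shiftRight (nat_lit 7608434000728254870) (@Nat.land @x0 (@Nat.lor (@Nat.shiftRight @x1 (nat_lit 3)) (@Nat.shiftLeft (@Nat.land @x1 (nat_lit 7)) (nat_lit 3))))) (nat_lit 1)) (nat_lit 1))) ?_); rfl') | exact @Cfsg.Agent.StdSpSix.Fast.f0 | exact ()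
private theorem _root_.Cfsg.Agent.KOb2a6269.e44 : (by first | exact @Cfsg.Agent.StdSpSix.Fast.f0 = @_root_.Cfsg.Agent.KOb2a6269.k44 | exact True : Prop) := by first | (delta _root_.Cfsg.Agent.KOb2a6269.k44; exact @Subtype.property _ (fun g => @Cfsg.Agent.StdSpSix.Fast.f0 = @g) _) | rfl | trivial
private noncomputable def _root_.Cfsg.Agent.KOb2a6269.k45 : (by first | exact type_of% @Cfsg.Agent.StdSpSix.Fast.fF | exact Unit : Sort _) := by first | (refine @Subtype.val _ (fun g => @Cfsg.Agent.StdSpSix.Fast.fF = @g) (@Subtype.mk _ _ (@(fun x0 x1 => @Cfsg.Agent.KOb2a6269.k44 (@Nat.mod @x0 (nat_lit 64)) (@Nat.mod @x1 (nat_lit 64)))) ?_); rewrite [← Cfsg.Agent.KOb2a6269.e44]; (try delta Cfsg.Agent.StdSpSix.Fast.fF); (try generalize @Cfsg.Agent.StdSpSix.Fast.f0 = g0); rfl') | exact @Cfsg.Agent.StdSpSix.Fast.fF | exact ()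
private theorem _root_.Cfsg.Agent.KOb2a6269.e45 : (by first | exact @Cfsg.Agent.StdSpSix.Fast.fF = @_root_.Cfsg.Agent.KOb2a6269.k45 | exact True : Prop) := by first | (delta _root_.Cfsg.Agent.KOb2a6269.k45; exact @Subtype.property _ (fun g => @Cfsg.Agent.StdSpSix.Fast.fF = @g) _) | rfl | trivial
private noncomputable def _root_.Cfsg.Agent.KOb2a6269.k46 : (by first | exact type_of% @Cfsg.Agent.StdSpSix.PatTwo.V.num | exact Unit : Sort _) := by first | (refine @Subtype.val _ (fun g => @Cfsg.Agent.StdSpSix.PatTwo.V.num = @g) (@Subtype.mk _ _ (@(fun x0 => @Fin.val _ @x0)) ?_); rfl') | exact @Cfsg.Agent.StdSpSix.PatTwo.V.num | exact ()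
private theorem _root_.Cfsg.Agent.KOb2a6269.e46 : (by first | exact @Cfsg.Agent.StdSpSix.PatTwo.V.num = @_root_.Cfsg.Agent.KOb2a6269.k46 | exact True : Prop) := by first | (delta _root_.Cfsg.Agent.KOb2a6269.k46; exact @Subtype.property _ (fun g => @Cfsg.Agent.StdSpSix.PatTwo.V.num = @g) _) | rfl | trivial

theorem form_fN : ∀ x y : V, Sp.fN x.num y.num = V.form x y := by
  rewrite [Fast.fN_fast]
  (first | (refine of_decide_eq_true ?_; rewrite [Cfsg.Agent.KOb2a6269.e8, Cfsg.Agent.KOb2a6269.e32, Cfsg.Agent.KOb2a6269.e4, Cfsg.Agent.KOb2a6269.e45, Cfsg.Agent.KOb2a6269.e46, Cfsg.Agent.KOb2a6269.e38]; decide +kernel) | decide +kernel)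

theorem om_code (x y : V) : Sp.om (Sp.enc x.num) (Sp.enc y.num) = bif V.form x y then 1 else 0 := by
  rw [Sp.om_enc, form_fN]
  cases V.form x y <;> rfl

/-- Codes as vectors. -/
noncomputable def code : V ≃ Sp.V := Equiv.ofBijective (fun x => Sp.enc x.num) (by
  rw [Fintype.bijective_iff_injective_and_card]
  refine ⟨fun x y h => ?_, ?_⟩
  · by_contra hne
    obtain ⟨v, hv⟩ := Six.exists_form x y hne
    apply hv
    have h1 := om_code v x
    have h2 := om_code v y
    change Sp.enc x.num = Sp.enc y.num at h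
    rw [h, h2] at h1
    cases h3 : V.form v x <;> cases h4 : V.form v y <;> rw [h3, h4] at h1
    · exact absurd h1 (by decide)
    · exact absurd h1 (by decide)
  · rw [Fintype.card_fun, Fintype.card_sum, Fintype.card_fin, ZMod.card]
    decide)

theorem code_add (x y : V) : code (x + y) = code x + code y := by
  change Sp.enc (x + y).num = Sp.enc x.num + Sp.enc y.num
  rw [V.num_add, Sp.enc_xor]

theorem code_om (x y : V) : Sp.om (code x) (code y) = bif V.form x y then 1 else 0 := om_code x y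

section

variable {G W : Type*} [Group G] [AddCommGroup W] [Module (ZMod 2) W] (C : Ctx G W)
  (f : Sp.V ≃ₗ[ZMod 2] W) (hf : ∀ u v, C.S.B (f u) (f v) = Sp.om u v)

/-- Codes as vectors of the context. -/
noncomputable def psi : V ≃ W := code.trans f.toEquiv

theorem psi_add (x y : V) : psi f (x + y) = psi f x + psi f y := by
  change f (code (x + y)) = f (code x) + f (code y)
  rw [code_add, map_add]

theorem psi_zero : psi f 0 = 0 := by
  have := psi_add f 0 0
  rw [V.aa] at this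
  exact left_eq_add.1 this

include hf in
theorem psi_B (x y : V) : C.S.B (psi f x) (psi f y) = bif V.form x y then 1 else 0 := by
  change C.S.B (f (code x)) (f (code y)) = _
  rw [hf, code_om]

include hf in
theorem psi_B_zero {x y : V} : C.S.B (psi f x) (psi f y) = 0 ↔ V.form x y = false := by
  rw [psi_B C f hf]
  cases V.form x y
  · exact ⟨fun _ => rfl, fun _ => rfl⟩
  · exact ⟨fun h => absurd h (by decide), fun h => absurd h (by decide)⟩

include hf in
theorem form_eq_of {x y x' y' : V} (h : C.S.B (psi f x) (psi f y) = C.S.B (psi f x') (psi f y')) :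
    V.form x y = V.form x' y' := by
  rw [psi_B C f hf, psi_B C f hf] at h
  cases h1 : V.form x y <;> cases h2 : V.form x' y' <;> rw [h1, h2] at h
  · exact absurd h (by decide)
  · exact absurd h (by decide)

open Classical in
/-- The structure `Six` of a context. -/
noncomputable def sixOf : Six G where
  L := C.L
  act g x := if h : g ∈ C.L then (psi f).symm (C.S.ρ ⟨g, h⟩ (psi f x)) else x
  act_one x := by
    rw [dif_pos C.L.one_mem]
    have : (⟨1, C.L.one_mem⟩ : C.L) = 1 := rfl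
    rw [this, C.S.ρ_one, Equiv.symm_apply_apply]
  act_mul g hg h hh x := by
    rw [dif_pos (C.L.mul_mem hg hh), dif_pos hg, dif_pos hh, Equiv.apply_symm_apply]
    have : (⟨g * h, C.L.mul_mem hg hh⟩ : C.L) = ⟨g, hg⟩ * ⟨h, hh⟩ := rfl
    rw [this, C.S.ρ_mul]
  act_add g hg x y := by
    rw [dif_pos hg, dif_pos hg, dif_pos hg, psi_add, map_add]
    apply (psi f).injective
    rw [psi_add, Equiv.apply_symm_apply, Equiv.apply_symm_apply, Equiv.apply_symm_apply]
  act_form g hg x y := by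
    rw [dif_pos hg, dif_pos hg]
    apply form_eq_of C f hf
    rw [Equiv.apply_symm_apply, Equiv.apply_symm_apply, C.S.inv]
  act_inj g hg h hh H := by
    have : (⟨g, hg⟩ : C.L) = ⟨h, hh⟩ := by
      apply C.S.ext_iff
      intro v
      obtain ⟨x, rfl⟩ := (psi f).surjective v
      have := H x
      rw [dif_pos hg, dif_pos hh] at this
      exact (psi f).symm.injective this
    exact congrArg Subtype.val this
  T v := C.b (psi f v)
  T_mem v := C.b_mem _
  act_T v x := by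
    rw [dif_pos (C.b_mem _)]
    apply (psi f).injective
    rw [Equiv.apply_symm_apply]
    change C.S.ρ (C.S.τ (psi f v)) (psi f x) = _
    rw [C.S.hτ, psi_B C f hf]
    unfold V.trf
    cases V.form x v
    · change psi f x + (0 : ZMod 2) • psi f v = psi f x
      rw [zero_smul, add_zero]
    · change psi f x + (1 : ZMod 2) • psi f v = psi f (x + v)
      rw [one_smul, psi_add]

end

/-- Main theorem for pattern `{a2}`. -/
theorem main {G W : Type*} [Group G] [Finite G] [AddCommGroup W] [Module (ZMod 2) W] (C : Ctx G W)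
    (h1 : ∀ a c : W, a ≠ 0 → c ≠ 0 → a ≠ c → C.S.B a c = 0 →
      C.t * (C.b a * C.b c * C.b (a + c)) ∈ C.D)
    (h2 : ∀ x ∈ C.D, Commute x C.t → x = C.t ∨ ∃ a c, a ≠ 0 ∧ c ≠ 0 ∧ a ≠ c ∧ C.S.B a c = 0 ∧
      x = C.t * (C.b a * C.b c * C.b (a + c))) : ∃ m : G →* ℤˣ, m C.t = -1 := by
  obtain ⟨f, hf⟩ := Model.exists_iso C.S C.cardV
  have hZ : ∀ a c, (sixOf C f hf).Z a c = C.b (psi f a) * C.b (psi f c) * C.b (psi f a + psi f c) := by
    intro a c
    change C.b (psi f a) * C.b (psi f c) * C.b (psi f (a + c)) = _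
    rw [psi_add]
  have hne : ∀ {a : V}, a ≠ 0 → psi f a ≠ 0 := fun {a} ha h =>
    ha ((psi f).injective (h.trans (psi_zero f).symm))
  let S : Std G :=
    { sixOf C f hf with
      t := C.t
      tt := C.tt
      tL := C.tL
      cent := fun g hg => (C.cent g).1 hg
      comm := fun g hg => C.commute_of_mem hg
      D1 := by
        rintro a c ⟨h3, h4, h5, h6⟩
        obtain ⟨g, hg⟩ := h1 (psi f a) (psi f c) (hne h4) (hne h5)
          (fun h => h6 ((psi f).injective h)) ((psi_B_zero C f hf).2 h3)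
        refine ⟨g, ?_⟩
        rw [← hg, ← hZ]
      D2 := by
        intro g hg
        rcases h2 _ ⟨g, rfl⟩ hg with h | ⟨a', c', ha, hc, hac, hB, hx⟩
        · exact Or.inl h
        · right
          obtain ⟨a, rfl⟩ := (psi f).surjective a'
          obtain ⟨c, rfl⟩ := (psi f).surjective c'
          refine ⟨_, ⟨a, c, ⟨(psi_B_zero C f hf).1 hB, ?_, ?_, ?_⟩, rfl⟩, ?_⟩
          · rintro rfl; exact ha (psi_zero f)
          · rintro rfl; exact hc (psi_zero f)
          · rintro rfl; exact hac rfl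
          · rw [hx, ← hZ] }
  exact S.main

end Cfsg.Agent.StdSpSix.PatTwo
end

-- part: StdSpSix/Main6
section
/-!
# The sign theorem for `C_G(t) = ⟨t⟩ × Sp₆(2)`, modulo the pattern ALL
-/

set_option autoImplicit false

namespace Cfsg.Agent.StdSpSix.Main6

open Subgroup
open Cfsg.Agent.StandardComponent.SpTwo
open Cfsg.Agent.SporRec.TwoSp6
open Cfsg.Agent.StdSpSix.Words Cfsg.Agent.StdSpSix.Counts Cfsg.Agent.StdSpSix.Facts

section
variable {X V : Type*} [Group X] [AddCommGroup V] [Module (ZMod 2) V] {S : SpData X V} (K : Model.Coord S)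

theorem conj_b1 {u : V} (hu : u ≠ 0) : ∃ g, g * S.τ u * g⁻¹ = w K [1] := by
  obtain ⟨u, rfl⟩ := K.f.surjective u
  have hu' : u ≠ 0 := by rintro rfl; exact hu (map_zero _)
  obtain ⟨g, hg⟩ := Sp.exists_act hu' (w := Sp.enc 1) (by decide)
  refine ⟨K.e g, ?_⟩
  rw [← K.tr, ← map_inv, ← map_mul, ← map_mul, Sp.conj_tr, hg]
  unfold w
  rw [W1]

theorem conj_a2 {a c : V} (ha : a ≠ 0) (hc : c ≠ 0) (hac : a ≠ c) (hB : S.B a c = 0) :
    ∃ g, g * (S.τ a * S.τ c * S.τ (a + c)) * g⁻¹ = w K [1, 2, 3] := by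
  obtain ⟨a, rfl⟩ := K.f.surjective a
  obtain ⟨c, rfl⟩ := K.f.surjective c
  have h1 : P2 (a, c) := by
    refine ⟨?_, ?_, ?_, ?_⟩
    · rintro rfl; exact ha (map_zero _)
    · rintro rfl; exact hc (map_zero _)
    · rintro h; exact hac (by rw [show c = a from h])
    · rw [← K.om]; exact hB
  obtain ⟨g, g1, g2⟩ := exists_std h1
  refine ⟨K.e g, ?_⟩
  rw [← map_add, ← K.tr, ← K.tr, ← K.tr, ← map_inv, ← map_mul, ← map_mul, ← map_mul, ← map_mul, conj_prod3, Sp.conj_tr,
    Sp.conj_tr, Sp.conj_tr, Sp.act_add, g1, g2, ← Sp.enc_xor]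
  unfold w
  rw [W3]
  rfl

end

variable {G V : Type*} [Group G] [Finite G] [AddCommGroup V] [Module (ZMod 2) V]

/-- **The sign theorem for `C_G(t) = ⟨t⟩ × Sp₆(2)`, modulo the pattern ALL.** -/
theorem main (C : Ctx G V)
    (hALL : (∀ x ∈ C.L, x ∉ C.D) → (∀ x ∈ C.L, x * x = 1 → C.t * x ∈ C.D) → ∃ m : G →* ℤˣ, m C.t = -1) :
    ∃ m : G →* ℤˣ, m C.t = -1 := by
  obtain ⟨K⟩ := Model.exists_coord C.S C.cardV
  rcases ELevelEnd.main C K with h | ⟨hno, h⟩
  · exact h
  -- every member of `D` commuting with `t` is `t l`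
  have hl : ∀ x ∈ C.D, Commute x C.t → ∃ l : C.L, l * l = 1 ∧ x = C.t * (l : G) := by
    intro x hx hc
    have h1 : C.t * x ∈ C.L := ((C.cent x).1 hc).resolve_left (fun h' => hno x h' hx)
    refine ⟨⟨C.t * x, h1⟩, Subtype.ext ?_, ?_⟩
    · change C.t * x * (C.t * x) = 1
      calc C.t * x * (C.t * x) = C.t * (x * C.t) * x := by group
        _ = C.t * (C.t * x) * x := by rw [hc.eq]
        _ = (C.t * C.t) * (x * x) := by group
        _ = 1 := by rw [C.tt, C.D_sq hx, one_mul]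
    · change x = C.t * (C.t * x)
      rw [← mul_assoc, C.tt, one_mul]
  rcases h with ⟨h1, h2, h3, h4⟩ | ⟨h1, h2, h3, h4⟩ | ⟨h1, h2, h3, h4⟩
  · -- pattern b1
    refine PatOneSign.pattern_b1 C ?_ ?_
    · intro x hx hc
      obtain ⟨l, hl1, rfl⟩ := hl x hx hc
      by_cases h0 : l = 1
      · left; rw [h0, Subgroup.coe_one, mul_one]
      right
      rcases exists_conj K hl1 h0 with ⟨⟨u, hu, h5⟩, _⟩ | ⟨_, h5⟩ | ⟨_, h5⟩ | ⟨_, h5⟩
      · exact ⟨u, hu, by rw [h5]; rfl⟩
      · exact (h2 ((T_iff C K h5).1 hx)).elim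
      · exact (h3 ((T_iff C K h5).1 hx)).elim
      · exact (h4 ((T_iff C K h5).1 hx)).elim
    · intro u hu
      exact (T_iff C K (x := C.S.τ u) (conj_b1 K hu)).2 h1
  · -- pattern a2
    refine PatTwo.main C ?_ ?_
    · intro a c ha hc hac hB
      exact (T_iff C K (x := C.S.τ a * C.S.τ c * C.S.τ (a + c)) (conj_a2 K ha hc hac hB)).2 h3
    · intro x hx hc
      obtain ⟨l, hl1, rfl⟩ := hl x hx hc
      by_cases h0 : l = 1
      · left; rw [h0, Subgroup.coe_one, mul_one]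
      right
      rcases exists_conj K hl1 h0 with ⟨_, h5⟩ | ⟨_, h5⟩ | ⟨⟨a, c, ha, hc, hac, hB, h6⟩, h5⟩ | ⟨_, h5⟩
      · exact (h1 ((T_iff C K h5).1 hx)).elim
      · exact (h2 ((T_iff C K h5).1 hx)).elim
      · exact ⟨a, c, ha, hc, fun h => hac h.symm, hB, by rw [h6]; rfl⟩
      · exact (h4 ((T_iff C K h5).1 hx)).elim
  · -- pattern ALL
    refine hALL hno ?_
    intro x hx hxx
    by_cases h0 : x = 1
    · rw [h0, mul_one]; exact C.t_mem_D
    have hl1 : (⟨x, hx⟩ : C.L) * ⟨x, hx⟩ = 1 := Subtype.ext hxx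
    have hl0 : (⟨x, hx⟩ : C.L) ≠ 1 := fun h => h0 (congrArg Subtype.val h)
    rcases exists_conj K hl1 hl0 with ⟨_, h5⟩ | ⟨_, h5⟩ | ⟨_, h5⟩ | ⟨_, h5⟩
    · exact (T_iff C K h5).2 h1
    · exact (T_iff C K h5).2 h2
    · exact (T_iff C K h5).2 h3
    · exact (T_iff C K h5).2 h4

end Cfsg.Agent.StdSpSix.Main6
end

-- part: StdSpSix/SwBase
section
/-!
# The elements `y_u` in coordinates: uniqueness, and the commutator of two of them
-/

set_option autoImplicit false

namespace Cfsg.Agent.StdSpSix.Sw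

open Cfsg.Agent.StandardComponent.SpTwo
open Cfsg.Agent.SporRec.TwoSp6
open Cfsg.Agent.StdSpSix.Words
open Cfsg.Agent.StdSpSix.Counts

/-! ### facts about `Sp₆(2)` -/

theorem tr_inj {u w : Sp.V} (h : Sp.tr u = Sp.tr w) : u = w := by
  have key : ∀ {u w : Sp.V}, Sp.tr u = Sp.tr w → u ≠ 0 → u = w := by
    intro u w h hu
    by_contra hne
    obtain ⟨a, h1, h2⟩ := Sp.exists_om_one_zero hu hne
    have h3 : Sp.act (Sp.tr u) a = Sp.act (Sp.tr w) a := by rw [h]
    rw [Sp.act_tr, Sp.act_tr, Sp.om_symm a u, Sp.om_symm a w, h1, h2, one_smul, zero_smul, add_zero] at h3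
    exact hu (add_eq_left.1 h3)
  by_cases hu : u = 0
  · by_cases hw : w = 0
    · rw [hu, hw]
    · exact (key h.symm hw).symm
  · exact key h hu

theorem comm_iff {s : Sp.S} {u : Sp.V} : s * Sp.tr u = Sp.tr u * s ↔ Sp.act s u = u := by
  constructor
  · intro h
    apply tr_inj
    rw [← Sp.conj_tr, h]; group
  · intro h
    have h1 := Sp.conj_tr s u
    rw [h] at h1
    calc s * Sp.tr u = s * Sp.tr u * s⁻¹ * s := by group
      _ = Sp.tr u * s := by rw [h1]

theorem om_tr_comm {u w : Sp.V} (h : Sp.om u w = 0) : Sp.tr w * Sp.tr u = Sp.tr u * Sp.tr w :=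
  (Sp.tr_comm h).symm

theorem dc1 {s : Sp.S} {u : Sp.V} (hu : u ≠ 0) (h : ∀ r, r * Sp.tr u = Sp.tr u * r → s * r = r * s) :
    s = 1 ∨ s = Sp.tr u := by
  have hfix : ∀ w, Sp.om u w = 0 → Sp.act s w = w := fun w hw => comm_iff.1 (h _ (om_tr_comm hw))
  obtain ⟨x, hx⟩ := Sp.exists_om_one hu
  have h1 : ∀ w, Sp.om u w = 0 → Sp.om (Sp.act s x + x) w = 0 := by
    intro w hw
    have h2 : Sp.om (Sp.act s x) w = Sp.om x w := by
      conv_lhs => rw [← hfix w hw]
      exact Sp.act_om _ _ _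
    rw [Sp.om_add', h2, CharTwo.add_self_eq_zero]
  have h2 : Sp.act s x = x ∨ Sp.act s x = x + u := by
    by_cases h0 : Sp.act s x + x = 0
    · left
      exact Invol.eq_of_add_eq_zero h0
    · by_cases h3 : Sp.act s x + x = u
      · right
        rw [← h3, add_comm (Sp.act s x) x, ← add_assoc, Sp.add_self, zero_add]
      · obtain ⟨a, ha, hb⟩ := Sp.exists_om_one_zero h0 h3
        rw [h1 a hb] at ha
        exact absurd ha (by decide)
  have h3 : ∀ y, Sp.om u y = 1 → Sp.act s y = y + (Sp.act s x + x) := by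
    intro y hy
    have h4 := hfix (y + x) (by rw [Sp.om_add, hx, hy]; decide)
    rw [Sp.act_add] at h4
    have h5 : Sp.act s y = Sp.act s y + Sp.act s x + Sp.act s x := by
      rw [add_assoc, Sp.add_self, add_zero]
    rw [h5, h4, add_assoc, add_comm x]
  rcases h2 with h2 | h2
  · left
    apply Sp.act_ext
    intro y
    rw [Sp.act_one]
    rcases Sp.om_cases u y with h4 | h4
    · exact hfix y h4
    · rw [h3 y h4, h2, Sp.add_self, add_zero]
  · right
    apply Sp.act_ext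
    intro y
    rw [Sp.act_tr, Sp.om_symm]
    rcases Sp.om_cases u y with h4 | h4
    · rw [hfix y h4, h4, zero_smul, add_zero]
    · rw [h3 y h4, h2, h4, one_smul, add_comm x u, add_assoc, Sp.add_self, add_zero]

theorem enc_split : ∀ c : Fin 64, Sp.enc c = ((if c.1.testBit 0 then Sp.enc 1 else 0) + (if c.1.testBit 1 then Sp.enc 2 else 0) +
    (if c.1.testBit 2 then Sp.enc 4 else 0)) + ((if c.1.testBit 3 then Sp.enc 8 else 0) +
    (if c.1.testBit 4 then Sp.enc 16 else 0) + (if c.1.testBit 5 then Sp.enc 32 else 0)) := by decide +kernel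

theorem ext6 {s r : Sp.S} (h1 : Sp.act s (Sp.enc 1) = Sp.act r (Sp.enc 1)) (h2 : Sp.act s (Sp.enc 2) = Sp.act r (Sp.enc 2))
    (h4 : Sp.act s (Sp.enc 4) = Sp.act r (Sp.enc 4)) (h8 : Sp.act s (Sp.enc 8) = Sp.act r (Sp.enc 8))
    (h16 : Sp.act s (Sp.enc 16) = Sp.act r (Sp.enc 16)) (h32 : Sp.act s (Sp.enc 32) = Sp.act r (Sp.enc 32)) : s = r := by
  apply Sp.act_ext
  intro x
  obtain ⟨c, hc, rfl⟩ := Sp.exists_enc x
  have hif : ∀ (b : Bool) (k : ℕ), Sp.act s (Sp.enc k) = Sp.act r (Sp.enc k) →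
      Sp.act s (if b then Sp.enc k else 0) = Sp.act r (if b then Sp.enc k else 0) := by
    intro b k hk
    cases b
    · exact (Invol.act_zero s).trans (Invol.act_zero r).symm
    · exact hk
  rw [enc_split ⟨c, hc⟩]
  simp only [Sp.act_add]
  rw [hif _ _ h1, hif _ _ h2, hif _ _ h4, hif _ _ h8, hif _ _ h16, hif _ _ h32]

/-- the eight words -/
def list8 : List (List ℕ) := [[], [1], [2], [3], [1, 2], [1, 3], [2, 3], [1, 2, 3]]

private theorem _root_.Cfsg.Agent.KOb2a6269.e0.{ku, kv} {α : Type kv} {M : List α → Sort ku} (φ : ∀ l, M l) {z : M List.nil} {s : ∀ a l, M l → M (List.cons a l)} (h0 : φ List.nil = z) (hs : ∀ a l, φ (List.cons a l) = s a l (φ l)) (l : List α) : φ l = @List.rec α M z s l := List.rec h0 (fun a l ih => (hs a l).trans (congrArg (s a l) ih)) l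
private noncomputable def _root_.Cfsg.Agent.KOb2a6269.k19 : type_of% @instDecidableAnd := @(fun x0 x1 x2 x3 => @Decidable.rec.{1} _ @(fun x4 => @Decidable (@And @x0 @x1)) @(fun x4 => @Decidable.isFalse _ (@instDecidableAnd._proof_2 _ _ @x4)) @(fun x4 => @Decidable.rec.{1} _ @(fun x5 => @Decidable (@And @x0 @x1)) @(fun x5 => @Decidable.isFalse _ (@instDecidableAnd._proof_1 _ _ @x5)) @(fun x5 => @Decidable.isTrue _ (@And.intro _ _ @x4 @x5)) @x3) @x2)
private theorem _root_.Cfsg.Agent.KOb2a6269.e19 : @instDecidableAnd = @_root_.Cfsg.Agent.KOb2a6269.k19 := by delta _root_.Cfsg.Agent.KOb2a6269.k19; rfl'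
private noncomputable def _root_.Cfsg.Agent.KOb2a6269.oB.{ku} (α : Sort ku) (c : Bool) (f t : α) : α := @Decidable.rec (c = true) (fun _ => α) (fun _ => f) (fun _ => t) (instDecidableEqBool c true)
private noncomputable def _root_.Cfsg.Agent.KOb2a6269.k21.{ku} (α : Sort ku) (c : Bool) (f t : α) : α := @Bool.rec (fun _ => α) f t c
private theorem _root_.Cfsg.Agent.KOb2a6269.e21.{ku} : @_root_.Cfsg.Agent.KOb2a6269.oB.{ku} = @_root_.Cfsg.Agent.KOb2a6269.k21.{ku} := funext fun α => funext fun c => funext fun f => funext fun t => by cases c <;> rfl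
private noncomputable def _root_.Cfsg.Agent.KOb2a6269.k61.{ku0} : type_of% @List.decidableBEx.{ku0} := @(fun x0 x1 x2 x3 => @List.rec.{1, ku0} @x0 @(fun x4 => @Decidable (@Exists.{(ku0+1)} _ @(fun x5 => @And (@Membership.mem.{ku0, ku0} _ _ _ @x4 @x5) (@x1 @x5)))) (@Decidable.isFalse _ (@List.decidableBEx._proof_1.{ku0} _ @x1)) @(fun x4 x5 x6 => @Decidable.rec.{1} _ @(fun x7 => @Decidable (@Exists.{(ku0+1)} _ @(fun x8 => @And (@Membership.mem.{ku0, ku0} _ _ _ (@x4 :: @x5) @x8) (@x1 @x8)))) @(fun x7 => @Decidable.rec.{1} _ @(fun x8 => @Decidable (@Exists.{(ku0+1)} _ @(fun x9 => @And (@Membership.mem.{ku0, ku0} _ _ _ (@x4 :: @x5) @x9) (@x1 @x9)))) @(fun x8 => @Decidable.isFalse _ (@List.decidableBEx._proof_4.{ku0} _ @x1 @x4 @x5 @x7 @x8)) @(fun x8 => @Decidable.isTrue _ (@List.decidableBEx._proof_3.{ku0} _ @x1 @x4 @x5 @x8)) @x6) @(fun x7 => @Decidable.isTrue _ (@List.decidableBEx._proof_2.{ku0} _ @x1 @x4 @x5 @x7)) (@x2 @x4)) @x3)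
private theorem _root_.Cfsg.Agent.KOb2a6269.e61.{ku0} : @List.decidableBEx.{ku0} = @_root_.Cfsg.Agent.KOb2a6269.k61.{ku0} := by delta _root_.Cfsg.Agent.KOb2a6269.k61; funext a0 a1 a2 a3; refine (_root_.Cfsg.Agent.KOb2a6269.e0 (fun a3 => @List.decidableBEx.{ku0} a0 a1 a2 a3) ?_ (fun c0 c1 => ?_) a3 :) <;> (rfl')
private noncomputable def _root_.Cfsg.Agent.KOb2a6269.k62 : type_of% @instDecidableEqNat := @Cfsg.Agent.KOb2a6269.k16
private theorem _root_.Cfsg.Agent.KOb2a6269.e62 : @instDecidableEqNat = @_root_.Cfsg.Agent.KOb2a6269.k62 := by delta _root_.Cfsg.Agent.KOb2a6269.k62; rewrite [← Cfsg.Agent.KOb2a6269.e16]; rfl'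
private noncomputable def _root_.Cfsg.Agent.KOb2a6269.k63.{ku0, ku1} : type_of% @List.foldr.{ku0, ku1} := @(fun x0 x1 x2 x3 x4 => @List.rec.{(ku1+1), ku0} @x0 @(fun x5 => @x1) @x3 @(fun x5 x6 x7 => @x2 @x5 @x7) @x4)
private theorem _root_.Cfsg.Agent.KOb2a6269.e63.{ku0, ku1} : @List.foldr.{ku0, ku1} = @_root_.Cfsg.Agent.KOb2a6269.k63.{ku0, ku1} := by delta _root_.Cfsg.Agent.KOb2a6269.k63; funext a0 a1 a2 a3 a4; refine (_root_.Cfsg.Agent.KOb2a6269.e0 (fun a4 => @List.foldr.{ku0, ku1} a0 a1 a2 a3 a4) ?_ (fun c0 c1 => ?_) a4 :) <;> (rfl')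
private noncomputable def _root_.Cfsg.Agent.KOb2a6269.k65 : (by first | exact type_of% @Cfsg.Agent.StdSpSix.Words.tc | exact Unit : Sort _) := by first | (refine @Subtype.val _ (fun g => @Cfsg.Agent.StdSpSix.Words.tc = @g) (@Subtype.mk _ _ (@(fun x0 x1 => @Cfsg.Agent.KOb2a6269.k21.{1} ℕ (@Cfsg.Agent.SporRec.TwoSp6.Sp.fN @x1 @x0) @x1 (@Nat.xor @x1 @x0))) ?_); rewrite [← Cfsg.Agent.KOb2a6269.e21.{1}]; (try delta Cfsg.Agent.StdSpSix.Words.tc); (try generalize @Cfsg.Agent.SporRec.TwoSp6.Sp.fN = g0); rfl') | exact @Cfsg.Agent.StdSpSix.Words.tc | exact ()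
private theorem _root_.Cfsg.Agent.KOb2a6269.e65 : (by first | exact @Cfsg.Agent.StdSpSix.Words.tc = @_root_.Cfsg.Agent.KOb2a6269.k65 | exact True : Prop) := by first | (delta _root_.Cfsg.Agent.KOb2a6269.k65; exact @Subtype.property _ (fun g => @Cfsg.Agent.StdSpSix.Words.tc = @g) _) | rfl | trivial
private noncomputable def _root_.Cfsg.Agent.KOb2a6269.k66 : (by first | exact type_of% @Cfsg.Agent.StdSpSix.Words.wc | exact Unit : Sort _) := by first | (refine @Subtype.val _ (fun g => @Cfsg.Agent.StdSpSix.Words.wc = @g) (@Subtype.mk _ _ (@(fun x0 x1 => @Cfsg.Agent.KOb2a6269.k63.{0, 0} _ _ @Cfsg.Agent.KOb2a6269.k65 @x1 @x0)) ?_); rewrite [← Cfsg.Agent.KOb2a6269.e65, ← Cfsg.Agent.KOb2a6269.e63.{0, 0}]; (try delta Cfsg.Agent.StdSpSix.Words.wc); (try generalize @Cfsg.Agent.StdSpSix.Words.tc = g0); rfl') | exact @Cfsg.Agent.StdSpSix.Words.wc | exact ()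
private theorem _root_.Cfsg.Agent.KOb2a6269.e66 : (by first | exact @Cfsg.Agent.StdSpSix.Words.wc = @_root_.Cfsg.Agent.KOb2a6269.k66 | exact True : Prop) := by first | (delta _root_.Cfsg.Agent.KOb2a6269.k66; exact @Subtype.property _ (fun g => @Cfsg.Agent.StdSpSix.Words.wc = @g) _) | rfl | trivial

theorem tab8 : ∀ a b : Fin 64, (Sp.fN a 1 = true ∧ Sp.fN a 2 = false ∧ Sp.fN a 4 = false ∧ Sp.fN a 32 = false ∧
    Sp.fN b 1 = false ∧ Sp.fN b 2 = true ∧ Sp.fN b 4 = false ∧ Sp.fN b 32 = false ∧ Sp.fN a b = false) →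
    ∃ ks ∈ list8, wc ks 1 = 1 ∧ wc ks 2 = 2 ∧ wc ks 4 = 4 ∧ wc ks 8 = a ∧ wc ks 16 = b ∧ wc ks 32 = 32 := by
  rewrite [Fast.fN_fast]
  (first | (refine of_decide_eq_true ?_; rewrite [Cfsg.Agent.KOb2a6269.e8, Cfsg.Agent.KOb2a6269.e10, Cfsg.Agent.KOb2a6269.e30, Cfsg.Agent.KOb2a6269.e19, Cfsg.Agent.KOb2a6269.e4, Cfsg.Agent.KOb2a6269.e45, Cfsg.Agent.KOb2a6269.e61.{0}, Cfsg.Agent.KOb2a6269.e62, Cfsg.Agent.KOb2a6269.e66]; decide +kernel) | decide +kernel)

theorem fN_of_om {a b : ℕ} (h : Sp.om (Sp.enc a) (Sp.enc b) = 0) : Sp.fN a b = false := (om_enc_zero a b).1 h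

theorem fN_of_om' {a b : ℕ} (h : Sp.om (Sp.enc a) (Sp.enc b) = 1) : Sp.fN a b = true := by
  cases hf : Sp.fN a b
  · rw [(om_enc_zero a b).2 hf] at h
    exact absurd h (by decide)
  · rfl

theorem om_of_fN {a b : ℕ} (h : Sp.fN a b = true) : Sp.om (Sp.enc a) (Sp.enc b) = 1 := by
  rw [Sp.om_enc, h]; rfl

theorem om_of_fN' {a b : ℕ} (h : Sp.fN a b = false) : Sp.om (Sp.enc a) (Sp.enc b) = 0 := (om_enc_zero a b).2 h

theorem dc2 {s : Sp.S} (h : ∀ r, r * Sp.tr (Sp.enc 1) = Sp.tr (Sp.enc 1) * r → r * Sp.tr (Sp.enc 2) = Sp.tr (Sp.enc 2) * r →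
    s * r = r * s) : ∃ ks ∈ list8, s = W ks := by
  have hfix : ∀ k, Sp.fN 1 k = false → Sp.fN 2 k = false → Sp.act s (Sp.enc k) = Sp.enc k := by
    intro k h1 h2
    exact comm_iff.1 (h _ (om_tr_comm (om_of_fN' h1)) (om_tr_comm (om_of_fN' h2)))
  have f1 := hfix 1 (by decide) (by decide)
  have f2 := hfix 2 (by decide) (by decide)
  have f4 := hfix 4 (by decide) (by decide)
  have f32 := hfix 32 (by decide) (by decide)
  obtain ⟨a, ha, ea⟩ := Sp.exists_enc (Sp.act s (Sp.enc 8))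
  obtain ⟨b, hb, eb⟩ := Sp.exists_enc (Sp.act s (Sp.enc 16))
  have ha' : ∀ k, Sp.act s (Sp.enc k) = Sp.enc k → Sp.om (Sp.enc a) (Sp.enc k) = Sp.om (Sp.enc 8) (Sp.enc k) := by
    intro k hk
    rw [← ea]
    conv_lhs => rw [← hk]
    exact Sp.act_om _ _ _
  have hb' : ∀ k, Sp.act s (Sp.enc k) = Sp.enc k → Sp.om (Sp.enc b) (Sp.enc k) = Sp.om (Sp.enc 16) (Sp.enc k) := by
    intro k hk
    rw [← eb]
    conv_lhs => rw [← hk]
    exact Sp.act_om _ _ _
  have hab : Sp.om (Sp.enc a) (Sp.enc b) = Sp.om (Sp.enc 8) (Sp.enc 16) := by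
    rw [← ea, ← eb]; exact Sp.act_om _ _ _
  obtain ⟨ks, hks, k1, k2, k4, k8, k16, k32⟩ := tab8 ⟨a, ha⟩ ⟨b, hb⟩
    ⟨fN_of_om' ((ha' 1 f1).trans (om_of_fN (by decide))), fN_of_om ((ha' 2 f2).trans (om_of_fN' (by decide))),
    fN_of_om ((ha' 4 f4).trans (om_of_fN' (by decide))), fN_of_om ((ha' 32 f32).trans (om_of_fN' (by decide))),
    fN_of_om ((hb' 1 f1).trans (om_of_fN' (by decide))), fN_of_om' ((hb' 2 f2).trans (om_of_fN (by decide))),
    fN_of_om ((hb' 4 f4).trans (om_of_fN' (by decide))), fN_of_om ((hb' 32 f32).trans (om_of_fN' (by decide))),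
    fN_of_om (hab.trans (om_of_fN' (by decide)))⟩
  refine ⟨ks, hks, ext6 ?_ ?_ ?_ ?_ ?_ ?_⟩
  · rw [act_W, k1, f1]
  · rw [act_W, k2, f2]
  · rw [act_W, k4, f4]
  · rw [act_W, k8, ea]
  · rw [act_W, k16, eb]
  · rw [act_W, k32, f32]

/-! ### the setting -/

/-- `C_G(t) = ⟨t⟩ × Sp₆(2)`, given by an injective homomorphism. -/
structure Dat (G : Type*) [Group G] where
  t : G
  φ : Sp.S →* G
  tt : t * t = 1
  inj : Function.Injective φ
  comm : ∀ s, φ s * t = t * φ s
  cent : ∀ g, g * t = t * g → ∃ s, g = φ s ∨ g = t * φ s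
  tφ : ∀ s, φ s ≠ t

variable {G : Type*} [Group G] (D : Dat G)

/-- `g` is a `y_u`. -/
structure Y (u : Sp.V) (g : G) : Prop where
  sq : g * g = 1
  conj : g * D.t * g = D.t * D.φ (Sp.tr u)
  comm : ∀ s, Sp.act s u = u → D.φ s * g = g * D.φ s

variable {D}

theorem Y.map {u : Sp.V} {g : G} (h : Y D u g) (s : Sp.S) : Y D (Sp.act s u) (D.φ s * g * (D.φ s)⁻¹) := by
  refine ⟨?_, ?_, fun r hr => ?_⟩
  · calc D.φ s * g * (D.φ s)⁻¹ * (D.φ s * g * (D.φ s)⁻¹) = D.φ s * (g * g) * (D.φ s)⁻¹ := by group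
      _ = 1 := by rw [h.sq]; group
  · have h1 : (D.φ s)⁻¹ * D.t * D.φ s = D.t := by
      rw [mul_assoc, ← D.comm]; group
    calc D.φ s * g * (D.φ s)⁻¹ * D.t * (D.φ s * g * (D.φ s)⁻¹)
        = D.φ s * (g * ((D.φ s)⁻¹ * D.t * D.φ s) * g) * (D.φ s)⁻¹ := by group
      _ = D.φ s * D.t * D.φ (Sp.tr u) * (D.φ s)⁻¹ := by rw [h1, h.conj]; group
      _ = D.t * (D.φ s * D.φ (Sp.tr u) * (D.φ s)⁻¹) := by rw [D.comm]; group
      _ = D.t * D.φ (Sp.tr (Sp.act s u)) := by rw [← Sp.conj_tr, map_mul, map_mul, map_inv]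
  · have h1 : Sp.act (s⁻¹ * r * s) u = u := by
      rw [Sp.act_mul, Sp.act_mul, hr, ← Sp.act_mul, inv_mul_cancel, Sp.act_one]
    have h2 := h.comm _ h1
    rw [map_mul, map_mul, map_inv] at h2
    calc D.φ r * (D.φ s * g * (D.φ s)⁻¹) = D.φ s * ((D.φ s)⁻¹ * D.φ r * D.φ s * g) * (D.φ s)⁻¹ := by group
      _ = D.φ s * g * (D.φ s)⁻¹ * D.φ r := by rw [h2]; group

theorem Y.comm' {u w : Sp.V} {g : G} (h : Y D u g) (hw : Sp.om u w = 0) :
    D.φ (Sp.tr w) * g = g * D.φ (Sp.tr w) :=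
  h.comm _ (by rw [Sp.act_tr, hw, zero_smul, add_zero])

theorem φ_tr_sq (u : Sp.V) : D.φ (Sp.tr u) * D.φ (Sp.tr u) = 1 := by
  rw [← map_mul, Sp.tr_sq, map_one]

/-- uniqueness -/
theorem Y.uniq {u : Sp.V} (hu : u ≠ 0) {g g' : G} (h : Y D u g) (h' : Y D u g') :
    g' = g ∨ g' = g * D.φ (Sp.tr u) := by
  have hself : D.φ (Sp.tr u) * g = g * D.φ (Sp.tr u) := h.comm' (Sp.om_self u)
  have h1 : g * g' * D.t = D.t * (g * g') := by
    calc g * g' * D.t = g * (g' * D.t * g') * g' := by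
          have e : g * (g' * D.t * g') * g' = g * g' * D.t * (g' * g') := by group
          rw [e, h'.sq, mul_one]
      _ = g * D.t * (D.φ (Sp.tr u) * g) * g * g' := by
          rw [h'.conj]
          calc g * (D.t * D.φ (Sp.tr u)) * g' = g * D.t * D.φ (Sp.tr u) * (g * g) * g' := by rw [h.sq]; group
            _ = _ := by group
      _ = (g * D.t * g) * D.φ (Sp.tr u) * g * g' := by rw [hself]; group
      _ = D.t * (g * g') := by
          rw [h.conj, mul_assoc D.t, φ_tr_sq]; group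
  obtain ⟨s, hs⟩ := D.cent _ h1
  have hs1 : s = 1 ∨ s = Sp.tr u := by
    apply dc1 hu
    intro r hr
    have hr' := comm_iff.1 hr
    apply D.inj
    have h3 := h.comm r hr'
    have h4 := h'.comm r hr'
    rw [map_mul, map_mul]
    have h5 : D.φ r * (g * g') = g * g' * D.φ r := by
      calc D.φ r * (g * g') = D.φ r * g * g' := by group
        _ = g * g' * D.φ r := by rw [h3, mul_assoc, h4]; group
    rcases hs with hs | hs
    · rw [← hs]; exact h5.symm
    · have h6 : D.φ s = D.t * (g * g') := by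
        rw [hs, ← mul_assoc, D.tt, one_mul]
      rw [h6]
      calc D.t * (g * g') * D.φ r = D.t * (D.φ r * (g * g')) := by rw [h5]; group
        _ = D.φ r * (D.t * (g * g')) := by rw [← mul_assoc, ← D.comm]; group
  have hsg : D.φ s * g = g * D.φ s := by
    rcases hs1 with rfl | rfl
    · rw [map_one]; group
    · exact hself
  have hss : D.φ s * D.φ s = 1 := by
    rcases hs1 with rfl | rfl
    · rw [map_one, mul_one]
    · exact φ_tr_sq u
  rcases hs with hs | hs
  · have h2 : g' = g * D.φ s := by rw [← hs, ← mul_assoc, h.sq, one_mul]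
    rcases hs1 with rfl | rfl
    · left; rw [h2, map_one, mul_one]
    · right; exact h2
  · exfalso
    have h2 : g' = g * (D.t * D.φ s) := by rw [← hs, ← mul_assoc, h.sq, one_mul]
    have h3 := h'.sq
    rw [h2] at h3
    have h4 : g * (D.t * D.φ s) * (g * (D.t * D.φ s)) = D.φ (Sp.tr u) := by
      calc g * (D.t * D.φ s) * (g * (D.t * D.φ s)) = g * D.t * (D.φ s * g) * (D.t * D.φ s) := by group
        _ = g * D.t * g * (D.φ s * D.t) * D.φ s := by rw [hsg]; group
        _ = D.t * D.φ (Sp.tr u) * D.t * (D.φ s * D.φ s) := by rw [h.conj, D.comm]; group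
        _ = D.φ (Sp.tr u) := by rw [hss, mul_one, mul_assoc, D.comm, ← mul_assoc, D.tt, one_mul]
    rw [h4, ← map_one D.φ] at h3
    have h5 := D.inj h3
    apply hu
    apply tr_inj
    rw [h5, Sp.tr_zero]

/-- the commutator of two `y`'s -/
theorem pair_comm_t {u w : Sp.V} (huw : Sp.om u w = 0) {g h : G} (hg : Y D u g) (hh : Y D w h) :
    g * h * g * h * D.t = D.t * (g * h * g * h) := by
  have huw' : Sp.om w u = 0 := by rw [Sp.om_symm]; exact huw
  have g1 : g * D.t = D.t * D.φ (Sp.tr u) * g := by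
    rw [← hg.conj, mul_assoc, hg.sq, mul_one]
  have h1 : h * D.t = D.t * D.φ (Sp.tr w) * h := by
    rw [← hh.conj, mul_assoc, hh.sq, mul_one]
  have g2 : g * D.φ (Sp.tr u) = D.φ (Sp.tr u) * g := (hg.comm' (Sp.om_self u)).symm
  have g3 : g * D.φ (Sp.tr w) = D.φ (Sp.tr w) * g := (hg.comm' huw).symm
  have h2 : h * D.φ (Sp.tr u) = D.φ (Sp.tr u) * h := (hh.comm' huw').symm
  have h3 : h * D.φ (Sp.tr w) = D.φ (Sp.tr w) * h := (hh.comm' (Sp.om_self w)).symm
  have hc : D.φ (Sp.tr u) * D.φ (Sp.tr w) = D.φ (Sp.tr w) * D.φ (Sp.tr u) := by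
    rw [← map_mul, ← map_mul, Sp.tr_comm huw]
  set U := D.φ (Sp.tr u)
  set X := D.φ (Sp.tr w)
  have hU : U * U = 1 := φ_tr_sq u
  have hX : X * X = 1 := φ_tr_sq w
  have e1 : g * h * D.t = D.t * (U * X) * (g * h) := by
    calc g * h * D.t = g * (h * D.t) := by group
      _ = (g * D.t) * X * h := by rw [h1]; group
      _ = D.t * U * (g * X) * h := by rw [g1]; group
      _ = D.t * (U * X) * (g * h) := by rw [g3]; group
  have e2 : g * h * (U * X) = U * X * (g * h) := by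
    calc g * h * (U * X) = g * (h * U) * X := by group
      _ = g * U * (h * X) := by rw [h2]; group
      _ = U * (g * X) * h := by rw [g2, h3]; group
      _ = U * X * (g * h) := by rw [g3]; group
  have e3 : U * X * (U * X) = 1 := by
    calc U * X * (U * X) = U * (X * U) * X := by group
      _ = U * U * (X * X) := by rw [← hc]; group
      _ = 1 := by rw [hU, hX, one_mul]
  set p := g * h
  calc p * g * h * D.t = p * (g * h * D.t) := by group
    _ = p * (D.t * (U * X) * (g * h)) := by rw [e1]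
    _ = p * D.t * (U * X) * (g * h) := by group
    _ = D.t * (U * X) * p * (U * X) * (g * h) := by rw [e1]
    _ = D.t * (U * X) * (p * (U * X)) * (g * h) := by group
    _ = D.t * (U * X) * (U * X * p) * (g * h) := by rw [e2]
    _ = D.t * (U * X * (U * X)) * p * (g * h) := by group
    _ = D.t * (p * g * h) := by rw [e3]; group

end Cfsg.Agent.StdSpSix.Sw
end

-- part: StdSpSix/SwPair
section
/-!
# The commutator of two of the elements `y_u`: four types
-/

set_option autoImplicit false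

namespace Cfsg.Agent.StdSpSix.Sw

open Cfsg.Agent.StandardComponent.SpTwo
open Cfsg.Agent.SporRec.TwoSp6
open Cfsg.Agent.StdSpSix.Words
open Cfsg.Agent.StdSpSix.Counts

variable {G : Type*} [Group G] {D : Dat G}

theorem pair_comm_φ {u w : Sp.V} {g h : G} (hg : Y D u g) (hh : Y D w h) {s : Sp.S} (h1 : Sp.act s u = u)
    (h2 : Sp.act s w = w) : D.φ s * (g * h * g * h) = g * h * g * h * D.φ s := by
  have e1 := hg.comm s h1
  have e2 := hh.comm s h2
  calc D.φ s * (g * h * g * h) = D.φ s * g * h * g * h := by group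
    _ = g * (D.φ s * h) * g * h := by rw [e1]; group
    _ = g * h * (D.φ s * g) * h := by rw [e2]; group
    _ = g * h * g * (D.φ s * h) := by rw [e1]; group
    _ = g * h * g * h * D.φ s := by rw [e2]; group

/-- replacing `y_u` by `y_u b_u` does not change the commutator -/
theorem pair_indep {u w : Sp.V} (hu : u ≠ 0) (hw : w ≠ 0) (huw : Sp.om u w = 0) {g g' h h' : G} (hg : Y D u g)
    (hg' : Y D u g') (hh : Y D w h) (hh' : Y D w h') : g' * h' * g' * h' = g * h * g * h := by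
  have huw' : Sp.om w u = 0 := by rw [Sp.om_symm]; exact huw
  have g2 : D.φ (Sp.tr u) * g = g * D.φ (Sp.tr u) := hg.comm' (Sp.om_self u)
  have g3 : D.φ (Sp.tr w) * g = g * D.φ (Sp.tr w) := hg.comm' huw
  have h2 : D.φ (Sp.tr u) * h = h * D.φ (Sp.tr u) := hh.comm' huw'
  have h3 : D.φ (Sp.tr w) * h = h * D.φ (Sp.tr w) := hh.comm' (Sp.om_self w)
  have hc : D.φ (Sp.tr u) * D.φ (Sp.tr w) = D.φ (Sp.tr w) * D.φ (Sp.tr u) := by
    rw [← map_mul, ← map_mul, Sp.tr_comm huw]
  set U := D.φ (Sp.tr u)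
  set X := D.φ (Sp.tr w)
  have hU : U * U = 1 := φ_tr_sq u
  have hX : X * X = 1 := φ_tr_sq w
  have k1 : g * U * h * (g * U) * h = g * h * g * h := by
    calc g * U * h * (g * U) * h = g * (U * h) * g * U * h := by group
      _ = g * h * (U * g) * U * h := by rw [h2]; group
      _ = g * h * g * (U * U) * h := by rw [g2]; group
      _ = g * h * g * h := by rw [hU, mul_one]
  have k2 : ∀ g'', X * g'' = g'' * X → g'' * (h * X) * g'' * (h * X) = g'' * h * g'' * h := by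
    intro g'' hg''
    calc g'' * (h * X) * g'' * (h * X) = g'' * h * (X * g'') * h * X := by group
      _ = g'' * h * g'' * (X * h) * X := by rw [hg'']; group
      _ = g'' * h * g'' * h * (X * X) := by rw [h3]; group
      _ = g'' * h * g'' * h := by rw [hX, mul_one]
  rcases hg.uniq hu hg' with rfl | rfl <;> rcases hh.uniq hw hh' with rfl | rfl
  · rfl
  · exact k2 g' g3
  · exact k1
  · rw [k2 _ (by rw [← mul_assoc, g3, mul_assoc, ← hc, ← mul_assoc])]
    exact k1

theorem tabA : ∀ ks ∈ list8, ∀ c < 64, wc (ks ++ ks) c = wc [] c := by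
  rewrite [Fast.wc_fast]
  decide +kernel
theorem tabB : ∀ ks ∈ list8, wc ks 1 = 1 := by decide +kernel
theorem tabD : ∀ ks ∈ list8, (∀ k ∈ [24, 27] ++ ks, k < 64) ∧ (∀ k ∈ ks ++ [24, 27], k < 64) := by decide +kernel

/-- the four types -/
def list4 : List (List ℕ) := [[], [3], [1, 2], [1, 2, 3]]

theorem tabC : ∀ ks ∈ list8, (∀ c : Fin 64, wc ([24, 27] ++ ks) c = wc (ks ++ [24, 27]) c) → ks ∈ list4 := by
  rewrite [Fast.wc_fast]
  decide +kernel

theorem std8 {g h : G} (hg : Y D (Sp.enc 1) g) (hh : Y D (Sp.enc 2) h) :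
    ∃ ks ∈ list8, g * h * g * h = D.φ (W ks) := by
  have h12 : Sp.om (Sp.enc 1) (Sp.enc 2) = 0 := om_of_fN' (by decide)
  obtain ⟨s, hs⟩ := D.cent _ (pair_comm_t h12 hg hh)
  have hsl : ∃ ks ∈ list8, s = W ks := by
    apply dc2
    intro r h1 h2
    have h3 := pair_comm_φ hg hh (comm_iff.1 h1) (comm_iff.1 h2)
    apply D.inj
    rw [map_mul, map_mul]
    rcases hs with hs | hs
    · rw [← hs]; exact h3.symm
    · rw [hs] at h3
      have h4 : D.t * (D.φ s * D.φ r) = D.t * (D.φ r * D.φ s) := by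
        rw [← mul_assoc, ← h3, ← mul_assoc, D.comm, mul_assoc]
      exact mul_left_cancel h4
  obtain ⟨ks, hks, rfl⟩ := hsl
  rcases hs with hs | hs
  · exact ⟨ks, hks, hs⟩
  exfalso
  have hss : D.φ (W ks) * D.φ (W ks) = 1 := by
    rw [← map_mul, ← W_append]
    rw [W_eq (tabA ks hks), W_nil, map_one]
  have hsg : D.φ (W ks) * g = g * D.φ (W ks) := by
    apply hg.comm
    rw [act_W, tabB ks hks]
  set Z := g * h * g * h with hZ
  have hZZ : Z * Z = 1 := by
    rw [hs]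
    calc D.t * D.φ (W ks) * (D.t * D.φ (W ks)) = D.t * (D.φ (W ks) * D.t) * D.φ (W ks) := by group
      _ = D.t * D.t * (D.φ (W ks) * D.φ (W ks)) := by rw [D.comm]; group
      _ = 1 := by rw [D.tt, hss, one_mul]
  have h1 : g * Z * g = Z := by
    have h2 : g * Z * g * Z = 1 := by
      rw [hZ]
      calc g * (g * h * g * h) * g * (g * h * g * h) = (g * g) * h * g * h * (g * g) * h * g * h := by group
        _ = h * g * (h * h) * g * h := by rw [hg.sq]; group
        _ = 1 := by rw [hh.sq, mul_one, mul_assoc h, hg.sq, mul_one, hh.sq]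
    calc g * Z * g = g * Z * g * (Z * Z) := by rw [hZZ, mul_one]
      _ = g * Z * g * Z * Z := by group
      _ = Z := by rw [h2, one_mul]
  rw [hs] at h1
  have h3 : g * (D.t * D.φ (W ks)) * g = D.t * D.φ (Sp.tr (Sp.enc 1)) * D.φ (W ks) := by
    calc g * (D.t * D.φ (W ks)) * g = g * D.t * (D.φ (W ks) * g) := by group
      _ = g * D.t * g * D.φ (W ks) := by rw [hsg]; group
      _ = _ := by rw [hg.conj]
  rw [h3] at h1
  have h4 : D.φ (Sp.tr (Sp.enc 1)) = 1 := by
    have h5 := mul_right_cancel h1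
    exact mul_eq_left.1 h5
  rw [← map_one D.φ] at h4
  have h6 := tr_inj ((D.inj h4).trans Sp.tr_zero.symm)
  rw [← enc_zero] at h6
  exact ne_of_enc (by decide) (by decide) (by decide) h6

theorem std4 {g h : G} (hg : Y D (Sp.enc 1) g) (hh : Y D (Sp.enc 2) h) :
    ∃ ks ∈ list4, g * h * g * h = D.φ (W ks) := by
  obtain ⟨ks, hks, hz⟩ := std8 hg hh
  have h12 : Sp.om (Sp.enc 1) (Sp.enc 2) = 0 := om_of_fN' (by decide)
  have h21 : Sp.om (Sp.enc 2) (Sp.enc 1) = 0 := om_of_fN' (by decide)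
  have n1 : Sp.enc 1 ≠ 0 := by rw [← enc_zero]; exact ne_of_enc (by decide) (by decide) (by decide)
  have n2 : Sp.enc 2 ≠ 0 := by rw [← enc_zero]; exact ne_of_enc (by decide) (by decide) (by decide)
  set! r := W [24, 27] with hr
  have r1 : Sp.act r (Sp.enc 1) = Sp.enc 2 := by rw [hr, act_W]; rfl
  have r2 : Sp.act r (Sp.enc 2) = Sp.enc 1 := by rw [hr, act_W]; rfl
  have hg' := hg.map r
  have hh' := hh.map r
  rw [r1] at hg'
  rw [r2] at hh'
  have h1 := pair_indep n2 n1 h21 hh hg' hg hh'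
  -- `h1 : g' * h' * g' * h' = h * g * h * g`
  have h2 : D.φ r * (g * h * g * h) * (D.φ r)⁻¹ = h * g * h * g := by
    rw [← h1]; group
  have hks2 : W ks * W ks = 1 := by
    rw [← W_append]
    rw [W_eq (tabA ks hks), W_nil]
  have h3 : h * g * h * g = g * h * g * h := by
    have h4 : (g * h * g * h) * (h * g * h * g) = 1 := by
      calc (g * h * g * h) * (h * g * h * g) = g * h * g * (h * h) * g * h * g := by group
        _ = g * h * (g * g) * h * g := by rw [hh.sq]; group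
        _ = 1 := by rw [hg.sq, mul_one, mul_assoc g, hh.sq, mul_one, hg.sq]
    have h5 : (g * h * g * h) * (g * h * g * h) = 1 := by
      rw [hz, ← map_mul, hks2, map_one]
    exact mul_left_cancel (h4.trans h5.symm)
  rw [h3, hz, ← map_inv, ← map_mul, ← map_mul] at h2
  have h6 := D.inj h2
  have h7 : W ([24, 27] ++ ks) = W (ks ++ [24, 27]) := by
    rw [W_append, W_append, ← hr]
    calc r * W ks = r * W ks * r⁻¹ * r := by group
      _ = W ks * r := by rw [h6]
  exact ⟨ks, tabC ks hks ((W_eq_iff (tabD ks hks).1 (tabD ks hks).2).1 h7), hz⟩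

/-- `[y_u, y_w] = f u w` for all orthogonal pairs -/
def Ty (D : Dat G) (f : Sp.V → Sp.V → Sp.S) : Prop := ∀ u w g h, u ≠ 0 → w ≠ 0 → w ≠ u → Sp.om u w = 0 →
  Y D u g → Y D w h → g * h * g * h = D.φ (f u w)

theorem types (hex : ∀ u : Sp.V, u ≠ 0 → ∃ g, Y D u g) : Ty D (fun _ _ => 1) ∨ Ty D (fun u w => Sp.tr (u + w)) ∨
    Ty D (fun u w => Sp.tr u * Sp.tr w) ∨ Ty D (fun u w => Sp.tr u * Sp.tr w * Sp.tr (u + w)) := by
  have n1 : Sp.enc 1 ≠ 0 := by rw [← enc_zero]; exact ne_of_enc (by decide) (by decide) (by decide)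
  have n2 : Sp.enc 2 ≠ 0 := by rw [← enc_zero]; exact ne_of_enc (by decide) (by decide) (by decide)
  have n12 : Sp.enc 2 ≠ Sp.enc 1 := ne_of_enc (by decide) (by decide) (by decide)
  have h12 : Sp.om (Sp.enc 1) (Sp.enc 2) = 0 := om_of_fN' (by decide)
  obtain ⟨g0, hg0⟩ := hex _ n1
  obtain ⟨h0, hh0⟩ := hex _ n2
  obtain ⟨ks, hks, hz⟩ := std4 hg0 hh0
  have key : ∀ u w g h, u ≠ 0 → w ≠ 0 → w ≠ u → Sp.om u w = 0 → Y D u g → Y D w h →
      ∃ r, Sp.act r (Sp.enc 1) = u ∧ Sp.act r (Sp.enc 2) = w ∧ g * h * g * h = D.φ (r * W ks * r⁻¹) := by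
    intro u w g h hu hw hwu huw hg hh
    obtain ⟨r, r1, r2⟩ := Sp.exists_pair n1 n2 n12 h12 hu hw hwu huw
    refine ⟨r, r1, r2, ?_⟩
    have hg' := hg0.map r
    have hh' := hh0.map r
    rw [r1] at hg'
    rw [r2] at hh'
    rw [← pair_indep hu hw huw hg hg' hh hh', map_mul, map_mul, map_inv, ← hz]
    group
  have e3 : Sp.enc 3 = Sp.enc 1 + Sp.enc 2 := Sp.enc_xor 1 2
  simp only [list4, List.mem_cons, List.not_mem_nil, or_false] at hks
  rcases hks with rfl | rfl | rfl | rfl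
  · left
    intro u w g h hu hw hwu huw hg hh
    obtain ⟨r, r1, r2, h1⟩ := key u w g h hu hw hwu huw hg hh
    rw [h1, W_nil, mul_one, mul_inv_cancel]
  · right; left
    intro u w g h hu hw hwu huw hg hh
    obtain ⟨r, r1, r2, h1⟩ := key u w g h hu hw hwu huw hg hh
    rw [h1, W_cons, W_nil, mul_one, Sp.conj_tr, e3, Sp.act_add, r1, r2]
  · right; right; left
    intro u w g h hu hw hwu huw hg hh
    obtain ⟨r, r1, r2, h1⟩ := key u w g h hu hw hwu huw hg hh
    rw [h1, W_cons, W_cons, W_nil, mul_one]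
    have : r * (Sp.tr (Sp.enc 1) * Sp.tr (Sp.enc 2)) * r⁻¹ =
        (r * Sp.tr (Sp.enc 1) * r⁻¹) * (r * Sp.tr (Sp.enc 2) * r⁻¹) := by group
    rw [this, Sp.conj_tr, Sp.conj_tr, r1, r2]
  · right; right; right
    intro u w g h hu hw hwu huw hg hh
    obtain ⟨r, r1, r2, h1⟩ := key u w g h hu hw hwu huw hg hh
    rw [h1, W_cons, W_cons, W_cons, W_nil, mul_one]
    have : r * (Sp.tr (Sp.enc 1) * (Sp.tr (Sp.enc 2) * Sp.tr (Sp.enc 3))) * r⁻¹ =
        (r * Sp.tr (Sp.enc 1) * r⁻¹) * (r * Sp.tr (Sp.enc 2) * r⁻¹) * (r * Sp.tr (Sp.enc 3) * r⁻¹) := by group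
    rw [this, Sp.conj_tr, Sp.conj_tr, Sp.conj_tr, e3, Sp.act_add, r1, r2]

end Cfsg.Agent.StdSpSix.Sw
end

-- part: StdSpSix/SwR
section
/-!
# The elements `r_u = y_u y_{u+v} b_u` (`v` fixed, `u ⊥ v`)
-/

set_option autoImplicit false

namespace Cfsg.Agent.StdSpSix.Sw

open Cfsg.Agent.StandardComponent.SpTwo
open Cfsg.Agent.SporRec.TwoSp6
open Cfsg.Agent.StdSpSix.Words
open Cfsg.Agent.StdSpSix.Counts

/-! ### the elements `c_a = b_a b_{a+v}` -/

/-- `c_a` -/
def cc (v a : Sp.V) : Sp.S := Sp.tr a * Sp.tr (a + v)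

theorem act_cc {v a : Sp.V} (h : Sp.om v a = 0) (y : Sp.V) :
    Sp.act (cc v a) y = y + Sp.om y a • v + Sp.om y v • (a + v) := by
  have h1 : Sp.om (a + v) a = 0 := by rw [Sp.om_add', Sp.om_self, h, add_zero]
  have h2 : Sp.om (y + Sp.om y (a + v) • (a + v)) a = Sp.om y a := by
    rw [Sp.om_add', Invol.om_smul', h1, mul_zero, add_zero]
  rw [cc, Sp.act_mul, Sp.act_tr (a + v), Sp.act_tr, h2, Sp.om_add]
  rcases Sp.om_cases y a with e1 | e1 <;> rcases Sp.om_cases y v with e2 | e2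
  · rw [e1, e2]; simp
  · rw [e1, e2]; simp
  · rw [e1, e2, add_zero, one_smul, one_smul, zero_smul, add_zero, one_smul]
    have : y + (a + v) + a = y + v + (a + a) := by abel
    rw [this, Sp.add_self, add_zero]
  · rw [e1, e2]
    have h3 : (1 : ZMod 2) + 1 = 0 := by decide
    rw [h3, zero_smul, one_smul, one_smul, one_smul, add_zero]
    have : y + v + (a + v) = y + a + (v + v) := by abel
    rw [this, Sp.add_self, add_zero]

theorem act_cc_perp {v a : Sp.V} (h : Sp.om v a = 0) {u : Sp.V} (hu : Sp.om u v = 0) :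
    Sp.act (cc v a) u = u + Sp.om u a • v := by
  rw [act_cc h, hu, zero_smul, add_zero]

theorem act_cc_v {v a : Sp.V} (h : Sp.om v a = 0) : Sp.act (cc v a) v = v := by
  rw [act_cc_perp h (Sp.om_self v), h, zero_smul, add_zero]

theorem cc_conj (s : Sp.S) {v a : Sp.V} (hv : Sp.act s v = v) : s * cc v a * s⁻¹ = cc v (Sp.act s a) := by
  unfold cc
  have : s * (Sp.tr a * Sp.tr (a + v)) * s⁻¹ = s * Sp.tr a * s⁻¹ * (s * Sp.tr (a + v) * s⁻¹) := by group
  rw [this, Sp.conj_tr, Sp.conj_tr, Sp.act_add, hv]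

/-- `b` or `1` -/
def dl (δ : Bool) (x : Sp.V) : Sp.S := if δ then Sp.tr x else 1

theorem dl_sq (δ : Bool) (x : Sp.V) : dl δ x * dl δ x = 1 := by
  cases δ
  · exact one_mul 1
  · exact Sp.tr_sq x

theorem act_dl (δ : Bool) {x y : Sp.V} (h : Sp.om y x = 0) : Sp.act (dl δ x) y = y := by
  cases δ
  · exact Sp.act_one y
  · change Sp.act (Sp.tr x) y = y
    rw [Sp.act_tr, h, zero_smul, add_zero]

theorem tr_dl (δ : Bool) {x y : Sp.V} (h : Sp.om x y = 0) : Sp.tr x * dl δ y = dl δ y * Sp.tr x := by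
  cases δ
  · exact (mul_one _).trans (one_mul _).symm
  · exact Sp.tr_comm h

/-! ### identities in groups -/

section Abs
variable {M : Type*} [Group M]

theorem abs_t {g g' t U X : M} (e1 : U * t = t * U) (g1 : g * t = t * U * g) (g2 : g' * t = t * X * g')
    (k1 : X * g = g * X) (k2 : X * g' = g' * X) (k3 : U * g = g * U) (k4 : U * g' = g' * U) (k5 : U * X = X * U) :
    g * g' * U * t = t * (g * g' * U) * (U * X) := by
  calc g * g' * U * t = g * g' * (U * t) := by group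
    _ = g * (g' * t) * U := by rw [e1]; group
    _ = (g * t) * X * g' * U := by rw [g2]; group
    _ = t * U * (g * X) * g' * U := by rw [g1]; group
    _ = t * (U * X) * g * g' * U := by rw [← k1]; group
    _ = t * X * (U * g) * g' * U := by rw [k5]; group
    _ = t * X * g * (U * g') * U := by rw [k3]; group
    _ = t * (X * g) * g' * U * U := by rw [k4]; group
    _ = t * g * (X * g') * U * U := by rw [k1]; group
    _ = t * g * g' * (X * U) * U := by rw [k2]; group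
    _ = t * g * g' * (U * X) * U := by rw [k5]
    _ = t * g * g' * U * (X * U) := by group
    _ = t * (g * g' * U) * (U * X) := by rw [← k5]; group

theorem abs_E {a b d : M} (e1 : a * d = d * a) (e2 : b * d = d * b) (e3 : a * b = b * a) (s1 : a * a = 1)
    (s2 : b * b = 1) (s3 : d * d = 1) : a * b * d * (a * b * d) = 1 := by
  calc a * b * d * (a * b * d) = a * b * (d * a) * b * d := by group
    _ = a * (b * a) * (d * b) * d := by rw [← e1]; group
    _ = a * a * (b * b) * (d * d) := by rw [← e3, ← e2]; group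
    _ = 1 := by rw [s1, s2, s3, mul_one, mul_one]

theorem abs_sq {g g' b : M} (k3 : b * g = g * b) (k4 : b * g' = g' * b) (k6 : b * b = 1) :
    g * g' * b * (g * g' * b) = g * g' * g * g' := by
  calc g * g' * b * (g * g' * b) = g * g' * (b * g) * g' * b := by group
    _ = g * g' * g * (b * g') * b := by rw [k3]; group
    _ = g * g' * g * g' * (b * b) := by rw [k4]; group
    _ = g * g' * g * g' := by rw [k6, mul_one]

theorem abs_cc {g g' b x c E d : M} (c1 : c * g = g' * c) (c2 : c * g' = g * c) (h3 : g' * g = E * (g * g'))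
    (h5 : c * b = x * c) (kE : E * (g * g') = g * g' * E) (k7 : E * x = b * d) :
    c * (g * g' * b) = g * g' * b * d * c := by
  calc c * (g * g' * b) = (c * g) * g' * b := by group
    _ = g' * (c * g') * b := by rw [c1]; group
    _ = g' * g * (c * b) := by rw [c2]; group
    _ = E * (g * g') * (x * c) := by rw [h5, h3]
    _ = g * g' * (E * x) * c := by rw [kE]; group
    _ = g * g' * b * d * c := by rw [k7]; group

theorem abs_inv {g g' E : M} (hg : g * g = 1) (hg' : g' * g' = 1) (hE : E * E = 1) (h : g * g' * g * g' = E) :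
    g' * g = E * (g * g') := by
  have h4 : g * g' * g * g' * (g' * g) = g * g' := by
    calc g * g' * g * g' * (g' * g) = g * g' * g * (g' * g') * g := by group
      _ = g * g' * (g * g) := by rw [hg']; group
      _ = g * g' := by rw [hg, mul_one]
  rw [h] at h4
  rw [← h4, ← mul_assoc, hE, one_mul]

theorem abs_comm {g h E : M} (hg : g * g = 1) (hh : h * h = 1) (h1 : g * h * g * h = E) : g * h = E * (h * g) := by
  rw [← h1]
  calc g * h = g * h * (g * (h * h) * g) := by rw [hh, mul_one, hg, mul_one]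
    _ = g * h * g * h * (h * g) := by group

theorem abs_y {y g g' b E F : M} (k1 : y * g = E * (g * y)) (k2 : y * g' = F * (g' * y)) (k3 : b * y = y * b)
    (k4 : F * g = g * F) : y * (g * g' * b) = E * F * (g * g' * b) * y := by
  calc y * (g * g' * b) = (y * g) * g' * b := by group
    _ = E * g * (y * g') * b := by rw [k1]; group
    _ = E * (g * F) * g' * (y * b) := by rw [k2]; group
    _ = E * F * g * g' * (y * b) := by rw [← k4]; group
    _ = E * F * (g * g' * b) * y := by rw [← k3]; group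

theorem abs_y0 {v u w : M} (t1 : v * u = u * v) (s3 : v * v = 1) : v * u * 1 * (v * w * 1) = u * w := by
  calc v * u * 1 * (v * w * 1) = v * (u * v) * w := by group
    _ = v * v * (u * w) := by rw [← t1]; group
    _ = _ := by rw [s3, one_mul]

theorem abs_y1 {v u w : M} (t1 : v * u = u * v) (t2 : v * w = w * v) (s1 : u * u = 1) (s2 : w * w = 1) (s3 : v * v = 1) :
    v * u * w * (v * w * u) = 1 := by
  calc v * u * w * (v * w * u) = v * u * w * (v * w) * u := by group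
    _ = v * u * (w * w) * v * u := by rw [t2]; group
    _ = v * (u * v) * u := by rw [s2]; group
    _ = v * v * (u * u) := by rw [← t1]; group
    _ = 1 := by rw [s1, s3, one_mul]

end Abs

variable {G : Type*} [Group G] {D : Dat G}

/-- the type of the commutator -/
def TyD (D : Dat G) (δ : Bool) : Prop := Ty D (fun u w => Sp.tr u * Sp.tr w * dl δ (u + w))

/-- `r = y_u y_{u+v} b_u` -/
def IsR (D : Dat G) (v u : Sp.V) (r : G) : Prop := ∃ g g', Y D u g ∧ Y D (u + v) g' ∧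
  (∀ a, Sp.om v a = 0 → Sp.om u a = 1 → D.φ (cc v a) * g = g' * D.φ (cc v a) ∧
    D.φ (cc v a) * g' = g * D.φ (cc v a)) ∧ r = g * g' * D.φ (Sp.tr u)

theorem exists_R {v u : Sp.V} (hv : v ≠ 0) (hu : u ≠ 0) (huv : u ≠ v) (h0 : Sp.om u v = 0) {g : G} (hg : Y D u g) :
    ∃ r, IsR D v u r := by
  obtain ⟨a, ha1, ha0⟩ := Sp.exists_om_one_zero hu huv
  have hact : ∀ b, Sp.om v b = 0 → Sp.om u b = 1 → Sp.act (cc v b) u = u + v ∧ Sp.act (cc v b) (u + v) = u := by
    intro b hb0 hb1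
    constructor
    · rw [act_cc_perp hb0 h0, hb1, one_smul]
    · rw [Sp.act_add, act_cc_perp hb0 h0, hb1, one_smul, act_cc_v hb0, add_assoc, Sp.add_self, add_zero]
  set! s := cc v a with hs
  have hg' := hg.map s
  rw [(hact a ha0 ha1).1] at hg'
  refine ⟨_, g, D.φ s * g * (D.φ s)⁻¹, hg, hg', fun b hb0 hb1 => ?_, rfl⟩
  obtain ⟨k1, k2⟩ := hact b hb0 hb1
  obtain ⟨l1, l2⟩ := hact a ha0 ha1
  constructor
  · have h1 : Sp.act (s⁻¹ * cc v b) u = u := by
      rw [Sp.act_mul, k1, ← l1, ← Sp.act_mul, hs, inv_mul_cancel, Sp.act_one]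
    have h2 := hg.comm _ h1
    rw [map_mul, map_inv] at h2
    calc D.φ (cc v b) * g = D.φ s * ((D.φ s)⁻¹ * D.φ (cc v b) * g) := by group
      _ = D.φ s * g * (D.φ s)⁻¹ * D.φ (cc v b) := by rw [h2]; group
  · have h1 : Sp.act (cc v b * s) u = u := by
      rw [Sp.act_mul, l1, k2]
    have h2 := hg.comm _ h1
    rw [map_mul] at h2
    calc D.φ (cc v b) * (D.φ s * g * (D.φ s)⁻¹) = D.φ (cc v b) * D.φ s * g * (D.φ s)⁻¹ := by group
      _ = g * D.φ (cc v b) := by rw [h2]; group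

theorem IsR.map {v u : Sp.V} {r : G} (h : IsR D v u r) {s : Sp.S} (hv : Sp.act s v = v) :
    IsR D v (Sp.act s u) (D.φ s * r * (D.φ s)⁻¹) := by
  obtain ⟨g, g', hg, hg', hc, rfl⟩ := h
  refine ⟨D.φ s * g * (D.φ s)⁻¹, D.φ s * g' * (D.φ s)⁻¹, hg.map s, ?_, fun a h0 h1 => ?_, ?_⟩
  · have h1 := hg'.map s
    rwa [Sp.act_add, hv] at h1
  · have e0 : Sp.act s (Sp.act s⁻¹ a) = a := by rw [← Sp.act_mul, mul_inv_cancel, Sp.act_one]
    have hv' : Sp.act s⁻¹ v = v := by
      conv_lhs => rw [← hv]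
      rw [← Sp.act_mul, inv_mul_cancel, Sp.act_one]
    have a0 : Sp.om v (Sp.act s⁻¹ a) = 0 := by
      rw [← Sp.act_om s, hv, e0]; exact h0
    have a1 : Sp.om u (Sp.act s⁻¹ a) = 1 := by
      rw [← Sp.act_om s, e0]; exact h1
    obtain ⟨k1, k2⟩ := hc _ a0 a1
    have e1 : D.φ (cc v a) = D.φ s * D.φ (cc v (Sp.act s⁻¹ a)) * (D.φ s)⁻¹ := by
      rw [← map_mul, ← map_inv, ← map_mul, cc_conj s hv, e0]
    rw [e1]
    constructor
    · calc D.φ s * D.φ (cc v (Sp.act s⁻¹ a)) * (D.φ s)⁻¹ * (D.φ s * g * (D.φ s)⁻¹)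
          = D.φ s * (D.φ (cc v (Sp.act s⁻¹ a)) * g) * (D.φ s)⁻¹ := by group
        _ = _ := by rw [k1]; group
    · calc D.φ s * D.φ (cc v (Sp.act s⁻¹ a)) * (D.φ s)⁻¹ * (D.φ s * g' * (D.φ s)⁻¹)
          = D.φ s * (D.φ (cc v (Sp.act s⁻¹ a)) * g') * (D.φ s)⁻¹ := by group
        _ = _ := by rw [k2]; group
  · rw [← Sp.conj_tr, map_mul, map_mul, map_inv]
    group

/-- `r` commutes with the elements of `L` fixing `u` and `v` -/
theorem IsR.comm {v u : Sp.V} {r : G} (h : IsR D v u r) {s : Sp.S} (hv : Sp.act s v = v) (hu : Sp.act s u = u) :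
    D.φ s * r = r * D.φ s := by
  obtain ⟨g, g', hg, hg', -, rfl⟩ := h
  have e1 := hg.comm s hu
  have e2 := hg'.comm s (by rw [Sp.act_add, hu, hv])
  have e3 : D.φ s * D.φ (Sp.tr u) = D.φ (Sp.tr u) * D.φ s := by
    rw [← map_mul, ← map_mul, comm_iff.2 hu]
  calc D.φ s * (g * g' * D.φ (Sp.tr u)) = (D.φ s * g) * g' * D.φ (Sp.tr u) := by group
    _ = g * (D.φ s * g') * D.φ (Sp.tr u) := by rw [e1]; group
    _ = g * g' * (D.φ s * D.φ (Sp.tr u)) := by rw [e2]; group
    _ = _ := by rw [e3]; group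

section
variable {v u : Sp.V} (huv : Sp.om u v = 0)
include huv

theorem uv' : Sp.om u (u + v) = 0 := by rw [Sp.om_add, Sp.om_self, huv, add_zero]

theorem uv'' : Sp.om (u + v) u = 0 := by rw [Sp.om_symm]; exact uv' huv

/-- `r t = t r c_u` -/
theorem IsR.t {r : G} (h : IsR D v u r) : r * D.t = D.t * r * D.φ (cc v u) := by
  obtain ⟨g, g', hg, hg', -, rfl⟩ := h
  have e1 : D.φ (Sp.tr u) * D.t = D.t * D.φ (Sp.tr u) := D.comm _
  have g1 : g * D.t = D.t * D.φ (Sp.tr u) * g := by rw [← hg.conj, mul_assoc, hg.sq, mul_one]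
  have g2 : g' * D.t = D.t * D.φ (Sp.tr (u + v)) * g' := by rw [← hg'.conj, mul_assoc, hg'.sq, mul_one]
  have k1 : D.φ (Sp.tr (u + v)) * g = g * D.φ (Sp.tr (u + v)) := hg.comm' (uv' huv)
  have k2 : D.φ (Sp.tr (u + v)) * g' = g' * D.φ (Sp.tr (u + v)) := hg'.comm' (Sp.om_self _)
  have k3 : D.φ (Sp.tr u) * g = g * D.φ (Sp.tr u) := hg.comm' (Sp.om_self _)
  have k4 : D.φ (Sp.tr u) * g' = g' * D.φ (Sp.tr u) := hg'.comm' (uv'' huv)
  have k5 : D.φ (Sp.tr u) * D.φ (Sp.tr (u + v)) = D.φ (Sp.tr (u + v)) * D.φ (Sp.tr u) := by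
    rw [← map_mul, ← map_mul, Sp.tr_comm (uv' huv)]
  rw [cc, map_mul]
  exact abs_t e1 g1 g2 k1 k2 k3 k4 k5

omit huv in
theorem E_sq (δ : Bool) (huv : Sp.om u v = 0) :
    Sp.tr u * Sp.tr (u + v) * dl δ v * (Sp.tr u * Sp.tr (u + v) * dl δ v) = 1 := by
  have hvu : Sp.om (u + v) v = 0 := by rw [Sp.om_add', huv, Sp.om_self, add_zero]
  exact abs_E (tr_dl δ huv) (tr_dl δ hvu) (Sp.tr_comm (uv' huv)) (Sp.tr_sq u) (Sp.tr_sq (u + v)) (dl_sq δ v)

variable {δ : Bool} (hT : TyD D δ)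
include hT

/-- `r² = c_u` up to `b_v` -/
theorem IsR.sq (hu : u ≠ 0) (hne : u ≠ v) (hv : v ≠ 0) {r : G} (h : IsR D v u r) :
    r * r = D.φ (cc v u) * D.φ (dl δ v) := by
  obtain ⟨g, g', hg, hg', -, rfl⟩ := h
  have huv0 : u + v ≠ 0 := fun h => hne (Invol.eq_of_add_eq_zero h)
  have huvu : u + v ≠ u := fun h => hv (add_eq_left.1 h)
  have h1 := hT u (u + v) g g' hu huv0 huvu (uv' huv) hg hg'
  have e0 : u + (u + v) = v := by rw [← add_assoc, Sp.add_self, zero_add]
  simp only [e0] at h1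
  have k3 : D.φ (Sp.tr u) * g = g * D.φ (Sp.tr u) := hg.comm' (Sp.om_self _)
  have k4 : D.φ (Sp.tr u) * g' = g' * D.φ (Sp.tr u) := hg'.comm' (uv'' huv)
  have k6 : D.φ (Sp.tr u) * D.φ (Sp.tr u) = 1 := φ_tr_sq u
  rw [cc, ← map_mul, ← h1]
  exact abs_sq k3 k4 k6

/-- `c_a` commutes with `r` up to `b_v` -/
theorem IsR.cc (hu : u ≠ 0) (hne : u ≠ v) (hv : v ≠ 0) {r : G} (h : IsR D v u r) {a : Sp.V} (ha : Sp.om v a = 0) :
    D.φ (cc v a) * r = r * D.φ (cc v a) ∨ D.φ (cc v a) * r = r * D.φ (dl δ v) * D.φ (cc v a) := by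
  rcases Sp.om_cases u a with h1 | h1
  · left
    refine h.comm (act_cc_v ha) ?_
    rw [act_cc_perp ha huv, h1, zero_smul, add_zero]
  right
  obtain ⟨g, g', hg, hg', hc, rfl⟩ := h
  obtain ⟨c1, c2⟩ := hc a ha h1
  have huv0 : u + v ≠ 0 := fun h => hne (Invol.eq_of_add_eq_zero h)
  have huvu : u + v ≠ u := fun h => hv (add_eq_left.1 h)
  have h2 := hT u (u + v) g g' hu huv0 huvu (uv' huv) hg hg'
  have e0 : u + (u + v) = v := by rw [← add_assoc, Sp.add_self, zero_add]
  simp only [e0] at h2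
  have hvu : Sp.om (u + v) v = 0 := by rw [Sp.om_add', huv, Sp.om_self, add_zero]
  have hEE : D.φ (Sp.tr u * Sp.tr (u + v) * dl δ v) * D.φ (Sp.tr u * Sp.tr (u + v) * dl δ v) = 1 := by
    rw [← map_mul, E_sq δ huv, map_one]
  have h3 := abs_inv hg.sq hg'.sq hEE h2
  have h5 : D.φ (Sw.cc v a) * D.φ (Sp.tr u) = D.φ (Sp.tr (u + v)) * D.φ (Sw.cc v a) := by
    have h6 := Sp.conj_tr (Sw.cc v a) u
    rw [act_cc_perp ha huv, h1, one_smul] at h6
    rw [← map_mul, ← map_mul, ← h6, inv_mul_cancel_right]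
  have kE : D.φ (Sp.tr u * Sp.tr (u + v) * dl δ v) * (g * g') = g * g' * D.φ (Sp.tr u * Sp.tr (u + v) * dl δ v) := by
    have k1 : Sp.act (Sp.tr u * Sp.tr (u + v) * dl δ v) u = u := by
      rw [Sp.act_mul, act_dl δ huv, Sp.act_mul, Sp.act_tr (u + v), uv' huv, zero_smul, add_zero, Sp.act_tr, Sp.om_self,
        zero_smul, add_zero]
    have k2 : Sp.act (Sp.tr u * Sp.tr (u + v) * dl δ v) (u + v) = u + v := by
      rw [Sp.act_mul, act_dl δ hvu, Sp.act_mul, Sp.act_tr (u + v), Sp.om_self, zero_smul, add_zero, Sp.act_tr, uv'' huv,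
        zero_smul, add_zero]
    have k3 := hg.comm _ k1
    have k4 := hg'.comm _ k2
    rw [← mul_assoc, k3, mul_assoc, k4, ← mul_assoc]
  have k7 : Sp.tr u * Sp.tr (u + v) * dl δ v * Sp.tr (u + v) = Sp.tr u * dl δ v := by
    rw [mul_assoc, mul_assoc, ← tr_dl δ hvu, ← mul_assoc (Sp.tr (u + v)), Sp.tr_sq, one_mul]
  refine abs_cc c1 c2 h3 h5 kE ?_
  rw [← map_mul, k7, map_mul]

/-- `y_v` and `r` -/
theorem IsR.y (hu : u ≠ 0) (hne : u ≠ v) (hv : v ≠ 0) {r : G} (h : IsR D v u r) {y : G} (hy : Y D v y) :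
    y * r = (if δ then 1 else D.φ (Sw.cc v u)) * r * y := by
  obtain ⟨g, g', hg, hg', -, rfl⟩ := h
  have hvu : Sp.om v u = 0 := by rw [Sp.om_symm]; exact huv
  have hvuv : Sp.om v (u + v) = 0 := by rw [Sp.om_add, hvu, Sp.om_self, add_zero]
  have huv0 : u + v ≠ 0 := fun h => hne (Invol.eq_of_add_eq_zero h)
  have huvv : u + v ≠ v := fun h => hu (add_eq_right.1 h)
  have h1 := hT v u y g hv hu hne hvu hy hg
  have h2 := hT v (u + v) y g' hv huv0 huvv hvuv hy hg'
  have e0 : v + (u + v) = u := by rw [add_comm u v, ← add_assoc, Sp.add_self, zero_add]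
  have e1 : v + u = u + v := add_comm v u
  simp only [e0] at h2
  simp only [e1] at h1
  have k1 := abs_comm hy.sq hg.sq h1
  have k2 := abs_comm hy.sq hg'.sq h2
  have k3 : D.φ (Sp.tr u) * y = y * D.φ (Sp.tr u) := hy.comm' hvu
  have k4 : D.φ (Sp.tr v * Sp.tr (u + v) * dl δ u) * g = g * D.φ (Sp.tr v * Sp.tr (u + v) * dl δ u) := by
    apply hg.comm
    rw [Sp.act_mul, act_dl δ (Sp.om_self u), Sp.act_mul, Sp.act_tr (u + v), uv' huv, zero_smul, add_zero, Sp.act_tr, huv,
      zero_smul, add_zero]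
  have k5 : Sp.tr v * Sp.tr u * dl δ (u + v) * (Sp.tr v * Sp.tr (u + v) * dl δ u) =
      if δ then 1 else Sw.cc v u := by
    have t1 : Sp.tr v * Sp.tr u = Sp.tr u * Sp.tr v := Sp.tr_comm hvu
    have t2 : Sp.tr v * Sp.tr (u + v) = Sp.tr (u + v) * Sp.tr v := Sp.tr_comm hvuv
    have t3 : Sp.tr u * Sp.tr (u + v) = Sp.tr (u + v) * Sp.tr u := Sp.tr_comm (uv' huv)
    have s1 := Sp.tr_sq u
    have s2 := Sp.tr_sq (u + v)
    have s3 := Sp.tr_sq v
    cases δ
    · exact abs_y0 t1 s3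
    · exact abs_y1 t1 t2 s1 s2 s3
  have k6 : (if δ then 1 else D.φ (Sw.cc v u)) = D.φ (if δ then 1 else Sw.cc v u) := by
    cases δ
    · rfl
    · exact (map_one D.φ).symm
  rw [k6, ← k5, map_mul]
  exact abs_y k1 k2 k3 k4

end

end Cfsg.Agent.StdSpSix.Sw
end

-- part: StdSpSix/SwAbs
section
/-!
# The contradiction in `C_G(b_v)/⟨b_v⟩`
-/

set_option autoImplicit false

namespace Cfsg.Agent.StdSpSix.Sw

open Cfsg.Agent.SporRec.TwoSp6
open Cfsg.Agent.StdSpSix.Words

/-- codes orthogonal to `v` -/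
def ok (k : ℕ) : Prop := k < 64 ∧ Sp.fN k 1 = false

/-- the six codes -/
def six : List ℕ := [2, 16, 22, 18, 20, 6]

/-- codes of transvections -/
def gen : List ℕ := [2, 16, 18, 6, 4, 32]

instance (k : ℕ) : Decidable (ok k) := by unfold ok; infer_instance

theorem ok_six : ∀ q ∈ six, ok q := by decide

theorem ok_xor_tab : ∀ k l : Fin 64, Sp.fN k 1 = false → Sp.fN l 1 = false → (k.1 ^^^ l.1 < 64 ∧ Sp.fN (k.1 ^^^ l.1) 1 = false) := fun k l hk hl =>
  ⟨Nat.xor_lt_two_pow (n := 6) k.2 l.2, by rw [Fast.fN_xor, hk, hl]; rfl⟩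

theorem ok_xor {k l : ℕ} (hk : ok k) (hl : ok l) : ok (k ^^^ l) := ok_xor_tab ⟨k, hk.1⟩ ⟨l, hl.1⟩ hk.2 hl.2

theorem tab_triple : ∀ q ∈ six, ∀ q' ∈ six, Sp.fN q q' = true → ∃ p ∈ six, Sp.fN p q = true ∧ Sp.fN p q' = true ∧
    Sp.fN p (q ^^^ q') = false ∧ p ≠ q ^^^ q' := by decide +kernel

theorem tab_six : ∀ q ∈ six, ∀ q' ∈ six, Sp.fN q q' = true → q ^^^ q' ∈ six := by decide +kernel

theorem tab_ind : ∀ p ∈ six, ∀ q ∈ six, ∀ q' ∈ six, Sp.fN q q' = true → Sp.fN p q = true → Sp.fN p q' = true →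
    Sp.fN p (q ^^^ q') = false → p ≠ q ^^^ q' → ∀ e e1 e2 : Bool,
    ((if e then p else 0) ^^^ ((if e1 then p ^^^ q else 0) ^^^ (if e2 then p ^^^ q' else 0)) = 0 ∨
     (if e then p else 0) ^^^ ((if e1 then p ^^^ q else 0) ^^^ (if e2 then p ^^^ q' else 0)) = 1) →
    e = false ∧ e1 = false ∧ e2 = false := by decide +kernel

theorem tab_zero : ∀ k : Fin 64, Sp.fN k 1 = false → Sp.fN k 2 = false → Sp.fN k 16 = false → Sp.fN k 4 = false →
    Sp.fN k 32 = false → k.1 = 0 ∨ k.1 = 1 := by decide +kernel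

section Abs

variable {M : Type*} [Group M]

theorem abs_T1 {p q s cp cq cs z : M} (h : p * q * s = z) (zs : z * s = s * z) (zz : z * z = 1)
    (sp : p * p = cp) (sq : q * q = cq) (ss : s * s = cs) (hc : cp * cq = cs) (hcs : cs * cs = 1) :
    q * p = p * q := by
  have h1 : p * q = z * s⁻¹ := by rw [← h]; group
  have h2 : p * q * (p * q) = cs := by
    have zs' : s⁻¹ * z = z * s⁻¹ := by
      calc s⁻¹ * z = s⁻¹ * (z * s) * s⁻¹ := by group
        _ = z * s⁻¹ := by rw [zs]; group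
    calc p * q * (p * q) = z * (s⁻¹ * z) * s⁻¹ := by rw [h1]; group
      _ = z * z * (s * s)⁻¹ := by rw [zs']; group
      _ = cs⁻¹ := by rw [zz, ss, one_mul]
      _ = cs := inv_eq_of_mul_eq_one_left hcs
  have h3 : p * (p * q) * q = cs := by
    rw [← hc, ← sp, ← sq]; group
  calc q * p = p⁻¹ * (p * q * (p * q)) * q⁻¹ := by group
    _ = p⁻¹ * (p * (p * q) * q) * q⁻¹ := by rw [h2, h3]
    _ = p * q := by group

theorem abs_T2 {t p q s cp cq cs z : M} (h : p * q * s = t * z) (tt : t * t = 1) (st : s * t = t * s * cs)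
    (tz : t * z = z * t) (zs : z * s = s * z)
    (zz : z * z = 1) (sp : p * p = cp) (sq : q * q = cq) (ss : s * s = cs) (hc : cp * cq = cs) (hcs : cs * cs = 1)
    (hcp : cp * q = q * cp) : q * p = p * q * cs := by
  have h1 : p * q = t * z * s⁻¹ := by rw [← h]; group
  have zs' : s⁻¹ * z = z * s⁻¹ := by
    calc s⁻¹ * z = s⁻¹ * (z * s) * s⁻¹ := by group
      _ = z * s⁻¹ := by rw [zs]; group
  have h4 : t * s⁻¹ * t = cs⁻¹ * s⁻¹ := by
    have h5 : t * s * t = s * cs := by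
      calc t * s * t = t * (s * t) := by group
        _ = t * t * s * cs := by rw [st]; group
        _ = s * cs := by rw [tt, one_mul]
    have ti : t⁻¹ = t := inv_eq_of_mul_eq_one_left tt
    calc t * s⁻¹ * t = (t * s * t)⁻¹ := by rw [mul_inv_rev, mul_inv_rev, ti]; group
      _ = cs⁻¹ * s⁻¹ := by rw [h5, mul_inv_rev]
  have h2 : p * q * (p * q) = 1 := by
    calc p * q * (p * q) = t * z * s⁻¹ * (t * z) * s⁻¹ := by rw [h1]; group
      _ = t * (z * s⁻¹) * (t * z) * s⁻¹ := by group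
      _ = t * (z * s⁻¹) * (z * t) * s⁻¹ := by rw [tz]
      _ = t * (s⁻¹ * z) * (z * t) * s⁻¹ := by rw [zs']
      _ = t * s⁻¹ * (z * z) * t * s⁻¹ := by group
      _ = (t * s⁻¹ * t) * s⁻¹ := by rw [zz]; group
      _ = cs⁻¹ * (s * s)⁻¹ := by rw [h4]; group
      _ = (cs * cs)⁻¹ := by rw [ss, mul_inv_rev]
      _ = 1 := by rw [hcs, inv_one]
  have h3 : p * q * cs = p⁻¹ * q⁻¹ := by
    have h6 : q * p * (p * q * cs) = 1 := by
      calc q * p * (p * q * cs) = q * (p * p) * q * cs := by group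
        _ = q * (q * cp) * cs := by rw [sp, mul_assoc q cp q, hcp]
        _ = (q * q) * cp * cs := by group
        _ = (cp * cq)⁻¹ * cs * (cp * cq) * cs := by
            rw [sq]
            have hcc : cq * cp = cp * cq := by
              rw [← sq]
              calc q * q * cp = q * (q * cp) := by group
                _ = q * (cp * q) := by rw [hcp]
                _ = (q * cp) * q := by group
                _ = (cp * q) * q := by rw [hcp]
                _ = cp * (q * q) := by group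
            rw [hcc, hc]; group
        _ = 1 := by rw [hc]; simp [hcs]
    calc p * q * cs = (q * p)⁻¹ * (q * p * (p * q * cs)) := by group
      _ = p⁻¹ * q⁻¹ := by rw [h6]; group
  rw [h3]
  calc q * p = p⁻¹ * (p * q * (p * q)) * q⁻¹ := by group
    _ = p⁻¹ * q⁻¹ := by rw [h2]; group

end Abs

theorem absKill {M : Type*} [Group M] (t w : M) (C r b : ℕ → M)
    (tt : t * t = 1) (ww : w * w = 1) (tw : t * w = w * t)
    (CC : ∀ k l, ok k → ok l → C k * C l = C (k ^^^ l))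
    (Ct : ∀ k, ok k → C k * t = t * C k) (Cw : ∀ k, ok k → C k * w = w * C k)
    (C0 : ∀ k, ok k → (C k = 1 ↔ k = 0 ∨ k = 1))
    (Cr : ∀ k, ok k → ∀ q ∈ six, C k * r q = r q * C k)
    (sq : ∀ q ∈ six, r q * r q = C q)
    (rt : ∀ q ∈ six, r q * t = t * r q * C q)
    (wr : ∀ q ∈ six, w * r q = r q * w)
    (dis : ∀ p ∈ six, ∀ q ∈ six, Sp.fN p q = false → r p * r q = r q * r p)
    (nf : ∀ p ∈ six, ∀ q ∈ six, Sp.fN p q = true → ∃ j k, ok k ∧
      (r p * r q * r (p ^^^ q) = w ^ j * C k ∨ r p * r q * r (p ^^^ q) = t * (w ^ (j : ℕ) * C k)))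
    (br : ∀ p ∈ gen, ∀ q ∈ six, tc p q ∈ six → b p * r q = r (tc p q) * b p)
    (bw : ∀ p ∈ gen, b p * w = w * b p)
    (bC : ∀ p ∈ gen, ∀ k, ok k → b p * C k = C k * b p → Sp.fN k p = false) : False := by
  have c0 : C 0 = 1 := (C0 0 (by decide)).2 (Or.inl rfl)
  have CCs : ∀ k, ok k → C k * C k = 1 := by
    intro k hk
    rw [CC k k hk hk, Nat.xor_self, c0]
  have CCc : ∀ k l, ok k → ok l → C k * C l = C l * C k := by
    intro k l hk hl
    rw [CC k l hk hl, CC l k hl hk, Nat.xor_comm]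
  -- the elements `w ^ j * C k`
  have wjr : ∀ (j : ℕ) q, q ∈ six → w ^ j * r q = r q * w ^ j := fun j q hq => (Commute.pow_left (wr q hq) j : _)
  have wjC : ∀ (j : ℕ) k, ok k → w ^ j * C k = C k * w ^ j := fun j k hk => (Commute.pow_left (Cw k hk).symm j : _)
  have wjt : ∀ (j : ℕ), w ^ j * t = t * w ^ j := fun j => (Commute.pow_left tw.symm j : _)
  have wjj : ∀ (j : ℕ), w ^ j * w ^ j = 1 := by
    intro j
    rw [← (Commute.refl w).mul_pow j, ww, one_pow]
  have zr : ∀ (j : ℕ) k, ok k → ∀ q ∈ six, w ^ j * C k * r q = r q * (w ^ j * C k) := by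
    intro j k hk q hq
    rw [mul_assoc, Cr k hk q hq, ← mul_assoc, wjr j q hq, mul_assoc]
  have zt : ∀ (j : ℕ) k, ok k → t * (w ^ j * C k) = w ^ j * C k * t := by
    intro j k hk
    rw [← mul_assoc, ← wjt, mul_assoc, ← Ct k hk, ← mul_assoc]
  have zz : ∀ (j : ℕ) k, ok k → w ^ j * C k * (w ^ j * C k) = 1 := by
    intro j k hk
    calc w ^ j * C k * (w ^ j * C k) = w ^ j * (C k * w ^ j) * C k := by group
      _ = w ^ j * w ^ j * (C k * C k) := by rw [← wjC j k hk]; group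
      _ = 1 := by rw [wjj, CCs k hk, one_mul]
  -- normal forms with exponents
  have nf' : ∀ p ∈ six, ∀ q ∈ six, Sp.fN p q = true → ∃ (e : Bool) (j k : ℕ), ok k ∧
      r p * r q * r (p ^^^ q) = (if e then t else 1) * (w ^ j * C k) ∧
      r p * r q = r q * r p * C (if e then p ^^^ q else 0) := by
    intro p hp q hq hpq
    obtain ⟨j, k, hk, h⟩ := nf p hp q hq hpq
    have hs := tab_six p hp q hq hpq
    have hcs := CCs _ (ok_six _ hs)
    have hc := CC p q (ok_six p hp) (ok_six q hq)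
    rcases h with h | h
    · refine ⟨false, j, k, hk, ?_, ?_⟩
      · rw [h]; simp
      · have h1 := abs_T1 h (zr j k hk _ hs) (zz j k hk) (sq p hp) (sq q hq) (sq _ hs) hc hcs
        rw [h1]; simp [c0]
    · refine ⟨true, j, k, hk, ?_, ?_⟩
      · rw [h]; simp
      · have h1 := abs_T2 h tt (rt _ hs) (zt j k hk) (zr j k hk _ hs) (zz j k hk) (sq p hp) (sq q hq) (sq _ hs) hc hcs
          (Cr p (ok_six p hp) q hq)
        rw [h1]
        have : (if true = true then p ^^^ q else 0) = p ^^^ q := rfl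
        rw [this, mul_assoc, hcs, mul_one]
  -- all exponents vanish
  have hall : ∀ q ∈ six, ∀ q' ∈ six, Sp.fN q q' = true →
      (∃ j k : ℕ, ok k ∧ r q * r q' * r (q ^^^ q') = w ^ j * C k) ∧ r q * r q' = r q' * r q := by
    intro q hq q' hq' hqq
    obtain ⟨p, hp, hpq, hpq', hps, hpn⟩ := tab_triple q hq q' hq' hqq
    obtain ⟨e, j, k, hk, h1, h2⟩ := nf' q hq q' hq' hqq
    obtain ⟨e1, -, -, -, -, h3⟩ := nf' p hp q hq hpq
    obtain ⟨e2, -, -, -, -, h4⟩ := nf' p hp q' hq' hpq'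
    have hs := tab_six q hq q' hq' hqq
    have h5 := dis p hp _ hs hps
    have ok1 : ok (if e1 then p ^^^ q else 0) := by
      cases e1
      · exact (by decide : ok 0)
      · exact ok_xor (ok_six p hp) (ok_six q hq)
    have ok2 : ok (if e2 then p ^^^ q' else 0) := by
      cases e2
      · exact (by decide : ok 0)
      · exact ok_xor (ok_six p hp) (ok_six q' hq')
    have okp : ok (if e then p else 0) := by
      cases e
      · exact (by decide : ok 0)
      · exact ok_six p hp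
    set x1 := (if e1 then p ^^^ q else 0)
    set x2 := (if e2 then p ^^^ q' else 0)
    have h6 : r p * (r q * r q' * r (q ^^^ q')) = r q * r q' * r (q ^^^ q') * r p * (C x1 * C x2) := by
      calc r p * (r q * r q' * r (q ^^^ q')) = r p * r q * r q' * r (q ^^^ q') := by group
        _ = r q * r p * (C x1 * r q') * r (q ^^^ q') := by rw [h3]; group
        _ = r q * (r p * r q') * C x1 * r (q ^^^ q') := by rw [Cr x1 ok1 q' hq']; group
        _ = r q * r q' * r p * (C x2 * C x1 * r (q ^^^ q')) := by rw [h4]; group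
        _ = r q * r q' * (r p * r (q ^^^ q')) * (C x2 * C x1) := by
          rw [mul_assoc (C x2), Cr x1 ok1 _ hs, ← mul_assoc (C x2), Cr x2 ok2 _ hs]; group
        _ = _ := by rw [h5, CCc x1 x2 ok1 ok2]; group
    rw [h1] at h6
    have h7 : r p * ((if e then t else 1) * (w ^ j * C k)) =
        (if e then t else 1) * (w ^ j * C k) * r p * C (if e then p else 0) := by
      cases e
      · change r p * (1 * (w ^ j * C k)) = 1 * (w ^ j * C k) * r p * C 0
        rw [one_mul, c0, mul_one, zr j k hk p hp]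
      · change r p * (t * (w ^ j * C k)) = t * (w ^ j * C k) * r p * C p
        calc r p * (t * (w ^ j * C k)) = (r p * t) * (w ^ j * C k) := by group
          _ = t * r p * (C p * w ^ j) * C k := by rw [rt p hp]; group
          _ = t * r p * w ^ j * (C p * C k) := by rw [← wjC j p (ok_six p hp)]; group
          _ = t * r p * (w ^ j * C k) * C p := by rw [CCc p k (ok_six p hp) hk]; group
          _ = t * (r p * (w ^ j * C k)) * C p := by group
          _ = _ := by rw [← zr j k hk p hp]; group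
    rw [h7] at h6
    have h8 := mul_left_cancel h6
    have h9 : C (if e then p else 0) * (C x1 * C x2) = 1 := by
      rw [h8]
      calc C x1 * C x2 * (C x1 * C x2) = C x1 * (C x2 * C x1) * C x2 := by group
        _ = C x1 * C x1 * (C x2 * C x2) := by rw [← CCc x1 x2 ok1 ok2]; group
        _ = 1 := by rw [CCs x1 ok1, CCs x2 ok2, one_mul]
    rw [CC x1 x2 ok1 ok2, CC _ _ okp (ok_xor ok1 ok2)] at h9
    have h10 := (C0 _ (ok_xor okp (ok_xor ok1 ok2))).1 h9
    obtain ⟨rfl, -, -⟩ := tab_ind p hp q hq q' hq' hqq hpq hpq' hps hpn e e1 e2 h10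
    refine ⟨⟨j, k, hk, ?_⟩, ?_⟩
    · rw [h1]; simp
    · rw [h2]; simp [c0]
  have m2 : 2 ∈ six := by decide
  have m16 : 16 ∈ six := by decide
  have m18 : 18 ∈ six := by decide
  have m22 : 22 ∈ six := by decide
  have m20 : 20 ∈ six := by decide
  have m6 : 6 ∈ six := by decide
  obtain ⟨⟨j, k, hk, h0⟩, c2_16⟩ := hall 2 m2 16 m16 (by decide)
  have e18 : (2 ^^^ 16 : ℕ) = 18 := by decide
  rw [e18] at h0
  have c2_18 := (hall 2 m2 18 m18 (by decide)).2
  have c16_18 := (hall 16 m16 18 m18 (by decide)).2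
  have c2_22 := (hall 2 m2 22 m22 (by decide)).2
  have c16_22 := (hall 16 m16 22 m22 (by decide)).2
  have br' : ∀ p q q', p ∈ gen → q ∈ six → q' ∈ six → tc p q = q' → b p * r q = r q' * b p := by
    intro p q q' hp hq hq' h
    rw [← h] at hq' ⊢
    exact br p hp q hq hq'
  have b3 : ∀ p q1 q2 q3 q1' q2' q3', b p * r q1 = r q1' * b p → b p * r q2 = r q2' * b p →
      b p * r q3 = r q3' * b p → b p * (r q1 * r q2 * r q3) = r q1' * r q2' * r q3' * b p := by
    intro p q1 q2 q3 q1' q2' q3' h1 h2 h3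
    calc b p * (r q1 * r q2 * r q3) = (b p * r q1) * r q2 * r q3 := by group
      _ = r q1' * (b p * r q2) * r q3 := by rw [h1]; group
      _ = r q1' * r q2' * (b p * r q3) := by rw [h2]; group
      _ = _ := by rw [h3]; group
  have bwj : ∀ p ∈ gen, b p * w ^ j = w ^ j * b p := fun p hp => (Commute.pow_right (bw p hp) j : _)
  -- `k` is trivial
  have hbk : ∀ p ∈ gen, b p * (r 2 * r 16 * r 18) = r 2 * r 16 * r 18 * b p → Sp.fN k p = false := by
    intro p hp h
    apply bC p hp k hk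
    rw [h0] at h
    have h1 : w ^ j * (b p * C k) = w ^ j * (C k * b p) := by
      calc w ^ j * (b p * C k) = (w ^ j * b p) * C k := by group
        _ = b p * (w ^ j * C k) := by rw [← bwj p hp]; group
        _ = _ := by rw [h]; group
    exact mul_left_cancel h1
  have k1 := hbk 2 (by decide) (by
    rw [b3 2 2 16 18 2 18 16 (br' 2 2 2 (by decide) m2 m2 (by decide)) (br' 2 16 18 (by decide) m16 m18 (by decide))
      (br' 2 18 16 (by decide) m18 m16 (by decide)), mul_assoc (r 2), ← c16_18, ← mul_assoc (r 2)])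
  have k2 := hbk 16 (by decide) (by
    rw [b3 16 2 16 18 18 16 2 (br' 16 2 18 (by decide) m2 m18 (by decide)) (br' 16 16 16 (by decide) m16 m16 (by decide))
      (br' 16 18 2 (by decide) m18 m2 (by decide))]
    congr 1
    calc r 18 * r 16 * r 2 = r 18 * (r 16 * r 2) := by group
      _ = (r 18 * r 2) * r 16 := by rw [← c2_16]; group
      _ = r 2 * (r 18 * r 16) := by rw [← c2_18]; group
      _ = r 2 * r 16 * r 18 := by rw [← c16_18]; group)
  have k3 := hbk 4 (by decide)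
    (b3 4 2 16 18 2 16 18 (br' 4 2 2 (by decide) m2 m2 (by decide)) (br' 4 16 16 (by decide) m16 m16 (by decide))
      (br' 4 18 18 (by decide) m18 m18 (by decide)))
  have k4 := hbk 32 (by decide)
    (b3 32 2 16 18 2 16 18 (br' 32 2 2 (by decide) m2 m2 (by decide)) (br' 32 16 16 (by decide) m16 m16 (by decide))
      (br' 32 18 18 (by decide) m18 m18 (by decide)))
  have hk0 := tab_zero ⟨k, hk.1⟩ hk.2 k1 k2 k3 k4
  have hCk := (C0 k hk).2 hk0
  rw [hCk, mul_one] at h0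
  -- the four triangles
  have step : ∀ p ∈ gen, ∀ q1 q2 q3 q1' q2' q3', b p * (r q1 * r q2 * r q3) = r q1' * r q2' * r q3' * b p →
      r q1 * r q2 * r q3 = w ^ j → r q1' * r q2' * r q3' = w ^ j := by
    intro p hp q1 q2 q3 q1' q2' q3' h h'
    rw [h', bwj p hp] at h
    exact (mul_right_cancel h).symm
  have g2 := step 6 (by decide) _ _ _ _ _ _ (b3 6 2 16 18 2 22 20 (br' 6 2 2 (by decide) m2 m2 (by decide))
    (br' 6 16 22 (by decide) m16 m22 (by decide)) (br' 6 18 20 (by decide) m18 m20 (by decide))) h0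
  have g3 := step 18 (by decide) _ _ _ _ _ _ (b3 18 2 22 20 16 22 6 (br' 18 2 16 (by decide) m2 m16 (by decide))
    (br' 18 22 22 (by decide) m22 m22 (by decide)) (br' 18 20 6 (by decide) m20 m6 (by decide))) g2
  have g4 := step 2 (by decide) _ _ _ _ _ _ (b3 2 16 22 6 18 20 6 (br' 2 16 18 (by decide) m16 m18 (by decide))
    (br' 2 22 20 (by decide) m22 m20 (by decide)) (br' 2 6 6 (by decide) m6 m6 (by decide))) g3
  -- the product
  have f18 : r 18 = (r 2 * r 16)⁻¹ * w ^ j := by rw [← h0]; group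
  have f20 : r 20 = (r 2 * r 22)⁻¹ * w ^ j := by rw [← g2]; group
  have f6 : r 6 = (r 16 * r 22)⁻¹ * w ^ j := by rw [← g3]; group
  have hw2 : w ^ j * (r 2 * r 22)⁻¹ = (r 2 * r 22)⁻¹ * w ^ j := by
    have c : Commute (w ^ j) (r 2 * r 22) := Commute.mul_right (wjr j 2 m2) (wjr j 22 m22)
    exact c.inv_right
  have hw3 : w ^ j * (r 16 * r 22)⁻¹ = (r 16 * r 22)⁻¹ * w ^ j := by
    have c : Commute (w ^ j) (r 16 * r 22) := Commute.mul_right (wjr j 16 m16) (wjr j 22 m22)
    exact c.inv_right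
  have h11 : (r 2 * r 16)⁻¹ * (r 2 * r 22)⁻¹ * (r 16 * r 22)⁻¹ = 1 := by
    rw [f18, f20, f6] at g4
    have h12 : (r 2 * r 16)⁻¹ * w ^ j * ((r 2 * r 22)⁻¹ * w ^ j) * ((r 16 * r 22)⁻¹ * w ^ j) =
        (r 2 * r 16)⁻¹ * (r 2 * r 22)⁻¹ * (r 16 * r 22)⁻¹ * w ^ j := by
      calc (r 2 * r 16)⁻¹ * w ^ j * ((r 2 * r 22)⁻¹ * w ^ j) * ((r 16 * r 22)⁻¹ * w ^ j)
          = (r 2 * r 16)⁻¹ * (w ^ j * (r 2 * r 22)⁻¹) * w ^ j * ((r 16 * r 22)⁻¹ * w ^ j) := by group
        _ = (r 2 * r 16)⁻¹ * (r 2 * r 22)⁻¹ * (w ^ j * w ^ j) * ((r 16 * r 22)⁻¹ * w ^ j) := by rw [hw2]; group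
        _ = _ := by rw [wjj, mul_one]; group
    rw [h12] at g4
    exact mul_eq_right.1 g4
  have h13 : r 16 * r 22 * (r 2 * r 22) * (r 2 * r 16) = 1 := by
    rw [← inv_inj, inv_one, ← h11]; group
  have h14 : r 16 * r 22 * (r 2 * r 22) * (r 2 * r 16) = C 4 := by
    calc r 16 * r 22 * (r 2 * r 22) * (r 2 * r 16) = r 16 * r 22 * r 2 * (r 22 * r 2) * r 16 := by group
      _ = r 16 * r 22 * (r 2 * r 2) * (r 22 * r 16) := by rw [← c2_22]; group
      _ = r 16 * (r 22 * C 2) * (r 22 * r 16) := by rw [sq 2 m2]; group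
      _ = r 16 * C 2 * (r 22 * r 22) * r 16 := by rw [← Cr 2 (by decide) 22 m22]; group
      _ = r 16 * (C 2 * C 22 * r 16) := by rw [sq 22 m22]; group
      _ = r 16 * r 16 * (C 2 * C 22) := by rw [CC 2 22 (by decide) (by decide), Cr _ (by decide) 16 m16]; group
      _ = C 4 := by
        rw [sq 16 m16, CC 2 22 (by decide) (by decide), CC 16 _ (by decide) (by decide)]
        congr 1
  rw [h14] at h13
  have h15 := (C0 4 (by decide)).1 h13
  omega

end Cfsg.Agent.StdSpSix.Sw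
end

-- part: StdSpSix/SwQuot
section
/-!
# `C_G(z)/⟨z⟩`, and facts about the elements `c_a` of `Sp₆(2)`
-/

set_option autoImplicit false

namespace Cfsg.Agent.StdSpSix.Sw

open Subgroup
open Cfsg.Agent.StandardComponent.SpTwo
open Cfsg.Agent.SporRec.TwoSp6
open Cfsg.Agent.StdSpSix.Words
open Cfsg.Agent.StdSpSix.Counts

section Quot

variable {G : Type*} [Group G] (z : G) (hz : z * z = 1)

/-- `⟨z⟩` in `C_G(z)` -/
def NZ : Subgroup (centralizer ({z} : Set G)) where
  carrier := {x | (x : G) = 1 ∨ (x : G) = z}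
  one_mem' := Or.inl rfl
  mul_mem' := by
    rintro ⟨x, hx⟩ ⟨y, hy⟩ (h1 | h1) (h2 | h2)
    · exact Or.inl (by change x * y = 1; rw [show x = 1 from h1, show y = 1 from h2, one_mul])
    · exact Or.inr (by change x * y = z; rw [show x = 1 from h1, show y = z from h2, one_mul])
    · exact Or.inr (by change x * y = z; rw [show x = z from h1, show y = 1 from h2, mul_one])
    · exact Or.inl (by change x * y = 1; rw [show x = z from h1, show y = z from h2, hz])
  inv_mem' := by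
    rintro ⟨x, hx⟩ (h1 | h1)
    · exact Or.inl (by change x⁻¹ = 1; rw [show x = 1 from h1, inv_one])
    · exact Or.inr (by change x⁻¹ = z; rw [show x = z from h1]; exact inv_eq_of_mul_eq_one_left hz)

theorem mem_NZ {x : centralizer ({z} : Set G)} : x ∈ NZ z hz ↔ (x : G) = 1 ∨ (x : G) = z := Iff.rfl

instance : (NZ z hz).Normal := by
  constructor
  rintro n hn g
  rw [mem_NZ] at hn ⊢
  rcases hn with h | h
  · left
    change (g : G) * n * (g : G)⁻¹ = 1
    rw [h]; group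
  · right
    change (g : G) * n * (g : G)⁻¹ = z
    have hg := mem_centralizer_singleton_iff.1 g.2
    rw [h, hg]; group

open Classical in
/-- the projection, extended by 1 -/
noncomputable def PZ (x : G) : centralizer ({z} : Set G) ⧸ NZ z hz :=
  if h : x ∈ centralizer ({z} : Set G) then QuotientGroup.mk ⟨x, h⟩ else 1

theorem PZ_mul {x y : G} (hx : x * z = z * x) (hy : y * z = z * y) : PZ z hz (x * y) = PZ z hz x * PZ z hz y := by
  have h1 : x ∈ centralizer ({z} : Set G) := mem_centralizer_singleton_iff.2 hx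
  have h2 : y ∈ centralizer ({z} : Set G) := mem_centralizer_singleton_iff.2 hy
  unfold PZ
  rw [dif_pos h1, dif_pos h2, dif_pos (mul_mem h1 h2)]
  rfl

theorem PZ_one : PZ z hz 1 = 1 := by
  have h1 : (1 : G) ∈ centralizer ({z} : Set G) := one_mem _
  unfold PZ
  rw [dif_pos h1]
  rfl

theorem PZ_eq {x y : G} (hx : x * z = z * x) (hy : y * z = z * y) : PZ z hz x = PZ z hz y ↔ y = x ∨ y = x * z := by
  have h1 : x ∈ centralizer ({z} : Set G) := mem_centralizer_singleton_iff.2 hx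
  have h2 : y ∈ centralizer ({z} : Set G) := mem_centralizer_singleton_iff.2 hy
  unfold PZ
  rw [dif_pos h1, dif_pos h2, QuotientGroup.eq, mem_NZ]
  change x⁻¹ * y = 1 ∨ x⁻¹ * y = z ↔ _
  rw [inv_mul_eq_one, inv_mul_eq_iff_eq_mul, eq_comm]

theorem PZ_z : PZ z hz z = 1 := by
  rw [← PZ_one z hz, eq_comm, PZ_eq z hz (by group) rfl]
  right
  rw [one_mul]

end Quot

/-! ### facts about the `c_a` -/

theorem cc_mul {v a b : Sp.V} (ha : Sp.om v a = 0) (hb : Sp.om v b = 0) :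
    cc v a * cc v b = cc v (a + b) ∨ cc v a * cc v b = cc v (a + b) * Sp.tr v := by
  have hab : Sp.om v (a + b) = 0 := by rw [Sp.om_add, ha, hb, add_zero]
  have hlin : ∀ y, Sp.act (cc v a * cc v b) y = y + (Sp.om y b • v + Sp.om y v • (b + v)) +
      (Sp.om y a + Sp.om y v * Sp.om b a) • v + Sp.om y v • (a + v) := by
    intro y
    have h1 : Sp.om (y + Sp.om y b • v + Sp.om y v • (b + v)) a = Sp.om y a + Sp.om y v * Sp.om b a := by
      rw [Sp.om_add', Sp.om_add', Invol.om_smul', Invol.om_smul', ha, mul_zero, add_zero, Sp.om_add', ha, add_zero]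
    have h2 : Sp.om (y + Sp.om y b • v + Sp.om y v • (b + v)) v = Sp.om y v := by
      have h3 : Sp.om b v = 0 := by rw [Sp.om_symm]; exact hb
      rw [Sp.om_add', Sp.om_add', Invol.om_smul', Invol.om_smul', Sp.om_self, mul_zero, add_zero, Sp.om_add', h3,
        Sp.om_self, add_zero, mul_zero, add_zero]
    rw [Sp.act_mul, act_cc hb, act_cc ha, h1, h2, ← add_assoc]
  rcases Sp.om_cases b a with h | h
  · right
    apply Sp.act_ext
    intro y
    have h2 : Sp.om (y + Sp.om y v • v) (a + b) = Sp.om y (a + b) := by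
      rw [Sp.om_add', Invol.om_smul', hab, mul_zero, add_zero]
    have h3 : Sp.om (y + Sp.om y v • v) v = Sp.om y v := by
      rw [Sp.om_add', Invol.om_smul', Sp.om_self, mul_zero, add_zero]
    rw [hlin, Sp.act_mul, Sp.act_tr v, act_cc hab, h2, h3, h, Sp.om_add]
    funext i
    change y i + (Sp.om y b * v i + Sp.om y v * (b i + v i)) + (Sp.om y a + Sp.om y v * 0) * v i +
      Sp.om y v * (a i + v i) = y i + Sp.om y v * v i + (Sp.om y a + Sp.om y b) * v i + Sp.om y v * ((a i + b i) + v i)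
    generalize Sp.om y b = β
    generalize Sp.om y a = α
    generalize Sp.om y v = γ
    generalize y i = y'
    generalize v i = v'
    generalize a i = a'
    generalize b i = b'
    revert β α γ y' v' a' b'
    decide +kernel
  · left
    apply Sp.act_ext
    intro y
    rw [hlin, act_cc hab, h, Sp.om_add]
    funext i
    change y i + (Sp.om y b * v i + Sp.om y v * (b i + v i)) + (Sp.om y a + Sp.om y v * 1) * v i +
      Sp.om y v * (a i + v i) = y i + (Sp.om y a + Sp.om y b) * v i + Sp.om y v * ((a i + b i) + v i)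
    generalize Sp.om y b = β
    generalize Sp.om y a = α
    generalize Sp.om y v = γ
    generalize y i = y'
    generalize v i = v'
    generalize a i = a'
    generalize b i = b'
    revert β α γ y' v' a' b'
    decide +kernel

theorem cc_ne {v a : Sp.V} (hv : v ≠ 0) (ha : Sp.om v a = 0) (h0 : a ≠ 0) (h1 : a ≠ v) :
    cc v a ≠ 1 ∧ cc v a ≠ Sp.tr v := by
  obtain ⟨y, hy1, hy0⟩ := Sp.exists_om_one_zero h0 h1
  have e1 : Sp.act (cc v a) y = y + v := by
    rw [act_cc ha, Sp.om_symm y a, hy1, Sp.om_symm y v, hy0, one_smul, zero_smul, add_zero]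
  constructor
  · intro h
    rw [h, Sp.act_one] at e1
    exact hv (add_eq_left.1 e1.symm)
  · intro h
    rw [h, Sp.act_tr, Sp.om_symm y v, hy0, zero_smul, add_zero] at e1
    exact hv (add_eq_left.1 e1.symm)

theorem cc_tr {v a p : Sp.V} (hv : v ≠ 0) (ha : Sp.om v a = 0) (hp : Sp.om v p = 0) (hp0 : p ≠ 0) (hpv : p ≠ v)
    (h : Sp.tr p * cc v a = cc v a * Sp.tr p ∨ Sp.tr p * cc v a = cc v a * Sp.tr p * Sp.tr v) : Sp.om a p = 0 := by
  rcases Sp.om_cases a p with h1 | h1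
  · exact h1
  exfalso
  have hpv0 : Sp.om p v = 0 := by rw [Sp.om_symm]; exact hp
  have e1 : Sp.act (cc v a) p = p + v := by
    rw [act_cc_perp ha hpv0, Sp.om_symm, h1, one_smul]
  rcases h with h | h
  · have h2 := comm_iff.1 h.symm
    rw [e1] at h2
    exact hv (add_eq_left.1 h2)
  · have h3 := Sp.conj_tr (cc v a) p
    rw [e1] at h3
    have h4 : cc v a * Sp.tr v = Sp.tr v * cc v a := comm_iff.2 (act_cc_v ha)
    have h5 : Sp.tr p * cc v a = Sp.tr (p + v) * Sp.tr v * cc v a := by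
      rw [h]
      have h6 : Sp.tr p * Sp.tr v = Sp.tr v * Sp.tr p := Sp.tr_comm hpv0
      have h7 : Sp.tr (p + v) * Sp.tr v = Sp.tr v * Sp.tr (p + v) :=
        Sp.tr_comm (by rw [Sp.om_add', hpv0, Sp.om_self, add_zero])
      rw [h7, ← h3, mul_assoc (cc v a), h6, ← mul_assoc, h4]
      generalize cc v a = c
      generalize Sp.tr v = t
      generalize Sp.tr p = q
      group
    have h6 := mul_right_cancel h5
    obtain ⟨y, hy1, hy0⟩ := Sp.exists_om_one_zero hp0 hpv
    have h7 : Sp.act (Sp.tr p) y = Sp.act (Sp.tr (p + v) * Sp.tr v) y := by rw [h6]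
    have hyv : Sp.om y v = 0 := by rw [Sp.om_symm]; exact hy0
    have hyp : Sp.om y p = 1 := by rw [Sp.om_symm]; exact hy1
    rw [Sp.act_mul, Sp.act_tr p, Sp.act_tr v, hyv, zero_smul, add_zero, Sp.act_tr, Sp.om_add, hyv, hyp, add_zero, one_smul,
      one_smul, ← add_assoc] at h7
    exact hv (add_eq_left.1 h7.symm)

/-- the table for `O₂(C_L(b_v))` -/
def kU (α β γ ε : Bool) : ℕ := (if α then 16 else 0) ^^^ ((if γ then 2 else 0) ^^^ ((if β then 32 else 0) ^^^
  (if ε then 4 else 0)))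

theorem tabU : ∀ α β γ ε : Bool, ∀ x : Fin 64, (Sp.fN x 1 = true ∧ Sp.fN x (if α then 3 else 2) = false ∧
    Sp.fN x (if β then 5 else 4) = false ∧ Sp.fN x (if γ then 17 else 16) = false ∧
    Sp.fN x (if ε then 33 else 32) = false) →
    (kU α β γ ε < 64 ∧ Sp.fN (kU α β γ ε) 1 = false) ∧
    ∃ ks ∈ [[kU α β γ ε, kU α β γ ε ^^^ 1], [kU α β γ ε, kU α β γ ε ^^^ 1, 1]],
      wc ks 1 = 1 ∧ wc ks 2 = (if α then 3 else 2) ∧ wc ks 4 = (if β then 5 else 4) ∧ wc ks 8 = x ∧
      wc ks 16 = (if γ then 17 else 16) ∧ wc ks 32 = (if ε then 33 else 32) := by decide +kernel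

theorem cc_enc (k : ℕ) : cc (Sp.enc 1) (Sp.enc k) = W [k, k ^^^ 1] := by
  rw [W_cons, W_cons, W_nil, mul_one, Sp.enc_xor]
  rfl

theorem dcU {s : Sp.S} (hv : Sp.act s (Sp.enc 1) = Sp.enc 1)
    (h : ∀ k, ok k → s * cc (Sp.enc 1) (Sp.enc k) = cc (Sp.enc 1) (Sp.enc k) * s ∨
      s * cc (Sp.enc 1) (Sp.enc k) = cc (Sp.enc 1) (Sp.enc k) * s * Sp.tr (Sp.enc 1)) :
    ∃ k, ok k ∧ (s = cc (Sp.enc 1) (Sp.enc k) ∨ s = cc (Sp.enc 1) (Sp.enc k) * Sp.tr (Sp.enc 1)) := by
  have hsv : s * Sp.tr (Sp.enc 1) = Sp.tr (Sp.enc 1) * s := comm_iff.2 hv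
  have h81 : Sp.om (Sp.enc 8) (Sp.enc 1) = 1 := om_of_fN (by decide)
  have hmove : ∀ k, ok k → ∃ e : Bool, Sp.act s (Sp.enc k) = Sp.enc (if e then k ^^^ 1 else k) := by
    intro k hk
    have hk0 : Sp.om (Sp.enc 1) (Sp.enc k) = 0 := by rw [Sp.om_symm]; exact om_of_fN' hk.2
    have hk1 : Sp.om (Sp.enc 1) (Sp.act s (Sp.enc k)) = 0 := by
      rw [← hk0]
      conv_lhs => rw [← hv]
      exact Sp.act_om _ _ _
    have h1 := cc_conj s (a := Sp.enc k) hv
    have h2 : cc (Sp.enc 1) (Sp.act s (Sp.enc k)) = cc (Sp.enc 1) (Sp.enc k) ∨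
        cc (Sp.enc 1) (Sp.act s (Sp.enc k)) = cc (Sp.enc 1) (Sp.enc k) * Sp.tr (Sp.enc 1) := by
      rw [← h1]
      rcases h k hk with h3 | h3
      · left; rw [h3, mul_inv_cancel_right]
      · right; rw [h3, mul_assoc _ s, hsv, ← mul_assoc, mul_inv_cancel_right]
    have h3 : ∃ c : ZMod 2, Sp.act s (Sp.enc k) = Sp.enc k + c • Sp.enc 1 := by
      rcases h2 with h2 | h2
      · have h4 : Sp.act (cc (Sp.enc 1) (Sp.act s (Sp.enc k))) (Sp.enc 8) =
            Sp.act (cc (Sp.enc 1) (Sp.enc k)) (Sp.enc 8) := by rw [h2]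
        rw [act_cc hk1, act_cc hk0, h81, one_smul, one_smul] at h4
        refine ⟨Sp.om (Sp.enc 8) (Sp.act s (Sp.enc k)) + Sp.om (Sp.enc 8) (Sp.enc k), ?_⟩
        funext i
        have h5 := congrFun h4 i
        change Sp.enc 8 i + Sp.om (Sp.enc 8) (Sp.act s (Sp.enc k)) * Sp.enc 1 i + (Sp.act s (Sp.enc k) i + Sp.enc 1 i) =
          Sp.enc 8 i + Sp.om (Sp.enc 8) (Sp.enc k) * Sp.enc 1 i + (Sp.enc k i + Sp.enc 1 i) at h5
        change Sp.act s (Sp.enc k) i = Sp.enc k i + (Sp.om (Sp.enc 8) (Sp.act s (Sp.enc k)) +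
          Sp.om (Sp.enc 8) (Sp.enc k)) * Sp.enc 1 i
        revert h5
        generalize Sp.om (Sp.enc 8) (Sp.act s (Sp.enc k)) = α
        generalize Sp.om (Sp.enc 8) (Sp.enc k) = β
        generalize Sp.act s (Sp.enc k) i = x
        generalize Sp.enc k i = y
        generalize Sp.enc 1 i = z
        generalize Sp.enc 8 i = u
        revert α β x y z u
        decide +kernel
      · have h4 : Sp.act (cc (Sp.enc 1) (Sp.act s (Sp.enc k))) (Sp.enc 8) =
            Sp.act (cc (Sp.enc 1) (Sp.enc k) * Sp.tr (Sp.enc 1)) (Sp.enc 8) := by rw [h2]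
        have h5 : Sp.om (Sp.enc 8 + Sp.enc 1) (Sp.enc k) = Sp.om (Sp.enc 8) (Sp.enc k) := by
          rw [Sp.om_add', hk0, add_zero]
        have h6 : Sp.om (Sp.enc 8 + Sp.enc 1) (Sp.enc 1) = 1 := by
          rw [Sp.om_add', h81, Sp.om_self, add_zero]
        rw [act_cc hk1, Sp.act_mul, Sp.act_tr, h81, one_smul, one_smul, act_cc hk0, h5, h6, one_smul] at h4
        refine ⟨Sp.om (Sp.enc 8) (Sp.act s (Sp.enc k)) + Sp.om (Sp.enc 8) (Sp.enc k) + 1, ?_⟩
        funext i
        have h5 := congrFun h4 i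
        change Sp.enc 8 i + Sp.om (Sp.enc 8) (Sp.act s (Sp.enc k)) * Sp.enc 1 i + (Sp.act s (Sp.enc k) i + Sp.enc 1 i) =
          Sp.enc 8 i + Sp.enc 1 i + Sp.om (Sp.enc 8) (Sp.enc k) * Sp.enc 1 i + (Sp.enc k i + Sp.enc 1 i) at h5
        change Sp.act s (Sp.enc k) i = Sp.enc k i + (Sp.om (Sp.enc 8) (Sp.act s (Sp.enc k)) +
          Sp.om (Sp.enc 8) (Sp.enc k) + 1) * Sp.enc 1 i
        revert h5
        generalize Sp.om (Sp.enc 8) (Sp.act s (Sp.enc k)) = α
        generalize Sp.om (Sp.enc 8) (Sp.enc k) = β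
        generalize Sp.act s (Sp.enc k) i = x
        generalize Sp.enc k i = y
        generalize Sp.enc 1 i = z
        generalize Sp.enc 8 i = u
        revert α β x y z u
        decide +kernel
    obtain ⟨c, hc⟩ := h3
    have hc2 : ∀ c : ZMod 2, c = 0 ∨ c = 1 := by decide
    rcases hc2 c with rfl | rfl
    · exact ⟨false, by rw [hc, zero_smul, add_zero]; rfl⟩
    · exact ⟨true, by rw [hc, one_smul, ← Sp.enc_xor]; rfl⟩
  obtain ⟨α, hα⟩ := hmove 2 (by decide)
  obtain ⟨β, hβ⟩ := hmove 4 (by decide)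
  obtain ⟨γ, hγ⟩ := hmove 16 (by decide)
  obtain ⟨ε, hε⟩ := hmove 32 (by decide)
  obtain ⟨x, hx, ex⟩ := Sp.exists_enc (Sp.act s (Sp.enc 8))
  have hom : ∀ k l, Sp.act s (Sp.enc k) = Sp.enc l → Sp.om (Sp.enc x) (Sp.enc l) = Sp.om (Sp.enc 8) (Sp.enc k) := by
    intro k l hkl
    rw [← ex, ← hkl]
    exact Sp.act_om _ _ _
  have e2 : (2 ^^^ 1 : ℕ) = 3 := by decide
  have e4 : (4 ^^^ 1 : ℕ) = 5 := by decide
  have e16 : (16 ^^^ 1 : ℕ) = 17 := by decide
  have e32 : (32 ^^^ 1 : ℕ) = 33 := by decide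
  rw [e2] at hα
  rw [e4] at hβ
  rw [e16] at hγ
  rw [e32] at hε
  obtain ⟨hk, ks, hks, k1, k2, k4, k8, k16, k32⟩ := tabU α β γ ε ⟨x, hx⟩
    ⟨fN_of_om' ((hom 1 1 hv).trans h81), fN_of_om ((hom _ _ hα).trans (om_of_fN' (by decide))),
     fN_of_om ((hom _ _ hβ).trans (om_of_fN' (by decide))), fN_of_om ((hom _ _ hγ).trans (om_of_fN' (by decide))),
     fN_of_om ((hom _ _ hε).trans (om_of_fN' (by decide)))⟩
  have hs : s = W ks := by
    apply ext6
    · rw [act_W, k1, hv]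
    · rw [act_W, k2, hα]
    · rw [act_W, k4, hβ]
    · rw [act_W, k8, ex]
    · rw [act_W, k16, hγ]
    · rw [act_W, k32, hε]
  refine ⟨kU α β γ ε, hk, ?_⟩
  rw [List.mem_cons, List.mem_singleton] at hks
  rcases hks with rfl | rfl
  · left; rw [hs, cc_enc]
  · right
    rw [hs, cc_enc, W_cons, W_cons, W_cons, W_nil, W_cons, W_cons, W_nil, mul_one, mul_one, mul_assoc]

end Cfsg.Agent.StdSpSix.Sw
end

-- part: StdSpSix/SwKill
section
/-!
# The types `b_u b_w` and `b_u b_w b_{u+w}` are impossible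
-/

set_option autoImplicit false

namespace Cfsg.Agent.StdSpSix.Sw

open Subgroup
open Cfsg.Agent.StandardComponent.SpTwo
open Cfsg.Agent.SporRec.TwoSp6
open Cfsg.Agent.StdSpSix.Words
open Cfsg.Agent.StdSpSix.Counts

section Abs
variable {M : Type*} [Group M]

theorem abs_orth {g g' h h' b b' E1 E2 E3 E4 : M} (k1 : g * h = E1 * (h * g)) (k2 : g * h' = E2 * (h' * g))
    (k3 : g' * h = E3 * (h * g')) (k4 : g' * h' = E4 * (h' * g')) (b1 : b * h = h * b) (b2 : b * h' = h' * b)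
    (b3 : b' * g = g * b') (b4 : b' * g' = g' * b') (bb : b * b' = b' * b) (e3 : E3 * g = g * E3)
    (e4 : E4 * g = g * E4) (e4' : E4 * h = h * E4) (e2 : E2 * h = h * E2) (hE : E3 * E4 * E1 * E2 = 1) :
    g * g' * b * (h * h' * b') = h * h' * b' * (g * g' * b) := by
  have key : g * g' * (h * h') = h * h' * (g * g') := by
    calc g * g' * (h * h') = g * (g' * h) * h' := by group
      _ = (g * E3) * h * g' * h' := by rw [k3]; group
      _ = E3 * g * h * (g' * h') := by rw [← e3]; group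
      _ = E3 * g * (h * E4) * (h' * g') := by rw [k4]; group
      _ = E3 * (g * E4) * h * (h' * g') := by rw [← e4']; group
      _ = E3 * E4 * (g * h) * (h' * g') := by rw [← e4]; group
      _ = E3 * E4 * E1 * h * (g * h') * g' := by rw [k1]; group
      _ = E3 * E4 * E1 * (h * E2) * h' * g * g' := by rw [k2]; group
      _ = (E3 * E4 * E1 * E2) * h * h' * g * g' := by rw [← e2]; group
      _ = h * h' * (g * g') := by rw [hE]; group
  calc g * g' * b * (h * h' * b') = g * g' * (b * h) * h' * b' := by group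
    _ = g * g' * h * (b * h') * b' := by rw [b1]; group
    _ = g * g' * (h * h') * (b * b') := by rw [b2]; group
    _ = h * h' * g * (g' * b') * b := by rw [key, bb]; group
    _ = h * h' * (g * b') * g' * b := by rw [← b4]; group
    _ = h * h' * b' * (g * g' * b) := by rw [← b3]; group

end Abs

variable {G : Type*} [Group G] {D : Dat G}

/-- the product of the four commutators -/
theorem E_prod (δ : Bool) (a b : ℕ) (h : (a, b) ∈ [(2, 6), (6, 2), (16, 20), (20, 16), (22, 18), (18, 22)]) :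
    Sp.tr (Sp.enc a + Sp.enc 1) * Sp.tr (Sp.enc b) * dl δ (Sp.enc a + Sp.enc 1 + Sp.enc b) *
    (Sp.tr (Sp.enc a + Sp.enc 1) * Sp.tr (Sp.enc b + Sp.enc 1) * dl δ (Sp.enc a + Sp.enc 1 + (Sp.enc b + Sp.enc 1))) *
    (Sp.tr (Sp.enc a) * Sp.tr (Sp.enc b) * dl δ (Sp.enc a + Sp.enc b)) *
    (Sp.tr (Sp.enc a) * Sp.tr (Sp.enc b + Sp.enc 1) * dl δ (Sp.enc a + (Sp.enc b + Sp.enc 1))) = 1 := by
  have key : ∀ x y : ℕ, Sp.tr (Sp.enc x) * Sp.tr (Sp.enc y) * dl δ (Sp.enc x + Sp.enc y) =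
      W ([x, y] ++ if δ then [x ^^^ y] else []) := by
    intro x y
    cases δ
    · rw [dl]; simp [W_cons, W_nil]
    · rw [dl]; simp [W_cons, W_nil, Sp.enc_xor, mul_assoc]
  rw [← Sp.enc_xor a 1, ← Sp.enc_xor b 1, key, key, key, key, ← W_append, ← W_append, ← W_append, ← W_nil]
  refine W_eq (Fast.eq6_iff.1 ?_)
  clear key
  revert δ a b
  simp only [List.mem_cons, List.not_mem_nil, or_false, Prod.mk.injEq]
  rintro δ a b (⟨rfl, rfl⟩ | ⟨rfl, rfl⟩ | ⟨rfl, rfl⟩ | ⟨rfl, rfl⟩ | ⟨rfl, rfl⟩ | ⟨rfl, rfl⟩) <;> cases δ <;> decide +kernel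

theorem act_E (δ : Bool) {x a b : Sp.V} (ha : Sp.om x a = 0) (hb : Sp.om x b = 0) :
    Sp.act (Sp.tr a * Sp.tr b * dl δ (a + b)) x = x := by
  rw [Sp.act_mul, act_dl δ (by rw [Sp.om_add, ha, hb, add_zero]), Sp.act_mul, Sp.act_tr b, hb, zero_smul, add_zero,
    Sp.act_tr, ha, zero_smul, add_zero]

/-- orthogonal `r`'s commute -/
theorem IsR.orth {δ : Bool} (hT : TyD D δ) {v a b : Sp.V} (hv : v ≠ 0) (ha : a ≠ 0) (hb : b ≠ 0) (hav : a ≠ v) (hbv : b ≠ v)
    (hab : b ≠ a) (habv : b ≠ a + v) (a0 : Sp.om a v = 0) (b0 : Sp.om b v = 0) (ab : Sp.om a b = 0)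
    (hE : Sp.tr (a + v) * Sp.tr b * dl δ (a + v + b) * (Sp.tr (a + v) * Sp.tr (b + v) * dl δ (a + v + (b + v))) *
      (Sp.tr a * Sp.tr b * dl δ (a + b)) * (Sp.tr a * Sp.tr (b + v) * dl δ (a + (b + v))) = 1)
    {r s : G} (hr : IsR D v a r) (hs : IsR D v b s) : r * s = s * r := by
  obtain ⟨g, g', hg, hg', -, rfl⟩ := hr
  obtain ⟨h, h', hh, hh', -, rfl⟩ := hs
  have hav0 : a + v ≠ 0 := fun h => hav (Invol.eq_of_add_eq_zero h)
  have hbv0 : b + v ≠ 0 := fun h => hbv (Invol.eq_of_add_eq_zero h)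
  have va : Sp.om v a = 0 := by rw [Sp.om_symm]; exact a0
  have vb : Sp.om v b = 0 := by rw [Sp.om_symm]; exact b0
  have ba : Sp.om b a = 0 := by rw [Sp.om_symm]; exact ab
  have o1 : Sp.om a (b + v) = 0 := by rw [Sp.om_add, ab, a0, add_zero]
  have o2 : Sp.om (a + v) b = 0 := by rw [Sp.om_add', ab, vb, add_zero]
  have o3 : Sp.om (a + v) (b + v) = 0 := by rw [Sp.om_add', o1, Sp.om_add, vb, Sp.om_self, add_zero, add_zero]
  have o4 : Sp.om b (a + v) = 0 := by rw [Sp.om_symm]; exact o2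
  have o5 : Sp.om (b + v) (a + v) = 0 := by rw [Sp.om_symm]; exact o3
  have o6 : Sp.om (b + v) a = 0 := by rw [Sp.om_symm]; exact o1
  have n1 : b + v ≠ a := fun h => habv (by rw [← h, add_assoc, Sp.add_self, add_zero])
  have n2 : b + v ≠ a + v := fun h => hab (add_right_cancel h)
  have t1 := hT a b g h ha hb hab ab hg hh
  have t2 := hT a (b + v) g h' ha hbv0 n1 o1 hg hh'
  have t3 := hT (a + v) b g' h hav0 hb habv o2 hg' hh
  have t4 := hT (a + v) (b + v) g' h' hav0 hbv0 n2 o3 hg' hh'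
  refine abs_orth (abs_comm hg.sq hh.sq t1) (abs_comm hg.sq hh'.sq t2) (abs_comm hg'.sq hh.sq t3)
    (abs_comm hg'.sq hh'.sq t4) (hh.comm' ba) (hh'.comm' o6) (hg.comm' ab) (hg'.comm' o2) ?_ ?_ ?_ ?_ ?_ ?_
  · rw [← map_mul, ← map_mul, Sp.tr_comm ab]
  · exact hg.comm _ (act_E δ (uv' a0) ab)
  · exact hg.comm _ (act_E δ (uv' a0) o1)
  · exact hh.comm _ (act_E δ o4 (uv' b0))
  · exact hh.comm _ (act_E δ ba (uv' b0))
  · rw [← map_mul, ← map_mul, ← map_mul, hE, map_one]

/-! ### the six elements -/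

/-- the words of `S₄` -/
def sw (q : ℕ) : List ℕ := if q = 16 then [18] else if q = 18 then [2, 18] else if q = 22 then [6, 18] else
  if q = 20 then [2, 6, 18] else if q = 6 then [18, 2, 6, 18] else []

theorem tab_sw : ∀ q ∈ six, wc (sw q) 2 = q ∧ wc (sw q) 1 = 1 := by decide +kernel

theorem tab_gen : ∀ p ∈ gen, ∀ q ∈ six, tc p q ∈ six → wc ((sw (tc p q)).reverse ++ ([p] ++ sw q)) 2 = 2 ∧
    wc ((sw (tc p q)).reverse ++ ([p] ++ sw q)) 1 = 1 := by decide +kernel

theorem gen_ok : ∀ p ∈ gen, ok p ∧ p ≠ 0 ∧ p ≠ 1 := by decide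

theorem six_ne : ∀ p ∈ six, ok p ∧ p ≠ 0 ∧ p ≠ 1 := by decide

theorem tab_dis : ∀ p ∈ six, ∀ q ∈ six, Sp.fN p q = false → p = q ∨
    ((p, q) ∈ [(2, 6), (6, 2), (16, 20), (20, 16), (22, 18), (18, 22)] ∧ q ≠ p ∧ q ≠ p ^^^ 1) := by decide +kernel

theorem enc_ne0 {k : ℕ} (hk : k < 64) (h : k ≠ 0) : Sp.enc k ≠ 0 := by
  rw [← enc_zero]; exact ne_of_enc hk (by decide) h

theorem kill {δ : Bool} (hT : TyD D δ) (hex : ∀ u : Sp.V, u ≠ 0 → ∃ g, Y D u g) : False := by
  set v := Sp.enc 1 with hv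
  have v0 : v ≠ 0 := enc_ne0 (by decide) (by decide)
  set z := D.φ (Sp.tr v) with hz
  have zz : z * z = 1 := φ_tr_sq v
  obtain ⟨y, hy⟩ := hex v v0
  obtain ⟨g0, hg0⟩ := hex (Sp.enc 2) (enc_ne0 (by decide) (by decide))
  have ok_om : ∀ k, ok k → Sp.om v (Sp.enc k) = 0 := fun k hk => by rw [Sp.om_symm]; exact om_of_fN' hk.2
  have ok_om' : ∀ k, ok k → Sp.om (Sp.enc k) v = 0 := fun k hk => om_of_fN' hk.2
  obtain ⟨r0, hr0⟩ := exists_R v0 (enc_ne0 (by decide) (by decide)) (ne_of_enc (by decide) (by decide) (by decide))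
    (ok_om' 2 (by decide)) hg0
  -- membership in the centraliser of `z`
  have Hφ : ∀ s, Sp.act s v = v → D.φ s * z = z * D.φ s := by
    intro s hs
    rw [hz, ← map_mul, ← map_mul, comm_iff.2 hs]
  have Hφ' : ∀ s, D.φ s * z = z * D.φ s → Sp.act s v = v := by
    intro s hs
    rw [hz, ← map_mul, ← map_mul] at hs
    exact comm_iff.1 (D.inj hs)
  have Ht : D.t * z = z * D.t := (D.comm _).symm
  have Hy : y * z = z * y := (hy.comm' (Sp.om_self v)).symm
  have yt : y * D.t = D.t * z * y := by rw [hz, ← hy.conj, mul_assoc, hy.sq, mul_one]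
  -- the projection
  set! P := PZ z zz with hP
  have Pm : ∀ {a b : G}, a * z = z * a → b * z = z * b → P (a * b) = P a * P b := fun ha hb => PZ_mul z zz ha hb
  have Pe : ∀ {a b : G}, a * z = z * a → b * z = z * b → (P a = P b ↔ b = a ∨ b = a * z) :=
    fun ha hb => PZ_eq z zz ha hb
  have Pz : P z = 1 := PZ_z z zz
  have P1 : P 1 = 1 := PZ_one z zz
  have Hm : ∀ {a b : G}, a * z = z * a → b * z = z * b → a * b * z = z * (a * b) := by
    intro a b ha hb
    rw [mul_assoc, hb, ← mul_assoc, ha, mul_assoc]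
  have Pdl : P (D.φ (dl δ v)) = 1 := by
    cases δ
    · change P (D.φ 1) = 1
      rw [map_one, P1]
    · exact Pz
  have Hdl : D.φ (dl δ v) * z = z * D.φ (dl δ v) := Hφ _ (act_dl δ (Sp.om_self v))
  -- the elements
  set! w : G := if δ then y else y * D.t with hw
  have Hw : w * z = z * w := by
    rw [hw]
    cases δ
    · exact Hm Hy Ht
    · exact Hy
  set! c : ℕ → G := fun k => D.φ (cc v (Sp.enc k)) with hc
  have Hc : ∀ k, ok k → c k * z = z * c k := fun k hk => Hφ _ (act_cc_v (ok_om k hk))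
  set! rr : ℕ → G := fun q => D.φ (W (sw q)) * r0 * (D.φ (W (sw q)))⁻¹ with hrr
  have hR : ∀ q ∈ six, IsR D v (Sp.enc q) (rr q) := by
    intro q hq
    have h1 : Sp.act (W (sw q)) v = v := by rw [hv, act_W, (tab_sw q hq).2]
    have h2 := hr0.map h1
    rwa [act_W, (tab_sw q hq).1] at h2
  have q0 : ∀ q ∈ six, Sp.enc q ≠ 0 := fun q hq => enc_ne0 (six_ne q hq).1.1 (six_ne q hq).2.1
  have q1 : ∀ q ∈ six, Sp.enc q ≠ v := fun q hq => ne_of_enc (six_ne q hq).1.1 (by decide) (six_ne q hq).2.2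
  have qv : ∀ q ∈ six, Sp.om (Sp.enc q) v = 0 := fun q hq => ok_om' q (six_ne q hq).1
  have Hr : ∀ q ∈ six, rr q * z = z * rr q := by
    intro q hq
    refine ((hR q hq).comm (s := Sp.tr v) ?_ ?_).symm
    · rw [Sp.act_tr, Sp.om_self, zero_smul, add_zero]
    · rw [Sp.act_tr, qv q hq, zero_smul, add_zero]
  have hcy : ∀ k, ok k → c k * y = y * c k := fun k hk => hy.comm _ (act_cc_v (ok_om k hk))
  have hcw : ∀ k, ok k → c k * w = w * c k := by
    intro k hk
    rw [hw]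
    cases δ
    · change c k * (y * D.t) = y * D.t * c k
      rw [← mul_assoc, hcy k hk, mul_assoc, D.comm, ← mul_assoc]
    · exact hcy k hk
  have hcc : ∀ k, ok k → c k * c k = 1 := by
    intro k hk
    rw [hc]
    change D.φ (cc v (Sp.enc k)) * D.φ (cc v (Sp.enc k)) = 1
    rw [← map_mul, cc]
    have h1 : Sp.tr (Sp.enc k) * Sp.tr (Sp.enc k + v) = Sp.tr (Sp.enc k + v) * Sp.tr (Sp.enc k) :=
      Sp.tr_comm (uv' (ok_om' k hk))
    have h2 := Sp.tr_sq (Sp.enc k)
    have h3 := Sp.tr_sq (Sp.enc k + v)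
    rw [mul_assoc, ← mul_assoc (Sp.tr (Sp.enc k + v)), ← h1, mul_assoc, h3, mul_one, h2, map_one]
  have PCC : ∀ k l, ok k → ok l → P (c k) * P (c l) = P (c (k ^^^ l)) := by
    intro k l hk hl
    rw [← Pm (Hc k hk) (Hc l hl), eq_comm, Pe (Hc _ (ok_xor hk hl)) (Hm (Hc k hk) (Hc l hl))]
    rw [hc]
    change D.φ (cc v (Sp.enc k)) * D.φ (cc v (Sp.enc l)) = D.φ (cc v (Sp.enc (k ^^^ l))) ∨
      D.φ (cc v (Sp.enc k)) * D.φ (cc v (Sp.enc l)) = D.φ (cc v (Sp.enc (k ^^^ l))) * z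
    rw [hz, ← map_mul, ← map_mul, Sp.enc_xor]
    rcases cc_mul (ok_om k hk) (ok_om l hl) with h | h
    · left; rw [h]
    · right; rw [h]
  have PCr : ∀ k, ok k → ∀ q ∈ six, P (c k) * P (rr q) = P (rr q) * P (c k) := by
    intro k hk q hq
    rw [← Pm (Hc k hk) (Hr q hq)]
    rcases (hR q hq).cc (qv q hq) hT (q0 q hq) (q1 q hq) v0 (ok_om k hk) with h | h
    · have h' : c k * rr q = rr q * c k := h
      rw [h', Pm (Hr q hq) (Hc k hk)]
    · have h' : c k * rr q = rr q * D.φ (dl δ v) * c k := h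
      rw [h', Pm (Hm (Hr q hq) Hdl) (Hc k hk), Pm (Hr q hq) Hdl, Pdl, mul_one]
  have Prt : ∀ q ∈ six, P (rr q) * P D.t = P D.t * P (rr q) * P (c q) := by
    intro q hq
    have h1 : rr q * D.t = D.t * rr q * c q := (hR q hq).t (qv q hq)
    rw [← Pm (Hr q hq) Ht, h1, Pm (Hm Ht (Hr q hq)) (Hc q (six_ne q hq).1), Pm Ht (Hr q hq)]
  have Ptt : P D.t * P D.t = 1 := by rw [← Pm Ht Ht, D.tt, P1]
  have Pc0 : P (c 0) = 1 := by
    have : c 0 = z := by
      rw [hc]
      change D.φ (Sp.tr (Sp.enc 0) * Sp.tr (Sp.enc 0 + v)) = z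
      rw [enc_zero, Sp.tr_zero, one_mul, zero_add]
    rw [this, Pz]
  refine absKill (P D.t) (P w) (fun k => P (c k)) (fun q => P (rr q)) (fun p => P (D.φ (Sp.tr (Sp.enc p)))) Ptt ?_ ?_ PCC
    ?_ ?_ ?_ PCr ?_ Prt ?_ ?_ ?_ ?_ ?_ ?_
  · -- `w² = 1`
    rw [← Pm Hw Hw, hw]
    cases δ
    · change P (y * D.t * (y * D.t)) = 1
      have h1 : y * D.t * (y * D.t) = z := by
        calc y * D.t * (y * D.t) = (y * D.t) * y * D.t := by group
          _ = D.t * z * (y * y) * D.t := by rw [yt]; group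
          _ = D.t * D.t * z := by rw [hy.sq, mul_one, mul_assoc, ← Ht, ← mul_assoc]
          _ = z := by rw [D.tt, one_mul]
      rw [h1, Pz]
    · change P (y * y) = 1
      rw [hy.sq, P1]
  · -- `t w = w t`
    rw [← Pm Ht Hw, ← Pm Hw Ht, Pe (Hm Ht Hw) (Hm Hw Ht), hw]
    right
    cases δ
    · change y * D.t * D.t = D.t * (y * D.t) * z
      rw [yt]
      calc D.t * z * y * D.t = (D.t * z) * (y * D.t) := by group
        _ = D.t * (z * D.t) * z * y := by rw [yt]; group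
        _ = D.t * D.t * (z * z) * y := by rw [← Ht]; group
        _ = D.t * (D.t * (z * z) * y) := by group
        _ = D.t * (D.t * z * y) * z := by rw [← mul_assoc D.t z z, mul_assoc (D.t * z) z y, ← Hy]; group
    · change y * D.t = D.t * y * z
      rw [yt, mul_assoc, ← Hy, mul_assoc]
  · intro k hk
    change P (c k) * P D.t = P D.t * P (c k)
    rw [← Pm (Hc k hk) Ht, ← Pm Ht (Hc k hk)]
    exact congrArg P (D.comm _)
  · intro k hk
    change P (c k) * P w = P w * P (c k)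
    rw [← Pm (Hc k hk) Hw, ← Pm Hw (Hc k hk), hcw k hk]
  · intro k hk
    change P (c k) = 1 ↔ k = 0 ∨ k = 1
    constructor
    · intro h
      by_contra hne
      push Not at hne
      obtain ⟨h1, h2⟩ := cc_ne v0 (ok_om k hk) (enc_ne0 hk.1 hne.1) (ne_of_enc hk.1 (by decide) hne.2)
      rw [← P1, eq_comm, Pe (by group) (Hc k hk), one_mul] at h
      rcases h with h | h
      · rw [← map_one D.φ] at h
        exact h1 (D.inj h)
      · exact h2 (D.inj h)
    · rintro (rfl | rfl)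
      · exact Pc0
      · have : c 1 = z := by
          rw [hc]
          change D.φ (Sp.tr (Sp.enc 1) * Sp.tr (Sp.enc 1 + v)) = z
          rw [← hv, Sp.add_self, Sp.tr_zero, mul_one]
        rw [this, Pz]
  · intro q hq
    change P (rr q) * P (rr q) = P (c q)
    have h1 : rr q * rr q = c q * D.φ (dl δ v) := (hR q hq).sq (qv q hq) hT (q0 q hq) (q1 q hq) v0
    rw [← Pm (Hr q hq) (Hr q hq), h1, Pm (Hc q (six_ne q hq).1) Hdl, Pdl, mul_one]
  · intro q hq
    change P w * P (rr q) = P (rr q) * P w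
    have h1 : y * rr q = (if δ then 1 else c q) * rr q * y := (hR q hq).y (qv q hq) hT (q0 q hq) (q1 q hq) v0 hy
    have h2 : rr q * D.t = D.t * rr q * c q := (hR q hq).t (qv q hq)
    have h3 : c q * rr q = rr q * c q := by
      refine (hR q hq).comm (act_cc_v (ok_om q (six_ne q hq).1)) ?_
      rw [act_cc_perp (ok_om q (six_ne q hq).1) (qv q hq), Sp.om_self, zero_smul, add_zero]
    have h4 := hcy q (six_ne q hq).1
    have h5 : c q * D.t = D.t * c q := D.comm _
    have h6 := hcc q (six_ne q hq).1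
    rw [← Pm Hw (Hr q hq), ← Pm (Hr q hq) Hw]
    congr 1
    rw [hw]
    cases δ
    · change y * D.t * rr q = rr q * (y * D.t)
      have h1' : y * rr q = c q * rr q * y := h1
      have h7 : D.t * rr q = rr q * D.t * c q := by
        rw [h2, mul_assoc _ (c q), h6, mul_one]
      calc y * D.t * rr q = y * (D.t * rr q) := by group
        _ = (y * rr q) * D.t * c q := by rw [h7]; group
        _ = c q * rr q * y * (D.t * c q) := by rw [h1']; group
        _ = c q * rr q * (y * c q) * D.t := by rw [← h5]; group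
        _ = (c q * rr q) * c q * y * D.t := by rw [← h4]; group
        _ = rr q * (c q * c q) * y * D.t := by rw [h3]; group
        _ = rr q * (y * D.t) := by rw [h6]; group
    · change y * rr q = rr q * y
      have h1' : y * rr q = 1 * rr q * y := h1
      rw [h1', one_mul]
  · -- orthogonal pairs
    intro p hp q hq hpq
    change P (rr p) * P (rr q) = P (rr q) * P (rr p)
    rcases tab_dis p hp q hq hpq with rfl | ⟨h1, h2, h3⟩
    · rfl
    rw [← Pm (Hr p hp) (Hr q hq), ← Pm (Hr q hq) (Hr p hp)]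
    congr 1
    refine IsR.orth hT v0 (q0 p hp) (q0 q hq) (q1 p hp) (q1 q hq) (ne_of_enc (six_ne q hq).1.1 (six_ne p hp).1.1 h2) ?_
      (qv p hp) (qv q hq) (om_of_fN' hpq) (E_prod δ p q h1) (hR p hp) (hR q hq)
    rw [hv, ← Sp.enc_xor]
    exact ne_of_enc (six_ne q hq).1.1 (ok_xor (six_ne p hp).1 (by decide)).1 h3
  · -- normal forms
    intro p hp q hq hpq
    change ∃ j k, ok k ∧ (P (rr p) * P (rr q) * P (rr (p ^^^ q)) = P w ^ j * P (c k) ∨
      P (rr p) * P (rr q) * P (rr (p ^^^ q)) = P D.t * (P w ^ j * P (c k)))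
    have hs := tab_six p hp q hq hpq
    set! s := p ^^^ q with hsdef; rewrite [← hsdef] at hs ⊢
    have okp := (six_ne p hp).1
    have okq := (six_ne q hq).1
    have oks := (six_ne s hs).1
    set! g := rr p * rr q * rr s with hg
    have Hg : g * z = z * g := Hm (Hm (Hr p hp) (Hr q hq)) (Hr s hs)
    have Pg : P g = P (rr p) * P (rr q) * P (rr s) := by
      rw [hg, Pm (Hm (Hr p hp) (Hr q hq)) (Hr s hs), Pm (Hr p hp) (Hr q hq)]
    rw [← Pg]
    have hgt : P g * P D.t = P D.t * P g := by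
      have e1 := Prt p hp
      have e2 := Prt q hq
      have e3 := Prt s hs
      have c1 := PCr p okp q hq
      have c2 := PCr p okp s hs
      have c3 := PCr q okq s hs
      have c4 : P (c p) * P (c q) * P (c s) = 1 := by
        rw [PCC p q okp okq, ← hsdef, PCC s s oks oks, Nat.xor_self, Pc0]
      rw [Pg]
      revert e1 e2 e3 c1 c2 c3 c4
      generalize P (rr p) = a
      generalize P (rr q) = b
      generalize P (rr s) = d
      generalize P (c p) = x
      generalize P (c q) = y'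
      generalize P (c s) = x'
      generalize P D.t = t
      intro e1 e2 e3 c1 c2 c3 c4
      calc a * b * d * t = a * b * (d * t) := by group
        _ = a * (b * t) * d * x' := by rw [e3]; group
        _ = (a * t) * b * (y' * d) * x' := by rw [e2]; group
        _ = t * a * (x * b) * (y' * d) * x' := by rw [e1]; group
        _ = t * a * b * x * (d * y') * x' := by rw [c1, c3]; group
        _ = t * a * b * (x * d) * y' * x' := by group
        _ = t * (a * b * d) * (x * y' * x') := by rw [c2]; group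
        _ = t * (a * b * d) := by rw [c4, mul_one]
    have Pgc : ∀ k, ok k → P g * P (c k) = P (c k) * P g := by
      intro k hk
      have c1 := PCr k hk p hp
      have c2 := PCr k hk q hq
      have c3 := PCr k hk s hs
      rw [Pg]
      revert c1 c2 c3
      generalize P (rr p) = a
      generalize P (rr q) = b
      generalize P (rr s) = d
      generalize P (c k) = x
      intro c1 c2 c3
      calc a * b * d * x = a * b * (x * d) := by rw [c3]; group
        _ = a * (b * x) * d := by group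
        _ = (a * x) * b * d := by rw [← c2]; group
        _ = x * (a * b * d) := by rw [← c1]; group
    -- `P (φ s') = P (c k)` for the component in `L`
    have hfin : ∀ s', D.φ s' * z = z * D.φ s' → (∀ k, ok k → P (D.φ s') * P (c k) = P (c k) * P (D.φ s')) →
        ∃ k, ok k ∧ P (D.φ s') = P (c k) := by
      intro s' hs' hcom
      obtain ⟨k, hk, h⟩ := dcU (Hφ' s' hs') (by
        intro k hk
        have h1 := hcom k hk
        rw [← Pm hs' (Hc k hk), ← Pm (Hc k hk) hs', eq_comm, Pe (Hm (Hc k hk) hs') (Hm hs' (Hc k hk))] at h1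
        rcases h1 with h1 | h1
        · left
          apply D.inj
          rw [map_mul, map_mul]
          exact h1
        · right
          apply D.inj
          rw [map_mul, map_mul, map_mul]
          exact h1)
      refine ⟨k, hk, ?_⟩
      rcases h with h | h
      · rw [h]
      · rw [h, map_mul]
        have := Pm (Hc k hk) (b := z) rfl
        rw [Pz, mul_one] at this
        exact this
    rw [← Pm Hg Ht, ← Pm Ht Hg, eq_comm, Pe (Hm Ht Hg) (Hm Hg Ht)] at hgt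
    rcases hgt with hgt | hgt
    · -- `g` commutes with `t`
      obtain ⟨s', hs'⟩ := D.cent g hgt
      have hs'z : D.φ s' * z = z * D.φ s' := by
        rcases hs' with h | h
        · rw [← h]; exact Hg
        · have h1 : D.φ s' = D.t * g := by rw [h, ← mul_assoc, D.tt, one_mul]
          rw [h1]; exact Hm Ht Hg
      have hcom : ∀ k, ok k → P (D.φ s') * P (c k) = P (c k) * P (D.φ s') := by
        intro k hk
        rcases hs' with h | h
        · rw [← h]; exact Pgc k hk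
        · have h1 : D.φ s' = D.t * g := by rw [h, ← mul_assoc, D.tt, one_mul]
          have h2 : P (c k) * P D.t = P D.t * P (c k) := by
            rw [← Pm (Hc k hk) Ht, ← Pm Ht (Hc k hk)]; exact congrArg P (D.comm _)
          rw [h1, Pm Ht Hg, mul_assoc, Pgc k hk, ← mul_assoc, ← h2, mul_assoc]
      obtain ⟨k, hk, hPk⟩ := hfin s' hs'z hcom
      refine ⟨0, k, hk, ?_⟩
      rcases hs' with h | h
      · left; rw [h, hPk, pow_zero, one_mul]
      · right; rw [h, Pm Ht hs'z, hPk, pow_zero, one_mul]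
    · -- `g y` commutes with `t`
      have h1 : g * y * D.t = D.t * (g * y) := by
        calc g * y * D.t = g * (y * D.t) := by group
          _ = (g * D.t) * z * y := by rw [yt]; group
          _ = D.t * g * (z * z) * y := by rw [hgt]; group
          _ = D.t * (g * y) := by rw [zz]; group
      obtain ⟨s', hs'⟩ := D.cent _ h1
      have hPyc : ∀ k, ok k → P y * P (c k) = P (c k) * P y := by
        intro k hk
        rw [← Pm Hy (Hc k hk), ← Pm (Hc k hk) Hy, hcy k hk]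
      have hgy : ∀ k, ok k → P (g * y) * P (c k) = P (c k) * P (g * y) := by
        intro k hk
        rw [Pm Hg Hy, mul_assoc, hPyc k hk, ← mul_assoc, Pgc k hk, mul_assoc]
      have hs'z : D.φ s' * z = z * D.φ s' := by
        rcases hs' with h | h
        · rw [← h]; exact Hm Hg Hy
        · have h1 : D.φ s' = D.t * (g * y) := by rw [h, ← mul_assoc, D.tt, one_mul]
          rw [h1]; exact Hm Ht (Hm Hg Hy)
      have hcom : ∀ k, ok k → P (D.φ s') * P (c k) = P (c k) * P (D.φ s') := by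
        intro k hk
        rcases hs' with h | h
        · rw [← h]; exact hgy k hk
        · have h1 : D.φ s' = D.t * (g * y) := by rw [h, ← mul_assoc, D.tt, one_mul]
          have h2 : P (c k) * P D.t = P D.t * P (c k) := by
            rw [← Pm (Hc k hk) Ht, ← Pm Ht (Hc k hk)]; exact congrArg P (D.comm _)
          rw [h1, Pm Ht (Hm Hg Hy), mul_assoc, hgy k hk, ← mul_assoc, ← h2, mul_assoc]
      obtain ⟨k, hk, hPk⟩ := hfin s' hs'z hcom
      have hyy : P y * P y = 1 := by rw [← Pm Hy Hy, hy.sq, P1]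
      have hPyt : P y * P D.t = P D.t * P y := by
        rw [← Pm Hy Ht, yt, Pm (Hm Ht rfl) Hy, Pm Ht rfl, Pz, mul_one]
      have hg' : P g = P (g * y) * P y := by rw [Pm Hg Hy, mul_assoc, hyy, mul_one]
      have h2 : P g = P (c k) * P y ∨ P g = P D.t * (P (c k) * P y) := by
        rcases hs' with h | h
        · left; rw [hg', h, hPk]
        · right; rw [hg', h, Pm Ht hs'z, hPk, mul_assoc]
      have h3 : P (c k) * P y = P y * P (c k) := (hPyc k hk).symm
      cases δ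
      · have hPw : P w = P y * P D.t := Pm Hy Ht
        have h4 : P y = P w * P D.t := by rw [hPw, mul_assoc, Ptt, mul_one]
        have h5 : P y * P (c k) = P D.t * (P w * P (c k)) := by
          rw [hPw, ← mul_assoc, ← mul_assoc, ← hPyt, mul_assoc (P y), Ptt, mul_one]
        refine ⟨1, k, hk, ?_⟩
        rw [pow_one]
        rcases h2 with h2 | h2
        · right; rw [h2, h3, h5]
        · left
          rw [h2, h3, h5, ← mul_assoc, Ptt, one_mul]
      · have hPw : P w = P y := rfl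
        refine ⟨1, k, hk, ?_⟩
        rw [pow_one, hPw]
        rcases h2 with h2 | h2
        · left; rw [h2, h3]
        · right; rw [h2, h3]
  · -- equivariance
    intro p hp q hq hpq
    change P (D.φ (Sp.tr (Sp.enc p))) * P (rr q) = P (rr (tc p q)) * P (D.φ (Sp.tr (Sp.enc p)))
    have Hp : D.φ (Sp.tr (Sp.enc p)) * z = z * D.φ (Sp.tr (Sp.enc p)) := by
      apply Hφ
      rw [Sp.act_tr, ok_om p (gen_ok p hp).1, zero_smul, add_zero]
    rw [← Pm Hp (Hr q hq), ← Pm (Hr _ hpq) Hp]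
    (with_reducible congr 1)
    have hW : Sp.tr (Sp.enc p) = W [p] := by rw [W_cons, W_nil, mul_one]
    set! s' := (W (sw (tc p q)))⁻¹ * (W [p] * W (sw q)) with hs'
    have hs'W : s' = W ((sw (tc p q)).reverse ++ ([p] ++ sw q)) := by
      rw [W_append, W_append, hs', W_inv]
    obtain ⟨h1, h2⟩ := tab_gen p hp q hq hpq
    have h3 : D.φ s' * r0 = r0 * D.φ s' := by
      apply hr0.comm
      · rw [hs'W, hv, act_W, h2]
      · rw [hs'W, act_W, h1]
    have h4 : D.φ (Sp.tr (Sp.enc p)) * D.φ (W (sw q)) = D.φ (W (sw (tc p q))) * D.φ s' := by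
      rw [hs', ← map_mul, ← map_mul, hW, mul_inv_cancel_left]
    rw [hrr]
    change D.φ (Sp.tr (Sp.enc p)) * (D.φ (W (sw q)) * r0 * (D.φ (W (sw q)))⁻¹) =
      D.φ (W (sw (tc p q))) * r0 * (D.φ (W (sw (tc p q))))⁻¹ * D.φ (Sp.tr (Sp.enc p))
    revert h3 h4
    generalize D.φ (Sp.tr (Sp.enc p)) = A
    generalize D.φ (W (sw q)) = B
    generalize D.φ (W (sw (tc p q))) = E
    generalize D.φ s' = F
    intro h3 h4
    have h5 : E⁻¹ * A = F * B⁻¹ := by
      calc E⁻¹ * A = E⁻¹ * (A * B) * B⁻¹ := by group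
        _ = F * B⁻¹ := by rw [h4]; group
    calc A * (B * r0 * B⁻¹) = (A * B) * r0 * B⁻¹ := by group
      _ = E * (F * r0) * B⁻¹ := by rw [h4]; group
      _ = E * r0 * (F * B⁻¹) := by rw [h3]; group
      _ = E * r0 * E⁻¹ * A := by rw [← h5]; group
  · intro p hp
    change P (D.φ (Sp.tr (Sp.enc p))) * P w = P w * P (D.φ (Sp.tr (Sp.enc p)))
    have h0 : Sp.act (Sp.tr (Sp.enc p)) v = v := by
      rw [Sp.act_tr, ok_om p (gen_ok p hp).1, zero_smul, add_zero]
    have Hp := Hφ _ h0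
    have h1 := hy.comm _ h0
    rw [← Pm Hp Hw, ← Pm Hw Hp]
    (with_reducible congr 1)
    rw [hw]
    cases δ
    · change D.φ (Sp.tr (Sp.enc p)) * (y * D.t) = y * D.t * D.φ (Sp.tr (Sp.enc p))
      rw [← mul_assoc, h1, mul_assoc, D.comm, ← mul_assoc]
    · exact h1
  · intro p hp k hk h
    have h' : P (D.φ (Sp.tr (Sp.enc p))) * P (c k) = P (c k) * P (D.φ (Sp.tr (Sp.enc p))) := h
    have h0 : Sp.act (Sp.tr (Sp.enc p)) v = v := by
      rw [Sp.act_tr, ok_om p (gen_ok p hp).1, zero_smul, add_zero]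
    have Hp := Hφ _ h0
    rw [← Pm Hp (Hc k hk), ← Pm (Hc k hk) Hp, eq_comm, Pe (Hm (Hc k hk) Hp) (Hm Hp (Hc k hk))] at h'
    obtain ⟨g1, g2, g3⟩ := gen_ok p hp
    apply fN_of_om
    refine cc_tr v0 (ok_om k hk) (ok_om p g1) (enc_ne0 g1.1 g2) (ne_of_enc g1.1 (by decide) g3) ?_
    rcases h' with h1 | h1
    · left
      apply D.inj
      rw [map_mul, map_mul]
      exact h1
    · right
      apply D.inj
      rw [map_mul, map_mul, map_mul]
      exact h1

end Cfsg.Agent.StdSpSix.Sw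
end

-- part: StdSpSix/SwMain
section
/-!
# The dichotomy: `[y_u, y_v] = 1` for all orthogonal pairs, or `[y_u, y_v] = b_{u+v}` for all orthogonal pairs
-/

set_option autoImplicit false

namespace Cfsg.Agent.StdSpSix.SwMain

open Cfsg.Agent.StandardComponent.SpTwo
open Cfsg.Agent.SporRec.TwoSp6
open Cfsg.Agent.StdSpSix.Words
open Cfsg.Agent.StdSpSix.Sw

variable {G V : Type*} [Group G] [AddCommGroup V] [Module (ZMod 2) V]

/-- the data of a context with coordinates -/
def dat (C : Ctx G V) (K : Model.Coord C.S) : Dat G where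
  t := C.t
  φ := C.L.subtype.comp K.e.toMonoidHom
  tt := C.tt
  inj := C.L.subtype_injective.comp K.e.injective
  comm s := C.commute_of_mem (K.e s).2
  cent g hg := by
    rcases (C.cent g).1 hg with h | h
    · refine ⟨K.e.symm ⟨g, h⟩, Or.inl ?_⟩
      change g = ((K.e (K.e.symm ⟨g, h⟩) : C.L) : G)
      rw [K.e.apply_symm_apply]
    · refine ⟨K.e.symm ⟨C.t * g, h⟩, Or.inr ?_⟩
      change g = C.t * ((K.e (K.e.symm ⟨C.t * g, h⟩) : C.L) : G)
      rw [K.e.apply_symm_apply, ← mul_assoc, C.tt, one_mul]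
  tφ s h := C.tL (by rw [← h]; exact (K.e s).2)

theorem φ_tr (C : Ctx G V) (K : Model.Coord C.S) (u : V) : (dat C K).φ (Sp.tr (K.f.symm u)) = C.b u := by
  change ((K.e (Sp.tr (K.f.symm u)) : C.L) : G) = C.b u
  rw [K.tr, K.f.apply_symm_apply]
  rfl

theorem isY_iff (C : Ctx G V) (K : Model.Coord C.S) {u : V} {g : G} :
    IsY C u g ↔ Y (dat C K) (K.f.symm u) g := by
  have hc : ∀ s : Sp.S, Commute ((dat C K).φ s) (C.b u) ↔ Sp.act s (K.f.symm u) = K.f.symm u := by
    intro s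
    rw [← φ_tr C K, ← comm_iff]
    constructor
    · intro h
      apply (dat C K).inj
      rw [map_mul, map_mul]
      exact h
    · intro h
      change (dat C K).φ s * (dat C K).φ (Sp.tr (K.f.symm u)) = (dat C K).φ (Sp.tr (K.f.symm u)) * (dat C K).φ s
      rw [← map_mul, ← map_mul, h]
  constructor
  · intro h
    refine ⟨h.sq, ?_, fun s hs => ?_⟩
    · rw [φ_tr]; exact h.conj
    · exact h.comm _ (K.e s).2 ((hc s).2 hs)
  · intro h
    refine ⟨h.sq, ?_, fun x hx hxb => ?_⟩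
    · have := h.conj
      rw [φ_tr] at this
      exact this
    · have e : (dat C K).φ (K.e.symm ⟨x, hx⟩) = x := by
        change ((K.e (K.e.symm ⟨x, hx⟩) : C.L) : G) = x
        rw [K.e.apply_symm_apply]
      have h1 := h.comm (K.e.symm ⟨x, hx⟩) ((hc _).1 (by rw [e]; exact hxb))
      rw [e] at h1
      exact h1

/-- **(E1)** -/
theorem dichotomy (C : Ctx G V) (hex : ∀ u : V, u ≠ 0 → ∃ g, IsY C u g) :
    (∀ u v g h, u ≠ 0 → v ≠ 0 → u ≠ v → C.S.B u v = 0 → IsY C u g → IsY C v h → g * h * g * h = 1) ∨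
    (∀ u v g h, u ≠ 0 → v ≠ 0 → u ≠ v → C.S.B u v = 0 → IsY C u g → IsY C v h → g * h * g * h = C.b (u + v)) := by
  obtain ⟨K⟩ := Model.exists_coord C.S C.cardV
  have hex' : ∀ u : Sp.V, u ≠ 0 → ∃ g, Y (dat C K) u g := by
    intro u hu
    obtain ⟨g, hg⟩ := hex (K.f u) (by
      intro h
      exact hu ((map_eq_zero_iff K.f K.f.injective).1 h))
    rw [isY_iff C K, K.f.symm_apply_apply] at hg
    exact ⟨g, hg⟩
  have n0 : ∀ u : V, u ≠ 0 → K.f.symm u ≠ 0 := fun u hu h => hu ((map_eq_zero_iff K.f.symm K.f.symm.injective).1 h)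
  have om0 : ∀ u v : V, C.S.B u v = 0 → Sp.om (K.f.symm u) (K.f.symm v) = 0 := by
    intro u v h
    rw [← K.om, K.f.apply_symm_apply, K.f.apply_symm_apply]
    exact h
  rcases types hex' with h | h | h | h
  · left
    intro u v g g' hu hv huv h0 hg hg'
    rw [isY_iff C K] at hg hg'
    have := h _ _ g g' (n0 u hu) (n0 v hv) (fun e => huv (K.f.symm.injective e).symm) (om0 u v h0) hg hg'
    rw [this, map_one]
  · right
    intro u v g g' hu hv huv h0 hg hg'
    rw [isY_iff C K] at hg hg'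
    have := h _ _ g g' (n0 u hu) (n0 v hv) (fun e => huv (K.f.symm.injective e).symm) (om0 u v h0) hg hg'
    refine this.trans ?_
    change (dat C K).φ (Sp.tr (K.f.symm u + K.f.symm v)) = C.b (u + v)
    rw [← map_add, φ_tr]
  · exfalso
    refine kill (δ := false) (D := dat C K) ?_ hex'
    intro u w g g' hu hw hne h0 hg hg'
    refine (h u w g g' hu hw hne h0 hg hg').trans ?_
    have e : Sp.tr u * Sp.tr w * dl false (u + w) = Sp.tr u * Sp.tr w := mul_one _
    exact (congrArg (dat C K).φ e).symm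
  · exfalso
    refine kill (δ := true) (D := dat C K) ?_ hex'
    intro u w g g' hu hw hne h0 hg hg'
    refine (h u w g g' hu hw hne h0 hg hg').trans ?_
    have e : dl true (u + w) = Sp.tr (u + w) := rfl
    exact (congrArg (fun x => (dat C K).φ (Sp.tr u * Sp.tr w * x)) e).symm

end Cfsg.Agent.StdSpSix.SwMain
end

private theorem dce_dda6cebf68cb : _root_.True := by
  try have : _root_.True := by simp only [_root_.Cfsg.Agent.StdSpSix.Sw.list4.eq_1]
  try have : _root_.True := by simp only [_root_.Cfsg.Agent.StdSpSix.PatOneClique.cl.eq_1]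
  try have : _root_.True := by simp only [_root_.Cfsg.Agent.StdSpSix.PatOneClique.pr.eq_1]
  try have : _root_.True := by simp only [_root_.Cfsg.Agent.StdSpSix.PatOneSign.cmap.eq_1]
  try have : _root_.True := by simp only [_root_.Cfsg.Agent.StdSpSix.Sw.dl.eq_1]
  try have : _root_.True := by simp only [_root_.Cfsg.Agent.StdSpSix.Sw.cc.eq_1]
  try have : _root_.True := by simp only [_root_.Cfsg.Agent.StdSpSix.PatOneClique.nb.eq_1]
  try have : _root_.True := by simp only [_root_.Cfsg.Agent.StdSpSix.PatOneSign.comp.eq_1]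
  try have : _root_.True := by simp only [_root_.Cfsg.Agent.StdSpSix.PatOneSign.Dn.eq_1]
  try have : _root_.True := by simp only [_root_.Cfsg.Agent.StdSpSix.PatOneRel.Gam.eq_1]
  try have : _root_.True := by simp only [_root_.Cfsg.Agent.StdSpSix.PatOneRel.s.eq_1]
  exact _root_.True.intro
end
end
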